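import Groth.Agent.PushAmp.OverBaseLoc
import Groth.Agent.H9Misc.DRingPerfect

/-! Cohomological bounds from relative tor amplitude, and conversely. -/

set_option autoImplicit false
set_option linter.style.haveILetI false
set_option backward.isDefEq.respectTransparency false

universe u

open CategoryTheory CategoryTheory.Limits AlgebraicGeometry

attribute [local instance] HasDerivedCategory.standard

namespace Groth.Agent.PushAmp

open KFlatLib

variable {X S : Scheme.{u}} (f : X ⟶ S)

/-- The relative stalk complex computes the stalks of the cohomology. -/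
theorem exactAt_stalkCxOver_iff (E : CochainComplex X.Modules ℤ) (x : X) (i : ℤ) :
    ((DerSch.stalkCxOver f x).obj E).ExactAt i ↔ ((stalkCx x).obj E).ExactAt i :=
  ShortComplex.exact_map_iff_of_faithful (((stalkCx x).obj E).sc i)
    (ModuleCat.restrictScalars (f.stalkMap x).hom)

/-- No cohomology above the tor amplitude. -/
theorem exactAt_of_hasTorAmplitude {E : CochainComplex X.Modules ℤ} {a b : ℤ}
    (h : DerSch.HasTorAmplitude f a b E) (i : ℤ) (hi : i < a ∨ b < i) : E.ExactAt i := by
  refine (exact_iff_stalk _).2 fun x => (exactAt_stalkCxOver_iff f E x i).1 ?_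
  rw [HomologicalComplex.exactAt_iff_isZero_homology]
  exact (H9Misc.DRingCompl.isZ (H9Misc.DRingPerfect.isZero_of_amp (h x) i hi)).of_iso
    ((DerivedCategory.homologyFunctorFactors _ i).app _).symm

/-- The upper bound of the tor amplitude may be lowered to that of the cohomology. -/
theorem hasTorAmplitudeAt_shrink {E : CochainComplex X.Modules ℤ} {a b b' : ℤ} {x : X}
    (h : DerSch.HasTorAmplitudeAt f a b E x) (hE : ∀ i, b' < i → E.ExactAt i) :
    DerSch.HasTorAmplitudeAt f a b' E x :=
  H9Misc.DRingTor.shrink h fun i hi =>
    ((HomologicalComplex.exactAt_iff_isZero_homology _ i).1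
      ((exactAt_stalkCxOver_iff f E x i).2 ((exact_iff_stalk _).1 (hE i hi) x))).of_iso
      ((DerivedCategory.homologyFunctorFactors _ i).app _)

end Groth.Agent.PushAmp
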