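import Groth.Agent.PushAmp.TorAt
import Groth.Agent.PushAmp.OverBaseBound

/-! Representatives by modules flat over the base from stalkwise tor amplitude. -/

set_option autoImplicit false
set_option linter.style.haveILetI false
set_option backward.isDefEq.respectTransparency false

universe u

open CategoryTheory CategoryTheory.Limits AlgebraicGeometry MonoidalCategory

attribute [local instance] HasDerivedCategory.standard

namespace Groth.Agent.PushAmp

open KFlatLib

variable {X S : Scheme.{u}} (f : X ⟶ S)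

/-- Flat modules are flat over the base of a flat morphism. -/
theorem isFlatOver_of_isFlat [Flat f] {M : X.Modules} (hM : FlatMod.IsFlat M) : FlatMod.IsFlatOver f M := by
  intro x
  letI := (f.stalkMap x).hom.toAlgebra
  letI := FlatMod.moduleStalkOver f M x
  haveI : IsScalarTower (S.presheaf.stalk (f.base x)) (X.presheaf.stalk x) (M.presheaf.stalk x) :=
    IsScalarTower.of_algebraMap_smul fun _ _ => rfl
  haveI : Module.Flat (S.presheaf.stalk (f.base x)) (X.presheaf.stalk x) := Flat.stalkMap f x
  haveI : Module.Flat (X.presheaf.stalk x) (M.presheaf.stalk x) := hM x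
  exact Module.Flat.trans (S.presheaf.stalk (f.base x)) (X.presheaf.stalk x) (M.presheaf.stalk x)

/-- Stalkwise tor amplitude is computed by modules flat over the base. -/
theorem hasRelFlatAmplitudeIn_of_torAmplitude [Flat f] {F : CochainComplex X.Modules ℤ} {a b : ℤ}
    (h : DerSch.HasTorAmplitude f a b F) : DCoh.HasRelFlatAmplitudeIn f a b (DCoh.toD X F) := by
  obtain ⟨R, ρ, hρ, hflat, hRb⟩ := (flatCover X).exists_bounded_resolution F b fun m hm =>
    (HomologicalComplex.exactAt_iff_isZero_homology _ m).1 (exactAt_of_hasTorAmplitude f h m (Or.inr hm))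
  haveI := hρ
  haveI := isIso_Q_map ρ hρ
  have hfl : ∀ n, FlatMod.IsFlatOver f (R.X n) := fun n => isFlatOver_of_isFlat f (hflat n)
  have hR : DerSch.HasTorAmplitude f a b R := fun x =>
    hasTorAmplitudeAt_of_iso f (asIso (DerivedCategory.Q.map ρ)).symm (h x)
  haveI : R.IsGE a := (CochainComplex.isGE_iff R a).2 fun i hi =>
    exactAt_of_hasTorAmplitude f hR i (Or.inl hi)
  let emb := ComplexShape.embeddingUpIntGE a
  have ha : FlatMod.IsFlatOver f (R.opcycles a) := fun x => by
    let T := DerSch.stalkOver f x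
    haveI : PreservesFiniteLimits T := comp_preservesFiniteLimits _ _
    haveI : PreservesFiniteColimits T := comp_preservesFiniteColimits _ _
    let L := (DerSch.stalkCxOver f x).obj R
    have hLf : ∀ n, Module.Flat (S.presheaf.stalk (f.base x)) (L.X n) := fun n => hfl n x
    have hLb : DRing.VanishesAbove L b := fun i hi => T.map_isZero (hRb i hi)
    have hV : H9Misc.DRingTor.Van a b L :=
      (H9Misc.DRingTor.iff_van (H9Misc.DRingTor.isKF_of_flat hLf hLb) (Iso.refl _)).1 (hR x)
    have hop : Module.Flat (S.presheaf.stalk (f.base x)) (L.opcycles a) :=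
      H9Misc.DRingTor.flat_opcycles hLf a fun M => hV M (a - 1) (Or.inl (by omega))
    show Module.Flat (S.presheaf.stalk (f.base x)) (T.obj (R.opcycles a))
    exact @Module.Flat.of_linearEquiv _ _ _ _ _ _ _ _ hop ((R.sc a).mapOpcyclesIso T).symm.toLinearEquiv
  refine ⟨R.truncGE a, fun i hi => ?_, fun i => ?_,
    ⟨(asIso (DerivedCategory.Q.map (R.πTruncGE a))).symm ≪≫ asIso (DerivedCategory.Q.map ρ)⟩⟩
  · rcases hi with hi | hi
    · exact CochainComplex.isZero_of_isStrictlyGE _ a i hi
    · rcases lt_or_ge i a with hia | hia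
      · exact CochainComplex.isZero_of_isStrictlyGE _ a i hia
      obtain ⟨n, rfl⟩ : ∃ n : ℕ, a + n = i := ⟨(i - a).toNat, by omega⟩
      rcases Nat.eq_zero_or_pos n with rfl | hn
      · refine IsZero.of_iso ?_ (HomologicalComplex.truncGEXIsoOpcycles R emb (i := 0) rfl
          ((ComplexShape.boundaryGE_embeddingUpIntGE_iff a 0).2 rfl))
        exact IsZero.of_epi (R.pOpcycles (a + (0 : ℕ))) (hRb _ hi)
      · exact (hRb _ hi).of_iso (HomologicalComplex.truncGEXIso R emb (i := n) rfl
          (fun hb => by have := (ComplexShape.boundaryGE_embeddingUpIntGE_iff a n).1 hb; omega))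
  · intro x
    let T := DerSch.stalkOver f x
    rcases lt_or_ge i a with hia | hia
    · haveI := ModuleCat.subsingleton_of_isZero
        (T.map_isZero (CochainComplex.isZero_of_isStrictlyGE (R.truncGE a) a i hia))
      exact (inferInstance : Module.Flat (S.presheaf.stalk (f.base x)) (T.obj ((R.truncGE a).X i)))
    obtain ⟨n, rfl⟩ : ∃ n : ℕ, a + n = i := ⟨(i - a).toNat, by omega⟩
    rcases Nat.eq_zero_or_pos n with rfl | hn
    · have hf : Module.Flat (S.presheaf.stalk (f.base x)) (T.obj (R.opcycles (a + (0 : ℕ)))) := by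
        rw [Nat.cast_zero, add_zero]; exact ha x
      exact (Module.Flat.equiv_iff (T.mapIso (HomologicalComplex.truncGEXIsoOpcycles R emb (i := 0) rfl
        ((ComplexShape.boundaryGE_embeddingUpIntGE_iff a 0).2 rfl))).toLinearEquiv).2 hf
    · exact (Module.Flat.equiv_iff (T.mapIso (HomologicalComplex.truncGEXIso R emb (i := n) rfl
        (fun hb => by have := (ComplexShape.boundaryGE_embeddingUpIntGE_iff a n).1 hb; omega))).toLinearEquiv).2
          (hfl _ x)

/-- The two notions of relative tor amplitude agree. -/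
theorem hasRelFlatAmplitudeIn_iff [Flat f] (F : CochainComplex X.Modules ℤ) (a b : ℤ) :
    DCoh.HasRelFlatAmplitudeIn f a b (DCoh.toD X F) ↔ DerSch.HasTorAmplitude f a b F :=
  ⟨fun ⟨_, hz, hf, ⟨e⟩⟩ x => hasTorAmplitudeAt_of_iso f e (hasTorAmplitude_of_flatOver f hz hf x),
    hasRelFlatAmplitudeIn_of_torAmplitude f⟩

/-- Locally finite relative tor dimension is locally finite stalkwise tor amplitude. -/
theorem locHasFiniteRelTorDim_iff [Flat f] {K : DCoh.D X} (F : CochainComplex X.Modules ℤ)
    (e : DCoh.toD X F ≅ K) : DCoh.LocHasFiniteRelTorDim f K ↔ DerSch.LocFiniteTorAmplitude f F := by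
  refine ⟨fun h x => ?_, fun h x => ?_⟩
  · obtain ⟨V, a, b, hxV, hV⟩ := h x
    refine ⟨V, a, b, hxV, fun x' hx' => ?_⟩
    exact (hasTorAmplitudeAt_restrict_iff V.ι f F (⟨x', hx'⟩ : (V : Scheme.{u})) a b).1
      ((hasRelFlatAmplitudeIn_iff (V.ι ≫ f) _ a b).1 (hV F ⟨e⟩) (⟨x', hx'⟩ : (V : Scheme.{u})))
  · obtain ⟨V, a, b, hxV, hV⟩ := h x
    refine ⟨V, a, b, hxV, fun F' ⟨e'⟩ => (hasRelFlatAmplitudeIn_iff (V.ι ≫ f) _ a b).2 fun v => ?_⟩
    exact (hasTorAmplitudeAt_restrict_iff V.ι f F' v a b).2
      (hasTorAmplitudeAt_of_iso f (e ≪≫ e'.symm) (hV _ v.2))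

end Groth.Agent.PushAmp
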