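import Groth.Agent.KFlatLib.Scheme.InnerHom
import Groth.Agent.KFlatLib.Scheme.Coproducts
import Groth.Agent.KFlatLib.Scheme.ProjFormula

/-! Existence of the derived internal hom. -/

set_option autoImplicit false
set_option linter.style.haveILetI false
set_option backward.isDefEq.respectTransparency false

universe u

open CategoryTheory CategoryTheory.Limits AlgebraicGeometry

attribute [local instance] HasDerivedCategory.standard

namespace Groth.Agent.PushAmp

open KFlatLib

variable {X : Scheme.{u}}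

/-- `- ⊗^L P` has a right adjoint for K-flat `P`. -/
theorem hasRSheafHom_of_isKFlat (P : CochainComplex X.Modules ℤ) (hP : DCoh.IsKFlat P)
    [DCoh.HasLTensorCx P] : DCoh.HasRSheafHom P := by
  choose I hI hinj hiso using fun L : DCoh.D X => exists_kInjective_rep L
  let e := fun L => (hiso L).some
  let c := (DCoh.tensorCxQ P).totalLeftDerivedCounit DerivedCategory.Q (qisX X)
  haveI := fun N => isIso_LTensorCx_counit_of_isKFlat_right P hP N
  let A : DCoh.D X → CochainComplex X.Modules ℤ := fun L => (iHom P).obj (I L)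
  let G : DCoh.D X → DCoh.D X := fun L => DerivedCategory.Q.obj (A L)
  let ev : ∀ L, (DCoh.LTensorCx P).obj (G L) ⟶ L := fun L =>
    c.app (A L) ≫ DerivedCategory.Q.map ((iHomAdj P).counit.app (I L)) ≫ (e L).inv
  let φ : ∀ Z L, (Z ⟶ G L) → ((DCoh.LTensorCx P).obj Z ⟶ L) := fun Z L a =>
    (DCoh.LTensorCx P).map a ≫ ev L
  have hb : ∀ Z L, Function.Bijective (φ Z L) := fun Z L => by
    haveI := hI L
    haveI := hinj L
    haveI := isKInjective_iHom hP (I L)
    obtain ⟨N, hN, ⟨eZ⟩⟩ := exists_kFlat_rep Z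
    have key : ∀ g : N ⟶ A L, φ (DerivedCategory.Q.obj N) L (DerivedCategory.Q.map g) =
        c.app N ≫ DerivedCategory.Q.map (((iHomAdj P).homEquiv N (I L)).symm g) ≫ (e L).inv := fun g => by
      refine ((Category.assoc _ _ _).symm.trans (congrArg (· ≫ _) (c.naturality g))).trans ?_
      refine (Category.assoc _ _ _).trans (congrArg (c.app N ≫ ·) ?_)
      refine ((Category.assoc _ _ _).symm.trans (congrArg (· ≫ (e L).inv) ?_))
      refine (DerivedCategory.Q.map_comp _ _).symm.trans (congrArg DerivedCategory.Q.map ?_)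
      exact ((iHomAdj P).homEquiv_counit N (I L) g).symm
    have hN' : Function.Bijective (φ (DerivedCategory.Q.obj N) L) := by
      refine ⟨fun a a' h => ?_, fun y => ?_⟩
      · obtain ⟨g, rfl⟩ := exists_Q_map a
        obtain ⟨g', rfl⟩ := exists_Q_map a'
        rw [key, key] at h
        obtain ⟨H⟩ := (Inner.nonempty_homotopy_iff (DCoh.tensorBi (X := X)) g g').2
          (homotopy_of_Q_map_eq _ _ ((cancel_mono (e L).inv).1 ((cancel_epi (c.app N)).1 h)))
        exact DerivedCategory.Q_map_eq_of_homotopy _ H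
      · obtain ⟨b, hb⟩ := exists_Q_map (inv (c.app N) ≫ y ≫ (e L).hom)
        refine ⟨DerivedCategory.Q.map ((iHomAdj P).homEquiv N (I L) b), ?_⟩
        rw [key, Equiv.symm_apply_apply, hb]
        simp
    have hnat : ∀ a : Z ⟶ G L, φ (DerivedCategory.Q.obj N) L (eZ.hom ≫ a) =
        (DCoh.LTensorCx P).map eZ.hom ≫ φ Z L a := fun a => by
      simp only [φ, Functor.map_comp, Category.assoc]
    refine ⟨fun a a' h => (cancel_epi eZ.hom).1 (hN'.1 (by rw [hnat, hnat, h])), fun y => ?_⟩
    obtain ⟨a, ha⟩ := hN'.2 ((DCoh.LTensorCx P).map eZ.hom ≫ y)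
    refine ⟨eZ.inv ≫ a, (cancel_epi ((DCoh.LTensorCx P).map eZ.hom)).1 ?_⟩
    rw [← hnat, ← Category.assoc, Iso.hom_inv_id, Category.id_comp, ha]
  let E : ∀ Z L, ((DCoh.LTensorCx P).obj Z ⟶ L) ≃ (Z ⟶ G L) := fun Z L =>
    (Equiv.ofBijective (φ Z L) (hb Z L)).symm
  exact (Adjunction.adjunctionOfEquivRight E fun Z' Z L h g => by
    refine (Equiv.symm_apply_eq _).2 ?_
    show (DCoh.LTensorCx P).map h ≫ g = φ Z' L (h ≫ E Z L g)
    have hg : φ Z L (E Z L g) = g := (Equiv.ofBijective (φ Z L) (hb Z L)).apply_symm_apply g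
    conv_lhs => rw [← hg]
    simp only [φ, Functor.map_comp, Category.assoc]).isLeftAdjoint

/-- `- ⊗^L E` has a right adjoint. -/
theorem hasRSheafHom (E : CochainComplex X.Modules ℤ) [DCoh.HasLTensorCx E] : DCoh.HasRSheafHom E := by
  let K := (kRes X).obj E
  haveI := (flatCover X).quasiIso_ψ E
  haveI := hasLTensorCx K
  obtain ⟨c⟩ := nonempty_LTensorCx_congr (P := K) (E := E) ((flatCover X).ψ.app E)
  haveI := hasRSheafHom_of_isKFlat K (isKFlat_kRes E)
  exact Functor.isLeftAdjoint_of_iso c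

end Groth.Agent.PushAmp
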