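import Groth.Prelude.Def_DerSch
import Groth.Agent.KFlatLib.Scheme.Pullback
import Mathlib.Algebra.Category.ModuleCat.ChangeOfRings
import Groth.Agent.H9Misc.DRingTorDevissage

/-! Relative tor amplitude restricted along an open immersion into the source. -/

set_option autoImplicit false
set_option linter.style.haveILetI false
set_option backward.isDefEq.respectTransparency false

universe u

open CategoryTheory CategoryTheory.Limits AlgebraicGeometry

attribute [local instance] HasDerivedCategory.standard

namespace Groth.Agent.PushAmp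

open KFlatLib

variable {U X S : Scheme.{u}} (j : U ⟶ X) [IsOpenImmersion j] (f : X ⟶ S) (u : U)

/-- The relative stalk functor of the restriction. -/
theorem nonempty_stalkOver_iso :
    Nonempty (Scheme.Modules.restrictFunctor j ⋙ DerSch.stalkOver (j ≫ f) u ≅
      DerSch.stalkOver f (j.base u)) := by
  let σ := (j.stalkMap u).hom
  haveI : IsIso (j.stalkMap u) := inferInstance
  haveI : (ModuleCat.restrictScalars.{u} σ).IsEquivalence :=
    (ModuleCat.restrictScalarsEquivalenceOfRingEquiv (asIso (j.stalkMap u)).commRingCatIsoToRingEquiv).isEquivalence_functor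
  let adj := ModuleCat.extendRestrictScalarsAdj σ
  haveI : (ModuleCat.extendScalars σ).IsEquivalence := adj.isEquivalence_left_of_isEquivalence_right
  haveI : IsIso adj.unit := inferInstance
  have hσ : ((j ≫ f).stalkMap u).hom = σ.comp (f.stalkMap (j.base u)).hom := by
    rw [Scheme.Hom.stalkMap_comp]; rfl
  let ρ : ModuleCat.restrictScalars.{u} ((j ≫ f).stalkMap u).hom ≅
      ModuleCat.restrictScalars σ ⋙ ModuleCat.restrictScalars (f.stalkMap (j.base u)).hom :=
    ModuleCat.restrictScalarsComp' (R₁ := S.presheaf.stalk (f.base (j.base u)))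
      (f.stalkMap (j.base u)).hom σ _ hσ
  let eS : Scheme.Modules.restrictFunctor j ⋙ DerSch.stalkFunctor U u ≅
      DerSch.stalkFunctor X (j.base u) ⋙ ModuleCat.extendScalars σ :=
    Functor.isoWhiskerRight (Scheme.Modules.restrictFunctorIsoPullback j) _ ≪≫ stalkPullbackIso j u
  refine ⟨(Functor.associator _ _ _).symm ≪≫ Functor.isoWhiskerRight eS _ ≪≫
    Functor.isoWhiskerLeft _ ρ ≪≫ Functor.associator _ _ _ ≪≫
    Functor.isoWhiskerLeft _ ((Functor.associator _ _ _).symm ≪≫
      Functor.isoWhiskerRight (asIso adj.unit).symm _ ≪≫ Functor.leftUnitor _)⟩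

/-- Relative tor amplitude restricts along open immersions. -/
theorem hasTorAmplitude_restrict {a b : ℤ} {F : CochainComplex X.Modules ℤ}
    (h : DerSch.HasTorAmplitude f a b F) :
    DerSch.HasTorAmplitude (j ≫ f) a b
      (((Scheme.Modules.restrictFunctor j).mapHomologicalComplex (ComplexShape.up ℤ)).obj F) := by
  intro u
  obtain ⟨e⟩ := nonempty_stalkOver_iso j f u
  let e' := HomologicalComplex.Hom.isoOfComponents (C₁ := (DerSch.stalkCxOver (j ≫ f) u).obj
      (((Scheme.Modules.restrictFunctor j).mapHomologicalComplex (ComplexShape.up ℤ)).obj F))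
    (C₂ := (DerSch.stalkCxOver f (j.base u)).obj F) (fun i => e.app (F.X i))
    (fun i k _ => (e.hom.naturality (F.d i k)).symm)
  exact H9Misc.DRingTor.of_iso (DerivedCategory.Q.mapIso e').symm (h (j.base u))

end Groth.Agent.PushAmp
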