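import Groth.Agent.PushAmp.Basic
import Groth.Agent.PushAmp.Restrict
import Groth.Agent.KFlatLib.Scheme.RpushRestrict
import Groth.Agent.KFlatLib.Scheme.ProjLocFree
import Groth.Agent.KFlatLib.Scheme.PCQCoh
import Groth.Agent.KFlatLib.Scheme.RHomLocal
import Groth.Agent.KFlatLib.Perfect.Amplitude
import Groth.Agent.TwistFlat.Transfer

/-! Tor amplitude of direct images of complexes flat over a base that need not be quasi-separated. -/

set_option autoImplicit false
set_option linter.style.haveILetI false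
set_option backward.isDefEq.respectTransparency false

universe u

open CategoryTheory CategoryTheory.Limits AlgebraicGeometry MonoidalCategory

attribute [local instance] HasDerivedCategory.standard

namespace Groth.Agent.PushAmp

open KFlatLib

variable {X Y : Scheme.{u}}

/-- The tensor product with a module is right exact: no cohomology above that of the complex. -/
theorem isZero_hd_ltensorMod_of_gt (K : DCoh.D Y) (m : ℤ) [K.IsLE m] (G : Y.Modules)
    [DCoh.HasLTensorMod G] (i : ℤ) (hi : m < i) : IsZero (DCoh.HD ((DCoh.LTensorMod G).obj K) i) := by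
  let C := DerivedCategory.Q.objPreimage K
  let eC : DerivedCategory.Q.obj C ≅ K := DerivedCategory.Q.objObjPreimageIso K
  haveI : C.IsLE m := by
    rw [← DerivedCategory.isLE_Q_obj_iff]
    exact DerivedCategory.TStructure.t.isLE_of_iso eC.symm m
  obtain ⟨R, ρ, hρ, hRle, hR⟩ := exists_flat_rep C m
  haveI := hρ
  haveI := isIso_Q_map ρ hρ
  let eR : DerivedCategory.Q.obj R ≅ K := asIso (DerivedCategory.Q.map ρ) ≪≫ eC
  refine IsZero.of_iso ?_ ((DerivedCategory.homologyFunctor Y.Modules i).mapIso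
    ((DCoh.LTensorMod G).mapIso eR.symm) ≪≫ hdLTensorModIso G hR i)
  rw [← HomologicalComplex.exactAt_iff_isZero_homology]
  refine ShortComplex.exact_of_isZero_X₂ _ ?_
  change IsZero (((tensorModCx G).obj R).X i)
  exact Functor.map_isZero ((DCoh.tensorBi (X := Y)).flip.obj G) (R.isZero_of_isStrictlyLE m i hi)

/-- A complex of tor amplitude in `[a, b']` without cohomology above `m` has tor amplitude in `[a, m]`. -/
theorem hasTorAmplitudeIn_of_isLE {K : DCoh.D Y} {a b' : ℤ} (h : DCoh.HasTorAmplitudeIn a b' K)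
    (m : ℤ) [K.IsLE m] : DCoh.HasTorAmplitudeIn a m K := fun G _ i hi =>
  hi.elim (fun h' => h G i (Or.inl h')) (fun h' => isZero_hd_ltensorMod_of_gt K m G i h')

variable {U S : Scheme.{u}}

/-- Flatness over a base descends along an open immersion of bases. -/
theorem isFlatOverAt_of_comp (g : U ⟶ S) (j : S ⟶ Y) [IsOpenImmersion j] (M : U.Modules) (u : U)
    (h : FlatMod.IsFlatOverAt (g ≫ j) M u) : FlatMod.IsFlatOverAt g M u := by
  let σ := (j.stalkMap (g.base u)).hom
  have hσ : Function.Bijective σ :=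
    haveI : IsIso (j.stalkMap (g.base u)) := inferInstance
    ConcreteCategory.bijective_of_isIso (j.stalkMap (g.base u))
  have hs : ((g ≫ j).stalkMap u).hom = (g.stalkMap u).hom.comp σ := by
    rw [Scheme.Hom.stalkMap_comp]; rfl
  let e := RingEquiv.ofBijective σ hσ
  refine TwistFlat.flat_of_compHom (FlatMod.moduleStalkOver (g ≫ j) M u)
    (FlatMod.moduleStalkOver g M u) e.symm.toRingHom e.symm.bijective (fun r m => ?_) h
  show (g.stalkMap u).hom r • m = ((g ≫ j).stalkMap u).hom (e.symm r) • m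
  rw [hs]
  exact congrArg (fun c => (g.stalkMap u).hom c • m) (e.apply_symm_apply r).symm

/-- Flatness over the base restricts to the preimage of an open. -/
theorem isFlatOver_morphismRestrict (f : X ⟶ Y) (V : Y.Opens) {M : X.Modules}
    (h : FlatMod.IsFlatOver f M) :
    FlatMod.IsFlatOver (f ∣_ V) ((Scheme.Modules.restrictFunctor (f ⁻¹ᵁ V).ι).obj M) := fun u => by
  refine isFlatOverAt_of_comp _ V.ι _ u ?_
  obtain ⟨e⟩ := nonempty_stalkOver_iso (f ⁻¹ᵁ V).ι f u
  rw [morphismRestrict_ι]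
  change Module.Flat _ ((DerSch.stalkOver ((f ⁻¹ᵁ V).ι ≫ f) u).obj
    ((Scheme.Modules.restrictFunctor (f ⁻¹ᵁ V).ι).obj M))
  haveI : Module.Flat _ ((DerSch.stalkOver f ((f ⁻¹ᵁ V).ι.base u)).obj M) :=
    h ((f ⁻¹ᵁ V).ι.base u)
  exact @Module.Flat.of_linearEquiv _ _ _ _ _ _ _ _ this (e.app M).toLinearEquiv

/-- A complex of modules flat over the base placed in `[a, b]` has tor amplitude in `[a, b]`. -/
theorem hasTorAmplitude_of_flatOver (f : X ⟶ Y) {E : CochainComplex X.Modules ℤ} {a b : ℤ}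
    (hE : DCoh.VanishesOutside E a b) (hflat : ∀ i, FlatMod.IsFlatOver f (E.X i)) :
    DerSch.HasTorAmplitude f a b E := fun x =>
  ⟨(DerSch.stalkCxOver f x).obj E, fun i hi => Functor.map_isZero (DerSch.stalkOver f x) (hE i hi),
    fun i => hflat i x, ⟨Iso.refl _⟩⟩

variable (f : X ⟶ Y) [QuasiCompact f] [QuasiSeparated f] [DCoh.HasRpush f]

/-- Tor amplitude of the direct image of a complex of modules flat over the base. -/
theorem hasTorAmplitudeIn_rpush_of_flatOver [CompactSpace Y] (N : ℕ)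
    (hN : ∀ (F : X.Modules), Coh.IsQCoh F →
      ∀ i : ℤ, (N : ℤ) < i → IsZero (DCoh.HD ((DCoh.Rpush f).obj (DCoh.inD X F)) i))
    (E : CochainComplex X.Modules ℤ) (a b : ℤ) (hE : DCoh.VanishesOutside E a b)
    (hflat : ∀ i, FlatMod.IsFlatOver f (E.X i)) (hq : DCoh.IsQCohD (DCoh.toD X E)) :
    DCoh.HasTorAmplitudeIn a (b + N) ((DCoh.Rpush f).obj (DCoh.toD X E)) := by
  haveI : HasInjectiveResolutions X.Modules := hasInjectiveResolutions_modules
  haveI : E.IsStrictlyLE b :=
    (CochainComplex.isStrictlyLE_iff _ _).2 fun i hi => hE i (Or.inr hi)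
  haveI : (DCoh.toD X E).IsLE b := inferInstance
  let K := (DCoh.Rpush f).obj (DCoh.toD X E)
  have hv : RpushVanish f ⊤ (N + 1) := fun M hM p hp => by
    obtain ⟨e⟩ := nonempty_hd_rpush_single f M p
    exact Functor.map_isZero _ ((hN M hM p (by omega)).of_iso e.symm)
  haveI hK : K.IsLE (b + N) := (DerivedCategory.isLE_iff K _).2 fun i hi =>
    isZero_of_isZero_restrict _ fun _ => ⟨⊤, trivial,
      isZero_restrict_hd_rpush f hq b ⊤ (N + 1) hv i (by omega)⟩
  refine torAmplitude_of_local K fun y => ?_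
  obtain ⟨_, ⟨(V : Y.Opens), hV, rfl⟩, hyV, -⟩ :=
    Y.isBasis_affineOpens.exists_subset_of_mem_open (Set.mem_univ y) isOpen_univ
  refine ⟨V, V.ι, inferInstance, ⟨⟨y, hyV⟩, rfl⟩, ?_⟩
  haveI : IsAffine (V : Scheme.{u}) := hV
  haveI := hasRpush_scheme (f ∣_ V)
  let E' := (rCx (f ⁻¹ᵁ V).ι).obj E
  let eE : (rho (f ⁻¹ᵁ V).ι).obj (DCoh.toD X E) ≅ DCoh.toD _ E' := (rhoQ (f ⁻¹ᵁ V).ι).app E
  have hE' : DerSch.HasTorAmplitude (f ∣_ V) a b E' :=
    hasTorAmplitude_of_flatOver _ (fun i hi => Functor.map_isZero (Scheme.Modules.restrictFunctor (f ⁻¹ᵁ V).ι) (hE i hi))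
      fun i => isFlatOver_morphismRestrict f V (hflat i)
  obtain ⟨b', hb'⟩ := exists_flatAmplitude_rpush (f ∣_ V) E'
    (isQCohD_of_iso eE (isQCohD_rho _ hq)) a b hE'
  obtain ⟨e⟩ := nonempty_rpush_restrictD_iso f V
  let eK : (rho V.ι).obj K ≅ (DCoh.Rpush (f ∣_ V)).obj (DCoh.toD _ E') :=
    e.app _ ≪≫ (DCoh.Rpush (f ∣_ V)).mapIso eE
  haveI : ((rho V.ι).obj K).IsLE (b + N) := (DerivedCategory.isLE_iff _ _).2 fun i hi =>
    (Functor.map_isZero _ (DerivedCategory.isZero_of_isLE K (b + N) i hi)).of_iso (restrictHDIso V.ι K i)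
  refine hasTorAmplitudeIn_of_isLE (b' := b') (fun G _ i hi => ?_) (b + N)
  exact (torAmplitude_of_flatAmplitude hb' G i hi).of_iso
    ((DerivedCategory.homologyFunctor _ i).mapIso ((DCoh.LTensorMod G).mapIso eK))

end Groth.Agent.PushAmp
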