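import Groth.Agent.PushAmp.OverBase
import Groth.Agent.PushAmp.RelFlat

/-! The tor amplitude over a base of a derived direct image, locally on the base. -/

set_option autoImplicit false
set_option linter.style.haveILetI false
set_option backward.isDefEq.respectTransparency false

universe u

open CategoryTheory CategoryTheory.Limits AlgebraicGeometry MonoidalCategory

attribute [local instance] HasDerivedCategory.standard

namespace Groth.Agent.PushAmp

open KFlatLib

section Ring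

variable {A B : Type u} [CommRing A] [CommRing B]

/-- Tor amplitude along an isomorphism of rings. -/
theorem hasTorAmplitudeIn_ringEquiv (φ : A →+* B) (hφ : Function.Bijective φ) {a b : ℤ}
    (L : DRing.Cx B) (h : DRing.HasTorAmplitudeIn B a b (DRing.toD L)) :
    DRing.HasTorAmplitudeIn A a b
      (DRing.toD (((ModuleCat.restrictScalars φ).mapHomologicalComplex (ComplexShape.up ℤ)).obj L)) := by
  obtain ⟨E, hz, hf, ⟨e⟩⟩ := h
  let R := ModuleCat.restrictScalars.{u} φ
  refine ⟨(R.mapHomologicalComplex (ComplexShape.up ℤ)).obj E, fun i hi => R.map_isZero (hz i hi),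
    fun i => TwistFlat.flat_of_compHom (E.X i).isModule (R.obj (E.X i)).isModule φ hφ (fun _ _ => rfl) (hf i),
    ⟨(R.mapDerivedCategoryFactors.app E).symm ≪≫ R.mapDerivedCategory.mapIso e ≪≫
      R.mapDerivedCategoryFactors.app L⟩⟩

end Ring

variable {U S' S : Scheme.{u}}

/-- Relative tor amplitude along an open immersion of bases. -/
theorem hasTorAmplitudeAt_comp_iff (g : U ⟶ S') (j : S' ⟶ S) [IsOpenImmersion j]
    (F : CochainComplex U.Modules ℤ) (u : U) (a b : ℤ) :
    DerSch.HasTorAmplitudeAt (g ≫ j) a b F u ↔ DerSch.HasTorAmplitudeAt g a b F u := by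
  let σ := (j.stalkMap (g.base u)).hom
  have hσ : Function.Bijective σ :=
    haveI : IsIso (j.stalkMap (g.base u)) := inferInstance
    ConcreteCategory.bijective_of_isIso (j.stalkMap (g.base u))
  have hs : ((g ≫ j).stalkMap u).hom = (g.stalkMap u).hom.comp σ := by
    rw [Scheme.Hom.stalkMap_comp]; rfl
  let ρ : ModuleCat.restrictScalars.{u} ((g ≫ j).stalkMap u).hom ≅
      ModuleCat.restrictScalars (g.stalkMap u).hom ⋙ ModuleCat.restrictScalars σ :=
    ModuleCat.restrictScalarsComp' (R₁ := S.presheaf.stalk (j.base (g.base u))) σ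
      (g.stalkMap u).hom _ hs
  let L := (DerSch.stalkCxOver g u).obj F
  let e₁ : (DerSch.stalkCxOver (g ≫ j) u).obj F ≅
      ((ModuleCat.restrictScalars σ).mapHomologicalComplex (ComplexShape.up ℤ)).obj L :=
    HomologicalComplex.Hom.isoOfComponents
      (fun i => ρ.app ((DerSch.stalkFunctor U u).obj (F.X i)))
      (fun i k _ => (ρ.hom.naturality ((DerSch.stalkFunctor U u).map (F.d i k))).symm)
  let e := RingEquiv.ofBijective σ hσ
  refine ⟨fun h => ?_, fun h => H9Misc.DRingTor.of_iso (DerivedCategory.Q.mapIso e₁).symm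
    (hasTorAmplitudeIn_ringEquiv σ hσ L h)⟩
  have he : RingHom.id _ = σ.comp e.symm.toRingHom := RingHom.ext fun r => (e.apply_symm_apply r).symm
  let τ : ModuleCat.restrictScalars.{u} σ ⋙ ModuleCat.restrictScalars e.symm.toRingHom ≅ 𝟭 _ :=
    (ModuleCat.restrictScalarsComp' e.symm.toRingHom σ _ he).symm ≪≫
      ModuleCat.restrictScalarsId' (RingHom.id _) rfl
  let e₂ : ((ModuleCat.restrictScalars e.symm.toRingHom).mapHomologicalComplex (ComplexShape.up ℤ)).obj
      (((ModuleCat.restrictScalars σ).mapHomologicalComplex (ComplexShape.up ℤ)).obj L) ≅ L :=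
    HomologicalComplex.Hom.isoOfComponents (fun i => τ.app (L.X i))
      (fun i k _ => (τ.hom.naturality (L.d i k)).symm)
  exact H9Misc.DRingTor.of_iso (DerivedCategory.Q.mapIso e₂)
    (hasTorAmplitudeIn_ringEquiv e.symm.toRingHom e.symm.bijective _
      (H9Misc.DRingTor.of_iso (DerivedCategory.Q.mapIso e₁) h))

/-- Relative tor amplitude along an open immersion into the source. -/
theorem hasTorAmplitudeAt_restrict_iff {X : Scheme.{u}} (j : U ⟶ X) [IsOpenImmersion j] (f : X ⟶ S)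
    (F : CochainComplex X.Modules ℤ) (u : U) (a b : ℤ) :
    DerSch.HasTorAmplitudeAt (j ≫ f) a b
        (((Scheme.Modules.restrictFunctor j).mapHomologicalComplex (ComplexShape.up ℤ)).obj F) u ↔
      DerSch.HasTorAmplitudeAt f a b F (j.base u) := by
  obtain ⟨e⟩ := nonempty_stalkOver_iso j f u
  let e' := HomologicalComplex.Hom.isoOfComponents (C₁ := (DerSch.stalkCxOver (j ≫ f) u).obj
      (((Scheme.Modules.restrictFunctor j).mapHomologicalComplex (ComplexShape.up ℤ)).obj F))
    (C₂ := (DerSch.stalkCxOver f (j.base u)).obj F) (fun i => e.app (F.X i))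
    (fun i k _ => (e.hom.naturality (F.d i k)).symm)
  exact ⟨H9Misc.DRingTor.of_iso (DerivedCategory.Q.mapIso e'),
    H9Misc.DRingTor.of_iso (DerivedCategory.Q.mapIso e').symm⟩

variable {X Y : Scheme.{u}} (q : Y ⟶ S) (f : X ⟶ Y) [QuasiCompact f] [QuasiSeparated f]
  [QuasiCompact q] [DCoh.HasRpush f]

/-- Finite tor amplitude over the base is preserved by derived direct images, over an affine open. -/
theorem exists_torAmplitudeAt_rpush_over (E : CochainComplex X.Modules ℤ)
    (hq : DCoh.IsQCohD (DCoh.toD X E)) (a b : ℤ) {V : S.Opens} (hV : IsAffineOpen V)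
    (hE : ∀ x ∈ f ⁻¹ᵁ (q ⁻¹ᵁ V), DerSch.HasTorAmplitudeAt (f ≫ q) a b E x)
    (F : CochainComplex Y.Modules ℤ) (eF : DCoh.toD Y F ≅ (DCoh.Rpush f).obj (DCoh.toD X E)) :
    ∃ b' : ℤ, ∀ y ∈ q ⁻¹ᵁ V, DerSch.HasTorAmplitudeAt q a b' F y := by
  haveI : IsAffine (V : Scheme.{u}) := hV
  let U := q ⁻¹ᵁ V
  let W := f ⁻¹ᵁ U
  haveI : CompactSpace (U : Scheme.{u}) :=
    isCompact_iff_compactSpace.1 (q.isCompact_preimage hV.isCompact)
  haveI := hasRpush_scheme (f ∣_ U)
  let eE : (rho W.ι).obj (DCoh.toD X E) ≅ DCoh.toD _ ((rCx W.ι).obj E) := (rhoQ W.ι).app E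
  obtain ⟨e⟩ := nonempty_rpush_restrictD_iso f U
  let eU : DCoh.toD _ ((rCx U.ι).obj F) ≅
      (DCoh.Rpush (f ∣_ U)).obj (DCoh.toD _ ((rCx W.ι).obj E)) :=
    ((rhoQ U.ι).app F).symm ≪≫ (rho U.ι).mapIso eF ≪≫ e.app _ ≪≫ (DCoh.Rpush (f ∣_ U)).mapIso eE
  have hw : ((f ∣_ U) ≫ (q ∣_ V)) ≫ V.ι = W.ι ≫ f ≫ q := by
    rw [Category.assoc, morphismRestrict_ι]
    show (f ∣_ U) ≫ U.ι ≫ q = _
    rw [morphismRestrict_ι_assoc]
  obtain ⟨b', hb'⟩ := exists_torAmplitude_rpush_over (q ∣_ V) (f ∣_ U) ((rCx W.ι).obj E)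
    (isQCohD_of_iso eE (isQCohD_rho _ hq)) a b (fun w => by
      refine (hasTorAmplitudeAt_comp_iff _ V.ι _ w a b).1 ?_
      rw [hw]
      exact (hasTorAmplitudeAt_restrict_iff W.ι (f ≫ q) E w a b).2 (hE _ w.2)) _ eU
  refine ⟨b', fun y hy => ?_⟩
  refine (hasTorAmplitudeAt_restrict_iff U.ι q F (⟨y, hy⟩ : U) a b').1 ?_
  rw [← morphismRestrict_ι]
  exact (hasTorAmplitudeAt_comp_iff _ V.ι _ _ a b').2 (hb' _)

end Groth.Agent.PushAmp
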