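import Groth.Agent.Codepth5.Field
import Groth.Agent.SmoothDim.Basic
import Groth.Agent.GrpSchLib.SmoothRegular
import Groth.Agent.CplFib6.QuotReg
import Groth.Agent.H9Misc.DRingGlobalDim

/-!
# Global dimension of the closed fibre of a local ring of a smooth morphism
-/

set_option autoImplicit false
set_option linter.style.haveILetI false
set_option backward.isDefEq.respectTransparency false
set_option backward.isDefEq.respectTransparency.types false

universe u

open CategoryTheory CategoryTheory.Limits AlgebraicGeometry TopologicalSpace TensorProduct IsLocalRing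

namespace Groth.Agent.PushAmp

variable {Y S : Scheme.{u}} (g : Y ⟶ S) (n : ℕ) [SmoothOfRelativeDimension n g]

/-- Local rings of a smooth scheme over a field have dimension at most the relative dimension. -/
theorem ringKrullDim_stalk_le {K : Type u} [Field K] {X : Scheme.{u}} (f : X ⟶ Spec (CommRingCat.of K))
    [SmoothOfRelativeDimension n f] (x : X) : ringKrullDim (X.presheaf.stalk x) ≤ (n : WithBot ℕ∞) := by
  obtain ⟨U, hU, V, hV, hx, e, hf⟩ :=
    SmoothOfRelativeDimension.exists_isStandardSmoothOfRelativeDimension (n := n) (f := f) x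
  have hUtop : U = ⊤ := top_unique fun y _ =>
    (@Subsingleton.elim (Spec (CommRingCat.of K)) inferInstance y (f x)).symm ▸ e hx
  have hfield : IsField Γ(Spec (CommRingCat.of K), U) := by
    rw [hUtop]
    exact (Scheme.ΓSpecIso (CommRingCat.of K)).commRingCatIsoToRingEquiv.toMulEquiv.isField
      (Field.toIsField K)
  letI := hfield.toField
  letI : Algebra Γ(Spec (CommRingCat.of K), U) Γ(X, V) := (f.appLE U V e).hom.toAlgebra
  haveI : Algebra.IsStandardSmoothOfRelativeDimension n Γ(Spec (CommRingCat.of K), U) Γ(X, V) := hf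
  letI : Algebra Γ(X, V) (X.presheaf.stalk x) := (X.presheaf.germ V x hx).hom.toAlgebra
  haveI := hV.isLocalization_stalk ⟨x, hx⟩
  haveI : Nontrivial Γ(X, V) := (algebraMap Γ(X, V) (X.presheaf.stalk x)).domain_nontrivial
  refine le_trans ?_ (SmoothDim.ringKrullDim_eq Γ(Spec (CommRingCat.of K), U) Γ(X, V) n).le
  rw [IsLocalization.AtPrime.ringKrullDim_eq_height (hV.primeIdealOf ⟨x, hx⟩).asIdeal (X.presheaf.stalk x)]
  exact Ideal.height_le_ringKrullDim_of_ne_top (Ideal.IsPrime.ne_top inferInstance)

/-- The closed fibre of a local ring of a smooth morphism is regular of bounded dimension. -/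
theorem fibre_stalk (y : Y) :
    IsRegularLocalRing (Y.presheaf.stalk y ⧸ Codepth5.fibIdeal g y) ∧
      ringKrullDim (Y.presheaf.stalk y ⧸ Codepth5.fibIdeal g y) ≤ (n : WithBot ℕ∞) := by
  obtain ⟨e⟩ := Codepth5.nonempty_fibre_stalk_equiv g y _ _ (g.fiberι_asFiber y)
  haveI := smoothOfRelativeDimension_isStableUnderBaseChange n
  haveI : SmoothOfRelativeDimension n (g.fiberToSpecResidueField (g y)) :=
    MorphismProperty.pullback_snd (P := @SmoothOfRelativeDimension n) _ _ inferInstance
  haveI : Smooth (g.fiberToSpecResidueField (g y)) := SmoothOfRelativeDimension.smooth n _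
  haveI := GrpSchLib.isRegularLocalRing_stalk_of_smooth (K := S.residueField (g y))
    (g.fiberToSpecResidueField (g y)) (g.asFiber y)
  exact ⟨IsRegularLocalRing.of_ringEquiv e.symm, (ringKrullDim_eq_of_ringEquiv e).trans_le
    (ringKrullDim_stalk_le n (K := S.residueField (g y)) (g.fiberToSpecResidueField (g y)) (g.asFiber y))⟩

omit [SmoothOfRelativeDimension n g]

/-- The tensor product with the residue field of the base. -/
theorem nonempty_residueField_tensor_equiv {A B : Type u} [CommRing A] [CommRing B] [Algebra A B]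
    (p : Ideal A) [p.IsMaximal] : Nonempty ((B ⧸ p.map (algebraMap A B)) ≃+* p.ResidueField ⊗[A] B) := by
  let eA : (A ⧸ p) ≃ₐ[A] p.ResidueField := AlgEquiv.ofBijective
    (IsScalarTower.toAlgHom A (A ⧸ p) p.ResidueField) (Ideal.bijective_algebraMap_quotient_residueField p)
  exact ⟨(Algebra.TensorProduct.quotIdealMapEquivTensorQuot B p).toRingEquiv.trans
    ((Algebra.TensorProduct.congr AlgEquiv.refl eA).trans
      (Algebra.TensorProduct.comm A B p.ResidueField)).toRingEquiv⟩

/-- The closed fibre of a local ring of a smooth morphism has bounded global dimension. -/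
theorem pd_le_fibre [SmoothOfRelativeDimension n g] (y : Y) (m : Ideal (Y.presheaf.stalk y)) [m.IsMaximal] :
    letI := (g.stalkMap y).hom.toAlgebra
    ∀ M : ModuleCat.{u} ((Ideal.comap (algebraMap (S.presheaf.stalk (g y)) (Y.presheaf.stalk y)) m).ResidueField
      ⊗[S.presheaf.stalk (g y)] Y.presheaf.stalk y), HasProjectiveDimensionLT M (n + 1) := by
  letI := (g.stalkMap y).hom.toAlgebra
  haveI : IsLocalHom (algebraMap (S.presheaf.stalk (g y)) (Y.presheaf.stalk y)) := g.toLRSHom.prop y
  let p := Ideal.comap (algebraMap (S.presheaf.stalk (g y)) (Y.presheaf.stalk y)) m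
  have hp : p = maximalIdeal (S.presheaf.stalk (g y)) := by
    show Ideal.comap _ m = _
    rw [eq_maximalIdeal (inferInstance : m.IsMaximal)]
    have h : IsLocalHom (algebraMap (S.presheaf.stalk (g y)) (Y.presheaf.stalk y)) ↔
        (maximalIdeal (Y.presheaf.stalk y)).comap (algebraMap (S.presheaf.stalk (g y)) (Y.presheaf.stalk y)) =
          maximalIdeal (S.presheaf.stalk (g y)) := (IsLocalRing.local_hom_TFAE _).out 0 4
    exact h.1 inferInstance
  haveI : p.IsMaximal := hp ▸ maximalIdeal.isMaximal _
  have hI : p.map (algebraMap (S.presheaf.stalk (g y)) (Y.presheaf.stalk y)) = Codepth5.fibIdeal g y := by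
    rw [hp]; rfl
  obtain ⟨e⟩ := nonempty_residueField_tensor_equiv (B := Y.presheaf.stalk y) p
  obtain ⟨hr, hd⟩ := fibre_stalk g n y
  let e' := (Ideal.quotEquivOfEq hI.symm).trans e
  haveI : IsRegularLocalRing (p.ResidueField ⊗[S.presheaf.stalk (g y)] Y.presheaf.stalk y) :=
    IsRegularLocalRing.of_ringEquiv e'
  haveI := CplFib6.isRegularRing_of_local (p.ResidueField ⊗[S.presheaf.stalk (g y)] Y.presheaf.stalk y)
  intro M
  exact H9Misc.DRingGlobalDim.pd_le (fun q => IsRegularRing.isRegularLocalRing_localization q.asIdeal) n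
    ((ringKrullDim_eq_of_ringEquiv e').symm.trans_le hd) M

end Groth.Agent.PushAmp
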