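import Groth.Agent.PushAmp.FibrewiseAmp
import Groth.Agent.PushAmp.SmoothFibre
import Groth.Agent.PushAmp.RelFlatRep
import Groth.Agent.PushAmp.OverBaseLoc
import Groth.Agent.PushAmp.OverBaseBound
import Groth.Agent.KFlatLib.Perfect.Amplitude
import Groth.Agent.KFlatLib.Scheme.TildeAmp
import Groth.Agent.QCoh.LocFree

/-!
# Perfectness from tor amplitude over the base of a smooth morphism
-/

set_option autoImplicit false
set_option linter.style.haveILetI false
set_option backward.isDefEq.respectTransparency false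
set_option backward.isDefEq.respectTransparency.types false

universe u

open CategoryTheory CategoryTheory.Limits AlgebraicGeometry TopologicalSpace

attribute [local instance] HasDerivedCategory.standard

namespace Groth.Agent.PushAmp

open Groth.Agent.KFlatLib

variable {Y S : Scheme.{u}}

/-- Relative stalks of finite locally free modules over the identity are finite free. -/
theorem finite_free_stalk_id {U : Scheme.{u}} (j : U ⟶ Y) [IsOpenImmersion j] {M : U.Modules}
    (hM : FlatMod.IsFinLocFree M) (u : U) :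
    Module.Finite (Y.presheaf.stalk (j.base u)) ((DerSch.stalkOver j u).obj M) ∧
      Module.Free (Y.presheaf.stalk (j.base u)) ((DerSch.stalkOver j u).obj M) := by
  haveI := QCoh.free_stalk_of_isFinLocFree hM u
  haveI := QCoh.finite_stalk_of_isFT (QCoh.isQCoh_of_isFinLocFree hM)
    (QCoh.isFT_of_isFP (QCoh.isFP_of_isFinLocFree hM)) u
  letI := (j.stalkMap u).hom.toAlgebra
  have hb : Function.Bijective (algebraMap (Y.presheaf.stalk (j.base u)) (U.presheaf.stalk u)) :=
    ConcreteCategory.bijective_of_isIso (j.stalkMap u)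
  let e := LinearEquiv.ofBijective (Algebra.linearMap (Y.presheaf.stalk (j.base u)) (U.presheaf.stalk u)) hb
  haveI : Module.Finite (Y.presheaf.stalk (j.base u)) (U.presheaf.stalk u) := Module.Finite.equiv e
  haveI : Module.Free (Y.presheaf.stalk (j.base u)) (U.presheaf.stalk u) := Module.Free.of_equiv e
  letI : Module (Y.presheaf.stalk (j.base u)) (M.presheaf.stalk u) := Module.compHom _ (j.stalkMap u).hom
  haveI : IsScalarTower (Y.presheaf.stalk (j.base u)) (U.presheaf.stalk u) (M.presheaf.stalk u) :=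
    IsScalarTower.of_algebraMap_smul fun _ _ => rfl
  exact ⟨Module.Finite.trans (U.presheaf.stalk u) (M.presheaf.stalk u),
    Module.Free.trans (R := Y.presheaf.stalk (j.base u)) (S := U.presheaf.stalk u) (M := M.presheaf.stalk u)⟩

/-- Stalks of pseudo-coherent complexes. -/
theorem pc_stalk {m : ℤ} {G : CochainComplex Y.Modules ℤ} (h : LocPC m (DCoh.toD Y G)) (y : Y) :
    DRing.IsPseudoCoherent (Y.presheaf.stalk ((𝟙 Y : Y ⟶ Y).base y)) m
      (DRing.toD ((DerSch.stalkCxOver (𝟙 Y) y).obj G)) := by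
  obtain ⟨U, j, _, ⟨u, rfl⟩, P, α, hP, hα⟩ := h y
  let T := DerSch.stalkOver (j ≫ 𝟙 Y) u
  haveI : PreservesFiniteLimits T := comp_preservesFiniteLimits _ _
  haveI : PreservesFiniteColimits T := comp_preservesFiniteColimits _ _
  obtain ⟨a, b, hab⟩ := hP.1
  obtain ⟨e⟩ := nonempty_stalkOver_iso j (𝟙 Y) u
  let eT := (NatIso.mapHomologicalComplex e (ComplexShape.up ℤ)).app G
  let κ : T.mapDerivedCategory.obj ((rho j).obj (DCoh.toD Y G)) ≅
      DRing.toD ((DerSch.stalkCxOver (𝟙 Y) (j.base u)).obj G) :=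
    T.mapDerivedCategory.mapIso ((rhoQ j).app G) ≪≫ T.mapDerivedCategoryFactors.app _ ≪≫
      DerivedCategory.Q.mapIso eT
  refine ⟨(T.mapHomologicalComplex (ComplexShape.up ℤ)).obj P, a, b,
    (T.mapDerivedCategoryFactors.app P).inv ≫ T.mapDerivedCategory.map α ≫ κ.hom,
    fun i hi => T.map_isZero (hab i hi), fun i => ?_, ?_⟩
  · have h := finite_free_stalk_id (j ≫ 𝟙 Y) (hP.2 i) u
    exact h
  · have key := (hα.map_exact T).comp_iso (T.mapDerivedCategoryFactors.app P).inv κ.hom
    exact key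

/-- The relative stalk as restriction of scalars of the stalk. -/
theorem nonempty_stalkOver_restrict_iso (g : Y ⟶ S) (y : Y) :
    Nonempty (DerSch.stalkOver (𝟙 Y) y ⋙ ModuleCat.restrictScalars (R := S.presheaf.stalk (g.base y))
      (S := Y.presheaf.stalk y) (g.stalkMap y).hom ≅ DerSch.stalkOver g y) := by
  have hσ : (g.stalkMap y).hom = ((Scheme.Hom.stalkMap (𝟙 Y) y).hom).comp (g.stalkMap y).hom := by
    rw [Scheme.Hom.stalkMap_id]; rfl
  let ρ : ModuleCat.restrictScalars.{u} (g.stalkMap y).hom ≅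
      ModuleCat.restrictScalars (Scheme.Hom.stalkMap (𝟙 Y) y).hom ⋙ ModuleCat.restrictScalars (g.stalkMap y).hom :=
    ModuleCat.restrictScalarsComp' (R₁ := S.presheaf.stalk (g.base y))
      (g.stalkMap y).hom (Scheme.Hom.stalkMap (𝟙 Y) y).hom _ hσ
  exact ⟨Functor.associator _ _ _ ≪≫ Functor.isoWhiskerLeft _ ρ.symm⟩

/-- Tor amplitude over the base gives tor amplitude over a scheme smooth over it. -/
theorem hasTorAmplitudeAt_id_of_smooth (g : Y ⟶ S) (n : ℕ) [SmoothOfRelativeDimension n g] {a b : ℤ}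
    (G : CochainComplex Y.Modules ℤ) (hpc : ∀ m, LocPC m (DCoh.toD Y G))
    (hG : DerSch.HasTorAmplitude g a b G) (y : Y) :
    DerSch.HasTorAmplitudeAt (𝟙 Y) (a - n) b G y := by
  letI := (g.stalkMap y).hom.toAlgebra
  haveI : Smooth g := SmoothOfRelativeDimension.smooth n g
  haveI : Module.Flat (S.presheaf.stalk (g.base y)) (Y.presheaf.stalk y) := Flat.stalkMap g y
  let L := (DerSch.stalkCxOver (𝟙 Y) y).obj G
  have hL : DRing.IsPseudoCoherent' (Y.presheaf.stalk y) (DRing.toD L) :=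
    (Groth.Agent.S2066.result _).1.1 fun m => pc_stalk (hpc m) y
  obtain ⟨E, b₀, hz, hE, ⟨e⟩⟩ := hL
  obtain ⟨ρ⟩ := nonempty_stalkOver_restrict_iso g y
  let R := ModuleCat.restrictScalars.{u} (algebraMap (S.presheaf.stalk (g.base y)) (Y.presheaf.stalk y))
  refine amp_of_flat_fibres (A := S.presheaf.stalk (g.base y)) (B := Y.presheaf.stalk y) n
    (fun m _ M => pd_le_fibre g n y m M) hE hz e ?_
  exact H9Misc.DRingTor.of_iso ((DerivedCategory.Q.mapIso
    ((NatIso.mapHomologicalComplex ρ (ComplexShape.up ℤ)).app G)).symm ≪≫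
    (R.mapDerivedCategoryFactors.app L).symm) (hG y)

/-- Zero cohomology gives the zero object. -/
theorem isZero_of_hd {X : Scheme.{u}} {K : DCoh.D X} (h : ∀ i, IsZero (DCoh.HD K i)) : IsZero K := by
  haveI : K.IsLE (-1) := (DerivedCategory.isLE_iff _ _).2 fun i _ => h i
  haveI : K.IsGE 0 := (DerivedCategory.isGE_iff _ _).2 fun i _ => h i
  exact DerivedCategory.TStructure.t.isZero K (-1) 0 (by omega)

/-- Perfect amplitude from tor amplitude over the base. -/
theorem locPerfAmp_of_smooth (g : Y ⟶ S) (n : ℕ) [SmoothOfRelativeDimension n g] {a b : ℤ}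
    (G : CochainComplex Y.Modules ℤ) (hpc : ∀ m, LocPC m (DCoh.toD Y G))
    (hG : DerSch.HasTorAmplitude g a b G) (y : Y) :
    ∃ (U : Scheme.{u}) (j : U ⟶ Y) (_ : IsOpenImmersion j), y ∈ Set.range j.base ∧
      ∃ P : CochainComplex U.Modules ℤ, DCoh.VanishesOutside P (a - n) b ∧
        (∀ i, FlatMod.IsFinLocFree (P.X i)) ∧
        Nonempty (DerivedCategory.Q.obj P ≅ (rho j).obj (DCoh.toD Y G)) := by
  have hT : DerSch.HasTorAmplitude (𝟙 Y) (a - n) b G := hasTorAmplitudeAt_id_of_smooth g n G hpc hG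
  rcases le_or_gt (a - n) b with hab | hab
  · obtain ⟨E, hv, hfl, he⟩ := hasRelFlatAmplitudeIn_of_torAmplitude (𝟙 Y) hT
    exact (perfectAmplitude_iff _ (a - n) b hab).2
      ⟨hpc _, E, hv, fun i => (isFlatOver_id_iff _).1 (hfl i), he⟩ y
  · have hz : IsZero (DCoh.toD Y G) := isZero_of_hd fun i =>
      ((HomologicalComplex.exactAt_iff_isZero_homology G i).1
        (exactAt_of_hasTorAmplitude (𝟙 Y) hT i (by omega))).of_iso
        ((DerivedCategory.homologyFunctorFactors Y.Modules i).app G)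
    obtain ⟨⟨c, d, hcd⟩, hf⟩ := isStrictlyPerfect_single (X := Y) 0
    let P : CochainComplex Y.Modules ℤ :=
      (HomologicalComplex.single Y.Modules (ComplexShape.up ℤ) 0).obj (FlatMod.freeMod Y 0)
    have hF : IsZero (FlatMod.freeMod Y 0) :=
      (IsZero.iff_id_eq_zero _).2 (Sigma.hom_ext _ _ fun i => i.elim0)
    have hP : IsZero P := Functor.map_isZero _ hF
    exact ⟨Y, 𝟙 Y, inferInstance, ⟨y, rfl⟩, P,
      fun i _ => (HomologicalComplex.eval _ _ i).map_isZero hP, hf,
      ⟨(Functor.map_isZero _ hP).iso (Functor.map_isZero _ hz)⟩⟩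

end Groth.Agent.PushAmp

namespace Groth.Agent.PushAmp

/-- A smooth morphism has a relative dimension near each point. -/
theorem exists_smoothOfRelativeDimension_nhd {Y S : Scheme.{u}} (g : Y ⟶ S) [Smooth g] (y : Y) :
    ∃ (n : ℕ) (W : Y.Opens), y ∈ W ∧ SmoothOfRelativeDimension n (W.ι ≫ g) := by
  obtain ⟨U, hU, W, hW, hy, e, hf⟩ := Smooth.exists_isStandardSmooth g y
  have hf' := hf
  algebraize [(g.appLE U W e).hom]
  obtain ⟨ι, σ, _, _, ⟨P⟩⟩ := ‹Algebra.IsStandardSmooth Γ(S, U) Γ(Y, W)›.out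
  refine ⟨P.dimension, W, hy, ⟨fun v => ⟨U, hU, ⊤, ?_, trivial, fun w _ => e w.2, ?_⟩⟩⟩
  · haveI : IsAffine W.toScheme := hW
    exact isAffineOpen_top _
  have hn : RingHom.IsStandardSmoothOfRelativeDimension P.dimension (g.appLE U W e).hom := ⟨ι, σ, ‹_›, ‹_›, P, rfl⟩
  have he : (W.ι ≫ g).appLE U ⊤ (fun w _ => e w.2) = g.appLE U W e ≫ W.topIso.inv := by
    rw [← Scheme.Hom.appLE_comp_appLE W.ι g U W ⊤ e (fun w _ => w.2), Scheme.Opens.ι_appLE]
    rfl
  rw [he]
  exact RingHom.isStandardSmoothOfRelativeDimension_respectsIso.left _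
    W.topIso.symm.commRingCatIsoToRingEquiv hn

end Groth.Agent.PushAmp
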