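import Groth.Agent.PushAmp.Coh
import Groth.Agent.DQGen.Adjoints
import Groth.Agent.KFlatLib.Perfect.LocFree
import Groth.Agent.QCoh.Support

/-! The right adjoint of `Rf_*` for a flat proper morphism preserves sums. -/

set_option autoImplicit false
set_option linter.style.haveILetI false
set_option backward.isDefEq.respectTransparency false

universe u

open CategoryTheory CategoryTheory.Limits AlgebraicGeometry Pretriangulated

attribute [local instance] HasDerivedCategory.standard

namespace Groth.Agent.PushAmp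

open KFlatLib

variable {X Y : Scheme.{u}}

lemma isCoh_structure [IsLocallyNoetherian X] : Coh.IsCoh (Coh.structureModule X) :=
  QCoh.isCoh_iff.2 ⟨QCoh.isQCoh_structureModule, fun _ => Module.Finite.self _⟩

theorem isFlatOver_structureModule (f : X ⟶ Y) [Flat f] : FlatMod.IsFlatOver f (Coh.structureModule X) := by
  intro x
  let e := KFlatLib.stalkUnitEquiv x
  letI := FlatMod.moduleStalkOver f (Coh.structureModule X) x
  letI : Algebra (Y.presheaf.stalk (f.base x)) (X.presheaf.stalk x) := (f.stalkMap x).hom.toAlgebra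
  haveI : Module.Flat (Y.presheaf.stalk (f.base x)) (X.presheaf.stalk x) := Flat.stalkMap f x
  exact Module.Flat.of_linearEquiv (M := X.presheaf.stalk x)
    ({ e.toAddEquiv with map_smul' := fun r m => e.map_smul ((f.stalkMap x).hom r) m } :
      X.presheaf.stalk x ≃ₗ[Y.presheaf.stalk (f.base x)] (Coh.structureModule X).presheaf.stalk x).symm

lemma isProperOver_of_isProper (f : X ⟶ Y) [IsProper f] {Z : Set X} (hZ : IsClosed Z) :
    ClSub.IsProperOver f Z := by
  refine ⟨hZ, ?_⟩
  infer_instance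

/-- `Rf_*` preserves perfect objects for a flat proper morphism to a Noetherian scheme. -/
theorem isPerfect_rpush_of_flat [IsNoetherian Y] (f : X ⟶ Y) [IsProper f] [Flat f] [DCoh.HasRpush f]
    {E : DCoh.D X} (hE : DCoh.IsPerfect E) : DCoh.IsPerfect ((DCoh.Rpush f).obj E) := by
  haveI : IsLocallyNoetherian X := LocallyOfFiniteType.isLocallyNoetherian f
  let O := Coh.structureModule X
  haveI := hasLTensorMod O
  have hR : DCoh.IsKFlat (repK E) := isKFlat_repK E
  haveI := isIso_ltensorModComparison O hR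
  let e : (DCoh.LTensorMod O).obj E ≅ E :=
    (DCoh.LTensorMod O).mapIso (repKIso E).symm ≪≫ asIso ((ltensorModComparison O).app (repK E)) ≪≫
      DerivedCategory.Q.mapIso ((NatIso.mapHomologicalComplex (tensorStructureIso X) (ComplexShape.up ℤ)).app (repK E) ≪≫
        ((Functor.mapHomologicalComplexIdIso X.Modules (ComplexShape.up ℤ)).app (repK E))) ≪≫ repKIso E
  refine DQGen.isPerfect_of_iso ((DCoh.Rpush f).mapIso e) ?_
  exact isPerfect_rpush_ltensorMod f hE O isCoh_structure (isFlatOver_structureModule f)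
    (isProperOver_of_isProper f (QCoh.isClosed_support_of_ft isCoh_structure.2))

open TriCat in
/-- Maps from perfect objects into sums in `D_QCoh` factor through finite partial sums. -/
lemma fix_DQCoh [CompactSpace X] [QuasiSeparatedSpace X] {P : DCoh.DQCoh X} (hP : DCoh.IsPerfect P.obj)
    {J : Type u} (M : J → DCoh.DQCoh X) [HasCoproduct M] (α : P ⟶ ∐ M) :
    ∃ F : Finset J, α ≫ partProj M F = α := by
  let ι' := (DCoh.IsQCohD (X := X)).ι
  haveI : HasColimitsOfShape (Discrete J) (DCoh.D X) := DQGen.hasSmallSums_D (X := X) J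
  haveI : PreservesColimitsOfShape (Discrete J) ι' := DQGen.preservesSums_ι J
  obtain ⟨s, hs⟩ := DQGen.fixAt_of_isPerfect hP (fun k => (M k).obj) (fun k => (M k).property)
    (ι'.map α ≫ inv (sigmaComparison ι' M))
  refine ⟨s, ι'.map_injective ?_⟩
  rw [← cancel_mono (inv (sigmaComparison ι' M)), Functor.map_comp, Category.assoc]
  refine Eq.trans ?_ hs
  rw [Category.assoc]
  congr 1
  rw [IsIso.comp_inv_eq, Category.assoc]
  erw [← sigmaComparison_partProj M ι' s]
  rw [IsIso.inv_hom_id_assoc]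

/-- **The right adjoint of `Rf_*` preserves sums.** -/
theorem preservesSums_rightAdjoint [IsNoetherian X] [IsNoetherian Y] (f : X ⟶ Y) [IsProper f] [Flat f]
    [DCoh.HasRpush f] (h : ∀ K : DCoh.D X, DCoh.IsQCohD K → DCoh.IsQCohD ((DCoh.Rpush f).obj K))
    (a : DCoh.DQCoh Y ⥤ DCoh.DQCoh X)
    (adj : (ObjectProperty.lift DCoh.IsQCohD (ObjectProperty.ι DCoh.IsQCohD ⋙ DCoh.Rpush f)
      (fun K => h K.obj K.property)) ⊣ a) (J : Type u) : PreservesColimitsOfShape (Discrete J) a := by
  classical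
  haveI : (ObjectProperty.lift (DCoh.IsQCohD (X := Y)) ((DCoh.IsQCohD (X := X)).ι ⋙ DCoh.Rpush f)
      (fun K => h K.obj K.property)).IsLeftAdjoint := adj.isLeftAdjoint
  haveI : a.Additive := by
    haveI := adj.rightAdjoint_preservesLimits
    haveI := preservesBinaryBiproducts_of_preservesBinaryProducts a
    exact Functor.additive_of_preservesBinaryBiproducts a
  haveI hJY : HasColimitsOfShape (Discrete J) (DCoh.DQCoh Y) := DQGen.hasSums_DQCoh J
  haveI hJX : HasColimitsOfShape (Discrete J) (DCoh.DQCoh X) := DQGen.hasSums_DQCoh J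
  suffices H : ∀ M : J → DCoh.DQCoh Y, IsIso (sigmaComparison a M) by
    refine ⟨fun {K} => ?_⟩
    haveI := H fun j => K.obj ⟨j⟩
    haveI : PreservesColimit (Discrete.functor (K.obj ∘ Discrete.mk)) a :=
      PreservesCoproduct.of_iso_comparison a fun j => K.obj ⟨j⟩
    exact preservesColimit_of_iso_diagram _ (Discrete.natIsoFunctor (F := K)).symm
  intro M
  let c := sigmaComparison a M
  have hsurj : ∀ (P : DCoh.DQCoh X), DCoh.IsPerfect P.obj → ∀ φ : P ⟶ a.obj (∐ M),
      ∃ x : P ⟶ ∐ fun j => a.obj (M j), x ≫ c = φ := by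
    intro P hP φ
    let ψ := (adj.homEquiv P (∐ M)).symm φ
    obtain ⟨F, hF⟩ := fix_DQCoh (isPerfect_rpush_of_flat f hP) M ψ
    refine ⟨∑ j ∈ F, (adj.homEquiv P (M j) (ψ ≫ TriCat.coprodProj M j)) ≫ Sigma.ι (fun j => a.obj (M j)) j, ?_⟩
    have hadd : ∀ {B : DCoh.DQCoh Y} (g g' : _ ⟶ B), adj.homEquiv P B (g + g') =
        adj.homEquiv P B g + adj.homEquiv P B g' := by
      intro B g g'
      simp [Adjunction.homEquiv_unit, Functor.map_add]
    rw [Preadditive.sum_comp]
    calc ∑ j ∈ F, ((adj.homEquiv P (M j) (ψ ≫ TriCat.coprodProj M j)) ≫ Sigma.ι (fun j => a.obj (M j)) j) ≫ c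
        = ∑ j ∈ F, adj.homEquiv P (∐ M) ((ψ ≫ TriCat.coprodProj M j) ≫ Sigma.ι M j) := by
          refine Finset.sum_congr rfl fun j _ => ?_
          rw [Category.assoc, ι_comp_sigmaComparison]
          exact (adj.homEquiv_naturality_right _ _).symm
      _ = adj.homEquiv P (∐ M) (∑ j ∈ F, (ψ ≫ TriCat.coprodProj M j) ≫ Sigma.ι M j) :=
          (map_sum (AddMonoidHom.mk' (adj.homEquiv P (∐ M)) hadd) _ _).symm
      _ = φ := by
          have : ∑ j ∈ F, (ψ ≫ TriCat.coprodProj M j) ≫ Sigma.ι M j = ψ := by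
            conv_rhs => rw [← hF, DQGen.partProj_eq_sum, Preadditive.comp_sum]
            simp only [Category.assoc]
          rw [this]
          exact (adj.homEquiv P (∐ M)).apply_symm_apply φ
  have hinj : ∀ (P : DCoh.DQCoh X), DCoh.IsPerfect P.obj → ∀ x : P ⟶ ∐ fun j => a.obj (M j),
      x ≫ c = 0 → x = 0 := by
    intro P hP x hx
    obtain ⟨F, hF⟩ := fix_DQCoh hP (fun j => a.obj (M j)) x
    rw [← hF, DQGen.partProj_eq_sum, Preadditive.comp_sum]
    refine Finset.sum_eq_zero fun k hk => ?_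
    let y := fun j => (adj.homEquiv P (M j)).symm (x ≫ TriCat.coprodProj (fun j => a.obj (M j)) j)
    have hy : ∑ j ∈ F, y j ≫ Sigma.ι M j = 0 := by
      apply (adj.homEquiv P (∐ M)).injective
      have hadd : ∀ (g g' : _ ⟶ ∐ M), adj.homEquiv P (∐ M) (g + g') =
          adj.homEquiv P (∐ M) g + adj.homEquiv P (∐ M) g' := by
        intro g g'
        simp [Adjunction.homEquiv_unit, Functor.map_add]
      refine ((map_sum (AddMonoidHom.mk' (adj.homEquiv P (∐ M)) hadd) _ _)).trans ?_
      refine Eq.trans ?_ (map_zero (AddMonoidHom.mk' (adj.homEquiv P (∐ M)) hadd)).symm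
      refine Eq.trans ?_ hx
      conv_rhs => rw [← hF, DQGen.partProj_eq_sum, Preadditive.comp_sum, Preadditive.sum_comp]
      refine Finset.sum_congr rfl fun j _ => ?_
      show adj.homEquiv P (∐ M) (y j ≫ Sigma.ι M j) = _
      simp only [y, Adjunction.homEquiv_naturality_right, Equiv.apply_symm_apply, Category.assoc,
        c, ι_comp_sigmaComparison]
    have hk' : y k = 0 := by
      have := congrArg (· ≫ TriCat.coprodProj M k) hy
      simp only [Preadditive.sum_comp, zero_comp, Category.assoc] at this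
      rw [Finset.sum_eq_single k (fun j _ hj => by
        rw [TriCat.ι_coprodProj_ne hj, comp_zero]) (fun h => absurd hk h),
        TriCat.ι_coprodProj_self, Category.comp_id] at this
      exact this
    have h0 : x ≫ TriCat.coprodProj (fun j => a.obj (M j)) k = 0 := by
      rw [← (adj.homEquiv P (M k)).apply_symm_apply (x ≫ TriCat.coprodProj (fun j => a.obj (M j)) k)]
      show adj.homEquiv P (M k) (y k) = 0
      rw [hk', Adjunction.homEquiv_unit, Functor.map_zero, comp_zero]
    rw [← Category.assoc, h0, zero_comp]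
  obtain ⟨E, hgen, hE⟩ : ∃ E : PUnit.{u + 1} → DCoh.DQCoh (X := X),
      (∀ A, (∀ (p : PUnit.{u + 1} × ℤ) (f : TriCat.shiftClosure E p ⟶ A), f = 0) → IsZero A) ∧
        (∀ p, DCoh.IsPerfect (E p).obj) := by
    obtain ⟨P, hP, hg⟩ := DQGen.exists_generator (X := X) (W := ⊥) (by simp)
    refine ⟨fun _ => ⟨P, hP.pq.1⟩, fun A hA => ?_, fun _ => hP.1⟩
    let ι' := (DCoh.IsQCohD (X := X)).ι
    have h0 := (hg A.obj ((DQGen.pq_bot_iff A.obj).2 A.property)).2 fun n φ => by
      let e := (ι'.commShiftIso n).app (⟨P, hP.pq.1⟩ : DCoh.DQCoh X)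
      obtain ⟨g, hg⟩ := ι'.map_surjective (e.hom ≫ φ)
      rw [hA ⟨PUnit.unit, n⟩ g, ι'.map_zero] at hg
      rw [← cancel_epi e.hom, ← hg, comp_zero]
    exact IsZero.of_full_of_faithful_of_isZero ι' A h0
  have hshift : ∀ (P : DCoh.DQCoh X), DCoh.IsPerfect P.obj → ∀ n : ℤ, DCoh.IsPerfect (P⟦n⟧).obj := by
    intro P hP n
    refine DQGen.isPerfect_of_iso (((DCoh.IsQCohD (X := X)).ι.commShiftIso n).app P).symm ?_
    exact ((DQGen.PP (⊥ : X.Opens)).le_shift n _ ⟨hP, DQGen.isZero_rho_bot _⟩).1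
  obtain ⟨C, g, δ, hT⟩ := distinguished_cocone_triangle c
  refine (Triangle.isZero₃_iff_isIso₁ _ hT).1 (hgen C fun p φ => ?_)
  have hp : DCoh.IsPerfect ((E p.1)⟦p.2⟧).obj := hshift _ (hE p.1) p.2
  -- the connecting part vanishes
  have h1 : φ ≫ δ = 0 := by
    let S := shiftFunctorCompIsoId (DCoh.DQCoh X) (-1 : ℤ) (1 : ℤ) (by omega)
    obtain ⟨x, hx⟩ := (shiftFunctor (DCoh.DQCoh X) (1 : ℤ)).map_surjective
      (S.hom.app (TriCat.shiftClosure E p) ≫ φ ≫ δ)
    have hxc : x ≫ c = 0 := by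
      apply (shiftFunctor (DCoh.DQCoh X) (1 : ℤ)).map_injective
      rw [Functor.map_comp, hx, Functor.map_zero, Category.assoc, Category.assoc]
      have h31 : δ ≫ c⟦(1 : ℤ)⟧' = 0 := comp_distTriang_mor_zero₃₁ _ hT
      erw [h31, comp_zero, comp_zero]
    rw [hinj _ (hshift _ hp (-1)) x hxc, Functor.map_zero] at hx
    rw [← cancel_epi (S.hom.app (TriCat.shiftClosure E p)), comp_zero]
    exact hx.symm
  obtain ⟨φ', rfl⟩ := Triangle.coyoneda_exact₃ _ hT φ h1
  obtain ⟨x, rfl⟩ := hsurj _ hp φ'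
  have h12 : c ≫ g = 0 := comp_distTriang_mor_zero₁₂ _ hT
  exact (Category.assoc _ _ _).trans ((congrArg (x ≫ ·) h12).trans comp_zero)

end Groth.Agent.PushAmp
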