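import Groth.Agent.PushAmp.ClosedCoh
import Groth.Agent.KFlatLib.Scheme.ProjModule
import Groth.Agent.KFlatLib.Scheme.PullTensorCx
import Groth.Agent.KFlatLib.Scheme.Flatness
import Groth.Agent.CohBC.God

/-!
# Flat base change of direct images of arbitrary modules along closed immersions
-/

set_option autoImplicit false
set_option linter.style.haveILetI false
set_option backward.isDefEq.respectTransparency false
set_option backward.isDefEq.respectTransparency.types false

universe u

open CategoryTheory CategoryTheory.Limits AlgebraicGeometry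

attribute [local instance] HasDerivedCategory.standard

namespace Groth.Agent.PushAmp

open Groth.Agent.KFlatLib

variable {X Y : Scheme.{u}}

/-- The counit along a closed immersion is invertible at every module. -/
theorem isIso_counit_closed_all (i : X ⟶ Y) [IsClosedImmersion i] (M : X.Modules) :
    IsIso ((Scheme.Modules.pullbackPushforwardAdjunction i).counit.app M) := by
  let adj := Scheme.Modules.pullbackPushforwardAdjunction i
  haveI : PreservesColimitsOfSize.{u, u} (Scheme.Modules.pushforward i) :=
    ⟨fun {K} _ => preservesColimitsOfShape_push i K⟩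
  haveI : PreservesColimitsOfShape WalkingParallelPair (Scheme.Modules.pushforward i) :=
    preservesColimitsOfShape_push i _
  haveI : PreservesColimitsOfSize.{u, u} (Scheme.Modules.pushforward i ⋙ Scheme.Modules.pullback i) :=
    ⟨fun {K} _ => inferInstance⟩
  refine isIso_app_of_generators adj.counit (fun V => ?_) M
  let L := (lsh V.ι).obj (Coh.structureModule (V : Scheme.{u}))
  let c : L ⟶ Coh.structureModule X := (lsh V.ι).map (restrictStructureIso V.ι).inv ≫
    (lshAdj V.ι).counit.app (Coh.structureModule X)
  let A := Scheme.Modules.pushforward i ⋙ Scheme.Modules.pullback i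
  refine isIso_of_stalk _ fun x => ?_
  let eA : A ⋙ DerSch.stalkFunctor X x ≅
      Scheme.Modules.pushforward i ⋙ DerSch.stalkFunctor Y (i.base x) ⋙
        ModuleCat.extendScalars (i.stalkMap x).hom :=
    Functor.associator _ _ _ ≪≫ Functor.isoWhiskerLeft _ (stalkPullbackIso i x)
  by_cases hy : x ∈ V
  · have hc : IsIso ((DerSch.stalkFunctor X x).map c) := by
      have hr : IsIso ((Scheme.Modules.restrictFunctor V.ι).map c) := by
        haveI : IsIso ((Scheme.Modules.restrictFunctor V.ι).map
            ((lshAdj V.ι).counit.app (Coh.structureModule X))) :=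
          IsIso.of_isIso_fac_left ((lshAdj V.ι).right_triangle_components (Coh.structureModule X))
        rw [Functor.map_comp]
        infer_instance
      have hb := ConcreteCategory.bijective_of_isIso
        ((DerSch.stalkFunctor (V : Scheme.{u}) ⟨x, hy⟩).map ((Scheme.Modules.restrictFunctor V.ι).map c))
      exact (ConcreteCategory.isIso_iff_bijective _).2 ⟨injective_stalk_of_restrict V.ι _ ⟨x, hy⟩ hb.1,
        surjective_stalk_of_restrict V.ι _ ⟨x, hy⟩ hb.2⟩
    haveI := hc
    have h1 : IsIso ((DerSch.stalkFunctor Y (i.base x)).map ((Scheme.Modules.pushforward i).map c)) := by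
      have h : IsIso ((stalkAb (X := Y) (i.base x)).map ((Scheme.Modules.pushforward i).map c)) :=
        (NatIso.isIso_map_iff (stalkPushIso i x) c).2
          (Functor.map_isIso (forget₂ (ModuleCat (X.presheaf.stalk x)) AddCommGrpCat)
            ((DerSch.stalkFunctor X x).map c))
      exact @isIso_of_reflects_iso _ _ _ _ _ _ _
        (forget₂ (ModuleCat (Y.presheaf.stalk (i.base x))) AddCommGrpCat) h _
    haveI hA : IsIso ((DerSch.stalkFunctor X x).map (A.map c)) :=
      (NatIso.isIso_map_iff eA c).2 (Functor.map_isIso (ModuleCat.extendScalars (i.stalkMap x).hom) _)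
    haveI hO : IsIso (adj.counit.app (Coh.structureModule X)) :=
      isIso_counit_closed i _ (QCoh.isQCoh_pushforward i QCoh.isQCoh_structureModule)
    haveI : IsIso ((DerSch.stalkFunctor X x).map (adj.counit.app L) ≫ (DerSch.stalkFunctor X x).map c) := by
      have h : adj.counit.app L ≫ c = A.map c ≫ adj.counit.app (Coh.structureModule X) :=
        (adj.counit.naturality c).symm
      rw [← Functor.map_comp, h, Functor.map_comp]
      infer_instance
    exact IsIso.of_isIso_comp_right _ ((DerSch.stalkFunctor X x).map c)
  · have hL : IsZero ((DerSch.stalkFunctor X x).obj L) :=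
      isZero_stalk_lsh V.ι x (fun ⟨v, hv⟩ => hy (hv ▸ v.2)) _
    have h2 : IsZero ((DerSch.stalkFunctor X x).obj (A.obj L)) := by
      refine IsZero.of_iso (Functor.map_isZero (ModuleCat.extendScalars (i.stalkMap x).hom) ?_) (eA.app L)
      suffices h : IsZero ((Scheme.Modules.pushforward i ⋙ stalkAb (X := Y) (i.base x)).obj L) from
        ModuleCat.isZero_of_iff_subsingleton.2 (AddCommGrpCat.subsingleton_of_isZero h)
      exact IsZero.of_iso (isZero_stalkAb_of_isZero x hL) ((stalkPushIso i x).app L)
    exact ⟨0, h2.eq_of_src _ _, hL.eq_of_src _ _⟩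

/-- Tensoring with the structure module on the left is the identity. -/
noncomputable def tensorStructureLeftIso (X : Scheme.{u}) :
    DCoh.tensorBi.obj (Coh.structureModule X) ≅ 𝟭 X.Modules :=
  ((tensorBiFlipIso X).app (Coh.structureModule X)).symm ≪≫ tensorStructureIso X

/-- `i_* i^*` is tensoring with `i_* O`. -/
theorem nonempty_tensor_push_structure (i : X ⟶ Y) [IsClosedImmersion i] :
    Nonempty (DCoh.tensorBi.obj ((Scheme.Modules.pushforward i).obj (Coh.structureModule X)) ≅
      Scheme.Modules.pullback i ⋙ Scheme.Modules.pushforward i) := by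
  haveI := fun N => isIso_projMod_of_isClosedImmersion i (Coh.structureModule X) N
  let η : DCoh.tensorBi.obj ((Scheme.Modules.pushforward i).obj (Coh.structureModule X)) ⟶
      Scheme.Modules.pullback i ⋙ DCoh.tensorBi.obj (Coh.structureModule X) ⋙ Scheme.Modules.pushforward i :=
    { app := projMod i (Coh.structureModule X)
      naturality := fun _ _ g => projMod_naturality_right i _ g }
  haveI : ∀ N, IsIso (η.app N) := fun N => isIso_projMod_of_isClosedImmersion i _ N
  haveI := NatIso.isIso_of_isIso_app η
  exact ⟨asIso η ≪≫ Functor.isoWhiskerLeft _ (Functor.isoWhiskerRight (tensorStructureLeftIso X) _ ≪≫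
    Functor.leftUnitor _)⟩

/-- Flat base change of direct images along a closed immersion, for all modules. -/
theorem nonempty_pullback_push_closed {T T' : Scheme.{u}} (i : X ⟶ Y) [IsClosedImmersion i]
    (q : T' ⟶ Y) [Flat q] (q' : T ⟶ X) (s : T ⟶ T') [IsClosedImmersion s] (sq : IsPullback q' s i q) :
    Nonempty (Scheme.Modules.pushforward i ⋙ Scheme.Modules.pullback q ≅
      Scheme.Modules.pullback q' ⋙ Scheme.Modules.pushforward s) := by
  obtain ⟨Pi⟩ := nonempty_tensor_push_structure i
  obtain ⟨Ps⟩ := nonempty_tensor_push_structure s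
  haveI := Groth.Agent.CohBC.isIso_bc0 i q q' s sq (M := Coh.structureModule X) QCoh.isQCoh_structureModule
  haveI : IsIso (SheafOfModules.pullbackObjUnitToUnit q'.toRingCatSheafHom) := inferInstance
  let eO : (Scheme.Modules.pullback q').obj (Coh.structureModule X) ≅ Coh.structureModule T :=
    asIso (SheafOfModules.pullbackObjUnitToUnit q'.toRingCatSheafHom)
  let e1 : (Scheme.Modules.pullback q).obj ((Scheme.Modules.pushforward i).obj (Coh.structureModule X)) ≅
      (Scheme.Modules.pushforward s).obj (Coh.structureModule T) :=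
    asIso (CohBC.bc0 i q s q' sq.w (Coh.structureModule X)) ≪≫ (Scheme.Modules.pushforward s).mapIso eO
  haveI : ∀ M, IsIso ((Scheme.Modules.pullbackPushforwardAdjunction i).counit.app M) :=
    isIso_counit_closed_all i
  haveI := NatIso.isIso_of_isIso_app (Scheme.Modules.pullbackPushforwardAdjunction i).counit
  let ε := asIso (Scheme.Modules.pullbackPushforwardAdjunction i).counit
  let A := Scheme.Modules.pushforward i
  let k1 : A ⋙ Scheme.Modules.pullback q ≅
      A ⋙ (Scheme.Modules.pullback i ⋙ A) ⋙ Scheme.Modules.pullback q :=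
    (Functor.leftUnitor _).symm ≪≫ Functor.isoWhiskerRight ε.symm (A ⋙ Scheme.Modules.pullback q)
  let k2 : (Scheme.Modules.pullback i ⋙ A) ⋙ Scheme.Modules.pullback q ≅
      Scheme.Modules.pullback q ⋙ DCoh.tensorBi.obj
        ((Scheme.Modules.pullback q).obj ((Scheme.Modules.pushforward i).obj (Coh.structureModule X))) :=
    Functor.isoWhiskerRight Pi.symm _ ≪≫
      (pullTensorBiIso q).app ((Scheme.Modules.pushforward i).obj (Coh.structureModule X))
  let k3 : Scheme.Modules.pullback q ⋙ DCoh.tensorBi.obj
        ((Scheme.Modules.pullback q).obj ((Scheme.Modules.pushforward i).obj (Coh.structureModule X))) ≅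
      Scheme.Modules.pullback i ⋙ Scheme.Modules.pullback q' ⋙ Scheme.Modules.pushforward s :=
    Functor.isoWhiskerLeft _ (DCoh.tensorBi.mapIso e1 ≪≫ Ps) ≪≫ (Functor.associator _ _ _).symm ≪≫
      Functor.isoWhiskerRight (Scheme.Modules.pullbackComp s q ≪≫
        Scheme.Modules.pullbackCongr sq.w.symm ≪≫ (Scheme.Modules.pullbackComp q' i).symm) _ ≪≫
      Functor.associator _ _ _
  exact ⟨k1 ≪≫ Functor.isoWhiskerLeft A (k2 ≪≫ k3) ≪≫ (Functor.associator _ _ _).symm ≪≫
    Functor.isoWhiskerRight ε _ ≪≫ Functor.leftUnitor _⟩

end Groth.Agent.PushAmp
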