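import Groth.Agent.PushAmp.ChartPush

/-!
# Relative pseudo-coherence and direct images along closed immersions
-/

set_option autoImplicit false
set_option linter.style.haveILetI false
set_option backward.isDefEq.respectTransparency false
set_option backward.isDefEq.respectTransparency.types false

universe u

open CategoryTheory CategoryTheory.Limits AlgebraicGeometry TopologicalSpace

attribute [local instance] HasDerivedCategory.standard

namespace Groth.Agent.PushAmp

open Groth.Agent.KFlatLib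

variable {X Y Z : Scheme.{u}} (f : X ⟶ Y) [IsClosedImmersion f] (g : Y ⟶ Z)

/-- The test on the preimage of an affine open under a closed immersion. -/
theorem cpc_push_iff {m : ℤ} {U : Y.Opens} (hU : IsAffineOpen U) {P : Type u} [CommRing P]
    (φ : P →+* Γ(Y, U)) (hφ : Function.Surjective φ) (E : DCoh.D X) :
    CPC m ((pushD f).obj E) U φ ↔ CPC m E (f ⁻¹ᵁ U) ((f.app U).hom.comp φ) := by
  have hs : Function.Surjective ((f.app U).hom.comp φ) := (f.app_surjective U hU).comp hφ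
  haveI := isClosedImmersion_imm hU φ hφ
  haveI := isClosedImmersion_imm (hU.preimage f) _ hs
  haveI : IsClosedImmersion (f ∣_ U) := isClosedImmersion_morphismRestrict f U
  have e : (f ∣_ U) ≫ imm U φ = imm (f ⁻¹ᵁ U) ((f.app U).hom.comp φ) := by
    show (f ∣_ U) ≫ U.toSpecΓ ≫ Spec.map (CommRingCat.ofHom φ) =
      (f ⁻¹ᵁ U).toSpecΓ ≫ Spec.map (CommRingCat.ofHom φ ≫ f.app U)
    rw [Spec.map_comp, Scheme.Opens.toSpecΓ_naturality_assoc]
  let κ : (pushD (imm U φ)).obj ((rho U.ι).obj ((pushD f).obj E)) ≅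
      (pushD (imm (f ⁻¹ᵁ U) ((f.app U).hom.comp φ))).obj ((rho (f ⁻¹ᵁ U).ι).obj E) :=
    (pushD (imm U φ)).mapIso (pushDRho f U E) ≪≫ pushDComp _ _ _ e _
  rw [cpc_iff, cpc_iff]
  exact ⟨fun h => h.of_iso κ, fun h => h.of_iso κ.symm⟩

theorem isChart_comp {U : Y.Opens} (hU : IsAffineOpen U) {V : Z.Opens} {h : U ≤ g ⁻¹ᵁ V} {n : ℕ}
    (φ : MvPolynomial (Fin n) Γ(Z, V) →+* Γ(Y, U)) (hφ : DerSch.IsChart g U V h φ) :
    DerSch.IsChart (f ≫ g) (f ⁻¹ᵁ U) V (f.preimage_mono h) ((f.app U).hom.comp φ) := by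
  refine ⟨(f.app_surjective U hU).comp hφ.1, ?_⟩
  rw [RingHom.comp_assoc, hφ.2, ← CommRingCat.hom_comp, Scheme.Hom.app_eq_appLE,
    Scheme.Hom.appLE_comp_appLE]

/-- Relative pseudo-coherence of a direct image along a closed immersion. -/
theorem relPC_push_iff [LocallyOfFiniteType g] (m : ℤ) (E : DCoh.D X) :
    DerSch.IsPseudoCoherentRel g m ((pushD f).obj E) ↔ DerSch.IsPseudoCoherentRel (f ≫ g) m E := by
  constructor
  · intro h
    refine relPC_of_local _ fun x => ?_
    obtain ⟨V, hV, hxV, -⟩ :=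
      exists_isAffineOpen_mem_and_subset (x := g.base (f.base x)) (U := (⊤ : Z.Opens)) trivial
    obtain ⟨U, hU, hxU, hUV⟩ := exists_isAffineOpen_mem_and_subset (x := f.base x) (U := g ⁻¹ᵁ V) hxV
    obtain ⟨n, φ, hφ⟩ := exists_chart g hV hU hUV
    have hc := isChart_comp f g hU φ hφ
    exact ⟨⟨V, hV⟩, ⟨_, hU.preimage f⟩, f.preimage_mono hUV, hxU, n, _, hc.1, hc.2,
      (cpc_push_iff f hU φ hφ.1 E).1 (relPC_cpc g h hV hU hUV φ hφ)⟩
  · intro h
    refine relPC_of_cpc g fun hV _ hU hle _ φ hφ => (cpc_push_iff f hU φ hφ.1 E).2 ?_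
    exact relPC_cpc _ h hV (hU.preimage f) _ _ (isChart_comp f g hU φ hφ)

end Groth.Agent.PushAmp
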