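import Groth.Agent.PushAmp.ChartIndep
import Groth.Agent.KFlatLib.Scheme.TildePush
import Groth.Agent.KFlatLib.Scheme.RpushRestrict
import Groth.Agent.KFlatLib.Scheme.TildePC
import Groth.Agent.H9Misc.DRingRelPC

/-!
# Pseudo-coherence along affine morphisms with pseudo-coherent direct image of the structure sheaf
-/

set_option autoImplicit false
set_option linter.style.haveILetI false
set_option backward.isDefEq.respectTransparency false
set_option backward.isDefEq.respectTransparency.types false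

universe u

open CategoryTheory CategoryTheory.Limits AlgebraicGeometry TopologicalSpace

attribute [local instance] HasDerivedCategory.standard

namespace Groth.Agent.PushAmp

open Groth.Agent.KFlatLib Groth.Agent.H9Misc

/-- Restriction along the identity. -/
noncomputable def rhoIdIso {Y : Scheme.{u}} (j : Y ⟶ Y) [IsOpenImmersion j] (hj : j = 𝟙 Y) (K : DCoh.D Y) :
    (rho j).obj K ≅ K :=
  (rho j).mapIso (repIso K).symm ≪≫ (rhoQ j).app _ ≪≫
    DerivedCategory.Q.mapIso ((NatIso.mapHomologicalComplex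
      (Scheme.Modules.restrictFunctorCongr hj ≪≫ Scheme.Modules.restrictFunctorId) (ComplexShape.up ℤ)).app _ ≪≫
      (Functor.mapHomologicalComplexIdIso Y.Modules (ComplexShape.up ℤ)).app _) ≪≫
    repIso K

/-- Pseudo-coherence is invariant under isomorphisms of schemes. -/
theorem locPC_rho_iso_iff {X Y : Scheme.{u}} (θ : X ≅ Y) (m : ℤ) (L : DCoh.D Y) :
    LocPC m ((rho θ.hom).obj L) ↔ LocPC m L := by
  refine ⟨fun h => ?_, fun h => h.restrict θ.hom⟩
  exact ((h.restrict θ.inv).of_iso (rhoComp θ.inv θ.hom _ rfl L)).of_iso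
    (rhoIdIso (θ.inv ≫ θ.hom) θ.inv_hom_id L)

/-- Pseudo-coherence over a ring through the associated sheaf. -/
theorem locPC_tildeD_iff {R : CommRingCat.{u}} [PreservesFiniteLimits (tilde.functor R)] (m : ℤ)
    (M : DerivedCategory (ModuleCat.{u} R)) :
    LocPC m ((DCoh.tildeD R).obj M) ↔ DRing.IsPseudoCoherent R m M := by
  rw [← isPseudoCoherentD_iff, pseudoCoherentD_tildeD_iff]
  constructor
  · rintro ⟨E, α, ⟨⟨a, b, hz⟩, hf⟩, hα⟩
    exact ⟨E, a, b, α, hz, hf, hα.1, hα.2⟩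
  · rintro ⟨E, a, b, α, hz, hf, hi, he⟩
    exact ⟨E, α, ⟨⟨a, b, hz⟩, hf⟩, hi, he⟩

variable {X Y : Scheme.{u}} (f : X ⟶ Y) [IsAffineHom f] {V : Y.Opens} (hV : IsAffineOpen V)

/-- The direct image over an affine open, in modules. -/
theorem nonempty_tilde_push_iso :
    Nonempty (tilde.functor Γ(X, f ⁻¹ᵁ V) ⋙ Scheme.Modules.restrictFunctor (hV.preimage f).isoSpec.hom ⋙
        Scheme.Modules.pushforward (f ∣_ V) ≅
      ModuleCat.restrictScalars.{u} (f.appLE V (f ⁻¹ᵁ V) le_rfl).hom ⋙ tilde.functor Γ(Y, V) ⋙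
        Scheme.Modules.restrictFunctor hV.isoSpec.hom) := by
  let g := f.appLE V (f ⁻¹ᵁ V) le_rfl
  let θU := (hV.preimage f).isoSpec
  let θV := hV.isoSpec
  have hsq : θU.inv ≫ (f ∣_ V) = Spec.map g ≫ θV.inv := by
    rw [← cancel_mono V.ι, Category.assoc, Category.assoc, morphismRestrict_ι, IsAffineOpen.isoSpec_inv_ι,
      ← Category.assoc, IsAffineOpen.isoSpec_inv_ι, IsAffineOpen.SpecMap_appLE_fromSpec]
  exact ⟨Functor.isoWhiskerLeft _ (Functor.isoWhiskerRight (pushIsoRestrict θU.symm).symm _ ≪≫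
      Scheme.Modules.pushforwardComp θU.inv (f ∣_ V) ≪≫ Scheme.Modules.pushforwardCongr hsq ≪≫
      (Scheme.Modules.pushforwardComp (Spec.map g) θV.inv).symm) ≪≫
    (Functor.associator _ _ _).symm ≪≫ Functor.isoWhiskerRight (pushTildeIso g) _ ≪≫
    Functor.associator _ _ _ ≪≫ Functor.isoWhiskerLeft _ (Functor.isoWhiskerLeft _ (pushIsoRestrict θV.symm))⟩

include hV in
/-- The ring map of an affine morphism over an affine open is pseudo-coherent. -/
theorem pcHom_appLE
    (hO : ∀ m : ℤ, LocPC m (DCoh.inD Y ((Scheme.Modules.pushforward f).obj (Coh.structureModule X)))) :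
    DRingRelPC.PCHom (f.appLE V (f ⁻¹ᵁ V) le_rfl).hom := by
  let A := Γ(Y, V)
  let B := Γ(X, f ⁻¹ᵁ V)
  haveI : PreservesFiniteLimits (tilde.functor A) := Groth.Agent.QCoh.tilde_preservesFiniteLimits
  haveI : (tilde.functor A).Additive := tilde_additive A
  haveI : PreservesFiniteColimits (tilde.functor A) := Groth.Agent.QCoh.tilde_preservesFiniteColimits
  let θU := (hV.preimage f).isoSpec
  let θV := hV.isoSpec
  obtain ⟨φ⟩ := nonempty_tilde_push_iso f hV
  let N : ModuleCat.{u} A := (ModuleCat.restrictScalars (f.appLE V (f ⁻¹ᵁ V) le_rfl).hom).obj (ModuleCat.of B B)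
  let eN : (Scheme.Modules.restrictFunctor V.ι).obj ((Scheme.Modules.pushforward f).obj (Coh.structureModule X)) ≅
      (Scheme.Modules.restrictFunctor θV.hom).obj ((tilde.functor A).obj N) :=
    (pushRestrictIso f V).app (Coh.structureModule X) ≪≫
      (Scheme.Modules.pushforward (f ∣_ V)).mapIso (restrictStructureIso (f ⁻¹ᵁ V).ι ≪≫
        (restrictStructureIso θU.hom).symm ≪≫
        (Scheme.Modules.restrictFunctor θU.hom).mapIso (tildeSelf (R := B)).symm) ≪≫
      φ.app (ModuleCat.of B B)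
  refine (DRingPC.pc'_iff _).2 fun m => ?_
  refine (locPC_tildeD_iff m _).1 ((locPC_rho_iso_iff θV m _).1 ?_)
  exact (((hO m).restrict V.ι).of_iso (rhoInDIso V.ι _)).of_iso
    ((DerivedCategory.singleFunctor _ 0).mapIso eN ≪≫ (rhoInDIso θV.hom _).symm ≪≫
      (rho θV.hom).mapIso (((tilde.functor A).mapDerivedCategorySingleFunctor 0).app N).symm)

/-- Pseudo-coherence along an affine morphism, over an affine open. -/
theorem locPC_rpush_affine_iff [DCoh.HasRpush f]
    (hO : ∀ m : ℤ, LocPC m (DCoh.inD Y ((Scheme.Modules.pushforward f).obj (Coh.structureModule X))))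
    {E : DCoh.D X} (hE : DCoh.IsQCohD E) (hV : IsAffineOpen V) (m : ℤ) :
    LocPC m ((rho (f ⁻¹ᵁ V).ι).obj E) ↔ LocPC m ((rho V.ι).obj ((DCoh.Rpush f).obj E)) := by
  let A := Γ(Y, V)
  let B := Γ(X, f ⁻¹ᵁ V)
  let g := f.appLE V (f ⁻¹ᵁ V) le_rfl
  haveI : PreservesFiniteLimits (tilde.functor A) := Groth.Agent.QCoh.tilde_preservesFiniteLimits
  haveI : (tilde.functor A).Additive := tilde_additive A
  haveI : PreservesFiniteColimits (tilde.functor A) := Groth.Agent.QCoh.tilde_preservesFiniteColimits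
  haveI : PreservesFiniteLimits (tilde.functor B) := Groth.Agent.QCoh.tilde_preservesFiniteLimits
  haveI : (tilde.functor B).Additive := tilde_additive B
  haveI : PreservesFiniteColimits (tilde.functor B) := Groth.Agent.QCoh.tilde_preservesFiniteColimits
  let θU := (hV.preimage f).isoSpec
  let θV := hV.isoSpec
  let f' := f ∣_ V
  haveI : IsAffineHom f' := IsZariskiLocalAtTarget.restrict (P := @IsAffineHom) inferInstance V
  haveI := KFlatLib.hasRpush_scheme f'
  let E' := (rho (f ⁻¹ᵁ V).ι).obj E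
  obtain ⟨M, ⟨eM⟩⟩ := exists_tildeD_iso (R := B) (isQCohD_rho θU.inv (isQCohD_rho (f ⁻¹ᵁ V).ι hE))
  let Mc := DerivedCategory.Q.objPreimage M
  let Fc := ((tilde.functor B).mapHomologicalComplex (ComplexShape.up ℤ)).obj Mc
  let FU := (rCx θU.hom).obj Fc
  let eU : DerivedCategory.Q.obj FU ≅ E' :=
    ((rhoQ θU.hom).app Fc).symm ≪≫ (rho θU.hom).mapIso ((toDTildeIso Mc).symm ≪≫
      (DCoh.tildeD B).mapIso (DerivedCategory.Q.objObjPreimageIso M) ≪≫ eM) ≪≫
      rhoComp θU.hom θU.inv _ rfl E' ≪≫ rhoIdIso (θU.hom ≫ θU.inv) θU.hom_inv_id E'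
  have hFq : ∀ n, Coh.IsQCoh (FU.X n) := fun n =>
    QCoh.isQCoh_restrict _ (QCoh.isQCoh_spec_iff.2 ⟨Mc.X n, ⟨Iso.refl _⟩⟩)
  haveI := isIso_unit_of_isAffineHom f' FU hFq
  let qU := HomotopyCategory.quotient (f ⁻¹ᵁ V : Scheme.{u}).Modules (ComplexShape.up ℤ)
  let ePush : (DCoh.Rpush f').obj E' ≅
      DerivedCategory.Q.obj (((Scheme.Modules.pushforward f').mapHomologicalComplex (ComplexShape.up ℤ)).obj FU) :=
    (DCoh.Rpush f').mapIso (eU.symm ≪≫ ((DerivedCategory.quotientCompQhIso _).app FU).symm) ≪≫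
      (asIso (((DCoh.pushKh f').totalRightDerivedUnit DerivedCategory.Qh
        (HomotopyCategory.quasiIso (f ⁻¹ᵁ V : Scheme.{u}).Modules (ComplexShape.up ℤ))).app (qU.obj FU))).symm ≪≫
      DerivedCategory.Qh.mapIso
        (((Scheme.Modules.pushforward f').mapHomotopyCategoryFactors (ComplexShape.up ℤ)).app FU) ≪≫
      (DerivedCategory.quotientCompQhIso _).app _
  obtain ⟨φ⟩ := nonempty_tilde_push_iso f hV
  let Nc := ((ModuleCat.restrictScalars.{u} g.hom).mapHomologicalComplex (ComplexShape.up ℤ)).obj Mc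
  let ec : ((Scheme.Modules.pushforward f').mapHomologicalComplex (ComplexShape.up ℤ)).obj FU ≅
      (rCx θV.hom).obj (((tilde.functor A).mapHomologicalComplex (ComplexShape.up ℤ)).obj Nc) :=
    HomologicalComplex.Hom.isoOfComponents (fun n => φ.app (Mc.X n))
      (fun i j _ => (φ.hom.naturality (Mc.d i j)).symm)
  obtain ⟨er⟩ := nonempty_rpush_restrictD_iso f V
  let eV : (rho V.ι).obj ((DCoh.Rpush f).obj E) ≅
      (rho θV.hom).obj ((DCoh.tildeD A).obj ((DRing.restrictD g.hom).obj M)) :=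
    er.app E ≪≫ ePush ≪≫ DerivedCategory.Q.mapIso ec ≪≫ ((rhoQ θV.hom).app _).symm ≪≫
      (rho θV.hom).mapIso ((toDTildeIso Nc).symm ≪≫ (DCoh.tildeD A).mapIso
        (((ModuleCat.restrictScalars.{u} g.hom).mapDerivedCategoryFactors.app Mc).symm ≪≫
          (DRing.restrictD g.hom).mapIso (DerivedCategory.Q.objObjPreimageIso M)))
  have h1 : LocPC m E' ↔ DRing.IsPseudoCoherent B m M := by
    rw [← locPC_tildeD_iff]
    exact ⟨fun h => (h.restrict θU.inv).of_iso eM.symm, fun h =>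
      (locPC_rho_iso_iff θU.symm m E').1 (h.of_iso eM)⟩
  have h2 : LocPC m ((rho V.ι).obj ((DCoh.Rpush f).obj E)) ↔
      DRing.IsPseudoCoherent A m ((DRing.restrictD g.hom).obj M) := by
    rw [← locPC_tildeD_iff, ← locPC_rho_iso_iff θV]
    exact ⟨fun h => h.of_iso eV, fun h => h.of_iso eV.symm⟩
  rw [h2, h1]
  exact DRingRestrict.pc_restrict_iff g.hom (pcHom_appLE f hV hO) m M

end Groth.Agent.PushAmp
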