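import Groth.Agent.PushAmp.ChartAll
import Groth.Agent.PushAmp.FinitePC

/-!
# The chart test through modules
-/

set_option autoImplicit false
set_option linter.style.haveILetI false
set_option backward.isDefEq.respectTransparency false
set_option backward.isDefEq.respectTransparency.types false

universe u

open CategoryTheory CategoryTheory.Limits AlgebraicGeometry TopologicalSpace

attribute [local instance] HasDerivedCategory.standard

namespace Groth.Agent.PushAmp

open Groth.Agent.KFlatLib Groth.Agent.H9Misc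

variable {X : Scheme.{u}}

/-- The chart test for an object given by a complex of modules on an affine open. -/
theorem cpc_module_iff {m : ℤ} {E : DCoh.D X} {U : X.Opens} (hU : IsAffineOpen U) {P : Type u} [CommRing P]
    (φ : P →+* Γ(X, U)) (hφ : Function.Surjective φ) (Mc : DRing.Cx Γ(X, U))
    (eM : DCoh.toD (Spec Γ(X, U)) (((tilde.functor Γ(X, U)).mapHomologicalComplex (ComplexShape.up ℤ)).obj Mc) ≅
      (rho hU.isoSpec.inv).obj ((rho U.ι).obj E)) :
    CPC m E U φ ↔ DRing.IsPseudoCoherent P m (DRing.toD ((DRing.restrictCx φ).obj Mc)) := by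
  let A := CommRingCat.of P
  let B := Γ(X, U)
  haveI : PreservesFiniteLimits (tilde.functor A) := Groth.Agent.QCoh.tilde_preservesFiniteLimits
  haveI : (tilde.functor A).Additive := tilde_additive A
  haveI : PreservesFiniteColimits (tilde.functor A) := Groth.Agent.QCoh.tilde_preservesFiniteColimits
  haveI := isClosedImmersion_imm hU φ hφ
  haveI : IsClosedImmersion (Spec.map (CommRingCat.ofHom φ)) :=
    IsClosedImmersion.spec_of_surjective (CommRingCat.ofHom φ) hφ
  have e : hU.isoSpec.hom ≫ Spec.map (CommRingCat.ofHom φ) = imm U φ := by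
    rw [IsAffineOpen.isoSpec_hom]
  let Fc := ((tilde.functor B).mapHomologicalComplex (ComplexShape.up ℤ)).obj Mc
  let Nc := (DRing.restrictCx φ).obj Mc
  let ec : ((Scheme.Modules.pushforward (Spec.map (CommRingCat.ofHom φ))).mapHomologicalComplex
        (ComplexShape.up ℤ)).obj Fc ≅
      ((tilde.functor A).mapHomologicalComplex (ComplexShape.up ℤ)).obj Nc :=
    HomologicalComplex.Hom.isoOfComponents (fun n => (pushTildeIso (CommRingCat.ofHom φ)).app (Mc.X n))
      (fun i j _ => ((pushTildeIso (CommRingCat.ofHom φ)).hom.naturality (Mc.d i j)).symm)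
  let k1 : (pushD (imm U φ)).obj ((rho U.ι).obj E) ≅ (pushD (Spec.map (CommRingCat.ofHom φ))).obj
      ((pushD hU.isoSpec.hom).obj ((rho U.ι).obj E)) :=
    (pushDComp hU.isoSpec.hom (Spec.map (CommRingCat.ofHom φ)) (imm U φ) e _).symm
  let k2 : (pushD hU.isoSpec.hom).obj ((rho U.ι).obj E) ≅ DCoh.toD (Spec B) Fc :=
    pushDIso hU.isoSpec _ ≪≫ eM.symm
  let k3 : (pushD (Spec.map (CommRingCat.ofHom φ))).obj (DCoh.toD (Spec B) Fc) ≅
      DCoh.toD (Spec A) (((Scheme.Modules.pushforward (Spec.map (CommRingCat.ofHom φ))).mapHomologicalComplex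
        (ComplexShape.up ℤ)).obj Fc) := (pushDQ _).app Fc
  let k4 : DCoh.toD (Spec A) (((Scheme.Modules.pushforward (Spec.map (CommRingCat.ofHom φ))).mapHomologicalComplex
        (ComplexShape.up ℤ)).obj Fc) ≅
      DCoh.toD (Spec A) (((tilde.functor A).mapHomologicalComplex (ComplexShape.up ℤ)).obj Nc) :=
    DerivedCategory.Q.mapIso ec
  let k5 : DCoh.toD (Spec A) (((tilde.functor A).mapHomologicalComplex (ComplexShape.up ℤ)).obj Nc) ≅
      (DCoh.tildeD A).obj (DRing.toD Nc) := (toDTildeIso (R := A) Nc).symm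
  let k12 : (pushD (imm U φ)).obj ((rho U.ι).obj E) ≅
      (pushD (Spec.map (CommRingCat.ofHom φ))).obj (DCoh.toD (Spec B) Fc) :=
    k1 ≪≫ (pushD (Spec.map (CommRingCat.ofHom φ))).mapIso k2
  let κ : (pushD (imm U φ)).obj ((rho U.ι).obj E) ≅ (DCoh.tildeD A).obj (DRing.toD Nc) :=
    k12 ≪≫ k3 ≪≫ k4 ≪≫ k5
  rw [cpc_iff φ, ← locPC_tildeD_iff (R := A)]
  exact ⟨fun h => h.of_iso κ, fun h => h.of_iso κ.symm⟩

/-- Every object with quasi-coherent cohomology is given by a complex of modules on an affine open. -/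
theorem exists_module_rep {E : DCoh.D X} (hE : DCoh.IsQCohD E) {U : X.Opens} (hU : IsAffineOpen U) :
    ∃ Mc : DRing.Cx Γ(X, U),
      Nonempty (DCoh.toD (Spec Γ(X, U)) (((tilde.functor Γ(X, U)).mapHomologicalComplex (ComplexShape.up ℤ)).obj Mc) ≅
        (rho hU.isoSpec.inv).obj ((rho U.ι).obj E)) := by
  let B := Γ(X, U)
  haveI : PreservesFiniteLimits (tilde.functor B) := Groth.Agent.QCoh.tilde_preservesFiniteLimits
  haveI : (tilde.functor B).Additive := tilde_additive B
  haveI : PreservesFiniteColimits (tilde.functor B) := Groth.Agent.QCoh.tilde_preservesFiniteColimits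
  obtain ⟨M, ⟨eM⟩⟩ := exists_tildeD_iso (R := B) (isQCohD_rho hU.isoSpec.inv (isQCohD_rho U.ι hE))
  exact ⟨DerivedCategory.Q.objPreimage M, ⟨(toDTildeIso _).symm ≪≫
    (DCoh.tildeD B).mapIso (DerivedCategory.Q.objObjPreimageIso M) ≪≫ eM⟩⟩

end Groth.Agent.PushAmp
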