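import Groth.Agent.PushAmp.OverBaseLoc
import Groth.Agent.H9Misc.DRingTorRestrict
import Groth.Agent.KFlatLib.Scheme.FlatDescent

/-! Stalkwise relative tor amplitude: invariance, composition, and the absolute case. -/

set_option autoImplicit false
set_option linter.style.haveILetI false
set_option backward.isDefEq.respectTransparency false

universe u

open CategoryTheory CategoryTheory.Limits AlgebraicGeometry MonoidalCategory ZeroObject

attribute [local instance] HasDerivedCategory.standard

namespace Groth.Agent.PushAmp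

open KFlatLib

variable {X Y Z : Scheme.{u}} (f : X ⟶ Y)

/-- Stalkwise tor amplitude only depends on the class in the derived category. -/
theorem hasTorAmplitudeAt_of_iso {F G : CochainComplex X.Modules ℤ} (e : DCoh.toD X F ≅ DCoh.toD X G)
    {a b : ℤ} {x : X} (h : DerSch.HasTorAmplitudeAt f a b F x) : DerSch.HasTorAmplitudeAt f a b G x := by
  let T := DerSch.stalkOver f x
  haveI : PreservesFiniteLimits T := comp_preservesFiniteLimits _ _
  haveI : PreservesFiniteColimits T := comp_preservesFiniteColimits _ _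
  exact H9Misc.DRingTor.of_iso ((T.mapDerivedCategoryFactors.app F).symm ≪≫
    T.mapDerivedCategory.mapIso e ≪≫ T.mapDerivedCategoryFactors.app G) h

/-- Composition with a morphism of finite tor dimension. -/
theorem hasTorAmplitudeAt_comp (g : Y ⟶ Z) (n : ℕ) (x : X)
    (hg : DerSch.HasTorAmplitudeAt g (-(n : ℤ)) 0 (DerSch.unitCx Y) (f.base x))
    (F : CochainComplex X.Modules ℤ) (a b : ℤ) (hF : DerSch.HasTorAmplitudeAt f a b F x) :
    DerSch.HasTorAmplitudeAt (f ≫ g) (a - n) b F x := by
  let φ := (g.stalkMap (f.base x)).hom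
  let ψ := (f.stalkMap x).hom
  letI := φ.toAlgebra
  have hB : DRing.HasTorAmplitudeIn (Z.presheaf.stalk (g.base (f.base x))) (-(n : ℤ)) 0
      (Dual.inD _ (Y.presheaf.stalk (f.base x))) := by
    let T := DerSch.stalkOver g (f.base x)
    haveI : T.Additive := inferInstance
    let eM : T.obj (Coh.structureModule Y) ≅
        ModuleCat.of (Z.presheaf.stalk (g.base (f.base x))) (Y.presheaf.stalk (f.base x)) :=
      (ModuleCat.restrictScalars φ).mapIso (X := (DerSch.stalkFunctor Y (f.base x)).obj (Coh.structureModule Y))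
        (Y := ModuleCat.of (Y.presheaf.stalk (f.base x)) (Y.presheaf.stalk (f.base x)))
        (stalkUnitEquiv (f.base x)).symm.toModuleIso ≪≫
      LinearEquiv.toModuleIso (X₁ := (ModuleCat.restrictScalars φ).obj (ModuleCat.of _ (Y.presheaf.stalk (f.base x))))
        { AddEquiv.refl _ with map_smul' := fun r m => rfl }
    exact H9Misc.DRingTor.of_iso (DerivedCategory.Q.mapIso
        ((HomologicalComplex.singleMapHomologicalComplex T (ComplexShape.up ℤ) 0).app _ ≪≫
          (HomologicalComplex.single _ (ComplexShape.up ℤ) 0).mapIso eM) ≪≫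
      ((DerivedCategory.singleFunctorIsoCompQ _ 0).app _).symm) hg
  have hs : ((f ≫ g).stalkMap x).hom = ψ.comp φ := by rw [Scheme.Hom.stalkMap_comp]; rfl
  let ρ : ModuleCat.restrictScalars.{u} ((f ≫ g).stalkMap x).hom ≅
      ModuleCat.restrictScalars ψ ⋙ ModuleCat.restrictScalars φ :=
    ModuleCat.restrictScalarsComp' (R₁ := Z.presheaf.stalk (g.base (f.base x))) φ ψ _ hs
  let e : (DerSch.stalkCxOver (f ≫ g) x).obj F ≅
      ((ModuleCat.restrictScalars φ).mapHomologicalComplex (ComplexShape.up ℤ)).obj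
        ((DerSch.stalkCxOver f x).obj F) :=
    HomologicalComplex.Hom.isoOfComponents
      (fun i => ρ.app ((DerSch.stalkFunctor X x).obj (F.X i)))
      (fun i k _ => (ρ.hom.naturality ((DerSch.stalkFunctor X x).map (F.d i k))).symm)
  exact H9Misc.DRingTor.of_iso
    ((ModuleCat.restrictScalars φ).mapDerivedCategoryFactors.app _ ≪≫ DerivedCategory.Q.mapIso e.symm)
    (H9Misc.DRingTor.hasTorAmplitudeIn_restrictScalars n hB _ a b hF)

/-- Absolute flat amplitude is stalkwise tor amplitude relative to the identity. -/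
theorem hasFlatAmplitudeIn_iff (F : CochainComplex X.Modules ℤ) (a b : ℤ) :
    DCoh.HasFlatAmplitudeIn a b (DCoh.toD X F) ↔ DerSch.HasTorAmplitude (𝟙 X) a b F := by
  constructor
  · rintro ⟨E, hz, hf, ⟨e⟩⟩ x
    refine hasTorAmplitudeAt_of_iso (𝟙 X) e (hasTorAmplitude_of_flatOver (𝟙 X) hz (fun i y => ?_) x)
    exact (TwistFlat.flat_compHom_iff (((𝟙 X : X ⟶ X).stalkMap y).hom)
      (ConcreteCategory.bijective_of_isIso _)).1 (hf i y)
  intro h
  have ht : DCoh.HasTorAmplitudeIn a b (DCoh.toD X F) := fun G _ i hi => by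
    let R := repK (DCoh.toD X F)
    have hR : DCoh.IsKFlat R := isKFlat_repK _
    refine IsZero.of_iso ?_ ((DerivedCategory.homologyFunctor X.Modules i).mapIso
      ((DCoh.LTensorMod G).mapIso (repKIso (DCoh.toD X F)).symm) ≪≫ hdLTensorModIso G hR i)
    refine isZero_of_stalk _ fun x => ?_
    let σ := (((𝟙 X : X ⟶ X).stalkMap x).hom)
    let N := (DerSch.stalkFunctor X x).obj G
    let τ : DerSch.stalkOver (𝟙 X) x ≅ DerSch.stalkFunctor X x :=
      Functor.isoWhiskerLeft _ (ModuleCat.restrictScalarsId' _ (by simp [Scheme.Hom.stalkMap_id])) ≪≫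
        Functor.rightUnitor _
    have hk : H9Misc.DRingLTensor.IsKF ((stalkCx x).obj R) := (kFlat_iff_stalk R).1 hR x
    have hV : H9Misc.DRingTor.Van a b ((stalkCx x).obj R) :=
      (H9Misc.DRingTor.iff_van hk (Iso.refl _)).1 (H9Misc.DRingTor.of_iso
        (DerivedCategory.Q.mapIso ((NatIso.mapHomologicalComplex τ (ComplexShape.up ℤ)).app R))
        (hasTorAmplitudeAt_of_iso (𝟙 X) (repKIso (DCoh.toD X F)).symm (h x)))
    refine IsZero.of_iso ((HomologicalComplex.exactAt_iff_isZero_homology _ i).1 (hV N i hi))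
      (((((tensorModCx G).obj R).sc i).mapHomologyIso (DerSch.stalkFunctor X x)).symm ≪≫
      (HomologicalComplex.homologyFunctor (ModuleCat.{u} (X.presheaf.stalk x)) (ComplexShape.up ℤ) i).mapIso
        (HomologicalComplex.Hom.isoOfComponents
          (C₁ := (stalkCx x).obj ((tensorModCx G).obj R))
          (C₂ := (H9Misc.DRingLTensor.tensC N).obj ((stalkCx x).obj R))
          (fun k => (stalkTensorRightIso G x).app (R.X k))
          fun k l _ => ((stalkTensorRightIso G x).hom.naturality (R.d k l)).symm))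
  by_cases hab : a ≤ b
  · exact flatAmplitude_of_torAmplitude (fun G => hasLTensorMod G) hab ht
  haveI := hasLTensorMod (Coh.structureModule X)
  have hK : ∀ i, IsZero (F.homology i) := fun i =>
    (ht (Coh.structureModule X) i (by omega)).of_iso ((hdLTensorStructureIso F i).symm)
  let Z₀ : CochainComplex X.Modules ℤ := 0
  have hZ : ∀ i, IsZero (Z₀.X i) := fun i =>
    (HomologicalComplex.eval _ _ i).map_isZero (isZero_zero _)
  have hq : QuasiIso (0 : Z₀ ⟶ F) := ⟨fun i => (quasiIsoAt_iff_isIso_homologyMap _ _).2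
    ⟨0, (ShortComplex.isZero_homology_of_isZero_X₂ _ (hZ i)).eq_of_src _ _, (hK i).eq_of_src _ _⟩⟩
  exact ⟨Z₀, fun i _ => hZ i, fun i => IsFlat.of_isZero (hZ i),
    ⟨@asIso _ _ _ _ (DerivedCategory.Q.map (0 : Z₀ ⟶ F)) (isIso_Q_map _ hq)⟩⟩

end Groth.Agent.PushAmp
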