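import Groth.Agent.PushAmp.OverBaseLoc
import Groth.Agent.H9Misc.DRingTorTriangle
import Groth.Agent.H9Misc.DRingTorDim
import Groth.Agent.H9Misc.DRingLBase
import Mathlib.RingTheory.Unramified.Finite
import Mathlib.Algebra.MvPolynomial.Equiv

/-!
# Tor amplitude over an algebra from tor amplitude over the base
-/

set_option autoImplicit false
set_option linter.style.haveILetI false
set_option backward.isDefEq.respectTransparency false
set_option backward.isDefEq.respectTransparency.types false

universe u

open CategoryTheory CategoryTheory.Limits TensorProduct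

attribute [local instance] HasDerivedCategory.standard

namespace Groth.Agent.PushAmp

open H9Misc

variable {R P B : Type u} [CommRing R] [CommRing P] [CommRing B]

/-- Tor amplitude over the target drops by at most `d` from tor amplitude over the source. -/
def Drops (φ : R →+* B) (d : ℕ) : Prop :=
  ∀ (K : DRing.Cx B) (a b : ℤ),
    DRing.HasTorAmplitudeIn R a b
      (DRing.toD (((ModuleCat.restrictScalars.{u} φ).mapHomologicalComplex (ComplexShape.up ℤ)).obj K)) →
    DRing.HasTorAmplitudeIn B (a - d) b (DRing.toD K)

/-- Composition. -/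
theorem Drops.comp {φ : R →+* P} {ψ : P →+* B} {d e : ℕ} (hφ : Drops φ d) (hψ : Drops ψ e) :
    Drops (ψ.comp φ) (d + e) := by
  intro K a b h
  let ρ := ModuleCat.restrictScalarsComp'.{u} φ ψ (ψ.comp φ) rfl
  let L := ((ModuleCat.restrictScalars.{u} ψ).mapHomologicalComplex (ComplexShape.up ℤ)).obj K
  let e' : ((ModuleCat.restrictScalars.{u} (ψ.comp φ)).mapHomologicalComplex (ComplexShape.up ℤ)).obj K ≅
      ((ModuleCat.restrictScalars.{u} φ).mapHomologicalComplex (ComplexShape.up ℤ)).obj L :=
    (NatIso.mapHomologicalComplex ρ (ComplexShape.up ℤ)).app K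
  exact DRingTor.mono (by push_cast; omega) le_rfl
    (hψ K (a - d) b (hφ L a b (DRingTor.of_iso (DerivedCategory.Q.mapIso e') h)))

/-- Bijective maps. -/
theorem drops_of_bijective (φ : R →+* B) (hφ : Function.Bijective φ) : Drops φ 0 := by
  intro K a b h
  let e := RingEquiv.ofBijective φ hφ
  have he : RingHom.id _ = φ.comp e.symm.toRingHom := RingHom.ext fun r => (e.apply_symm_apply r).symm
  let τ : ModuleCat.restrictScalars.{u} φ ⋙ ModuleCat.restrictScalars e.symm.toRingHom ≅ 𝟭 _ :=
    (ModuleCat.restrictScalarsComp' e.symm.toRingHom φ _ he).symm ≪≫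
      ModuleCat.restrictScalarsId' (RingHom.id _) rfl
  let e₂ := (NatIso.mapHomologicalComplex τ (ComplexShape.up ℤ)).app K
  let e₃ : ((ModuleCat.restrictScalars e.symm.toRingHom).mapHomologicalComplex (ComplexShape.up ℤ)).obj
      (((ModuleCat.restrictScalars φ).mapHomologicalComplex (ComplexShape.up ℤ)).obj K) ≅ K :=
    HomologicalComplex.Hom.isoOfComponents (fun i => τ.app (K.X i))
      (fun i k _ => (τ.hom.naturality (K.d i k)).symm)
  exact DRingTor.mono (by omega) le_rfl (DRingTor.of_iso (DerivedCategory.Q.mapIso e₃)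
    (hasTorAmplitudeIn_ringEquiv e.symm.toRingHom e.symm.bijective _ h))

/-- Extension of scalars along a flat map preserves tor amplitude. -/
theorem amp_extend (φ : R →+* B) (hφ : φ.Flat) (X : DRing.Cx R) {a b : ℤ}
    (h : DRing.HasTorAmplitudeIn R a b (DRing.toD X)) :
    DRing.HasTorAmplitudeIn B a b
      (DRing.toD (((ModuleCat.extendScalars.{u, u, u} φ).mapHomologicalComplex (ComplexShape.up ℤ)).obj X)) := by
  haveI := ModuleCat.preservesFiniteLimits_extendScalars_of_flat hφ
  haveI : PreservesFiniteColimits (ModuleCat.extendScalars.{u, u, u} φ) := by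
    haveI := (ModuleCat.extendRestrictScalarsAdj φ).leftAdjoint_preservesColimits
    infer_instance
  obtain ⟨E, hz, hf, ⟨e⟩⟩ := h
  let T := ModuleCat.extendScalars.{u, u, u} φ
  exact ⟨(T.mapHomologicalComplex (ComplexShape.up ℤ)).obj E, fun i hi => T.map_isZero (hz i hi),
    fun i => haveI := hf i; DRingLBase.flat_extendScalars φ (E.X i),
    ⟨(T.mapDerivedCategoryFactors.app E).symm ≪≫ T.mapDerivedCategory.mapIso e ≪≫
      T.mapDerivedCategoryFactors.app X⟩⟩

/-- The counit of extension and restriction of scalars. -/
theorem counit_tmul (φ : R →+* B) (M : ModuleCat.{u} B) (c : B) (m : M) :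
    letI := φ.toAlgebra
    ((ModuleCat.extendRestrictScalarsAdj.{u} φ).counit.app M).hom (c ⊗ₜ[R] m) = c • m := by
  letI := φ.toAlgebra
  rfl

section Unramified

variable (φ : R →+* B) (hU : φ.FormallyUnramified) (hF : φ.EssFiniteType)

include hU hF

/-- The counit has a natural section for a formally unramified map essentially of finite type. -/
theorem exists_section_counit :
    ∃ σ : 𝟭 (ModuleCat.{u} B) ⟶ ModuleCat.restrictScalars φ ⋙ ModuleCat.extendScalars.{u, u, u} φ,
      σ ≫ (ModuleCat.extendRestrictScalarsAdj.{u} φ).counit = 𝟙 _ := by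
  letI := φ.toAlgebra
  haveI : Algebra.FormallyUnramified R B := hU
  haveI : Algebra.EssFiniteType R B := hF
  let e : B ⊗[R] B := Algebra.FormallyUnramified.elem R B
  letI : ∀ M : ModuleCat.{u} B, Module R M := fun M => Module.compHom _ φ
  haveI : ∀ M : ModuleCat.{u} B, IsScalarTower R B M := fun M =>
    IsScalarTower.of_algebraMap_smul fun _ _ => rfl
  let f : ∀ M : ModuleCat.{u} B, M → (B →ₗ[R] M) := fun M m =>
    (LinearMap.toSpanSingleton B M m).restrictScalars R
  let s : ∀ M : ModuleCat.{u} B, M → B ⊗[R] M := fun M m => (f M m).lTensor B e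
  have hadd : ∀ (M : ModuleCat.{u} B) (m m' : M), s M (m + m') = s M m + s M m' := fun M m m' => by
    have : f M (m + m') = f M m + f M m' := LinearMap.ext fun c => by simp [f]
    simp only [s, this, LinearMap.lTensor_add, LinearMap.add_apply]
  have hmul : ∀ (M : ModuleCat.{u} B) (g : B →ₗ[R] M) (c : B) (x : B ⊗[R] B),
      g.lTensor B ((c ⊗ₜ[R] (1 : B)) * x) = c • g.lTensor B x := fun M g c x => by
    induction x with
    | zero => simp
    | add p q hp hq => simp only [mul_add, map_add, smul_add, hp, hq]
    | tmul p q => simp [TensorProduct.smul_tmul']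
  have hshift : ∀ (M : ModuleCat.{u} B) (m : M) (c : B) (x : B ⊗[R] B),
      (f M (c • m)).lTensor B x = (f M m).lTensor B (((1 : B) ⊗ₜ[R] c) * x) := fun M m c x => by
    induction x with
    | zero => simp
    | add p q hp hq => simp only [mul_add, map_add, hp, hq]
    | tmul p q => simp [f, smul_smul, mul_comm c q]
  have hsmul : ∀ (M : ModuleCat.{u} B) (c : B) (m : M), s M (c • m) = c • s M m := fun M c m => by
    simp only [s]
    rw [hshift, Algebra.FormallyUnramified.one_tmul_mul_elem, hmul]
  let σ : ∀ M : ModuleCat.{u} B, M ⟶ (ModuleCat.extendScalars.{u, u, u} φ).obj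
      ((ModuleCat.restrictScalars φ).obj M) := fun M =>
    ModuleCat.ofHom (Y := (ModuleCat.extendScalars.{u, u, u} φ).obj ((ModuleCat.restrictScalars φ).obj M))
      { toFun := s M, map_add' := hadd M, map_smul' := hsmul M }
  refine ⟨{ app := σ, naturality := fun M N g => ?_ }, ?_⟩
  · ext m
    have key : ∀ x : B ⊗[R] B, (f N (g.hom m)).lTensor B x =
        LinearMap.lTensor B (g.hom.restrictScalars R) ((f M m).lTensor B x) := fun x => by
      induction x with
      | zero => simp
      | add p q hp hq => simp only [map_add, hp, hq]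
      | tmul p q => simp [f]
    exact key e
  · ext M m
    let E : B ⊗[R] M →+ M :=
      ((ModuleCat.extendRestrictScalarsAdj.{u} φ).counit.app M).hom.toAddMonoidHom
    have key : ∀ x : B ⊗[R] B, E ((f M m).lTensor B x) = Algebra.TensorProduct.lmul' R x • m := fun x => by
      induction x with
      | zero => simp
      | add p q hp hq => simp only [map_add, add_smul, hp, hq]
      | tmul p q =>
        rw [LinearMap.lTensor_tmul, Algebra.TensorProduct.lmul'_apply_tmul, mul_smul]
        exact counit_tmul φ M p _
    refine (key e).trans ?_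
    show Algebra.TensorProduct.lmul' R e • m = m
    rw [Algebra.FormallyUnramified.lmul_elem, one_smul]

/-- Flat, formally unramified maps essentially of finite type do not drop tor amplitude. -/
theorem drops_of_unramified (hflat : φ.Flat) : Drops φ 0 := by
  intro K a b h
  obtain ⟨σ, hσ⟩ := exists_section_counit φ hU hF
  let T := ModuleCat.extendScalars.{u, u, u} φ
  let G := ModuleCat.restrictScalars.{u} φ
  let ε := (ModuleCat.extendRestrictScalarsAdj.{u} φ).counit
  let L := (T.mapHomologicalComplex (ComplexShape.up ℤ)).obj ((G.mapHomologicalComplex (ComplexShape.up ℤ)).obj K)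
  let i : K ⟶ L :=
    { f := fun n => σ.app (K.X n)
      comm' := fun j k _ => (σ.naturality (K.d j k)).symm }
  let p : L ⟶ K :=
    { f := fun n => ε.app (K.X n)
      comm' := fun j k _ => (ε.naturality (K.d j k)).symm }
  have hip : i ≫ p = 𝟙 K := HomologicalComplex.hom_ext _ _ fun n => congrArg (fun t => t.app (K.X n)) hσ
  refine DRingTor.mono (by omega) le_rfl (DRingTor.of_retract (DerivedCategory.Q.map i) (DerivedCategory.Q.map p)
    (by rw [← Functor.map_comp, hip]; exact DerivedCategory.Q.map_id K) (amp_extend φ hflat _ h))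

end Unramified

section Monogenic

/-- An algebra with a basis of powers of one element drops tor amplitude by at most one. -/
theorem drops_of_basis (φ : R →+* P) (t : P)
    (hb : letI := φ.toAlgebra; ∃ bs : Module.Basis ℕ R P, bs 0 = 1 ∧ ∀ i, bs (i + 1) = t * bs i) :
    Drops φ 1 := by
  letI := φ.toAlgebra
  obtain ⟨bs, hb0, hb1⟩ := hb
  intro K a b h
  letI : ∀ M : ModuleCat.{u} P, Module R M := fun M => Module.compHom _ φ
  haveI : ∀ M : ModuleCat.{u} P, IsScalarTower R P M := fun M =>
    IsScalarTower.of_algebraMap_smul fun _ _ => rfl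
  have hflat : φ.Flat := by
    haveI := Module.Free.of_basis bs
    exact inferInstanceAs (Module.Flat R P)
  let T := ModuleCat.extendScalars.{u, u, u} φ
  let G := ModuleCat.restrictScalars.{u} φ
  let ε := (ModuleCat.extendRestrictScalarsAdj.{u} φ).counit
  let δ : ∀ M : ModuleCat.{u} P, T.obj (G.obj M) ⟶ T.obj (G.obj M) := fun M =>
    t • 𝟙 _ - T.map (G.map (t • 𝟙 M))
  have hnat : ∀ {M N : ModuleCat.{u} P} (f : M ⟶ N),
      T.map (G.map f) ≫ δ N = δ M ≫ T.map (G.map f) := fun {M N} f => by
    simp only [δ, Preadditive.comp_sub, Preadditive.sub_comp, Linear.comp_smul, Linear.smul_comp,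
      Category.comp_id, Category.id_comp]
    rw [← T.map_comp, ← G.map_comp, ← T.map_comp, ← G.map_comp, Linear.comp_smul, Linear.smul_comp,
      Category.comp_id, Category.id_comp]
  have hδ : ∀ M : ModuleCat.{u} P, δ M ≫ ε.app M = 0 := fun M => by
    simp only [δ, Preadditive.sub_comp, Linear.smul_comp, Category.id_comp]
    have hn := ε.naturality (t • 𝟙 M)
    simp only [Functor.comp_map, Functor.id_map] at hn
    rw [hn, Linear.comp_smul, sub_eq_zero]
    exact congrArg (t • ·) (Category.comp_id (ε.app M)).symm
  have hval : ∀ (M : ModuleCat.{u} P) (p : P) (m : M),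
      (δ M).hom (p ⊗ₜ[R] m) = (t * p) ⊗ₜ[R] m - p ⊗ₜ[R] (t • m) := fun M p m => rfl
  have hS : ∀ M : ModuleCat.{u} P, (ShortComplex.mk (δ M) (ε.app M) (hδ M)).ShortExact := fun M => by
    let D : P ⊗[R] M →+ P ⊗[R] M := (δ M).hom.toAddMonoidHom
    let E : P ⊗[R] M →+ M := (ε.app M).hom.toAddMonoidHom
    have hD : ∀ (p : P) (m : M), D (p ⊗ₜ[R] m) = (t * p) ⊗ₜ[R] m - p ⊗ₜ[R] (t • m) := hval M
    have hE : ∀ (p : P) (m : M), E (p ⊗ₜ[R] m) = p • m := counit_tmul φ M
    refine { exact := ?_, mono_f := ?_, epi_g := ?_ }
    · rw [ShortComplex.moduleCat_exact_iff]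
      intro x hx
      have key : ∀ y : P ⊗[R] M, ∃ w : P ⊗[R] M, D w = y - (1 : P) ⊗ₜ[R] (E y) := fun y => by
        induction y with
        | zero => exact ⟨0, by simp⟩
        | add p q hp hq =>
          obtain ⟨w, hw⟩ := hp
          obtain ⟨w', hw'⟩ := hq
          refine ⟨w + w', ?_⟩
          rw [map_add, map_add, hw, hw', TensorProduct.tmul_add]
          abel
        | tmul p m =>
          rw [hE]
          revert m
          refine Submodule.span_induction (p := fun p _ => ∀ m : M, ∃ w : P ⊗[R] M,
            D w = p ⊗ₜ[R] m - (1 : P) ⊗ₜ[R] (p • m)) ?_ ?_ ?_ ?_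
            (bs.span_eq ▸ Submodule.mem_top (R := R) (x := p))
          · rintro _ ⟨i, rfl⟩
            induction i with
            | zero => exact fun m => ⟨0, by rw [map_zero, hb0, one_smul, sub_self]⟩
            | succ i ih =>
              intro m
              obtain ⟨w, hw⟩ := ih (t • m)
              refine ⟨w + bs i ⊗ₜ[R] m, ?_⟩
              rw [map_add, hw, hD, hb1, mul_smul, smul_comm (bs i) t m]
              abel
          · exact fun m => ⟨0, by simp⟩
          · intro p q _ _ hp hq m
            obtain ⟨w, hw⟩ := hp m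
            obtain ⟨w', hw'⟩ := hq m
            refine ⟨w + w', ?_⟩
            rw [map_add, hw, hw', TensorProduct.add_tmul, add_smul, TensorProduct.tmul_add]
            abel
          · intro r p _ hp m
            obtain ⟨w, hw⟩ := hp (r • m)
            refine ⟨w, hw.trans ?_⟩
            rw [TensorProduct.smul_tmul, smul_assoc, smul_comm p r m]
      obtain ⟨w, hw⟩ := key x
      refine ⟨w, hw.trans ?_⟩
      have hx' : E x = 0 := hx
      rw [hx', TensorProduct.tmul_zero]
      exact sub_zero _
    · rw [ModuleCat.mono_iff_injective]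
      let τ : M →ₗ[R] M := (LinearMap.lsmul P M t).restrictScalars R
      let Lf : ℕ → M →ₗ[R] P ⊗[R] M := fun n =>
        Nat.rec (motive := fun _ => M →ₗ[R] P ⊗[R] M) 0
          (fun k Lk => (TensorProduct.mk R P M (bs k)) + Lk ∘ₗ τ) n
      let L : P ⊗[R] M →ₗ[R] P ⊗[R] M := TensorProduct.lift (bs.constr R Lf)
      have key : ∀ y : P ⊗[R] M, L (D y) = y := fun y => by
        induction y with
        | zero => rw [map_zero, map_zero]
        | add p q hp hq => rw [map_add, map_add, hp, hq]
        | tmul p m =>
          rw [hD]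
          revert m
          refine Submodule.span_induction (p := fun p _ => ∀ m : M,
            L ((t * p) ⊗ₜ[R] m - p ⊗ₜ[R] (t • m)) = p ⊗ₜ[R] m) ?_ ?_ ?_ ?_
            (bs.span_eq ▸ Submodule.mem_top (R := R) (x := p))
          · rintro _ ⟨i, rfl⟩ m
            have h1 : ∀ (j : ℕ) (n : M), L (bs j ⊗ₜ[R] n) = Lf j n := fun j n => by
              simp [L, Module.Basis.constr_basis]
            rw [map_sub, ← hb1, h1, h1]
            show (bs i ⊗ₜ[R] m + Lf i (t • m)) - Lf i (t • m) = _
            exact add_sub_cancel_right _ _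
          · intro m; simp
          · intro p q _ _ hp hq m
            have hpm := hp m
            have hqm := hq m
            simp only [mul_add, TensorProduct.add_tmul, map_sub, map_add] at hpm hqm ⊢
            rw [← hpm, ← hqm]
            abel
          · intro r p _ hp m
            have hpm := hp m
            rw [map_sub] at hpm ⊢
            rw [mul_smul_comm, ← TensorProduct.smul_tmul', ← TensorProduct.smul_tmul', map_smul, map_smul]
            exact (smul_sub r _ _).symm.trans
              ((congrArg (r • ·) hpm).trans (TensorProduct.smul_tmul' r p m))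
      exact Function.LeftInverse.injective key
    · rw [ModuleCat.epi_iff_surjective]
      intro m
      exact ⟨(1 : P) ⊗ₜ[R] (m : M), (hE 1 m).trans (one_smul _ _)⟩
  let L := (T.mapHomologicalComplex (ComplexShape.up ℤ)).obj ((G.mapHomologicalComplex (ComplexShape.up ℤ)).obj K)
  let i : L ⟶ L := { f := fun n => δ (K.X n), comm' := fun j k _ => (hnat (K.d j k)).symm }
  let p : L ⟶ K := { f := fun n => ε.app (K.X n), comm' := fun j k _ => (ε.naturality (K.d j k)).symm }
  let S : ShortComplex (DRing.Cx P) :=
    ShortComplex.mk i p (HomologicalComplex.hom_ext _ _ fun n => hδ (K.X n))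
  have hSe : S.ShortExact := HomologicalComplex.shortExact_of_degreewise_shortExact S fun n => hS (K.X n)
  have hL := amp_extend φ hflat _ h
  exact DRingTor.obj₃_of _ (DerivedCategory.triangleOfSES_distinguished hSe)
    (DRingTor.mono (by push_cast; omega) (by omega) hL) (DRingTor.mono (by push_cast; omega) le_rfl hL)

end Monogenic

/-- Polynomial rings in one variable. -/
theorem drops_polynomial (R : Type u) [CommRing R] : Drops (Polynomial.C : R →+* Polynomial R) 1 := by
  refine drops_of_basis _ Polynomial.X ?_
  have he : (Polynomial.C : R →+* Polynomial R).toAlgebra = Polynomial.algebraOfAlgebra :=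
    Algebra.algebra_ext _ _ fun _ => rfl
  rw [he]
  refine ⟨Polynomial.basisMonomials R, ?_, fun i => ?_⟩
  · simp [Polynomial.coe_basisMonomials]
  · simp [Polynomial.coe_basisMonomials, Polynomial.X_mul_monomial]

/-- Polynomial rings in finitely many variables. -/
theorem drops_mvPolynomial (R : Type u) [CommRing R] :
    ∀ n : ℕ, Drops (MvPolynomial.C : R →+* MvPolynomial (Fin n) R) n
  | 0 => drops_of_bijective _ ⟨MvPolynomial.C_injective _ _, MvPolynomial.C_surjective _⟩
  | n + 1 => by
    let e := (MvPolynomial.finSuccEquiv R n).symm.toRingEquiv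
    have h := ((drops_mvPolynomial R n).comp (drops_polynomial _)).comp (drops_of_bijective e.toRingHom e.bijective)
    have hc : (MvPolynomial.C : R →+* MvPolynomial (Fin (n + 1)) R) =
        e.toRingHom.comp (Polynomial.C.comp MvPolynomial.C) :=
      ((MvPolynomial.finSuccEquiv R n).symm.toAlgHom.comp_algebraMap).symm
    rw [hc]
    exact h

end Groth.Agent.PushAmp
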