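import Groth.Agent.H9Misc.DRingTorLocal
import Groth.Agent.H9Misc.DRingTorFaithful
import Groth.Agent.PushAmp.AmpDrop

/-!
# Tor amplitude over the base of a localisation of a complex
-/

set_option autoImplicit false
set_option linter.style.haveILetI false

universe u

open CategoryTheory CategoryTheory.Limits MonoidalCategory

attribute [local instance] HasDerivedCategory.standard

namespace Groth.Agent.PushAmp

open Groth.Agent.KFlatLib H9Misc H9Misc.DRingLTensor H9Misc.DRingTor H9Misc.DRingTorDescent
  H9Misc.DRingTorLTensor H9Misc.DRingTorLocal H9Misc.DRingTorFaithful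

variable {A B C : Type u} [CommRing A] [CommRing B] [CommRing C]

/-- The localised complex. -/
noncomputable def extResCxIso (ψ : B →+* C) (K : DRing.Cx B) :
    ((tensorRight (resB ψ)).mapHomologicalComplex (ComplexShape.up ℤ)).obj K ≅
      ((ModuleCat.restrictScalars ψ).mapHomologicalComplex (ComplexShape.up ℤ)).obj
        (((ModuleCat.extendScalars ψ).mapHomologicalComplex (ComplexShape.up ℤ)).obj K) :=
  HomologicalComplex.Hom.isoOfComponents (fun n => (extResIso ψ).app (K.X n))
    (fun p q _ => ((extResIso ψ).hom.naturality (K.d p q)).symm)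

/-- Localising a complex preserves tor amplitude over the base. -/
theorem amp_extend_over (φ : A →+* B) (ψ : B →+* C) (hψ : ψ.Flat) (K : DRing.Cx B) (a b : ℤ)
    (h : DRing.HasTorAmplitudeIn A a b (DRing.toD ((DRing.restrictCx φ).obj K))) :
    DRing.HasTorAmplitudeIn A a b (DRing.toD ((DRing.restrictCx (ψ.comp φ)).obj
      (((ModuleCat.extendScalars ψ).mapHomologicalComplex (ComplexShape.up ℤ)).obj K))) := by
  let Km : DRing.Cx C := ((ModuleCat.extendScalars ψ).mapHomologicalComplex (ComplexShape.up ℤ)).obj K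
  refine DRingTor.of_iso (DerivedCategory.Q.mapIso
    ((NatIso.mapHomologicalComplex (ModuleCat.restrictScalarsComp' φ ψ (ψ.comp φ) rfl)
      (ComplexShape.up ℤ)).app Km)).symm ?_
  rw [restrict_iff] at h
  refine (restrict_iff φ (((ModuleCat.restrictScalars ψ).mapHomologicalComplex (ComplexShape.up ℤ)).obj Km) a b).2
    fun M F f hf hF i hi => ?_
  haveI : Module.Flat B (resB ψ) := hψ
  refine (DRingTorLTensor.exactAt_iff_of_iso (whiskerRightIso (extResCxIso ψ K) ((extC' φ).obj F)) i).1 ?_
  refine (DRingTorLTensor.exactAt_iff_of_iso (tensCTensorIso (resB ψ) K ((extC' φ).obj F)) i).2 ?_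
  exact (h M F f hf hF i hi).map (tensorRight (resB ψ))

/-- Tor amplitude over the base from a family of localisations detecting exactness. -/
theorem amp_of_detecting (φ : A →+* B) (K : DRing.Cx B) (a b : ℤ) {ι : Type*} (D : ι → Type u)
    [∀ j, CommRing (D j)] (ψ : ∀ j, B →+* D j)
    (hdet : ∀ (Y : DRing.Cx B) (i : ℤ),
      (∀ j, (((tensorRight (resB (ψ j))).mapHomologicalComplex (ComplexShape.up ℤ)).obj Y).ExactAt i) → Y.ExactAt i)
    (h : ∀ j, ∃ (A' : Type u) (_ : CommRing A') (η : A →+* A') (α : A' →+* D j), η.Flat ∧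
        α.comp η = (ψ j).comp φ ∧
        DRing.HasTorAmplitudeIn A' a b (DRing.toD ((DRing.restrictCx α).obj
          (((ModuleCat.extendScalars (ψ j)).mapHomologicalComplex (ComplexShape.up ℤ)).obj K)))) :
    DRing.HasTorAmplitudeIn A a b (DRing.toD ((DRing.restrictCx φ).obj K)) := by
  rw [restrict_iff]
  intro M F f hf hF i hi
  haveI := hf
  refine hdet _ i fun j => ?_
  obtain ⟨A', _, η, α, hη, hcomp, hK⟩ := h j
  let Km : DRing.Cx (D j) := ((ModuleCat.extendScalars (ψ j)).mapHomologicalComplex (ComplexShape.up ℤ)).obj K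
  refine (DRingTorLTensor.exactAt_iff_of_iso (tensCTensorIso (resB (ψ j)) K ((extC' φ).obj F)) i).1 ?_
  refine (DRingTorLTensor.exactAt_iff_of_iso (whiskerRightIso (extResCxIso (ψ j) K) ((extC' φ).obj F)) i).2 ?_
  refine (exactAt_projection φ _ F i).2 ?_
  let N : DRing.Cx A' := ((ModuleCat.restrictScalars α).mapHomologicalComplex (ComplexShape.up ℤ)).obj Km
  let eN : ((ModuleCat.restrictScalars φ).mapHomologicalComplex (ComplexShape.up ℤ)).obj
      (((ModuleCat.restrictScalars (ψ j)).mapHomologicalComplex (ComplexShape.up ℤ)).obj Km) ≅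
      ((ModuleCat.restrictScalars η).mapHomologicalComplex (ComplexShape.up ℤ)).obj N :=
    HomologicalComplex.Hom.isoOfComponents
      (fun n => ((ModuleCat.restrictScalarsComp' φ (ψ j) (α.comp η) hcomp).app (Km.X n)).symm ≪≫
        (ModuleCat.restrictScalarsComp' η α (α.comp η) rfl).app (Km.X n))
      (fun p q _ => rfl)
  refine (DRingTorLTensor.exactAt_iff_of_iso (whiskerRightIso eN F) i).2 ?_
  refine (exactAt_projection η N F i).1 ?_
  haveI := (ringCover A').quasiIso_ψ N
  haveI : IsIso (DerivedCategory.Q.map ((ringCover A').ψ.app N)) :=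
    (DerivedCategory.isIso_Q_map_iff_quasiIso _ _).2 inferInstance
  have hV := (iff_van (kFlat_ringRes N) (asIso (DerivedCategory.Q.map ((ringCover A').ψ.app N)))).1 hK
  haveI := ModuleCat.preservesFiniteLimits_extendScalars_of_flat hη
  haveI : PreservesFiniteColimits (ModuleCat.extendScalars.{u, u, u} η) := by
    haveI : (ModuleCat.extendScalars.{u, u, u} η).IsLeftAdjoint :=
      (ModuleCat.extendRestrictScalarsAdj η).isLeftAdjoint
    infer_instance
  haveI : QuasiIso ((extC' η).map f) := by
    constructor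
    intro n
    infer_instance
  let f' : (extC' η).obj F ⟶
      (HomologicalComplex.single (ModuleCat.{u} A') (ComplexShape.up ℤ) 0).obj
        ((ModuleCat.extendScalars η).obj M) :=
    (extC' η).map f ≫ ((HomologicalComplex.singleMapHomologicalComplex (ModuleCat.extendScalars η)
      (ComplexShape.up ℤ) 0).app M).hom
  exact (exactAt_balance ((ringCover A').ψ.app N) (kFlat_ringRes N)
    (kFlat_extendScalars η hF) f' i).2 (hV _ i hi)

/-- Localisations at all maximal ideals detect exactness. -/
theorem detect_of_localizations (D : MaximalSpectrum B → Type u) [∀ j, CommRing (D j)] [∀ j, Algebra B (D j)]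
    [∀ j, IsLocalization.AtPrime (D j) j.asIdeal] (Y : DRing.Cx B) (i : ℤ)
    (h : ∀ j, (((tensorRight (resB (algebraMap B (D j)))).mapHomologicalComplex (ComplexShape.up ℤ)).obj Y).ExactAt i) :
    Y.ExactAt i := by
  refine exactAt_of_localized_maximal Y i fun m hm => ?_
  let j : MaximalSpectrum B := ⟨m, hm⟩
  let e := IsLocalization.algEquiv j.asIdeal.primeCompl (Localization.AtPrime m) (D j)
  let l : resB (algebraMap B (Localization.AtPrime m)) ≅ resB (algebraMap B (D j)) :=
    resBIso (Localization.AtPrime m) ≪≫ e.toLinearEquiv.toModuleIso ≪≫ (resBIso (D j)).symm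
  exact (DRingTorLTensor.exactAt_iff_of_iso
    ((NatIso.mapHomologicalComplex ((curriedTensor _).flip.mapIso l) (ComplexShape.up ℤ)).app Y) i).2 (h j)

end Groth.Agent.PushAmp
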