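import Groth.Agent.PushAmp.StalkPullback
import Groth.Agent.PushAmp.TorLocal
import Groth.Agent.PushAmp.TorAt
import Groth.Agent.H9Misc.DRingLBase
import Groth.Agent.KFlatLib.Scheme.PullCx

/-!
# Relative tor amplitude under base change
-/

set_option autoImplicit false
set_option linter.style.haveILetI false
set_option backward.isDefEq.respectTransparency false
set_option backward.isDefEq.respectTransparency.types false

universe u

open CategoryTheory CategoryTheory.Limits AlgebraicGeometry TensorProduct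

attribute [local instance] HasDerivedCategory.standard

namespace Groth.Agent.PushAmp

open Groth.Agent.KFlatLib H9Misc

section Ring

variable {Ay Bx Ay' : Type u} [CommRing Ay] [CommRing Bx] [CommRing Ay'] (σ : Ay →+* Bx) (τ : Ay →+* Ay')

/-- Base change and restriction of scalars commute, for a model of the tensor product. -/
theorem nonempty_extend_restrict_iso_aux {T : Type u} [CommRing T] (l : Bx →+* T) (r : Ay' →+* T) :
    letI := σ.toAlgebra
    letI := τ.toAlgebra
    ∀ (e : Bx ⊗[Ay] Ay' ≃+* T), (∀ b a, e (b ⊗ₜ[Ay] a) = l b * r a) →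
    Nonempty (ModuleCat.restrictScalars.{u} σ ⋙ ModuleCat.extendScalars.{u, u, u} τ ≅
      ModuleCat.extendScalars.{u, u, u} l ⋙ ModuleCat.restrictScalars r) := by
  letI := σ.toAlgebra
  letI := τ.toAlgebra
  letI := l.toAlgebra
  intro e he
  letI : ∀ M : ModuleCat.{u} Bx, Module Ay M := fun M => Module.compHom _ σ
  haveI : ∀ M : ModuleCat.{u} Bx, IsScalarTower Ay Bx M := fun M =>
    IsScalarTower.of_algebraMap_smul fun _ _ => rfl
  have hr : ∀ c : Ay, r (τ c) = l (σ c) := fun c => by
    have h : (σ c) ⊗ₜ[Ay] (1 : Ay') = (1 : Bx) ⊗ₜ[Ay] (τ c) := by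
      rw [← mul_one (σ c), ← mul_one (τ c)]
      exact TensorProduct.smul_tmul c (1 : Bx) (1 : Ay')
    have h' := congrArg e h
    rw [he, he] at h'
    simpa using h'.symm
  let fwd : ∀ M : ModuleCat.{u} Bx, Ay' ⊗[Ay] M →+ T ⊗[Bx] M := fun M =>
    TensorProduct.liftAddHom
      (AddMonoidHom.mk' (fun a => AddMonoidHom.mk' (fun m => r a ⊗ₜ[Bx] m) fun m n => TensorProduct.tmul_add _ _ _)
        fun a b => by ext m; simp [TensorProduct.add_tmul])
      (fun c a m => by
        show r (τ c * a) ⊗ₜ[Bx] m = r a ⊗ₜ[Bx] (σ c • m)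
        rw [map_mul, hr, ← TensorProduct.smul_tmul]
        rfl)
  let g : ∀ M : ModuleCat.{u} Bx, Bx ⊗[Ay] Ay' →ₗ[Ay] M →ₗ[Ay] Ay' ⊗[Ay] M := fun M =>
    TensorProduct.lift (LinearMap.mk₂ Ay
      (fun b a => (TensorProduct.mk Ay Ay' M a).comp ((LinearMap.lsmul Bx M b).restrictScalars Ay))
      (fun b c a => by ext m; simp [add_smul, TensorProduct.tmul_add])
      (fun r b a => by ext m; simp [TensorProduct.tmul_smul])
      (fun b a c => by ext m; simp [TensorProduct.add_tmul])
      (fun r b a => by ext m; simp [TensorProduct.smul_tmul']))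
  have hg : ∀ (M : ModuleCat.{u} Bx) (b : Bx) (a : Ay') (m : M), g M (b ⊗ₜ[Ay] a) m = a ⊗ₜ[Ay] (b • m) :=
    fun _ _ _ _ => rfl
  let inv : ∀ M : ModuleCat.{u} Bx, T ⊗[Bx] M →+ Ay' ⊗[Ay] M := fun M =>
    TensorProduct.liftAddHom
      (AddMonoidHom.mk' (fun t => (g M (e.symm t)).toAddMonoidHom) fun t s => by ext m; simp)
      (fun c t m => by
        show g M (e.symm (l c * t)) m = g M (e.symm t) (c • m)
        obtain ⟨z, rfl⟩ := e.surjective t
        have hc : l c = e (c ⊗ₜ[Ay] 1) := by rw [he, map_one, mul_one]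
        rw [hc, ← map_mul, RingEquiv.symm_apply_apply, RingEquiv.symm_apply_apply]
        induction z with
        | zero => simp
        | add p q hp hq => simp only [mul_add, map_add, LinearMap.add_apply, hp, hq]
        | tmul b a => rw [Algebra.TensorProduct.tmul_mul_tmul, one_mul, hg, hg, smul_smul, mul_comm])
  have hf : ∀ (M : ModuleCat.{u} Bx) (a : Ay') (m : M), fwd M (a ⊗ₜ[Ay] m) = r a ⊗ₜ[Bx] m :=
    fun _ _ _ => rfl
  have hi : ∀ (M : ModuleCat.{u} Bx) (t : T) (m : M), inv M (t ⊗ₜ[Bx] m) = g M (e.symm t) m :=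
    fun _ _ _ => rfl
  have h1 : ∀ (M : ModuleCat.{u} Bx) (z : Ay' ⊗[Ay] M), inv M (fwd M z) = z := fun M z => by
    induction z with
    | zero => simp
    | add p q hp hq => rw [map_add, map_add, hp, hq]
    | tmul a m =>
      rw [hf, hi, show e.symm (r a) = (1 : Bx) ⊗ₜ[Ay] a by
        rw [RingEquiv.symm_apply_eq, he, map_one, one_mul], hg, one_smul]
  have h2 : ∀ (M : ModuleCat.{u} Bx) (z : T ⊗[Bx] M), fwd M (inv M z) = z := fun M z => by
    induction z with
    | zero => simp
    | add p q hp hq => rw [map_add, map_add, hp, hq]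
    | tmul t m =>
      obtain ⟨z, rfl⟩ := e.surjective t
      rw [hi, RingEquiv.symm_apply_apply]
      induction z with
      | zero => simp
      | add p q hp hq => rw [map_add, LinearMap.add_apply, map_add, hp, hq, map_add, TensorProduct.add_tmul]
      | tmul b a =>
        rw [hg, hf, he, ← TensorProduct.smul_tmul]
        rfl
  refine ⟨NatIso.ofComponents (fun M => LinearEquiv.toModuleIso
    (X₁ := (ModuleCat.extendScalars.{u, u, u} τ).obj ((ModuleCat.restrictScalars σ).obj M))
    (X₂ := (ModuleCat.restrictScalars r).obj ((ModuleCat.extendScalars.{u, u, u} l).obj M))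
    { toFun := fun z => fwd M z
      invFun := fun z => inv M z
      left_inv := h1 M
      right_inv := h2 M
      map_add' := fun p q => map_add (fwd M) p q
      map_smul' := fun c z => ?_ }) ?_⟩
  · show fwd M (c • z : Ay' ⊗[Ay] M) = (r c • fwd M z : T ⊗[Bx] M)
    induction z using TensorProduct.induction_on with
    | zero => erw [smul_zero, map_zero, smul_zero]
    | add p q hp hq =>
      erw [smul_add, map_add, map_add, smul_add, hp, hq]
    | tmul a m =>
      have h : ∀ (c a : Ay') (m : M), r (c * a) ⊗ₜ[Bx] m = ((r c * r a) ⊗ₜ[Bx] m : T ⊗[Bx] M) := fun c a m => by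
        rw [map_mul]
      exact h c a m
  · intro M N φ
    ext z
    have key : ∀ w : Ay' ⊗[Ay] M, fwd N (LinearMap.lTensor Ay' (φ.hom.restrictScalars Ay) w) =
        LinearMap.lTensor T φ.hom (fwd M w) := fun w => by
      induction w with
      | zero => simp
      | add p q hp hq => simp only [map_add, hp, hq]
      | tmul a m => rw [LinearMap.lTensor_tmul, hf, hf, LinearMap.lTensor_tmul]; rfl
    exact key z

/-- Base change and restriction of scalars commute. -/
theorem nonempty_extend_restrict_iso :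
    letI := σ.toAlgebra
    letI := τ.toAlgebra
    Nonempty (ModuleCat.restrictScalars.{u} σ ⋙ ModuleCat.extendScalars.{u, u, u} τ ≅
      ModuleCat.extendScalars.{u, u, u} (Algebra.TensorProduct.includeLeftRingHom (R := Ay) (A := Bx) (B := Ay')) ⋙
        ModuleCat.restrictScalars (Algebra.TensorProduct.includeRight (R := Ay) (A := Bx) (B := Ay')).toRingHom) := by
  letI := σ.toAlgebra
  letI := τ.toAlgebra
  exact nonempty_extend_restrict_iso_aux σ τ _ _ (RingEquiv.refl _) fun b a => by simp

/-- Tor amplitude after base change and localisation. -/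
theorem amp_baseChange_flat {B' : Type u} [CommRing B'] :
    letI := σ.toAlgebra
    letI := τ.toAlgebra
    ∀ (φ : Bx ⊗[Ay] Ay' →+* B'), φ.Flat → ∀ (K : DRing.Cx Bx) (a b : ℤ),
    DRing.HasTorAmplitudeIn Ay a b (DRing.toD ((DRing.restrictCx σ).obj K)) →
    (DRingLTensor.IsKF ((DRing.restrictCx σ).obj K) ∨ τ.Flat) →
    DRing.HasTorAmplitudeIn Ay' a b (DRing.toD
      ((DRing.restrictCx (φ.comp (Algebra.TensorProduct.includeRight (R := Ay) (A := Bx) (B := Ay')).toRingHom)).obj
        (((ModuleCat.extendScalars.{u, u, u}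
          (φ.comp (Algebra.TensorProduct.includeLeftRingHom (R := Ay) (A := Bx) (B := Ay')))).mapHomologicalComplex
            (ComplexShape.up ℤ)).obj K))) := by
  letI := σ.toAlgebra
  letI := τ.toAlgebra
  intro φ hφ K a b hK hcase
  let l := Algebra.TensorProduct.includeLeftRingHom (R := Ay) (A := Bx) (B := Ay')
  let r := (Algebra.TensorProduct.includeRight (R := Ay) (A := Bx) (B := Ay')).toRingHom
  let L := (DRing.restrictCx σ).obj K
  have h1 : DRing.HasTorAmplitudeIn Ay' a b
      (DRing.toD (((ModuleCat.extendScalars.{u, u, u} τ).mapHomologicalComplex (ComplexShape.up ℤ)).obj L)) := by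
    rcases hcase with hk | hf
    · haveI := DRingLBase.hasLBaseChange τ
      obtain ⟨e⟩ := DRingLBase.nonempty_lbase_iso τ hk
      exact DRingTor.of_iso e (DRingLBase.hasTorAmplitudeIn_lbase τ hK)
    · exact amp_extend τ hf L hK
  obtain ⟨ρ⟩ := nonempty_extend_restrict_iso σ τ
  let K₁ := ((ModuleCat.extendScalars.{u, u, u} l).mapHomologicalComplex (ComplexShape.up ℤ)).obj K
  let e₁ : ((ModuleCat.extendScalars.{u, u, u} τ).mapHomologicalComplex (ComplexShape.up ℤ)).obj L ≅
      (DRing.restrictCx r).obj K₁ :=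
    HomologicalComplex.Hom.isoOfComponents (fun n => ρ.app (K.X n))
      (fun i j _ => (ρ.hom.naturality (K.d i j)).symm)
  have h2 := amp_extend_over r φ hφ K₁ a b (DRingTor.of_iso (DerivedCategory.Q.mapIso e₁) h1)
  exact DRingTor.of_iso (DerivedCategory.Q.mapIso ((DRing.restrictCx (φ.comp r)).mapIso
    ((NatIso.mapHomologicalComplex (ModuleCat.extendScalarsComp.{u, u} l φ) (ComplexShape.up ℤ)).app K)).symm) h2

end Ring

variable {X S X' T : Scheme.{u}} {u : X ⟶ S} {u' : X' ⟶ T} {g' : X' ⟶ X} {h : T ⟶ S}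

/-- Stalkwise relative tor amplitude of the termwise pullback in a cartesian square. -/
theorem hasTorAmplitudeAt_pullCx (hc : IsPullback g' u' u h) (R : CochainComplex X.Modules ℤ) (x' : X')
    (a b : ℤ) (hR : DerSch.HasTorAmplitudeAt u a b R (g'.base x'))
    (hcase : DRingLTensor.IsKF ((DerSch.stalkCxOver u (g'.base x')).obj R) ∨ Flat h) :
    DerSch.HasTorAmplitudeAt u' a b ((pullCx g').obj R) x' := by
  letI := (u.stalkMap (g'.base x')).hom.toAlgebra
  letI := (baseStalkMap hc x').hom.toAlgebra
  letI := (u.stalkMap (g'.base x') ≫ g'.stalkMap x').hom.toAlgebra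
  obtain ⟨φ, hφ, h₁, h₂⟩ := flat_stalk_pullback hc x'
  have hτ : Flat h → (baseStalkMap hc x').hom.Flat := by
    intro hh
    rw [baseStalkMap, CommRingCat.hom_comp]
    exact (RingHom.Flat.of_bijective (ConcreteCategory.bijective_of_isIso _)).comp (Flat.stalkMap h _)
  have key := amp_baseChange_flat (u.stalkMap (g'.base x')).hom (baseStalkMap hc x').hom φ hφ ((stalkCx (g'.base x')).obj R) a b hR (hcase.imp id hτ)
  rw [h₁, h₂] at key
  exact DRingTor.of_iso (DerivedCategory.Q.mapIso
    ((DRing.restrictCx (u'.stalkMap x').hom).mapIso (stalkPullCxIso g' x' R))).symm key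

end Groth.Agent.PushAmp
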