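import Groth.Agent.PushAmp.ChartBC
import Groth.Agent.PushAmp.ChartTilde
import Groth.Agent.PushAmp.TorBC
import Groth.Agent.KFlatLib.Scheme.TildePull
import Groth.Agent.KFlatLib.Perfect.Basic
import Groth.Agent.H9Misc.DRingRestrict

/-!
# Flat base change of relative pseudo-coherence
-/

set_option autoImplicit false
set_option linter.style.haveILetI false
set_option backward.isDefEq.respectTransparency false
set_option backward.isDefEq.respectTransparency.types false

universe u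

open CategoryTheory CategoryTheory.Limits TensorProduct
open MvPolynomial

attribute [local instance] HasDerivedCategory.standard MvPolynomial.algebraMvPolynomial

namespace Groth.Agent.PushAmp

open Groth.Agent.H9Misc

/-- Pseudo-coherence after flat base change, in modules. -/
theorem pc_restrict_extend_of_pushout {P B P' B' : Type u} [CommRing P] [CommRing B] [CommRing P'] [CommRing B']
    (φ : P →+* B) (θ : P →+* P') (hθ : θ.Flat) (d : B →+* B') (ψ' : P' →+* B') :
    letI := φ.toAlgebra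
    letI := θ.toAlgebra
    ∀ (e : B ⊗[P] P' ≃+* B'), (∀ b a, e (b ⊗ₜ[P] a) = d b * ψ' a) → ∀ (Mc : DRing.Cx B) {m : ℤ},
      DRing.IsPseudoCoherent P m (DRing.toD ((DRing.restrictCx φ).obj Mc)) →
      DRing.IsPseudoCoherent P' m (DRing.toD ((DRing.restrictCx ψ').obj
        (((ModuleCat.extendScalars.{u, u, u} d).mapHomologicalComplex (ComplexShape.up ℤ)).obj Mc))) := by
  letI := φ.toAlgebra
  letI := θ.toAlgebra
  intro e he Mc m h
  haveI := ModuleCat.preservesFiniteLimits_extendScalars_of_flat hθ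
  haveI : PreservesFiniteColimits (ModuleCat.extendScalars.{u, u, u} θ) := by
    haveI : (ModuleCat.extendScalars.{u, u, u} θ).IsLeftAdjoint :=
      (ModuleCat.extendRestrictScalarsAdj θ).isLeftAdjoint
    infer_instance
  obtain ⟨ρ⟩ := nonempty_extend_restrict_iso_aux φ θ d ψ' e he
  let e₁ : ((ModuleCat.extendScalars.{u, u, u} θ).mapHomologicalComplex (ComplexShape.up ℤ)).obj ((DRing.restrictCx φ).obj Mc) ≅
      (DRing.restrictCx ψ').obj (((ModuleCat.extendScalars.{u, u, u} d).mapHomologicalComplex (ComplexShape.up ℤ)).obj Mc) :=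
    HomologicalComplex.Hom.isoOfComponents (fun n => ρ.app (Mc.X n))
      (fun i j _ => (ρ.hom.naturality (Mc.d i j)).symm)
  exact DRingPC.of_iso ((ModuleCat.extendScalars.{u, u, u} θ).mapDerivedCategoryFactors.app _ ≪≫
    DerivedCategory.Q.mapIso e₁) (DRingRestrict.pc_map _ (DRingRestrict.finFree_extendScalars θ) h)

/-- Flat base change of a chart, for complexes. -/
theorem exists_chart_pushout_cx {A B A' B' : Type u} [CommRing A] [CommRing B] [CommRing A'] [CommRing B']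
    [Algebra A B] [Algebra A A'] [Module.Flat A A'] [Algebra A' B'] [Algebra B B'] [Algebra A B']
    [IsScalarTower A A' B'] [IsScalarTower A B B'] [Algebra.IsPushout A A' B B'] {m : ℤ} {n : ℕ}
    (ψ : MvPolynomial (Fin n) A →+* B) (hψ1 : ψ.comp MvPolynomial.C = algebraMap A B)
    (hψ2 : Function.Surjective ψ) :
    ∃ ψ' : MvPolynomial (Fin n) A' →+* B', ψ'.comp MvPolynomial.C = algebraMap A' B' ∧
      Function.Surjective ψ' ∧
      ∀ Mc : DRing.Cx B, DRing.IsPseudoCoherent (MvPolynomial (Fin n) A) m (DRing.toD ((DRing.restrictCx ψ).obj Mc)) →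
        DRing.IsPseudoCoherent (MvPolynomial (Fin n) A') m (DRing.toD ((DRing.restrictCx ψ').obj
          (((ModuleCat.extendScalars.{u, u, u} (algebraMap B B')).mapHomologicalComplex (ComplexShape.up ℤ)).obj Mc))) := by
  let ψ' : MvPolynomial (Fin n) A' →+* B' :=
    eval₂Hom (algebraMap A' B') fun i => algebraMap B B' (ψ (X i))
  letI := ψ.toAlgebra
  letI := ψ'.toAlgebra
  haveI : IsScalarTower A (MvPolynomial (Fin n) A) (MvPolynomial (Fin n) A') :=
    .of_algebraMap_eq fun a => (MvPolynomial.map_C _ a).symm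
  letI : Algebra (MvPolynomial (Fin n) A) B' := ((algebraMap B B').comp ψ).toAlgebra
  haveI : IsScalarTower A (MvPolynomial (Fin n) A) B := .of_algebraMap_eq fun a => by
    exact (RingHom.congr_fun hψ1 a).symm
  haveI : IsScalarTower A' (MvPolynomial (Fin n) A') B' := .of_algebraMap_eq fun a => by
    show _ = ψ' (MvPolynomial.C a)
    simp [ψ']
  haveI : IsScalarTower (MvPolynomial (Fin n) A) B B' := .of_algebraMap_eq fun _ => rfl
  haveI : IsScalarTower A (MvPolynomial (Fin n) A) B' := .of_algebraMap_eq fun a => by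
    show _ = algebraMap B B' (ψ (MvPolynomial.C a))
    rw [← RingHom.comp_apply ψ, hψ1, ← IsScalarTower.algebraMap_apply]
  haveI : IsScalarTower (MvPolynomial (Fin n) A) (MvPolynomial (Fin n) A') B' := .of_algebraMap_eq' <| by
    refine MvPolynomial.ringHom_ext (fun a => ?_) fun i => ?_
    · show algebraMap B B' (ψ (MvPolynomial.C a)) = ψ' (MvPolynomial.map _ (MvPolynomial.C a))
      rw [← RingHom.comp_apply ψ, hψ1]
      simp [ψ', ← IsScalarTower.algebraMap_apply]
    · show algebraMap B B' (ψ (X i)) = ψ' (MvPolynomial.map _ (X i))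
      simp [ψ']
  haveI : IsScalarTower A (MvPolynomial (Fin n) A') B' := .of_algebraMap_eq fun a => by
    show _ = ψ' (MvPolynomial.C (algebraMap A A' a))
    simp [ψ', ← IsScalarTower.algebraMap_apply]
  haveI hP : Algebra.IsPushout (MvPolynomial (Fin n) A) (MvPolynomial (Fin n) A') B B' :=
    ((Algebra.IsPushout.comp_iff (R := A) (S := MvPolynomial (Fin n) A) (R' := A')
      (S' := MvPolynomial (Fin n) A') (T := B) (T' := B')).1 ‹Algebra.IsPushout A A' B B'›.symm).symm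
  haveI : Module.Flat (MvPolynomial (Fin n) A) (MvPolynomial (Fin n) A') :=
    Module.Flat.of_linearEquiv (Algebra.IsPushout.equiv A (MvPolynomial (Fin n) A) A' _).symm.toLinearEquiv
  haveI := hP.symm
  refine ⟨ψ', RingHom.ext fun a => by simp [ψ'], ?_, fun Mc h => ?_⟩
  rotate_left
  · exact pc_restrict_extend_of_pushout ψ (algebraMap (MvPolynomial (Fin n) A) (MvPolynomial (Fin n) A'))
      (RingHom.flat_algebraMap_iff.2 inferInstance) (algebraMap B B') ψ'
      (Algebra.IsPushout.equiv (MvPolynomial (Fin n) A) B (MvPolynomial (Fin n) A') B').toRingEquiv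
      (fun b a => Algebra.IsPushout.equiv_tmul (MvPolynomial (Fin n) A) B (MvPolynomial (Fin n) A') B' b a) Mc h
  intro b
  obtain ⟨x, rfl⟩ := (Algebra.IsPushout.equiv A A' B B').surjective b
  induction x with
  | zero => exact ⟨0, by simp⟩
  | add x y hx hy =>
    obtain ⟨p, hp⟩ := hx
    obtain ⟨q, hq⟩ := hy
    exact ⟨p + q, by rw [map_add, map_add, hp, hq]⟩
  | tmul a y =>
    obtain ⟨p, rfl⟩ := hψ2 y
    refine ⟨MvPolynomial.C a * MvPolynomial.map (algebraMap A A') p, ?_⟩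
    rw [Algebra.IsPushout.equiv_tmul, map_mul]
    refine congrArg₂ (· * ·) (by simp [ψ']) ?_
    exact (IsScalarTower.algebraMap_apply (MvPolynomial (Fin n) A) (MvPolynomial (Fin n) A') B' p).symm

section Geometry

open AlgebraicGeometry Groth.Agent.KFlatLib

/-- Restriction to an open is the derived pullback. -/
theorem nonempty_rho_lpull {U X : Scheme.{u}} (j : U ⟶ X) [IsOpenImmersion j] [DCoh.HasLpull j] (E : DCoh.D X) :
    Nonempty ((rho j).obj E ≅ (DCoh.Lpull j).obj E) :=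
  ⟨(rho j).mapIso (repKIso E).symm ≪≫ (rhoQ j).app (repK E) ≪≫
    DerivedCategory.Q.mapIso ((restrictPullCxIso j).app (repK E)) ≪≫ lpullRepIso j E⟩

/-- The module representative of a derived pullback between affine opens. -/
theorem nonempty_module_rep_lpull {X X' : Scheme.{u}} (g : X' ⟶ X) [DCoh.HasLpull g] (E : DCoh.D X)
    {U : X.Opens} (hU : IsAffineOpen U) {U' : X'.Opens} (hU' : IsAffineOpen U') (e : U' ≤ g ⁻¹ᵁ U)
    (Mc : DRing.Cx Γ(X, U)) (hMc : DRingLTensor.IsKF Mc)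
    (eM : DCoh.toD (Spec Γ(X, U)) (((tilde.functor Γ(X, U)).mapHomologicalComplex (ComplexShape.up ℤ)).obj Mc) ≅
      (rho hU.isoSpec.inv).obj ((rho U.ι).obj E)) :
    Nonempty (DCoh.toD (Spec Γ(X', U')) (((tilde.functor Γ(X', U')).mapHomologicalComplex (ComplexShape.up ℤ)).obj
        (((ModuleCat.extendScalars.{u, u, u} (g.appLE U U' e).hom).mapHomologicalComplex (ComplexShape.up ℤ)).obj Mc)) ≅
      (rho hU'.isoSpec.inv).obj ((rho U'.ι).obj ((DCoh.Lpull g).obj E))) := by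
  let A := CommRingCat.of Γ(X, U)
  let B := CommRingCat.of Γ(X', U')
  let d := g.appLE U U' e
  haveI : PreservesFiniteLimits (tilde.functor A) := Groth.Agent.QCoh.tilde_preservesFiniteLimits
  haveI : (tilde.functor A).Additive := tilde_additive A
  haveI : PreservesFiniteColimits (tilde.functor A) := Groth.Agent.QCoh.tilde_preservesFiniteColimits
  haveI : PreservesFiniteLimits (tilde.functor B) := Groth.Agent.QCoh.tilde_preservesFiniteLimits
  haveI : (tilde.functor B).Additive := tilde_additive B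
  haveI : PreservesFiniteColimits (tilde.functor B) := Groth.Agent.QCoh.tilde_preservesFiniteColimits
  let f₀ := Spec.map (CommRingCat.ofHom d.hom)
  let i := hU.isoSpec.inv ≫ U.ι
  let i' := hU'.isoSpec.inv ≫ U'.ι
  have hi : i' ≫ g = f₀ ≫ i := by
    show _ = Spec.map d ≫ _
    simp only [i, i', IsAffineOpen.isoSpec_inv_ι]
    exact (IsAffineOpen.SpecMap_appLE_fromSpec g hU hU' e).symm
  haveI := hasLpull f₀
  haveI := hasLpull i
  haveI := hasLpull i'
  haveI := hasLpull (i' ≫ g)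
  haveI := hasLpull (f₀ ≫ i)
  haveI := DRingLBase.hasLBaseChange d.hom
  obtain ⟨eL⟩ := DRingLBase.nonempty_lbase_iso d.hom hMc
  obtain ⟨eT⟩ := nonempty_tildeD_lpull_iso d.hom
  obtain ⟨ei⟩ := nonempty_rho_lpull i E
  obtain ⟨ei'⟩ := nonempty_rho_lpull i' ((DCoh.Lpull g).obj E)
  obtain ⟨c₁⟩ := nonempty_lpull_comp f₀ i
  obtain ⟨c₂⟩ := nonempty_lpull_comp i' g
  let k0 : DCoh.toD (Spec B) (((tilde.functor B).mapHomologicalComplex (ComplexShape.up ℤ)).obj
        (((ModuleCat.extendScalars.{u, u, u} d.hom).mapHomologicalComplex (ComplexShape.up ℤ)).obj Mc)) ≅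
      (DCoh.tildeD B).obj ((DRing.LBaseChange d.hom).obj (DRing.toD Mc)) :=
    (toDTildeIso (R := B) _).symm ≪≫ (DCoh.tildeD B).mapIso eL.symm
  let k1 : (DCoh.tildeD B).obj ((DRing.LBaseChange d.hom).obj (DRing.toD Mc)) ≅
      (DCoh.Lpull f₀).obj ((DCoh.tildeD A).obj (DRing.toD Mc)) := eT.app _
  let k2 : (DCoh.tildeD A).obj (DRing.toD Mc) ≅ (DCoh.Lpull i).obj E :=
    toDTildeIso (R := A) Mc ≪≫ eM ≪≫ rhoComp hU.isoSpec.inv U.ι i rfl E ≪≫ ei
  let k3 : (DCoh.Lpull f₀).obj ((DCoh.Lpull i).obj E) ≅ (DCoh.Lpull (i' ≫ g)).obj E :=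
    c₁.app E ≪≫ eqToIso (by congr 1; simp only [hi])
  let k4 : (DCoh.Lpull (i' ≫ g)).obj E ≅ (rho hU'.isoSpec.inv).obj ((rho U'.ι).obj ((DCoh.Lpull g).obj E)) :=
    (c₂.app E).symm ≪≫ ei'.symm ≪≫ (rhoComp hU'.isoSpec.inv U'.ι i' rfl _).symm
  exact ⟨k0 ≪≫ k1 ≪≫ (DCoh.Lpull f₀).mapIso k2 ≪≫ k3 ≪≫ k4⟩

/-- Flat base change of relative pseudo-coherence. -/
theorem relPC_lpull_baseChange {X Y X' Y' : Scheme.{u}} {f : X ⟶ Y} {f' : X' ⟶ Y'} {g : X' ⟶ X} {h : Y' ⟶ Y}
    [Flat h] [LocallyOfFiniteType f'] (H : IsPullback g f' f h) [DCoh.HasLpull g] {m : ℤ} {E : DCoh.D X}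
    (hq : DCoh.IsQCohD E) (hE : DerSch.IsPseudoCoherentRel f m E) :
    DerSch.IsPseudoCoherentRel f' m ((DCoh.Lpull g).obj E) := by
  refine relPC_of_local _ fun z => ?_
  obtain ⟨V, U, e, hxU, hcpa⟩ := exists_cpa _ hE (g.base z)
  obtain ⟨n, ψ, hψ, hψC, hPC⟩ := hcpa
  have hzV : f'.base z ∈ h ⁻¹ᵁ (V : Y.Opens) := by
    show h (f' z) ∈ (V : Y.Opens)
    rw [← Scheme.Hom.comp_apply, ← H.w, Scheme.Hom.comp_apply]
    exact e hxU
  obtain ⟨W, hW, hzW, hWV⟩ := exists_isAffineOpen_mem_and_subset hzV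
  let UY := g ⁻¹ᵁ (U : X.Opens) ⊓ f' ⁻¹ᵁ W
  have hUY : IsAffineOpen UY := by
    haveI : IsAffine _ := U.2
    haveI : IsAffine _ := V.2
    haveI : IsAffine _ := hW
    exact .of_isIso (Scheme.Hom.isPullback_resLE H hWV e (UY := UY) rfl).isoPullback.hom
  haveI := isIso_pushoutSection_of_isAffineOpen H hWV e (UY := UY) rfl V.2 hW U.2
  have hpo := ((isIso_pushoutSection_iff H hWV e (UY := UY) rfl).1 inferInstance).flip
  let a := h.appLE (V : Y.Opens) W hWV
  let b := f.appLE (V : Y.Opens) (U : X.Opens) e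
  let c := f'.appLE W UY inf_le_right
  let d := g.appLE (U : X.Opens) UY inf_le_left
  letI := a.hom.toAlgebra
  letI := b.hom.toAlgebra
  letI := c.hom.toAlgebra
  letI := d.hom.toAlgebra
  letI : Algebra Γ(Y, (V : Y.Opens)) Γ(X', UY) := (a ≫ c).hom.toAlgebra
  haveI : IsScalarTower Γ(Y, (V : Y.Opens)) Γ(Y', W) Γ(X', UY) := .of_algebraMap_eq' rfl
  haveI : IsScalarTower Γ(Y, (V : Y.Opens)) Γ(X, (U : X.Opens)) Γ(X', UY) := .of_algebraMap_eq' congr(($hpo.w).hom)
  haveI : Module.Flat Γ(Y, (V : Y.Opens)) Γ(Y', W) := h.flat_appLE V.2 hW hWV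
  haveI : Algebra.IsPushout Γ(Y, (V : Y.Opens)) Γ(Y', W) Γ(X, (U : X.Opens)) Γ(X', UY) :=
    CommRingCat.isPushout_iff_isPushout.1 hpo
  obtain ⟨ψ', hC', hs', hpc⟩ := exists_chart_pushout_cx (A := Γ(Y, (V : Y.Opens))) (B := Γ(X, (U : X.Opens)))
    (A' := Γ(Y', W)) (B' := Γ(X', UY)) (m := m) ψ hψC hψ
  obtain ⟨M₀, ⟨e₀⟩⟩ := exists_module_rep hq U.2
  obtain ⟨Mc, hMc, -, ⟨eMc⟩⟩ := DRingLTensor.exists_rep (DRing.toD M₀)
  have eM : DCoh.toD (Spec Γ(X, (U : X.Opens)))
      (((tilde.functor Γ(X, (U : X.Opens))).mapHomologicalComplex (ComplexShape.up ℤ)).obj Mc) ≅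
      (rho U.2.isoSpec.inv).obj ((rho (U : X.Opens).ι).obj E) := by
    haveI : PreservesFiniteLimits (tilde.functor Γ(X, (U : X.Opens))) := Groth.Agent.QCoh.tilde_preservesFiniteLimits
    haveI : (tilde.functor Γ(X, (U : X.Opens))).Additive := tilde_additive _
    haveI : PreservesFiniteColimits (tilde.functor Γ(X, (U : X.Opens))) := Groth.Agent.QCoh.tilde_preservesFiniteColimits
    exact (toDTildeIso Mc).symm ≪≫ (DCoh.tildeD _).mapIso eMc ≪≫ toDTildeIso M₀ ≪≫ e₀
  obtain ⟨eM'⟩ := nonempty_module_rep_lpull g E U.2 hUY inf_le_left Mc hMc eM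
  exact ⟨⟨W, hW⟩, ⟨_, hUY⟩, inf_le_right, ⟨hxU, hzW⟩, n, ψ', hs', hC',
    (cpc_module_iff hUY ψ' hs' _ eM').2 (hpc Mc ((cpc_module_iff U.2 ψ hψ Mc eM).1 hPC))⟩

end Geometry

end Groth.Agent.PushAmp
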