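import Groth.Agent.KFlatLib.Scheme.ClosedPush
import Groth.Agent.KFlatLib.Scheme.CohD
import Groth.Agent.KFlatLib.Scheme.Exact
import Groth.Agent.QCoh.ClosedPush
import Groth.Agent.ZClosLib.CohDescent

/-! Modules whose direct image along a closed immersion is quasi-coherent or coherent. -/

set_option autoImplicit false
set_option linter.style.haveILetI false
set_option backward.isDefEq.respectTransparency false

universe u

open CategoryTheory CategoryTheory.Limits AlgebraicGeometry

attribute [local instance] HasDerivedCategory.standard

namespace Groth.Agent.PushAmp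

open KFlatLib

variable {X Y : Scheme.{u}} (i : X ⟶ Y) [IsClosedImmersion i]

/-- The direct image along a closed immersion reflects isomorphisms. -/
theorem isIso_of_isIso_push {M N : X.Modules} (φ : M ⟶ N)
    [IsIso ((Scheme.Modules.pushforward i).map φ)] : IsIso φ := by
  refine KFlatLib.isIso_of_stalk φ fun x => ?_
  have h : IsIso ((stalkAb (X := X) x).map φ) :=
    (NatIso.isIso_map_iff (stalkPushIso i x) φ).1
      (Functor.map_isIso (stalkAb (X := Y) (i.base x)) ((Scheme.Modules.pushforward i).map φ))
  exact @isIso_of_reflects_iso _ _ _ _ _ _ _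
    (forget₂ (ModuleCat (X.presheaf.stalk x)) AddCommGrpCat) h _

/-- A module with quasi-coherent direct image is the pullback of it. -/
theorem isIso_counit_closed (M : X.Modules)
    (hM : Coh.IsQCoh ((Scheme.Modules.pushforward i).obj M)) :
    IsIso ((Scheme.Modules.pullbackPushforwardAdjunction i).counit.app M) := by
  let adj := Scheme.Modules.pullbackPushforwardAdjunction i
  haveI : IsIso (adj.unit.app ((Scheme.Modules.pushforward i).obj M)) :=
    (QCoh.isIso_unit_closed_iff i hM).2 fun U a ha s => by
      rw [Scheme.Hom.ker_apply, RingHom.mem_ker] at ha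
      show i.app U.1 a • (show Γ(M, i ⁻¹ᵁ U.1) from s) = 0
      rw [ha]
      exact zero_smul _ _
  haveI : IsIso ((Scheme.Modules.pushforward i).map (adj.counit.app M)) :=
    IsIso.of_isIso_fac_left (adj.right_triangle_components M)
  exact isIso_of_isIso_push i _

/-- Quasi-coherence is detected by the direct image along a closed immersion. -/
theorem isQCoh_of_push_closed (M : X.Modules)
    (hM : Coh.IsQCoh ((Scheme.Modules.pushforward i).obj M)) : Coh.IsQCoh M := by
  haveI := isIso_counit_closed i M hM
  exact isQCoh_of_iso (asIso ((Scheme.Modules.pullbackPushforwardAdjunction i).counit.app M))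
    (QCoh.isQCoh_pullback i hM)

/-- Coherence is detected by the direct image along a closed immersion. -/
theorem isCoh_of_push_closed [IsLocallyNoetherian X] (M : X.Modules)
    (hM : Coh.IsCoh ((Scheme.Modules.pushforward i).obj M)) : Coh.IsCoh M := by
  haveI := isIso_counit_closed i M hM.1
  exact KFlatLib.isCoh_of_iso (asIso ((Scheme.Modules.pullbackPushforwardAdjunction i).counit.app M))
    (ZClosLib.isCoh_pullback i hM)

/-- The cohomology of a termwise direct image along a closed immersion. -/
theorem nonempty_hd_pushCx_closed (G : CochainComplex X.Modules ℤ) (n : ℤ) :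
    Nonempty (DCoh.HD (DCoh.toD Y (((Scheme.Modules.pushforward i).mapHomologicalComplex
      (ComplexShape.up ℤ)).obj G)) n ≅ (Scheme.Modules.pushforward i).obj (DCoh.HD (DCoh.toD X G) n)) := by
  haveI : PreservesFiniteColimits (Scheme.Modules.pushforward i) :=
    ⟨fun J _ _ => preservesColimitsOfShape_push i J⟩
  exact ⟨(DerivedCategory.homologyFunctorFactors Y.Modules n).app _ ≪≫
    (G.sc n).mapHomologyIso (Scheme.Modules.pushforward i) ≪≫
    (Scheme.Modules.pushforward i).mapIso ((DerivedCategory.homologyFunctorFactors X.Modules n).app G).symm⟩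

end Groth.Agent.PushAmp
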