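import Groth.Prelude.Def_DerSch2
import Groth.Agent.PushAmp.ClosedCoh
import Groth.Agent.KFlatLib.Scheme.PCQCoh
import Groth.Agent.KFlatLib.Scheme.RHomLocal
import Groth.Agent.QCoh.Support

/-! Relative pseudo-coherence and the cohomology sheaves; the case of a locally Noetherian base. -/

set_option autoImplicit false
set_option linter.style.haveILetI false
set_option backward.isDefEq.respectTransparency false

universe u

open CategoryTheory CategoryTheory.Limits AlgebraicGeometry TopologicalSpace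

attribute [local instance] HasDerivedCategory.standard

namespace Groth.Agent.PushAmp

open KFlatLib

variable {X Y : Scheme.{u}}

/-- A chart is a closed immersion. -/
theorem isClosedImmersion_chartImm {U : X.Opens} (hU : IsAffineOpen U) {R : Type u} [CommRing R]
    {n : ℕ} (φ : MvPolynomial (Fin n) R →+* Γ(X, U)) (hφ : Function.Surjective φ) :
    IsClosedImmersion (DerSch.chartImm U φ) := by
  haveI : IsClosedImmersion (Spec.map (CommRingCat.ofHom φ)) :=
    IsClosedImmersion.spec_of_surjective (CommRingCat.ofHom φ) hφ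
  haveI : IsIso U.toSpecΓ := by rw [← hU.isoSpec_hom]; infer_instance
  show IsClosedImmersion (U.toSpecΓ ≫ _)
  infer_instance

variable (f : X ⟶ Y)

/-- The data of a chart with the pseudo-coherence of the pushed complex. -/
theorem exists_chartPC {m : ℤ} {E : DCoh.D X} (hE : DerSch.IsPseudoCoherentRel f m E) (x : X) :
    ∃ (V : Y.affineOpens) (U : X.affineOpens) (_ : (U : X.Opens) ≤ f ⁻¹ᵁ (V : Y.Opens)) (n : ℕ)
      (φ : MvPolynomial (Fin n) Γ(Y, (V : Y.Opens)) →+* Γ(X, (U : X.Opens))),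
      x ∈ (U : X.Opens) ∧ Function.Surjective φ ∧
      ∀ G : CochainComplex X.Modules ℤ, Nonempty (DCoh.toD X G ≅ E) →
        LocPC m (DCoh.toD _ ((DerSch.pushCx (DerSch.chartImm (U : X.Opens) φ)).obj
          ((DCoh.restrictCx (U : X.Opens)).obj G))) := by
  obtain ⟨-, 𝒱, h𝒱, hV⟩ := hE
  obtain ⟨V, hxV⟩ := Opens.mem_iSup.1 (h𝒱.ge (show f.base x ∈ (⊤ : Y.Opens) from trivial))
  obtain ⟨hV', hxV⟩ := Opens.mem_iSup.1 hxV
  obtain ⟨𝒰, h𝒰, hU⟩ := hV V hV'
  obtain ⟨U, hxU⟩ := Opens.mem_iSup.1 (h𝒰.ge (show x ∈ f ⁻¹ᵁ (V : Y.Opens) from hxV))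
  obtain ⟨hU', hxU⟩ := Opens.mem_iSup.1 hxU
  have h : (U : X.Opens) ≤ f ⁻¹ᵁ (V : Y.Opens) := fun z hz =>
    h𝒰.le (Opens.mem_iSup.2 ⟨U, Opens.mem_iSup.2 ⟨hU', hz⟩⟩)
  obtain ⟨n, φ, hφ, hPC⟩ := hU U hU' h
  exact ⟨V, U, h, n, φ, hxU, hφ.1, fun G hG => (isPseudoCoherentD_iff _ _).1 (hPC G hG)⟩

/-- The cohomology of the pushed complex. -/
theorem nonempty_hd_chart (U : X.Opens) {Z : Scheme.{u}} (i : (U : Scheme.{u}) ⟶ Z) [IsClosedImmersion i]
    {G : CochainComplex X.Modules ℤ} {E : DCoh.D X} (e : DCoh.toD X G ≅ E) (n : ℤ) :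
    Nonempty (DCoh.HD (DCoh.toD Z ((DerSch.pushCx i).obj ((DCoh.restrictCx U).obj G))) n ≅
      (Scheme.Modules.pushforward i).obj ((Scheme.Modules.restrictFunctor U.ι).obj (DCoh.HD E n))) := by
  obtain ⟨e₁⟩ := nonempty_hd_pushCx_closed i ((DCoh.restrictCx U).obj G) n
  exact ⟨e₁ ≪≫ (Scheme.Modules.pushforward i).mapIso
    ((DerivedCategory.homologyFunctor _ n).mapIso (((rhoQ U.ι).app G).symm ≪≫ (rho U.ι).mapIso e) ≪≫
      restrictHDIso U.ι E n)⟩

/-- Relatively pseudo-coherent objects have quasi-coherent cohomology in degrees above the level. -/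
theorem isQCoh_hd_of_relPC {m : ℤ} {E : DCoh.D X} (hE : DerSch.IsPseudoCoherentRel f m E)
    (i : ℤ) (hi : m < i) : Coh.IsQCoh (DCoh.HD E i) := by
  choose V U h n φ hxU hφ hPC using fun x => exists_chartPC f hE x
  refine QCoh.isQCoh_of_isOpenCover (fun x => (U x : X.Opens)) (IsOpenCover.mk (top_le_iff.1
    fun x _ => Opens.mem_iSup.2 ⟨x, hxU x⟩)) fun x => ?_
  haveI := isClosedImmersion_chartImm (U x).2 (φ x) (hφ x)
  obtain ⟨e⟩ := nonempty_hd_chart (U x : X.Opens) (DerSch.chartImm _ (φ x)) (repIso E) i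
  exact isQCoh_of_push_closed (DerSch.chartImm _ (φ x)) _ (isQCoh_of_iso e
    (isQCoh_HD_of_pseudoCoherent ((isPseudoCoherentD_iff _ _).2 (hPC x _ ⟨repIso E⟩)) i hi))

/-- Objects pseudo-coherent relative to a morphism in every degree have quasi-coherent cohomology. -/
theorem isQCohD_of_relPC {E : DCoh.D X} (hE : DerSch.IsPseudoCoherentRelAll f E) : DCoh.IsQCohD E :=
  fun i => isQCoh_hd_of_relPC f (hE (i - 1)) i (by omega)

/-- Relatively pseudo-coherent objects are locally bounded above. -/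
theorem exists_bound_near_of_relPC {m : ℤ} {E : DCoh.D X} (hE : DerSch.IsPseudoCoherentRel f m E)
    (x : X) : ∃ (U : X.Opens) (b : ℤ), x ∈ U ∧ ∀ i, b < i →
      IsZero ((Scheme.Modules.restrictFunctor U.ι).obj (DCoh.HD E i)) := by
  obtain ⟨V, U, h, n, φ, hxU, hφ, hPC⟩ := exists_chartPC f hE x
  haveI := isClosedImmersion_chartImm U.2 φ hφ
  obtain ⟨b, hb⟩ := exists_bound_of_locPC (hPC _ ⟨repIso E⟩)
  refine ⟨U, b, hxU, fun i hi => ?_⟩
  obtain ⟨e⟩ := nonempty_hd_chart (U : X.Opens) (DerSch.chartImm _ φ) (repIso E) i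
  have hz := (hb i hi).of_iso e.symm
  haveI : IsIso ((Scheme.Modules.pushforward (DerSch.chartImm (U : X.Opens) φ)).map
      (0 : (Scheme.Modules.restrictFunctor (U : X.Opens).ι).obj (DCoh.HD E i) ⟶
        (Scheme.Modules.restrictFunctor (U : X.Opens).ι).obj (DCoh.HD E i))) :=
    isIso_of_source_target_iso_zero _ hz.isoZero hz.isoZero
  haveI := isIso_of_isIso_push (DerSch.chartImm (U : X.Opens) φ)
    (0 : (Scheme.Modules.restrictFunctor (U : X.Opens).ι).obj (DCoh.HD E i) ⟶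
      (Scheme.Modules.restrictFunctor (U : X.Opens).ι).obj (DCoh.HD E i))
  exact IsZero.of_mono_zero _ ((Scheme.Modules.restrictFunctor (U : X.Opens).ι).obj (DCoh.HD E i))

/-- Relatively pseudo-coherent objects are bounded above on quasi-compact opens. -/
theorem exists_bound_of_relPC {m : ℤ} {E : DCoh.D X} (hE : DerSch.IsPseudoCoherentRel f m E)
    (W : X.Opens) (hW : IsCompact (W : Set X)) :
    ∃ b : ℤ, ∀ i, b < i → IsZero ((Scheme.Modules.restrictFunctor W.ι).obj (DCoh.HD E i)) := by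
  choose U b hxU hb using fun x => exists_bound_near_of_relPC f hE x
  obtain ⟨t, ht⟩ := hW.elim_finite_subcover (fun x : X => (U x : Set X)) (fun x => (U x).2)
    (fun x _ => Set.mem_iUnion.2 ⟨x, hxU x⟩)
  obtain ⟨B, hB⟩ := (Finset.finite_toSet (t.image b)).bddAbove
  refine ⟨B, fun i hi => isZero_of_stalk _ fun w => ?_⟩
  obtain ⟨x, hxt, hwx⟩ := Set.mem_iUnion₂.1 (ht w.2)
  have hz := hb x i (lt_of_le_of_lt (hB (Finset.mem_coe.2 (Finset.mem_image_of_mem _ hxt))) hi)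
  let z : (U x : Scheme.{u}) := ⟨W.ι w, hwx⟩
  have h1 : Subsingleton ((DerSch.stalkFunctor _ z).obj
      ((Scheme.Modules.restrictFunctor (U x).ι).obj (DCoh.HD E i))) :=
    ModuleCat.subsingleton_of_isZero ((DerSch.stalkFunctor _ z).map_isZero hz)
  have h2 : Subsingleton ((DCoh.HD E i).presheaf.stalk (W.ι w)) :=
    @Equiv.subsingleton _ _ ((Scheme.Modules.restrictStalkNatIso (U x).ι
      z).app _).addCommGroupIsoToAddEquiv.symm.toEquiv h1
  exact @ModuleCat.isZero_of_subsingleton _ _ _ (@Equiv.subsingleton _ _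
    ((Scheme.Modules.restrictStalkNatIso W.ι w).app _).addCommGroupIsoToAddEquiv.toEquiv h2)

variable [IsLocallyNoetherian Y]

/-- Relative pseudo-coherence gives coherent cohomology over a locally Noetherian base. -/
theorem isCohD_of_relPC {E : DCoh.D X} (hE : DerSch.IsPseudoCoherentRelAll f E) : DCoh.IsCohD E := by
  haveI := (hE 0).1
  haveI : IsLocallyNoetherian X := LocallyOfFiniteType.isLocallyNoetherian f
  intro i
  refine KFlatLib.isCoh_of_local fun x => ?_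
  obtain ⟨V, U, h, n, φ, hxU, hφ, hPC⟩ := exists_chartPC f (hE (i - 1)) x
  haveI := isClosedImmersion_chartImm U.2 φ hφ
  haveI : IsNoetherianRing Γ(Y, (V : Y.Opens)) := QCoh.noetherian_sections V
  haveI : IsLocallyNoetherian ((U : X.Opens) : Scheme.{u}) :=
    isLocallyNoetherian_of_isOpenImmersion (U : X.Opens).ι
  refine ⟨_, (U : X.Opens).ι, inferInstance, ⟨⟨x, hxU⟩, rfl⟩, ?_⟩
  have hq : DCoh.IsQCohD (DCoh.toD _ ((DerSch.pushCx (DerSch.chartImm (U : X.Opens) φ)).obj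
      ((DCoh.restrictCx (U : X.Opens)).obj (DerivedCategory.Q.objPreimage E)))) := fun j => by
    obtain ⟨e⟩ := nonempty_hd_chart (U : X.Opens) (DerSch.chartImm _ φ) (repIso E) j
    exact isQCoh_of_iso e.symm (QCoh.isQCoh_pushforward _
      (QCoh.isQCoh_restrict _ (isQCohD_of_relPC f hE j)))
  obtain ⟨e⟩ := nonempty_hd_chart (U : X.Opens) (DerSch.chartImm _ φ) (repIso E) i
  exact isCoh_of_push_closed (DerSch.chartImm _ φ) _
    (KFlatLib.isCoh_of_iso e (isCoh_of_locPC hq (hPC _ ⟨repIso E⟩) i (by omega)))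

/-- Coherent cohomology, bounded above on affine opens, gives relative pseudo-coherence. -/
theorem relPC_of_coh [LocallyOfFiniteType f] {E : DCoh.D X} (hc : DCoh.IsCohD E)
    (hb : ∀ U : X.affineOpens, ∃ b : ℤ, ∀ i, b < i →
      IsZero ((Scheme.Modules.restrictFunctor (U : X.Opens).ι).obj (DCoh.HD E i))) :
    DerSch.IsPseudoCoherentRelAll f E := fun m => by
  haveI : IsLocallyNoetherian X := LocallyOfFiniteType.isLocallyNoetherian f
  refine ⟨inferInstance, Set.univ, top_le_iff.1 fun y _ => ?_, fun V _ => ?_⟩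
  · obtain ⟨_, ⟨V, hV, rfl⟩, hyV, -⟩ :=
      Y.isBasis_affineOpens.exists_subset_of_mem_open (Set.mem_univ y) isOpen_univ
    exact Opens.mem_iSup.2 ⟨⟨V, hV⟩, Opens.mem_iSup.2 ⟨trivial, hyV⟩⟩
  refine ⟨{U | (U : X.Opens) ≤ f ⁻¹ᵁ (V : Y.Opens)}, le_antisymm (iSup₂_le fun U hU => hU)
    (fun x hx => ?_), fun U _ h => ?_⟩
  · obtain ⟨W, hW, hxW, hWV⟩ := exists_isAffineOpen_mem_and_subset hx
    exact Opens.mem_iSup.2 ⟨⟨W, hW⟩, Opens.mem_iSup.2 ⟨hWV, hxW⟩⟩
  have hft : (f.appLE (V : Y.Opens) (U : X.Opens) h).hom.FiniteType := f.finiteType_appLE V.2 U.2 h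
  letI := (f.appLE (V : Y.Opens) (U : X.Opens) h).hom.toAlgebra
  obtain ⟨n, ψ, hψ⟩ := (Algebra.FiniteType.iff_quotient_mvPolynomial'' (R := Γ(Y, (V : Y.Opens)))
    (S := Γ(X, (U : X.Opens)))).1 hft
  refine ⟨n, ψ.toRingHom, ⟨hψ, RingHom.ext fun r => ψ.commutes r⟩, fun G hG => ?_⟩
  obtain ⟨eG⟩ := hG
  haveI := isClosedImmersion_chartImm U.2 ψ.toRingHom hψ
  haveI : IsNoetherianRing Γ(Y, (V : Y.Opens)) := QCoh.noetherian_sections V
  let Z := Spec (CommRingCat.of (MvPolynomial (Fin n) Γ(Y, (V : Y.Opens))))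
  let P := DCoh.toD Z ((DerSch.pushCx (DerSch.chartImm (U : X.Opens) ψ.toRingHom)).obj
    ((DCoh.restrictCx (U : X.Opens)).obj G))
  have hP : ∀ i, Coh.IsCoh (DCoh.HD P i) := fun i => by
    obtain ⟨e⟩ := nonempty_hd_chart (U : X.Opens) (DerSch.chartImm _ ψ.toRingHom) eG i
    exact KFlatLib.isCoh_of_iso e.symm (QCoh.isCoh_pushforward_finite _ (KFlatLib.isCoh_restrict _ (hc i)))
  obtain ⟨b, hb⟩ := hb U
  refine (isPseudoCoherentD_iff _ _).2 (locPC_of_coh (E := P) (fun i => (hP i).1) (fun i _ => hP i) b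
    fun i hi => ?_)
  obtain ⟨e⟩ := nonempty_hd_chart (U : X.Opens) (DerSch.chartImm _ ψ.toRingHom) eG i
  exact ((Scheme.Modules.pushforward (DerSch.chartImm (U : X.Opens) ψ.toRingHom)).map_isZero (hb i hi)).of_iso e

end Groth.Agent.PushAmp
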