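import Groth.Agent.PushAmp.RelPC
import Groth.Agent.PushAmp.RelFlat
import Groth.Agent.KFlatLib.Scheme.TildePC
import Groth.Agent.KFlatLib.Scheme.TildeAmp
import Groth.Agent.QCoh.Tilde
import Groth.Agent.KFlatLib.Scheme.TildePush
import Groth.Agent.KFlatLib.Scheme.TildePull
import Groth.Agent.H9Misc.Split
import Groth.Agent.H9Misc.DRingPCModule

/-!
# The structure sheaf on a chart: relative pseudo-coherence is pseudo-coherence of a module
-/

set_option autoImplicit false
set_option linter.style.haveILetI false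
set_option backward.isDefEq.respectTransparency false
set_option backward.isDefEq.respectTransparency.types false

universe u

open CategoryTheory CategoryTheory.Limits AlgebraicGeometry TopologicalSpace

attribute [local instance] HasDerivedCategory.standard

namespace Groth.Agent.PushAmp

open Groth.Agent.KFlatLib

variable {X Y : Scheme.{u}}

lemma isIso_unitToPushforwardObjUnit_of_isIso {Z : Scheme.{u}} (g : X ⟶ Z) [IsIso g] :
    IsIso (SheafOfModules.unitToPushforwardObjUnit g.toRingCatSheafHom :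
      Coh.structureModule Z ⟶ (Scheme.Modules.pushforward g).obj (Coh.structureModule X)) := by
  refine Scheme.Modules.Hom.isIso_iff_isIso_app.2 fun U => ?_
  refine (ConcreteCategory.isIso_iff_bijective _).2 ?_
  exact (ConcreteCategory.bijective_of_isIso (g.app U))

/-- The direct image of the structure sheaf of a chart. -/
theorem nonempty_push_chart_structure {U : X.Opens} (hU : IsAffineOpen U) {R : Type u} [CommRing R]
    {n : ℕ} (φ : MvPolynomial (Fin n) R →+* Γ(X, U)) :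
    Nonempty ((Scheme.Modules.pushforward (DerSch.chartImm U φ)).obj
        ((Scheme.Modules.restrictFunctor U.ι).obj (Coh.structureModule X)) ≅
      (tilde.functor (CommRingCat.of (MvPolynomial (Fin n) R))).obj
        ((ModuleCat.restrictScalars (CommRingCat.ofHom φ).hom).obj (ModuleCat.of Γ(X, U) Γ(X, U)))) := by
  haveI : IsIso U.toSpecΓ := by rw [← hU.isoSpec_hom]; infer_instance
  haveI := isIso_unitToPushforwardObjUnit_of_isIso U.toSpecΓ
  let e₁ : (Scheme.Modules.pushforward U.toSpecΓ).obj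
        ((Scheme.Modules.restrictFunctor U.ι).obj (Coh.structureModule X)) ≅
      (tilde.functor Γ(X, U)).obj (ModuleCat.of Γ(X, U) Γ(X, U)) :=
    (Scheme.Modules.pushforward U.toSpecΓ).mapIso (restrictStructureIso U.ι) ≪≫
      (asIso (SheafOfModules.unitToPushforwardObjUnit U.toSpecΓ.toRingCatSheafHom :
        Coh.structureModule (Spec Γ(X, U)) ⟶ _)).symm ≪≫ tildeSelf.symm
  exact ⟨((Scheme.Modules.pushforwardComp U.toSpecΓ (Spec.map (CommRingCat.ofHom φ))).app _).symm ≪≫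
    (Scheme.Modules.pushforward (Spec.map (CommRingCat.ofHom φ))).mapIso e₁ ≪≫
    (pushTildeIso (CommRingCat.ofHom φ)).app (ModuleCat.of Γ(X, U) Γ(X, U))⟩

/-- On a chart, the structure sheaf is relatively pseudo-coherent iff the algebra is pseudo-coherent
as a module over the polynomial ring. -/
theorem chartPC_unit_iff {m : ℤ} {U : X.Opens} (hU : IsAffineOpen U) {V : Y.Opens}
    {n : ℕ} (φ : MvPolynomial (Fin n) Γ(Y, V) →+* Γ(X, U)) (hφ : Function.Surjective φ) :
    DerSch.ChartPC m (DCoh.toD X (DerSch.unitCx X)) U V φ ↔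
      (letI := φ.toAlgebra; DRing.IsPseudoCoherentModule (MvPolynomial (Fin n) Γ(Y, V)) m Γ(X, U)) := by
  letI := φ.toAlgebra
  haveI := isClosedImmersion_chartImm hU φ hφ
  let P := CommRingCat.of (MvPolynomial (Fin n) Γ(Y, V))
  let M : ModuleCat.{u} P := ModuleCat.of P Γ(X, U)
  haveI : PreservesFiniteLimits (tilde.functor P) := Groth.Agent.QCoh.tilde_preservesFiniteLimits
  haveI : (tilde.functor P).Additive := tilde_additive P
  obtain ⟨eM⟩ := nonempty_push_chart_structure hU φ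
  let eM' : (Scheme.Modules.pushforward (DerSch.chartImm U φ)).obj
      ((Scheme.Modules.restrictFunctor U.ι).obj (Coh.structureModule X)) ≅ (tilde.functor P).obj M :=
    eM ≪≫ (tilde.functor P).mapIso (LinearEquiv.toModuleIso
      ({ toFun := fun x => x
         invFun := fun x => x
         map_add' := fun _ _ => rfl
         map_smul' := fun _ _ => rfl
         left_inv := fun _ => rfl
         right_inv := fun _ => rfl } :
        ((ModuleCat.restrictScalars (CommRingCat.ofHom φ).hom).obj (ModuleCat.of Γ(X, U) Γ(X, U)) : Type u) ≃ₗ[P]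
          Γ(X, U)))
  let S : CochainComplex (ModuleCat.{u} P) ℤ :=
    (HomologicalComplex.single (ModuleCat.{u} P) (ComplexShape.up ℤ) 0).obj M
  have key : ∀ G : CochainComplex X.Modules ℤ, Nonempty (DCoh.toD X G ≅ DCoh.toD X (DerSch.unitCx X)) →
      Nonempty (DCoh.toD (Spec P) ((DerSch.pushCx (DerSch.chartImm U φ)).obj ((DCoh.restrictCx U).obj G)) ≅
        (DCoh.tildeD P).obj ((DerivedCategory.singleFunctor (ModuleCat.{u} P) 0).obj M)) := by
    rintro G ⟨eG⟩
    let L := DCoh.toD (Spec P) ((DerSch.pushCx (DerSch.chartImm U φ)).obj ((DCoh.restrictCx U).obj G))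
    let H := fun i => DerivedCategory.homologyFunctor (Spec P).Modules i
    have hz : ∀ i : ℤ, i ≠ 0 → IsZero ((H i).obj L) := fun i hi => by
      obtain ⟨e⟩ := nonempty_hd_chart U (DerSch.chartImm U φ) eG i
      refine IsZero.of_iso ?_ e
      exact Functor.map_isZero _ (Functor.map_isZero _
        ((ShortComplex.isZero_homology_of_isZero_X₂ _
          (HomologicalComplex.isZero_single_obj_X (ComplexShape.up ℤ) 0 _ i hi)).of_iso
          ((DerivedCategory.homologyFunctorFactors _ i).app _)))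
    haveI : L.IsLE 0 := (DerivedCategory.isLE_iff L 0).2 fun i hi => hz i (by omega)
    haveI : L.IsGE 0 := (DerivedCategory.isGE_iff L 0).2 fun i hi => hz i (by omega)
    obtain ⟨e₀⟩ := nonempty_hd_chart U (DerSch.chartImm U φ) eG 0
    obtain ⟨e₁⟩ := Groth.Agent.H9Misc.nonempty_iso_single_homology 0 L
    let e₂ : DCoh.HD (DCoh.toD X (DerSch.unitCx X)) 0 ≅ Coh.structureModule X :=
      (DerivedCategory.homologyFunctorFactors X.Modules 0).app _ ≪≫
        HomologicalComplex.singleObjHomologySelfIso (ComplexShape.up ℤ) 0 _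
    exact ⟨e₁ ≪≫ (DerivedCategory.singleFunctor (Spec P).Modules 0).mapIso
        (e₀ ≪≫ (Scheme.Modules.pushforward (DerSch.chartImm U φ)).mapIso
          ((Scheme.Modules.restrictFunctor U.ι).mapIso e₂) ≪≫ eM') ≪≫
      singleQ 0 _ ≪≫ DerivedCategory.Q.mapIso
        ((HomologicalComplex.singleMapHomologicalComplex (tilde.functor P) (ComplexShape.up ℤ) 0).app M).symm ≪≫
      (toDTildeIso S).symm ≪≫ (DCoh.tildeD P).mapIso (singleQ 0 M).symm⟩
  have hRPC : RPC (R := P) m ((DerivedCategory.singleFunctor (ModuleCat.{u} P) 0).obj M) ↔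
      DRing.IsPseudoCoherentModule (MvPolynomial (Fin n) Γ(Y, V)) m Γ(X, U) := by
    constructor
    · rintro ⟨E, α, ⟨⟨a, b, hz⟩, hf⟩, hα⟩
      exact ⟨E, a, b, α, hz, hf, hα.1, hα.2⟩
    · rintro ⟨E, a, b, α, hz, hf, hi, he⟩
      exact ⟨E, α, ⟨⟨a, b, hz⟩, hf⟩, hi, he⟩
  rw [← hRPC, ← pseudoCoherentD_tildeD_iff]
  constructor
  · intro h
    obtain ⟨e⟩ := key (DerSch.unitCx X) ⟨Iso.refl _⟩
    exact (isPseudoCoherentD_iff _ _).2 (((isPseudoCoherentD_iff _ _).1 (h (DerSch.unitCx X) ⟨Iso.refl _⟩)).of_iso e)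
  · intro h G hG
    obtain ⟨e⟩ := key G hG
    exact (isPseudoCoherentD_iff _ _).2 (((isPseudoCoherentD_iff _ _).1 h).of_iso e.symm)

variable (f : X ⟶ Y)

/-- Relative pseudo-coherence of the structure sheaf from charts on all affine pairs. -/
theorem relPC_unit_of_charts [LocallyOfFiniteType f] (m : ℤ)
    (h : ∀ (V : Y.affineOpens) (U : X.affineOpens) (e : (U : X.Opens) ≤ f ⁻¹ᵁ (V : Y.Opens)),
      ∃ (n : ℕ) (φ : MvPolynomial (Fin n) Γ(Y, (V : Y.Opens)) →+* Γ(X, (U : X.Opens))),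
        DerSch.IsChart f (U : X.Opens) (V : Y.Opens) e φ ∧
          (letI := φ.toAlgebra; DRing.IsPseudoCoherentModule (MvPolynomial (Fin n) Γ(Y, (V : Y.Opens))) m
            Γ(X, (U : X.Opens)))) :
    DerSch.IsPseudoCoherentRel f m (DCoh.toD X (DerSch.unitCx X)) := by
  refine ⟨inferInstance, Set.univ, top_le_iff.1 fun y _ => ?_, fun V _ => ?_⟩
  · obtain ⟨_, ⟨V, hV, rfl⟩, hyV, -⟩ :=
      Y.isBasis_affineOpens.exists_subset_of_mem_open (Set.mem_univ y) isOpen_univ
    exact Opens.mem_iSup.2 ⟨⟨V, hV⟩, Opens.mem_iSup.2 ⟨trivial, hyV⟩⟩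
  refine ⟨{U | (U : X.Opens) ≤ f ⁻¹ᵁ (V : Y.Opens)}, le_antisymm (iSup₂_le fun U hU => hU)
    (fun x hx => ?_), fun U _ e => ?_⟩
  · obtain ⟨W, hW, hxW, hWV⟩ := exists_isAffineOpen_mem_and_subset hx
    exact Opens.mem_iSup.2 ⟨⟨W, hW⟩, Opens.mem_iSup.2 ⟨hWV, hxW⟩⟩
  obtain ⟨n, φ, hc, hPC⟩ := h V U e
  exact ⟨n, φ, hc, (chartPC_unit_iff U.2 φ hc.1).2 hPC⟩

/-- A chart at every point from relative pseudo-coherence of the structure sheaf. -/
theorem exists_chart_unit {m : ℤ} (hE : DerSch.IsPseudoCoherentRel f m (DCoh.toD X (DerSch.unitCx X))) (x : X) :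
    ∃ (V : Y.affineOpens) (U : X.affineOpens) (e : (U : X.Opens) ≤ f ⁻¹ᵁ (V : Y.Opens)) (n : ℕ)
      (φ : MvPolynomial (Fin n) Γ(Y, (V : Y.Opens)) →+* Γ(X, (U : X.Opens))),
      x ∈ (U : X.Opens) ∧ DerSch.IsChart f (U : X.Opens) (V : Y.Opens) e φ ∧
        (letI := φ.toAlgebra; DRing.IsPseudoCoherentModule (MvPolynomial (Fin n) Γ(Y, (V : Y.Opens))) m
          Γ(X, (U : X.Opens))) := by
  obtain ⟨-, 𝒱, h𝒱, hV⟩ := hE
  obtain ⟨V, hxV⟩ := Opens.mem_iSup.1 (h𝒱.ge (show f.base x ∈ (⊤ : Y.Opens) from trivial))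
  obtain ⟨hV', hxV⟩ := Opens.mem_iSup.1 hxV
  obtain ⟨𝒰, h𝒰, hU⟩ := hV V hV'
  obtain ⟨U, hxU⟩ := Opens.mem_iSup.1 (h𝒰.ge (show x ∈ f ⁻¹ᵁ (V : Y.Opens) from hxV))
  obtain ⟨hU', hxU⟩ := Opens.mem_iSup.1 hxU
  have h : (U : X.Opens) ≤ f ⁻¹ᵁ (V : Y.Opens) := fun z hz =>
    h𝒰.le (Opens.mem_iSup.2 ⟨U, Opens.mem_iSup.2 ⟨hU', hz⟩⟩)
  obtain ⟨n, φ, hφ, hPC⟩ := hU U hU' h
  exact ⟨V, U, h, n, φ, hxU, hφ, (chartPC_unit_iff U.2 φ hφ.1).1 hPC⟩

end Groth.Agent.PushAmp
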