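import Groth.Agent.PushAmp.ChartTower
import Groth.Agent.PushAmp.RelPC
import Groth.Agent.KFlatLib.Perfect.Retract
import Groth.Agent.KFlatLib.BrutalTrunc
import Groth.Agent.S6214

/-!
# Triangles, shifts, summands and devissage for relative pseudo-coherence
-/

set_option autoImplicit false
set_option linter.style.haveILetI false
set_option backward.isDefEq.respectTransparency false

universe u

open CategoryTheory CategoryTheory.Limits AlgebraicGeometry TopologicalSpace Pretriangulated

attribute [local instance] HasDerivedCategory.standard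

namespace Groth.Agent.PushAmp

open Groth.Agent.KFlatLib

variable {X S : Scheme.{u}} (f : X ⟶ S)

/-- Flat morphisms locally of finite presentation are pseudo-coherent. -/
theorem npc_of_flat {T : Scheme.{u}} (g : T ⟶ S) [Flat g] [LocallyOfFinitePresentation g] (m : ℤ) :
    DerSch.IsNPseudoCoherent g m :=
  ((Groth.Agent.S6214.result g).2 ⟨inferInstance, inferInstance⟩).1 m

/-- Vanishing at and above the level. -/
theorem relPC_of_isZero [LocallyOfFiniteType f] (m : ℤ) (E : DCoh.D X)
    (h : ∀ i, m ≤ i → IsZero (DCoh.HD E i)) : DerSch.IsPseudoCoherentRel f m E := by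
  refine relPC_of_cpc f fun {_} _ {U} hU _ {_} φ hφ => ?_
  haveI := isClosedImmersion_imm hU φ hφ.1
  refine (cpc_iff φ).2 (locPC_of_isZero m _ fun i hi => ?_)
  obtain ⟨e⟩ := nonempty_hd_pushD (imm U φ) ((rho U.ι).obj E) i
  exact (Functor.map_isZero _ (isZero_hd_rho U.ι (h i hi))).of_iso e

/-- The middle object of a triangle. -/
theorem relPC_obj₂ {m : ℤ} (T : Triangle (DCoh.D X)) (hT : T ∈ distinguishedTriangles)
    (h₁ : DerSch.IsPseudoCoherentRel f m T.obj₁) (h₃ : DerSch.IsPseudoCoherentRel f m T.obj₃) :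
    DerSch.IsPseudoCoherentRel f m T.obj₂ := by
  haveI := h₁.1
  refine relPC_of_cpc f fun {_} hV {U} hU hle {_} φ hφ => ?_
  haveI := isClosedImmersion_imm hU φ hφ.1
  refine (cpc_iff φ).2 ?_
  have k₁ := (cpc_iff φ).1 (relPC_cpc f h₁ hV hU hle φ hφ)
  have k₃ := (cpc_iff φ).1 (relPC_cpc f h₃ hV hU hle φ hφ)
  exact (locPC_two_of_three m _ ((pushD (imm U φ)).map_distinguished _
    ((rho U.ι).map_distinguished T hT))).2.1 k₁ k₃

/-- Shifts. -/
theorem relPC_shift {m : ℤ} {E : DCoh.D X} (n : ℤ) (h : DerSch.IsPseudoCoherentRel f m E) :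
    DerSch.IsPseudoCoherentRel f (m - n) (E⟦n⟧) := by
  haveI := h.1
  refine relPC_of_cpc f fun {_} hV {U} hU hle {_} φ hφ => ?_
  haveI := isClosedImmersion_imm hU φ hφ.1
  refine (cpc_iff φ).2 ?_
  exact ((relPC_cpc f h hV hU hle φ hφ |> (cpc_iff φ).1).shift n).of_iso
    (((pushD (imm U φ)).commShiftIso n).app _ ).symm |>.of_iso
      ((pushD (imm U φ)).mapIso (((rho U.ι).commShiftIso n).app E)).symm

/-- Direct summands. -/
theorem relPC_summand {m : ℤ} (E K : DCoh.D X) [HasBinaryBiproduct E K]
    (h : DerSch.IsPseudoCoherentRel f m (E ⊞ K)) :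
    DerSch.IsPseudoCoherentRel f m E ∧ DerSch.IsPseudoCoherentRel f m K := by
  haveI := h.1
  have key : ∀ {V : S.Opens}, IsAffineOpen V → ∀ {U : X.Opens}, IsAffineOpen U → ∀ (hle : U ≤ f ⁻¹ᵁ V) {n : ℕ}
      (φ : MvPolynomial (Fin n) Γ(S, V) →+* Γ(X, U)), DerSch.IsChart f U V hle φ →
      CPC m E U φ ∧ CPC m K U φ := by
    intro V hV U hU hle n φ hφ
    haveI := isClosedImmersion_imm hU φ hφ.1
    let G := rho U.ι ⋙ pushD (imm U φ)
    haveI := preservesBinaryBiproducts_of_preservesBiproducts G
    rw [cpc_iff, cpc_iff]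
    exact locPC_summand m _ _ (((cpc_iff φ).1 (relPC_cpc f h hV hU hle φ hφ)).of_iso (G.mapBiprod E K))
  exact ⟨relPC_of_cpc f fun hV _ hU hle _ φ hφ => (key hV hU hle φ hφ).1,
    relPC_of_cpc f fun hV _ hU hle _ φ hφ => (key hV hU hle φ hφ).2⟩

/-- An object concentrated in one degree. -/
theorem relPC_concentrated {m b : ℤ} {E : DCoh.D X} [E.IsGE b] [E.IsLE b]
    (h : DerSch.IsPseudoCoherentRel f (m - b) (DCoh.inD X (DCoh.HD E b))) :
    DerSch.IsPseudoCoherentRel f m E := by
  obtain ⟨M, ⟨e⟩⟩ := DerivedCategory.exists_iso_singleFunctor_obj_of_isGE_of_isLE E b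
  let es : E ≅ (DCoh.inD X M)⟦(-b : ℤ)⟧ :=
    e ≪≫ (((DerivedCategory.singleFunctors X.Modules).shiftIso (-b) b 0 (by omega)).app M).symm
  have hM : DCoh.HD E b ≅ M := (DerivedCategory.homologyFunctor X.Modules b).mapIso e ≪≫
    (DerivedCategory.singleFunctorCompHomologyFunctorIso X.Modules b).app M
  have h' := relPC_shift f (-b) (relPC_of_iso f ((DerivedCategory.singleFunctor X.Modules 0).mapIso hM) h)
  rw [show m - b - -b = m by ring] at h'
  exact relPC_of_iso f es.symm h'

/-- Devissage along cohomology. -/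
theorem relPC_of_homology [LocallyOfFiniteType f] (m : ℤ) : ∀ (d : ℕ) (E : DCoh.D X), E.IsLE (m - 1 + d) →
    (∀ i, DerSch.IsPseudoCoherentRel f (m - i) (DCoh.inD X (DCoh.HD E i))) →
    DerSch.IsPseudoCoherentRel f m E := by
  intro d
  induction d with
  | zero =>
    intro E hle _
    haveI : E.IsLE (m - 1) := by simpa using hle
    exact relPC_of_isZero f m E fun i hi => DerivedCategory.isZero_of_isLE E (m - 1) i (by omega)
  | succ d ih =>
    intro E hle h
    haveI := hle
    let b : ℤ := m + d
    haveI : E.IsLE b := DerivedCategory.TStructure.t.isLE_of_le _ (m - 1 + (d + 1 : ℕ)) _ (by omega)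
    let t : Triangulated.TStructure (DCoh.D X) := DerivedCategory.TStructure.t
    let T := (t.triangleLTGE b).obj E
    have hT : T ∈ distTriang _ := t.triangleLTGE_distinguished _ E
    haveI h₁le : T.obj₁.IsLE (b - 1) := t.isLE_truncLT_obj E _ _ (by omega)
    haveI h₃ge : T.obj₃.IsGE b := t.isGE_truncGE_obj E _ _ le_rfl
    haveI h₃le : T.obj₃.IsLE b := by
      rw [DerivedCategory.isLE_iff]
      intro i hi
      exact (DerivedCategory.HomologySequence.exact₃ T hT i (i + 1) rfl).isZero_X₂
        ((DerivedCategory.isZero_of_isLE E b i hi).eq_of_src _ _)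
        ((DerivedCategory.isZero_of_isLE T.obj₁ (b - 1) (i + 1) (by omega)).eq_of_tgt _ _)
    refine relPC_obj₂ f T hT (ih T.obj₁ (DerivedCategory.TStructure.t.isLE_of_le _ (b - 1) _ (by omega))
      fun i => ?_) (relPC_concentrated f (b := b) ?_)
    · by_cases hi : i ≤ b - 1
      · haveI : Epi ((DerivedCategory.homologyFunctor X.Modules i).map T.mor₁) :=
          (DerivedCategory.HomologySequence.exact₂ T hT i).epi_f
            ((DerivedCategory.isZero_of_isGE T.obj₃ b i (by omega)).eq_of_tgt _ _)
        haveI : Mono ((DerivedCategory.homologyFunctor X.Modules i).map T.mor₁) :=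
          (DerivedCategory.HomologySequence.exact₁ T hT (i - 1) i (by omega)).mono_g
            ((DerivedCategory.isZero_of_isGE T.obj₃ b (i - 1) (by omega)).eq_of_src _ _)
        haveI := isIso_of_mono_of_epi ((DerivedCategory.homologyFunctor X.Modules i).map T.mor₁)
        exact relPC_of_iso f ((DerivedCategory.singleFunctor X.Modules 0).mapIso
          (asIso ((DerivedCategory.homologyFunctor X.Modules i).map T.mor₁)).symm) (h i)
      · refine relPC_of_isZero f _ _ fun j _ => ?_
        have hz : IsZero (DCoh.inD X (DCoh.HD T.obj₁ i)) :=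
          Functor.map_isZero _ (DerivedCategory.isZero_of_isLE T.obj₁ (b - 1) i (by omega))
        exact Functor.map_isZero _ hz
    · haveI : Mono ((DerivedCategory.homologyFunctor X.Modules b).map T.mor₂) :=
        (DerivedCategory.HomologySequence.exact₂ T hT b).mono_g
          ((DerivedCategory.isZero_of_isLE T.obj₁ (b - 1) b (by omega)).eq_of_src _ _)
      haveI : Epi ((DerivedCategory.homologyFunctor X.Modules b).map T.mor₂) :=
        (DerivedCategory.HomologySequence.exact₃ T hT b (b + 1) rfl).epi_f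
          ((DerivedCategory.isZero_of_isLE T.obj₁ (b - 1) (b + 1) (by omega)).eq_of_tgt _ _)
      haveI := isIso_of_mono_of_epi ((DerivedCategory.homologyFunctor X.Modules b).map T.mor₂)
      exact relPC_of_iso f ((DerivedCategory.singleFunctor X.Modules 0).mapIso
        (asIso ((DerivedCategory.homologyFunctor X.Modules b).map T.mor₂))) (h b)

/-- Devissage along the terms. -/
theorem relPC_of_terms [LocallyOfFiniteType f] (m : ℤ) : ∀ (d : ℕ) (F : CochainComplex X.Modules ℤ),
    (∀ i, m - 1 + d < i → IsZero (F.X i)) →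
    (∀ i, DerSch.IsPseudoCoherentRel f (m - i) (DCoh.inD X (F.X i))) →
    DerSch.IsPseudoCoherentRel f m (DCoh.toD X F) := by
  intro d
  induction d with
  | zero =>
    intro F hz _
    exact relPC_of_isZero f m _ fun i hi => (ShortComplex.isZero_homology_of_isZero_X₂ _
      (hz i (by simpa using by omega))).of_iso ((DerivedCategory.homologyFunctorFactors _ i).app F)
  | succ d ih =>
    intro F hz h
    let b : ℤ := m + d
    let S' := sigmaSES F b
    have hS : S'.ShortExact := sigmaSES_shortExact F b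
    let T := DerivedCategory.triangleOfSES hS
    have hT : T ∈ distTriang _ := DerivedCategory.triangleOfSES_distinguished hS
    haveI := isStrictlyLE_sigmaSES_X₃ F b
    have h₁z : ∀ i, i ≠ b → IsZero (S'.X₁.X i) := fun i hi => by
      rcases lt_or_gt_of_ne hi with hlt | hgt
      · exact isZero_stupidTrunc_of_lt F b i hlt
      · haveI := isIso_sigmaGEι_f F b i hgt.le
        exact (hz i (by push_cast; omega)).of_iso (asIso ((sigmaGEι F b).f i))
    have hhd : ∀ i, IsZero (S'.X₁.X i) → IsZero (DCoh.HD T.obj₁ i) := fun i hi =>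
      (ShortComplex.isZero_homology_of_isZero_X₂ _ hi).of_iso ((DerivedCategory.homologyFunctorFactors _ i).app S'.X₁)
    haveI : T.obj₁.IsGE b := (DerivedCategory.isGE_iff _ _).2 fun i hi => hhd i (h₁z i (by omega))
    haveI : T.obj₁.IsLE b := (DerivedCategory.isLE_iff _ _).2 fun i hi => hhd i (h₁z i (by omega))
    refine relPC_obj₂ f T hT (relPC_concentrated f (b := b) ?_) (ih S'.X₃ (fun i hi => ?_) fun i => ?_)
    · haveI := isIso_sigmaGEι_f F b b le_rfl
      have he : DCoh.HD T.obj₁ b ≅ F.X b :=
        (DerivedCategory.homologyFunctorFactors X.Modules b).app S'.X₁ ≪≫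
          (ShortComplex.HomologyData.ofZeros (S'.X₁.sc b)
            ((h₁z _ (by simp)).eq_of_src _ _)
            ((h₁z _ (by simp)).eq_of_tgt _ _)).left.homologyIso ≪≫
          asIso ((sigmaGEι F b).f b)
      exact relPC_of_iso f ((DerivedCategory.singleFunctor X.Modules 0).mapIso he.symm) (h b)
    · exact S'.X₃.isZero_of_isStrictlyLE (b - 1) i (by omega)
    · by_cases hi : i < b
      · obtain ⟨e⟩ := nonempty_sigmaSES_X₃_iso F b i hi
        exact relPC_of_iso f ((DerivedCategory.singleFunctor X.Modules 0).mapIso e) (h i)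
      · exact relPC_of_isZero f _ _ fun j _ => Functor.map_isZero _
          (Functor.map_isZero (DerivedCategory.singleFunctor X.Modules 0)
            (S'.X₃.isZero_of_isStrictlyLE (b - 1) i (by omega)))

end Groth.Agent.PushAmp
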