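import Groth.Agent.PushAmp.ClosedBaseChange
import Groth.Agent.PushAmp.ChartClosed
import Groth.Agent.PushAmp.RelPCBaseChange
import Groth.Agent.PushAmp.RelPCMisc
import Groth.Agent.KFlatLib.Scheme.FlatDescent

/-!
# Flat base change of relative pseudo-coherence, for arbitrary objects
-/

set_option autoImplicit false
set_option linter.style.haveILetI false
set_option backward.isDefEq.respectTransparency false
set_option backward.isDefEq.respectTransparency.types false

universe u

open CategoryTheory CategoryTheory.Limits AlgebraicGeometry TopologicalSpace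

attribute [local instance] HasDerivedCategory.standard

namespace Groth.Agent.PushAmp

open Groth.Agent.KFlatLib

variable {X Y X' Y' : Scheme.{u}}

/-- Pullback along a flat morphism is exact. -/
theorem preservesFiniteLimits_pullback_flat (q : X ⟶ Y) [Flat q] :
    PreservesFiniteLimits (Scheme.Modules.pullback q) := by
  haveI : (Scheme.Modules.pullback q).PreservesHomology := preservesHomology_pullback q
  exact (Scheme.Modules.pullback q).preservesFiniteLimits_of_preservesHomology

/-- Along a flat morphism derived pullback is pullback. -/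
theorem nonempty_lpull_flat (q : X ⟶ Y) [Flat q] [PreservesFiniteLimits (Scheme.Modules.pullback q)]
    [DCoh.HasLpull q] {E : DCoh.D Y} {C : CochainComplex Y.Modules ℤ} (e : DerivedCategory.Q.obj C ≅ E) :
    Nonempty ((DCoh.Lpull q).obj E ≅ DerivedCategory.Q.obj ((pullCx q).obj C)) := by
  haveI : PreservesFiniteColimits (Scheme.Modules.pullback q) :=
    ⟨fun _ _ _ => (Scheme.Modules.pullbackPushforwardAdjunction q).leftAdjoint_preservesColimits.preservesColimitsOfShape⟩
  obtain ⟨R, hR, ⟨eR⟩⟩ := exists_kFlat_rep E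
  let F := (Scheme.Modules.pullback q).mapDerivedCategoryFactors
  exact ⟨(DCoh.Lpull q).mapIso eR.symm ≪≫ lpullIso q hR ≪≫ (F.app R).symm ≪≫
    (Scheme.Modules.pullback q).mapDerivedCategory.mapIso (eR ≪≫ e.symm) ≪≫ F.app C⟩

/-- Flat base change of relative pseudo-coherence. -/
theorem relPC_lpull_baseChange_all {f : X ⟶ Y} {f' : X' ⟶ Y'} {g : X' ⟶ X} {h : Y' ⟶ Y}
    [Flat h] [LocallyOfFiniteType f'] (H : IsPullback g f' f h) [DCoh.HasLpull g] {m : ℤ} {E : DCoh.D X}
    (hE : DerSch.IsPseudoCoherentRel f m E) :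
    DerSch.IsPseudoCoherentRel f' m ((DCoh.Lpull g).obj E) := by
  refine relPC_of_local _ fun z => ?_
  haveI := hE.1
  obtain ⟨V, hV, hxV, -⟩ :=
    exists_isAffineOpen_mem_and_subset (x := f.base (g.base z)) (U := (⊤ : Y.Opens)) trivial
  obtain ⟨U, hU, hxU, hUV⟩ := exists_isAffineOpen_mem_and_subset (x := g.base z) (U := f ⁻¹ᵁ V) hxV
  obtain ⟨n, φ, hφ⟩ := exists_chart f hV hU hUV
  haveI := isClosedImmersion_imm hU φ hφ.1
  let EU := (rho U.ι).obj E
  have hPC : LocPC m ((pushD (imm U φ)).obj EU) := (cpc_iff φ).1 (relPC_cpc f hE hV hU hUV φ hφ)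
  let P := Spec (CommRingCat.of (MvPolynomial (Fin n) Γ(Y, V)))
  let C := CommRingCat.ofHom (MvPolynomial.C : Γ(Y, V) →+* MvPolynomial (Fin n) Γ(Y, V))
  haveI : Flat (Spec.map C) :=
    (HasRingHomProperty.Spec_iff (P := @Flat)).2
      ((RingHom.flat_algebraMap_iff (R := Γ(Y, V)) (S := MvPolynomial (Fin n) Γ(Y, V))).2 inferInstance)
  haveI : LocallyOfFinitePresentation (Spec.map C) :=
    (HasRingHomProperty.Spec_iff (P := @LocallyOfFinitePresentation)).2
      ((RingHom.finitePresentation_algebraMap (A := Γ(Y, V)) (B := MvPolynomial (Fin n) Γ(Y, V))).2 inferInstance)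
  let π : P ⟶ Y := Spec.map C ≫ hV.fromSpec
  have hi : imm U φ ≫ π = U.ι ≫ f := by
    show (U.toSpecΓ ≫ Spec.map (CommRingCat.ofHom φ)) ≫ Spec.map C ≫ hV.fromSpec = _
    rw [Category.assoc, ← Spec.map_comp_assoc]
    have : C ≫ CommRingCat.ofHom φ = f.appLE V U hUV := CommRingCat.hom_ext hφ.2
    rw [this, hV.SpecMap_appLE_fromSpec f hU hUV, IsAffineOpen.toSpecΓ_fromSpec_assoc]
  let q : pullback π h ⟶ P := pullback.fst π h
  let π' : pullback π h ⟶ Y' := pullback.snd π h
  let T := pullback (imm U φ) q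
  let q' : T ⟶ (U : Scheme.{u}) := pullback.fst (imm U φ) q
  let s : T ⟶ pullback π h := pullback.snd (imm U φ) q
  have sq : IsPullback q' s (imm U φ) q := IsPullback.of_hasPullback _ _
  have big : IsPullback q' (s ≫ π') (U.ι ≫ f) h := hi ▸ sq.paste_vert (IsPullback.of_hasPullback π h)
  let j : T ⟶ X' := H.lift (q' ≫ U.ι) (s ≫ π') (by rw [Category.assoc, big.w])
  have hj₁ : j ≫ g = q' ≫ U.ι := H.lift_fst _ _ _
  have hj₂ : j ≫ f' = s ≫ π' := H.lift_snd _ _ _
  have hjU : IsPullback q' j U.ι g := IsPullback.of_bot (hj₂ ▸ big) hj₁.symm H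
  haveI : IsOpenImmersion j := MorphismProperty.of_isPullback (P := @IsOpenImmersion) hjU inferInstance
  haveI : IsClosedImmersion s := MorphismProperty.of_isPullback (P := @IsClosedImmersion) sq inferInstance
  haveI : Flat q := inferInstance
  haveI : Flat q' := MorphismProperty.of_isPullback (P := @Flat) sq.flip inferInstance
  haveI := hasLpull q
  haveI := hasLpull q'
  haveI := hasLpull j
  haveI := hasLpull U.ι
  haveI := hasLpull (j ≫ g)
  haveI := hasLpull (q' ≫ U.ι)
  haveI := preservesFiniteLimits_pullback_flat q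
  haveI := preservesFiniteLimits_pullback_flat q'
  -- the two sides
  let R := DerivedCategory.Q.objPreimage EU
  obtain ⟨eq'⟩ := nonempty_lpull_flat q' (repIso EU)
  obtain ⟨eq⟩ := nonempty_lpull_flat q
    (((pushDQ (imm U φ)).app R).symm ≪≫ (pushD (imm U φ)).mapIso (repIso EU))
  obtain ⟨bc⟩ := nonempty_pullback_push_closed (imm U φ) q q' s sq
  haveI : (Scheme.Modules.pullback q).Additive := inferInstance
  let ec : (pullCx q).obj (((Scheme.Modules.pushforward (imm U φ)).mapHomologicalComplex (ComplexShape.up ℤ)).obj R) ≅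
      ((Scheme.Modules.pushforward s).mapHomologicalComplex (ComplexShape.up ℤ)).obj ((pullCx q').obj R) :=
    HomologicalComplex.Hom.isoOfComponents (fun k => bc.app (R.X k))
      (fun a b _ => (bc.hom.naturality (R.d a b)).symm)
  obtain ⟨c₁⟩ := nonempty_lpull_comp j g
  obtain ⟨c₂⟩ := nonempty_lpull_comp q' U.ι
  obtain ⟨e₁⟩ := nonempty_rho_lpull j ((DCoh.Lpull g).obj E)
  obtain ⟨e₂⟩ := nonempty_rho_lpull U.ι E
  let eL : (rho j).obj ((DCoh.Lpull g).obj E) ≅ (DCoh.Lpull q').obj EU :=
    e₁ ≪≫ c₁.app E ≪≫ eqToIso (by congr 1; simp only [hj₁]) ≪≫ (c₂.app E).symm ≪≫ (DCoh.Lpull q').mapIso e₂.symm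
  let eP : (DCoh.Lpull q).obj ((pushD (imm U φ)).obj EU) ≅ (pushD s).obj ((rho j).obj ((DCoh.Lpull g).obj E)) :=
    eq ≪≫ DerivedCategory.Q.mapIso ec ≪≫ ((pushDQ s).app _).symm ≪≫ (pushD s).mapIso (eq'.symm ≪≫ eL.symm)
  haveI : Flat π := inferInstance
  haveI : LocallyOfFinitePresentation π := inferInstance
  haveI : Flat π' := inferInstance
  haveI : LocallyOfFinitePresentation π' := inferInstance
  have h' : LocPC m ((pushD s).obj ((rho j).obj ((DCoh.Lpull g).obj E))) :=
    ((isPseudoCoherentD_iff m _).1 (isPseudoCoherentD_lpull q ((isPseudoCoherentD_iff m _).2 hPC))).of_iso eP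
  have h'' := (relPC_push_iff s π' m _).1 ((locPC_iff_relPC π' (npc_of_flat π') m _).1 h')
  rw [← hj₂] at h''
  obtain ⟨t, -, ht⟩ := Scheme.exists_preimage_of_isPullback hjU (⟨g.base z, hxU⟩ : (U : Scheme.{u})) z rfl
  exact ht ▸ exists_cpa_of_restrict j f' h'' t

end Groth.Agent.PushAmp
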