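import Groth.Agent.FTDescent.Quotient
import Groth.Agent.PushAmp.RelPCBaseChangeAll
import Groth.Agent.KFlatLib.Scheme.FlatDescent
import Groth.Agent.KFlatLib.Perfect.Basic

/-!
# Descent of pseudo-coherence along faithfully flat morphisms, for arbitrary objects
-/

set_option autoImplicit false
set_option linter.style.haveILetI false
set_option backward.isDefEq.respectTransparency false
set_option backward.isDefEq.respectTransparency.types false

universe u

open CategoryTheory CategoryTheory.Limits AlgebraicGeometry TopologicalSpace Pretriangulated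

attribute [local instance] HasDerivedCategory.standard

namespace Groth.Agent.PushAmp

open Groth.Agent.KFlatLib

variable {X Y : Scheme.{u}}

instance preservesFiniteLimits_pullback_of_flat (f : X ⟶ Y) [Flat f] :
    PreservesFiniteLimits (Scheme.Modules.pullback f) := preservesFiniteLimits_pullback_flat f

instance preservesFiniteColimits_pullback_mod (f : X ⟶ Y) :
    PreservesFiniteColimits (Scheme.Modules.pullback f) :=
  ⟨fun _ _ _ => (Scheme.Modules.pullbackPushforwardAdjunction f).leftAdjoint_preservesColimits.preservesColimitsOfShape⟩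

/-- The inverse image along a flat morphism on derived categories. -/
noncomputable abbrev pullD (f : X ⟶ Y) [Flat f] : DCoh.D Y ⥤ DCoh.D X :=
  (Scheme.Modules.pullback f).mapDerivedCategory

variable (f : X ⟶ Y) [Flat f]

/-- It computes the derived inverse image. -/
theorem nonempty_lpull_pullD [DCoh.HasLpull f] (M : DCoh.D Y) :
    Nonempty ((DCoh.Lpull f).obj M ≅ (pullD f).obj M) := by
  obtain ⟨e⟩ := nonempty_lpull_flat f (repIso M)
  exact ⟨e ≪≫ ((Scheme.Modules.pullback f).mapDerivedCategoryFactors.app _).symm ≪≫ (pullD f).mapIso (repIso M)⟩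

/-- Cohomology of the inverse image. -/
theorem nonempty_hd_pullD (M : DCoh.D Y) (i : ℤ) :
    Nonempty (DCoh.HD ((pullD f).obj M) i ≅ (Scheme.Modules.pullback f).obj (DCoh.HD M i)) :=
  ⟨(DerivedCategory.homologyFunctor X.Modules i).mapIso ((pullD f).mapIso (repIso M).symm ≪≫
      (Scheme.Modules.pullback f).mapDerivedCategoryFactors.app _) ≪≫
    (DerivedCategory.homologyFunctorFactors X.Modules i).app _ ≪≫
    ((DerivedCategory.Q.objPreimage M).sc i).mapHomologyIso (Scheme.Modules.pullback f) ≪≫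
    (Scheme.Modules.pullback f).mapIso (((DerivedCategory.homologyFunctorFactors Y.Modules i).app _).symm ≪≫
      (DerivedCategory.homologyFunctor Y.Modules i).mapIso (repIso M))⟩

/-- Inverse images preserve pseudo-coherence. -/
theorem locPC_pullD {m : ℤ} {M : DCoh.D Y} (h : LocPC m M) : LocPC m ((pullD f).obj M) := by
  haveI := hasLpull f
  obtain ⟨e⟩ := nonempty_lpull_pullD f M
  exact ((isPseudoCoherentD_iff m _).1 (isPseudoCoherentD_lpull f ((isPseudoCoherentD_iff m _).2 h))).of_iso e

/-- Compatibility with restriction to open subschemes. -/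
theorem nonempty_rho_pullD {U V : Scheme.{u}} (i : U ⟶ X) [IsOpenImmersion i] (j : V ⟶ Y) [IsOpenImmersion j]
    (g : U ⟶ V) [Flat g] (w : i ≫ f = g ≫ j) (M : DCoh.D Y) :
    Nonempty ((rho i).obj ((pullD f).obj M) ≅ (pullD g).obj ((rho j).obj M)) := by
  haveI := hasLpull f
  haveI := hasLpull i
  haveI := hasLpull g
  haveI := hasLpull j
  haveI := hasLpull (i ≫ f)
  haveI := hasLpull (g ≫ j)
  obtain ⟨e₁⟩ := nonempty_rho_lpull i ((pullD f).obj M)
  obtain ⟨e₂⟩ := nonempty_lpull_pullD f M
  obtain ⟨c₁⟩ := nonempty_lpull_comp i f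
  obtain ⟨c₂⟩ := nonempty_lpull_comp g j
  obtain ⟨e₃⟩ := nonempty_rho_lpull j M
  obtain ⟨e₄⟩ := nonempty_lpull_pullD g ((rho j).obj M)
  exact ⟨e₁ ≪≫ (DCoh.Lpull i).mapIso e₂.symm ≪≫ c₁.app M ≪≫ eqToIso (by congr 1; simp only [w]) ≪≫
    (c₂.app M).symm ≪≫ (DCoh.Lpull g).mapIso e₃.symm ≪≫ e₄⟩

/-- Descent for objects bounded by `m + k`. -/
theorem locPC_of_pullD_bounded : ∀ (k : ℕ) {X Y : Scheme.{u}} (f : X ⟶ Y) [Flat f] [Surjective f] [QuasiCompact f]
    (m : ℤ) (M : DCoh.D Y), (∀ i, m + k ≤ i → IsZero (DCoh.HD M i)) →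
    LocPC m ((pullD f).obj M) → LocPC m M := by
  intro k
  induction k with
  | zero =>
    intro X Y f _ _ _ m M hz _
    exact locPC_of_isZero_above fun i hi => hz i (by omega)
  | succ k ih =>
    intro X Y f _ _ _ m M hz hM
    let b : ℤ := m + k
    have hzb : ∀ i, b < i → IsZero (DCoh.HD M i) := fun i hi => hz i (by omega)
    obtain ⟨eb⟩ := nonempty_hd_pullD f M b
    have hFT : CohB1.IsFT (DCoh.HD M b) :=
      FTDescent.isFiniteType_of_pullback_quotient f (Flat.isQuotientMap_of_surjective f) _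
        (isFT_of_iso' eb (isFT_top (hM.mono (by omega)) fun i hi => by
          obtain ⟨e⟩ := nonempty_hd_pullD f M i
          exact (Functor.map_isZero _ (hzb i hi)).of_iso e))
    refine LocPC.of_local fun x => ?_
    obtain ⟨U, n, φ, hxU, hφ⟩ := exists_free_top hzb hFT x
    refine ⟨_, U.ι, inferInstance, ⟨⟨x, hxU⟩, rfl⟩, ?_⟩
    let g := f ∣_ U
    haveI : Flat g := MorphismProperty.of_isPullback (P := @Flat) (isPullback_morphismRestrict f U).flip inferInstance
    haveI : Surjective g :=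
      MorphismProperty.of_isPullback (P := @Surjective) (isPullback_morphismRestrict f U).flip inferInstance
    haveI : QuasiCompact g :=
      MorphismProperty.of_isPullback (P := @QuasiCompact) (isPullback_morphismRestrict f U).flip inferInstance
    obtain ⟨eN⟩ := nonempty_rho_pullD f (f ⁻¹ᵁ U).ι U.ι g (morphismRestrict_ι f U).symm M
    have hN : LocPC m ((pullD g).obj ((rho U.ι).obj M)) := (hM.restrict (f ⁻¹ᵁ U).ι).of_iso eN
    let A := (DCoh.inD (U : Scheme.{u}) (FlatMod.freeMod _ n))⟦-b⟧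
    obtain ⟨M', u, δ, hT⟩ := distinguished_cocone_triangle φ
    let H := DerivedCategory.homologyFunctor (U : Scheme.{u}).Modules
    have hzA : ∀ i, i ≠ b → IsZero ((H i).obj A) := fun i hi =>
      ((ShortComplex.isZero_homology_of_isZero_X₂ _
        (HomologicalComplex.isZero_single_obj_X (ComplexShape.up ℤ) b _ i hi)).of_iso
        ((DerivedCategory.homologyFunctorFactors _ i).app _)).of_iso
        ((H i).mapIso ((((DerivedCategory.singleFunctors _).shiftIso (-b) b 0 (by omega)).app _) ≪≫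
          singleQ b _))
    have hz' : ∀ i, m + k ≤ i → IsZero ((H i).obj M') := fun i hi => by
      haveI : Epi ((H i).map u) :=
        (DerivedCategory.HomologySequence.exact₃ _ hT i (i + 1) rfl).epi_f
          ((hzA (i + 1) (by omega)).eq_of_tgt _ _)
      refine IsZero.of_epi_eq_zero ((H i).map u) ?_
      rcases eq_or_lt_of_le hi with h | h
      · obtain rfl : b = i := h
        haveI := hφ.2
        refine (cancel_epi ((H b).map φ)).1 ?_
        rw [← Functor.map_comp]
        exact ((congrArg (H b).map (comp_distTriang_mor_zero₁₂ _ hT)).trans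
          (Functor.map_zero _ _ _)).trans comp_zero.symm
      · exact (isZero_hd_rho _ (hz i (by omega))).eq_of_src _ _
    have hA : ∀ m' : ℤ, LocPC m' A := fun m' => by
      have := (locPC_free (X := (U : Scheme.{u})) n (m' - b)).shift (-b)
      rwa [show m' - b - -b = m' by omega] at this
    have hT' := (pullD g).map_distinguished _ hT
    have hM' : LocPC m M' := ih g m M' hz' ((locPC_two_of_three m _ hT').1 (locPC_pullD g (hA _)) hN)
    exact (locPC_two_of_three m _ hT).2.1 (hA m) hM'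

/-- Pseudo-coherence descends along flat surjective quasi-compact morphisms. -/
theorem locPC_of_pullD [Surjective f] [QuasiCompact f] {m : ℤ} {M : DCoh.D Y}
    (h : LocPC m ((pullD f).obj M)) : LocPC m M := by
  refine LocPC.of_local fun y => ?_
  obtain ⟨V, hV, hyV, -⟩ := exists_isAffineOpen_mem_and_subset (X := Y) (x := y) (U := ⊤) trivial
  refine ⟨_, V.ι, inferInstance, ⟨⟨y, hyV⟩, rfl⟩, ?_⟩
  let g := f ∣_ V
  haveI : Flat g := MorphismProperty.of_isPullback (P := @Flat) (isPullback_morphismRestrict f V).flip inferInstance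
  haveI : Surjective g :=
    MorphismProperty.of_isPullback (P := @Surjective) (isPullback_morphismRestrict f V).flip inferInstance
  haveI : QuasiCompact g :=
    MorphismProperty.of_isPullback (P := @QuasiCompact) (isPullback_morphismRestrict f V).flip inferInstance
  haveI : CompactSpace (f ⁻¹ᵁ V : X.Opens) :=
    isCompact_iff_compactSpace.mp (f.isCompact_preimage hV.isCompact)
  obtain ⟨eN⟩ := nonempty_rho_pullD f (f ⁻¹ᵁ V).ι V.ι g (morphismRestrict_ι f V).symm M
  have hN : LocPC m ((pullD g).obj ((rho V.ι).obj M)) := (h.restrict (f ⁻¹ᵁ V).ι).of_iso eN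
  obtain ⟨b, hb⟩ := exists_bound_of_locPC hN
  refine locPC_of_pullD_bounded (b + 1 - m).toNat g m _ (fun i hi => ?_) hN
  obtain ⟨e⟩ := nonempty_hd_pullD g ((rho V.ι).obj M) i
  exact isZero_of_isZero_pullback g _ ((hb i (by omega)).of_iso e.symm)

/-- Every point has a quasi-compact flat surjection above a neighbourhood, under an fppf cover. -/
theorem exists_qc_local [LocallyOfFinitePresentation f] [Surjective f] (y : Y) :
    ∃ (V : Y.Opens) (T : X.Opens) (g : (T : Scheme.{u}) ⟶ V) (_ : Flat g) (_ : Surjective g) (_ : QuasiCompact g),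
      y ∈ V ∧ T.ι ≫ f = g ≫ V.ι := by
  obtain ⟨x, rfl⟩ := f.surjective y
  obtain ⟨V₀, hV₀, hxV₀, -⟩ := exists_isAffineOpen_mem_and_subset (X := Y) (x := f.base x) (U := ⊤) trivial
  obtain ⟨W₀, hW₀, hxW₀, hle⟩ := exists_isAffineOpen_mem_and_subset (x := x) (U := f ⁻¹ᵁ V₀) hxV₀
  let q := f.resLE V₀ W₀ hle
  haveI : Flat q := by dsimp only [q, Scheme.Hom.resLE]; infer_instance
  haveI : LocallyOfFinitePresentation q := by dsimp only [q, Scheme.Hom.resLE]; infer_instance
  haveI : IsAffine V₀.toScheme := hV₀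
  haveI : IsAffine W₀.toScheme := hW₀
  let O : V₀.toScheme.Opens := ⟨Set.range q, (Scheme.Hom.isOpenMap q).isOpen_range⟩
  obtain ⟨D, hD, hxD, hDO⟩ := exists_isAffineOpen_mem_and_subset (X := V₀.toScheme) (x := ⟨f.base x, hxV₀⟩) (U := O)
    ⟨⟨x, hxW₀⟩, V₀.ι.isOpenEmbedding.injective (by
      rw [← Scheme.Hom.comp_apply, Scheme.Hom.resLE_comp_ι]; rfl)⟩
  haveI : IsAffine D.toScheme := hD
  haveI : IsAffine (q ⁻¹ᵁ D).toScheme := hD.preimage q
  haveI : Surjective (q ∣_ D) := ⟨fun z => by
    obtain ⟨w, hw⟩ := hDO z.2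
    refine ⟨⟨w, show q w ∈ D from hw ▸ z.2⟩, D.ι.isOpenEmbedding.injective ?_⟩
    rw [← Scheme.Hom.comp_apply, morphismRestrict_ι, Scheme.Hom.comp_apply]
    exact hw⟩
  let iT := W₀.ι.isoImage (q ⁻¹ᵁ D)
  let iV := V₀.ι.isoImage D
  refine ⟨V₀.ι ''ᵁ D, W₀.ι ''ᵁ (q ⁻¹ᵁ D), iT.inv ≫ (q ∣_ D) ≫ iV.hom, inferInstance, inferInstance, inferInstance,
    ⟨⟨f.base x, hxV₀⟩, hxD, rfl⟩, ?_⟩
  simp only [iT, iV, q, Category.assoc, Scheme.Hom.isoImage_hom_ι, morphismRestrict_ι_assoc,
    Scheme.Hom.resLE_comp_ι, Scheme.Hom.isoImage_inv_ι_assoc]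

/-- Pseudo-coherence descends along fppf morphisms. -/
theorem locPC_of_pullD_fppf [LocallyOfFinitePresentation f] [Surjective f] {m : ℤ} {M : DCoh.D Y}
    (h : LocPC m ((pullD f).obj M)) : LocPC m M := by
  refine LocPC.of_local fun y => ?_
  obtain ⟨V, T, g, hg, hs, hq, hyV, w⟩ := exists_qc_local f y
  refine ⟨_, V.ι, inferInstance, ⟨⟨y, hyV⟩, rfl⟩, ?_⟩
  haveI := hg; haveI := hs; haveI := hq
  obtain ⟨e⟩ := nonempty_rho_pullD f T.ι V.ι g w M
  exact locPC_of_pullD g ((h.restrict T.ι).of_iso e)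

end Groth.Agent.PushAmp
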