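import Groth.Agent.PushAmp.ChartTilde
import Groth.Agent.H9Misc.DRingRelPC2
import Groth.Agent.QCoh.Filtration

/-!
# Relative pseudo-coherence through rings, and finite morphisms
-/

set_option autoImplicit false
set_option linter.style.haveILetI false
set_option backward.isDefEq.respectTransparency false
set_option backward.isDefEq.respectTransparency.types false

universe u

open CategoryTheory CategoryTheory.Limits AlgebraicGeometry TopologicalSpace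

attribute [local instance] HasDerivedCategory.standard

namespace Groth.Agent.PushAmp

open Groth.Agent.KFlatLib Groth.Agent.H9Misc

variable {X Y S : Scheme.{u}}

/-- The chart test is relative pseudo-coherence of the module complex. -/
theorem cpc_iff_ring (f : X ⟶ S) {m : ℤ} {E : DCoh.D X} {V : S.Opens} {U : X.Opens} (hU : IsAffineOpen U)
    (h : U ≤ f ⁻¹ᵁ V) {n : ℕ} (φ : MvPolynomial (Fin n) Γ(S, V) →+* Γ(X, U)) (hφ : DerSch.IsChart f U V h φ)
    (Mc : DRing.Cx Γ(X, U))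
    (eM : DCoh.toD (Spec Γ(X, U)) (((tilde.functor Γ(X, U)).mapHomologicalComplex (ComplexShape.up ℤ)).obj Mc) ≅
      (rho hU.isoSpec.inv).obj ((rho U.ι).obj E)) :
    letI := (f.appLE V U h).hom.toAlgebra
    CPC m E U φ ↔ DerCA.IsRelPseudoCoherent Γ(S, V) Γ(X, U) m (DRing.toD Mc) := by
  letI := (f.appLE V U h).hom.toAlgebra
  let α : MvPolynomial (Fin n) Γ(S, V) →ₐ[Γ(S, V)] Γ(X, U) :=
    { φ with commutes' := fun r => RingHom.congr_fun hφ.2 r }
  rw [cpc_module_iff hU φ hφ.1 Mc eM, DRingRelPC.iff_via α hφ.1]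
  exact ⟨DRingPC.of_iso ((((ModuleCat.restrictScalars.{u} φ).mapDerivedCategoryFactors).app Mc).symm),
    DRingPC.of_iso (((ModuleCat.restrictScalars.{u} φ).mapDerivedCategoryFactors).app Mc)⟩

/-- The direct image along an affine morphism, through modules. -/
theorem nonempty_rpush_module_rep (f : X ⟶ Y) [IsAffineHom f] [DCoh.HasRpush f] {V : Y.Opens}
    (hV : IsAffineOpen V) {E : DCoh.D X} (Mc : DRing.Cx Γ(X, f ⁻¹ᵁ V))
    (eM : DCoh.toD (Spec Γ(X, f ⁻¹ᵁ V)) (((tilde.functor Γ(X, f ⁻¹ᵁ V)).mapHomologicalComplex (ComplexShape.up ℤ)).obj Mc) ≅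
      (rho (hV.preimage f).isoSpec.inv).obj ((rho (f ⁻¹ᵁ V).ι).obj E)) :
    Nonempty (DCoh.toD (Spec Γ(Y, V)) (((tilde.functor Γ(Y, V)).mapHomologicalComplex (ComplexShape.up ℤ)).obj
        ((DRing.restrictCx (f.appLE V (f ⁻¹ᵁ V) le_rfl).hom).obj Mc)) ≅
      (rho hV.isoSpec.inv).obj ((rho V.ι).obj ((DCoh.Rpush f).obj E))) := by
  let A := Γ(Y, V)
  let B := Γ(X, f ⁻¹ᵁ V)
  let g := f.appLE V (f ⁻¹ᵁ V) le_rfl
  let θU := (hV.preimage f).isoSpec
  let θV := hV.isoSpec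
  let f' := f ∣_ V
  haveI : IsAffineHom f' := IsZariskiLocalAtTarget.restrict (P := @IsAffineHom) inferInstance V
  haveI := KFlatLib.hasRpush_scheme f'
  let E' := (rho (f ⁻¹ᵁ V).ι).obj E
  let Fc := ((tilde.functor B).mapHomologicalComplex (ComplexShape.up ℤ)).obj Mc
  let FU := (rCx θU.hom).obj Fc
  let eU : DerivedCategory.Q.obj FU ≅ E' :=
    ((rhoQ θU.hom).app Fc).symm ≪≫ (rho θU.hom).mapIso eM ≪≫
      rhoComp θU.hom θU.inv _ rfl E' ≪≫ rhoIdIso (θU.hom ≫ θU.inv) θU.hom_inv_id E'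
  have hFq : ∀ n, Coh.IsQCoh (FU.X n) := fun n =>
    QCoh.isQCoh_restrict _ (QCoh.isQCoh_spec_iff.2 ⟨Mc.X n, ⟨Iso.refl _⟩⟩)
  haveI := isIso_unit_of_isAffineHom f' FU hFq
  let qU := HomotopyCategory.quotient (f ⁻¹ᵁ V : Scheme.{u}).Modules (ComplexShape.up ℤ)
  let ePush : (DCoh.Rpush f').obj E' ≅
      DerivedCategory.Q.obj (((Scheme.Modules.pushforward f').mapHomologicalComplex (ComplexShape.up ℤ)).obj FU) :=
    (DCoh.Rpush f').mapIso (eU.symm ≪≫ ((DerivedCategory.quotientCompQhIso _).app FU).symm) ≪≫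
      (asIso (((DCoh.pushKh f').totalRightDerivedUnit DerivedCategory.Qh
        (HomotopyCategory.quasiIso (f ⁻¹ᵁ V : Scheme.{u}).Modules (ComplexShape.up ℤ))).app (qU.obj FU))).symm ≪≫
      DerivedCategory.Qh.mapIso
        (((Scheme.Modules.pushforward f').mapHomotopyCategoryFactors (ComplexShape.up ℤ)).app FU) ≪≫
      (DerivedCategory.quotientCompQhIso _).app _
  obtain ⟨φ⟩ := nonempty_tilde_push_iso f hV
  let Nc := ((ModuleCat.restrictScalars.{u} g.hom).mapHomologicalComplex (ComplexShape.up ℤ)).obj Mc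
  let ec : ((Scheme.Modules.pushforward f').mapHomologicalComplex (ComplexShape.up ℤ)).obj FU ≅
      (rCx θV.hom).obj (((tilde.functor A).mapHomologicalComplex (ComplexShape.up ℤ)).obj Nc) :=
    HomologicalComplex.Hom.isoOfComponents (fun n => φ.app (Mc.X n))
      (fun i j _ => (φ.hom.naturality (Mc.d i j)).symm)
  obtain ⟨er⟩ := nonempty_rpush_restrictD_iso f V
  let eV : (rho V.ι).obj ((DCoh.Rpush f).obj E) ≅
      (rho θV.hom).obj (DCoh.toD (Spec A) (((tilde.functor A).mapHomologicalComplex (ComplexShape.up ℤ)).obj Nc)) :=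
    er.app E ≪≫ ePush ≪≫ DerivedCategory.Q.mapIso ec ≪≫ ((rhoQ θV.hom).app _).symm
  exact ⟨((rho θV.inv).mapIso eV ≪≫ rhoComp θV.inv θV.hom _ rfl _ ≪≫
    rhoIdIso (θV.inv ≫ θV.hom) θV.inv_hom_id _).symm⟩

/-- Relative pseudo-coherence and finite morphisms. -/
theorem relPC_rpush_finite_iff (p : X ⟶ S) (q : Y ⟶ S) [LocallyOfFiniteType p] [LocallyOfFiniteType q]
    (π : X ⟶ Y) [IsFinite π] (w : π ≫ q = p) [DCoh.HasRpush π] (m : ℤ) (E : DCoh.D X) (hE : DCoh.IsQCohD E) :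
    DerSch.IsPseudoCoherentRel p m E ↔ DerSch.IsPseudoCoherentRel q m ((DCoh.Rpush π).obj E) := by
  subst w
  have key : ∀ {V : S.Opens}, IsAffineOpen V → ∀ {U : Y.Opens}, IsAffineOpen U → ∀ (h : U ≤ q ⁻¹ᵁ V)
      {n k : ℕ} (φ : MvPolynomial (Fin n) Γ(S, V) →+* Γ(Y, U)), DerSch.IsChart q U V h φ →
      ∀ (ψ : MvPolynomial (Fin k) Γ(S, V) →+* Γ(X, π ⁻¹ᵁ U)),
        DerSch.IsChart (π ≫ q) (π ⁻¹ᵁ U) V (π.preimage_mono h) ψ →
        (CPC m E (π ⁻¹ᵁ U) ψ ↔ CPC m ((DCoh.Rpush π).obj E) U φ) := by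
    intro V hV U hU h n k φ hφ ψ hψ
    obtain ⟨Mc, ⟨eM⟩⟩ := exists_module_rep hE (hU.preimage π)
    obtain ⟨eN⟩ := nonempty_rpush_module_rep π hU Mc eM
    letI := (q.appLE V U h).hom.toAlgebra
    letI := ((π ≫ q).appLE V (π ⁻¹ᵁ U) (π.preimage_mono h)).hom.toAlgebra
    letI := (π.appLE U (π ⁻¹ᵁ U) le_rfl).hom.toAlgebra
    haveI : IsScalarTower Γ(S, V) Γ(Y, U) Γ(X, π ⁻¹ᵁ U) := IsScalarTower.of_algebraMap_eq'
      (show ((π ≫ q).appLE V (π ⁻¹ᵁ U) (π.preimage_mono h)).hom =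
          (π.appLE U (π ⁻¹ᵁ U) le_rfl).hom.comp (q.appLE V U h).hom by
        rw [← CommRingCat.hom_comp, Scheme.Hom.appLE_comp_appLE])
    haveI : Module.Finite Γ(Y, U) Γ(X, π ⁻¹ᵁ U) := by
      have := π.finite_app U hU
      rw [Scheme.Hom.app_eq_appLE] at this
      exact this
    haveI : Algebra.FiniteType Γ(S, V) Γ(Y, U) := q.finiteType_appLE hV hU h
    rw [cpc_iff_ring (π ≫ q) (hU.preimage π) _ ψ hψ Mc eM, cpc_iff_ring q hU h φ hφ _ eN,
      DRingRelPC.finite_iff (A := Γ(Y, U)) (DRing.toD Mc) m]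
    let e := (ModuleCat.restrictScalars.{u} (π.appLE U (π ⁻¹ᵁ U) le_rfl).hom).mapDerivedCategoryFactors.app Mc
    exact ⟨fun ⟨n, α, hα, h'⟩ => ⟨n, α, hα, DRingPC.of_iso ((DRing.restrictD _).mapIso e) h'⟩,
      fun ⟨n, α, hα, h'⟩ => ⟨n, α, hα, DRingPC.of_iso ((DRing.restrictD _).mapIso e).symm h'⟩⟩
  constructor
  · intro hp
    refine relPC_of_cpc q fun {V} hV {U} hU h {n} φ hφ => ?_
    obtain ⟨k, ψ, hψ⟩ := exists_chart (π ≫ q) hV (hU.preimage π) (π.preimage_mono h)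
    exact (key hV hU h φ hφ ψ hψ).1 (relPC_cpc _ hp hV (hU.preimage π) _ ψ hψ)
  · intro hq
    refine relPC_of_local _ fun x => ?_
    obtain ⟨V, hV, hxV, -⟩ :=
      exists_isAffineOpen_mem_and_subset (x := q.base (π.base x)) (U := (⊤ : S.Opens)) trivial
    obtain ⟨U, hU, hxU, hUV⟩ := exists_isAffineOpen_mem_and_subset (x := π.base x) (U := q ⁻¹ᵁ V) hxV
    obtain ⟨n, φ, hφ⟩ := exists_chart q hV hU hUV
    obtain ⟨k, ψ, hψ⟩ := exists_chart (π ≫ q) hV (hU.preimage π) (π.preimage_mono hUV)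
    exact ⟨⟨V, hV⟩, ⟨_, hU.preimage π⟩, π.preimage_mono hUV, hxU, k, ψ, hψ.1, hψ.2,
      (key hV hU hUV φ hφ ψ hψ).2 (relPC_cpc _ hq hV hU hUV φ hφ)⟩

end Groth.Agent.PushAmp
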