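import Groth.Agent.PushAmp.RelPCMisc
import Groth.Agent.PushAmp.RelPCFinite
import Groth.Agent.RelFP.Perm
import Groth.Agent.QCoh.LocFree
import Groth.Agent.S7021

/-!
# Relative pseudo-coherence of a single module
-/

set_option autoImplicit false
set_option linter.style.haveILetI false
set_option backward.isDefEq.respectTransparency false
set_option backward.isDefEq.respectTransparency.types false

universe u

open CategoryTheory CategoryTheory.Limits AlgebraicGeometry TopologicalSpace Opposite Pretriangulated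

attribute [local instance] HasDerivedCategory.standard

namespace Groth.Agent.PushAmp

open Groth.Agent.KFlatLib Groth.Agent.H9Misc

variable {X S : Scheme.{u}} (f : X ⟶ S)

/-- The chart test for a quasi-coherent module. -/
theorem cpc_inD_iff {m : ℤ} {M : X.Modules} (hM : Coh.IsQCoh M) {V : S.Opens} {U : X.Opens}
    (hU : IsAffineOpen U) (h : U ≤ f ⁻¹ᵁ V) {n : ℕ} (φ : MvPolynomial (Fin n) Γ(S, V) →+* Γ(X, U))
    (hφ : DerSch.IsChart f U V h φ) :
    letI := (f.appLE V U h).hom.toAlgebra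
    CPC m (DCoh.inD X M) U φ ↔ DerCA.IsRelPseudoCoherentModule Γ(S, V) Γ(X, U) m Γ(M, U) := by
  letI := (f.appLE V U h).hom.toAlgebra
  let R := Γ(X, U)
  haveI : (tilde.functor R).Additive := tilde_additive R
  let N : ModuleCat.{u} R := ModuleCat.of R Γ(M, U)
  haveI : IsIso (M.restrict hU.fromSpec).fromTildeΓ :=
    (isQuasicoherent_iff_isIso_fromTildeΓ _).1 (QCoh.isQCoh_restrict hU.fromSpec hM)
  let eT : M.restrict hU.fromSpec ≅ tilde N := (asIso (M.restrict hU.fromSpec).fromTildeΓ).symm ≪≫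
    ((tilde.functor R).mapIso (QCoh.chartEquiv hU M).toModuleIso).symm
  let Mc : DRing.Cx R := (HomologicalComplex.single (ModuleCat.{u} R) (ComplexShape.up ℤ) 0).obj N
  let eM : DCoh.toD (Spec R) (((tilde.functor R).mapHomologicalComplex (ComplexShape.up ℤ)).obj Mc) ≅
      (rho hU.isoSpec.inv).obj ((rho U.ι).obj (DCoh.inD X M)) :=
    DerivedCategory.Q.mapIso ((HomologicalComplex.singleMapHomologicalComplex (tilde.functor R) (ComplexShape.up ℤ) 0).app N) ≪≫
      singleQ 0 _ ≪≫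
      (DerivedCategory.singleFunctor _ 0).mapIso eT.symm ≪≫ (rhoInDIso hU.fromSpec M).symm ≪≫
      (rhoComp hU.isoSpec.inv U.ι hU.fromSpec rfl (DCoh.inD X M)).symm
  rw [cpc_iff_ring f hU h φ hφ Mc eM]
  let e : DRing.toD Mc ≅ Dual.inD R N :=
    ((DerivedCategory.singleFunctorIsoCompQ (ModuleCat.{u} R) 0).app N).symm
  exact ⟨fun ⟨n, α, hα, h'⟩ => ⟨n, α, hα, DRingPC.of_iso ((DRing.restrictD _).mapIso e) h'⟩,
    fun ⟨n, α, hα, h'⟩ => ⟨n, α, hα, DRingPC.of_iso ((DRing.restrictD _).mapIso e).symm h'⟩⟩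

/-- The third object of a triangle. -/
theorem relPC_obj₃ {m : ℤ} (T : Triangle (DCoh.D X)) (hT : T ∈ distinguishedTriangles)
    (h₁ : DerSch.IsPseudoCoherentRel f (m + 1) T.obj₁) (h₂ : DerSch.IsPseudoCoherentRel f m T.obj₂) :
    DerSch.IsPseudoCoherentRel f m T.obj₃ := by
  haveI := h₂.1
  refine relPC_of_cpc f fun {_} hV {U} hU hle {_} φ hφ => ?_
  haveI := isClosedImmersion_imm hU φ hφ.1
  refine (cpc_iff φ).2 ?_
  have k₁ := (cpc_iff φ).1 (relPC_cpc f h₁ hV hU hle φ hφ)
  have k₂ := (cpc_iff φ).1 (relPC_cpc f h₂ hV hU hle φ hφ)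
  exact (locPC_two_of_three m _ ((pushD (imm U φ)).map_distinguished _
    ((rho U.ι).map_distinguished T hT))).1 k₁ k₂

/-- A single module sits in degree zero. -/
theorem isZero_hd_inD (M : X.Modules) {i : ℤ} (hi : i ≠ 0) : IsZero (DCoh.HD (DCoh.inD X M) i) :=
  hd_single_isZero M i hi

/-- Single modules are pseudo-coherent in positive levels. -/
theorem relPC_inD_of_pos [LocallyOfFiniteType f] (M : X.Modules) {m : ℤ} (hm : 0 < m) :
    DerSch.IsPseudoCoherentRel f m (DCoh.inD X M) :=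
  relPC_of_isZero f m _ fun i hi => isZero_hd_inD M (by omega)

/-- Finite free modules. -/
theorem relPC_zero_free [LocallyOfFiniteType f] (n : ℕ) :
    DerSch.IsPseudoCoherentRel f 0 (DCoh.inD X (FlatMod.freeMod X n)) := by
  have hq : Coh.IsQCoh (FlatMod.freeMod X n) := QCoh.isQCoh_of_isFinLocFree (isFinLocFree_freeMod n)
  have hft : CohB1.IsFT (FlatMod.freeMod X n) := isFT_of_epi_free fun x =>
    ⟨⊤, n, ((Scheme.Modules.restrictFunctorIsoPullback (⊤ : X.Opens).ι).app _ ≪≫ pullFreeIso (⊤ : X.Opens).ι n).inv,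
      trivial, inferInstance⟩
  refine relPC_of_cpc f fun {V} hV {U} hU h {k} φ hφ => (cpc_inD_iff f hq hU h φ hφ).2 ?_
  letI := (f.appLE V U h).hom.toAlgebra
  haveI : Algebra.FiniteType Γ(S, V) Γ(X, U) := f.finiteType_appLE hV hU h
  let α : MvPolynomial (Fin k) Γ(S, V) →ₐ[Γ(S, V)] Γ(X, U) :=
    { φ with commutes' := fun r => RingHom.congr_fun hφ.2 r }
  exact (Groth.Agent.S7021.result α hφ.1 _).1.2 (QCoh.finite_of_isFT hq hft hU)

/-- Generators on the source of an open immersion generate on its range. -/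
theorem exists_epi_free_range {W : Scheme.{u}} (j : W ⟶ X) [IsOpenImmersion j] (M : X.Modules) (k : ℕ)
    (p : FlatMod.freeMod W k ⟶ (Scheme.Modules.restrictFunctor j).obj M) [Epi p] :
    ∃ q : FlatMod.freeMod (j.opensRange : Scheme.{u}) k ⟶ M.restrict j.opensRange.ι, Epi q := by
  let i := rangeHom j
  let eF : (Scheme.Modules.restrictFunctor i).obj (FlatMod.freeMod W k) ≅ FlatMod.freeMod (j.opensRange : Scheme.{u}) k :=
    (Scheme.Modules.restrictFunctorIsoPullback i).app _ ≪≫ pullFreeIso i k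
  let eW : (Scheme.Modules.restrictFunctor i).obj ((Scheme.Modules.restrictFunctor j).obj M) ≅ M.restrict j.opensRange.ι :=
    (Scheme.Modules.restrictFunctorComp i j).symm.app M ≪≫
      (Scheme.Modules.restrictFunctorCongr (rangeHom_fac j)).app M
  exact ⟨eF.inv ≫ (Scheme.Modules.restrictFunctor i).map p ≫ eW.hom,
    epi_comp' inferInstance (epi_comp' inferInstance inferInstance)⟩

/-- Finite type is level zero. -/
theorem relPC_zero_iff [LocallyOfFiniteType f] (M : X.Modules) :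
    DerSch.IsPseudoCoherentRel f 0 (DCoh.inD X M) ↔ CohB1.IsFT M := by
  constructor
  · intro hE
    refine isFT_of_epi_free fun x => ?_
    obtain ⟨V, U, h, n, φ, hxU, hφ, hPC⟩ := exists_chartPC f hE x
    haveI := isClosedImmersion_chartImm U.2 φ hφ
    let s := DerSch.chartImm (U : X.Opens) φ
    obtain ⟨e⟩ := nonempty_hd_chart (U : X.Opens) s (repIso (DCoh.inD X M)) 0
    have hft := isFT_of_iso' e (isFT_top (hPC _ ⟨repIso _⟩) fun i hi => by
      obtain ⟨e'⟩ := nonempty_hd_chart (U : X.Opens) s (repIso (DCoh.inD X M)) i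
      exact (Functor.map_isZero _ (Functor.map_isZero _ (isZero_hd_inD M (by omega)))).of_iso e')
    have hft' : CohB1.IsFT ((Scheme.Modules.restrictFunctor (U : X.Opens).ι).obj M) :=
      isFT_of_iso' ((Scheme.Modules.restrictFunctor (U : X.Opens).ι).mapIso (hdSingleIso M))
        (isFT_of_push_closed (s := s) _ hft)
    obtain ⟨W, k, p, hxW, hp⟩ := exists_epi_free_of_isFT hft' ⟨x, hxU⟩
    haveI := hp
    let eC := (Scheme.Modules.restrictFunctorComp W.ι (U : X.Opens).ι).app M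
    haveI : Epi (p ≫ eC.inv) := epi_comp' hp inferInstance
    obtain ⟨q, hq⟩ := exists_epi_free_range (W.ι ≫ (U : X.Opens).ι) M k (p ≫ eC.inv)
    exact ⟨_, k, q, ⟨⟨⟨x, hxU⟩, hxW⟩, rfl⟩, hq⟩
  · intro hft
    refine relPC_of_local f fun x => ?_
    obtain ⟨W, n, p, hxW, hp⟩ := exists_epi_free_of_isFT hft x
    haveI := hp
    let E := ShortComplex.mk (kernel.ι p) p (kernel.condition p)
    have hE : E.ShortExact :=
      { exact := ShortComplex.exact_of_f_is_kernel _ (kernelIsKernel p) }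
    have hT := hE.singleTriangle_distinguished
    have h₃ := relPC_obj₃ (W.ι ≫ f) _ hT (relPC_inD_of_pos _ _ (by omega)) (relPC_zero_free _ n)
    exact exists_cpa_of_restrict W.ι f (relPC_of_iso _ (rhoInDIso W.ι M).symm h₃) ⟨x, hxW⟩

/-- Finite presentation relative to the base is level minus one. -/
theorem relPC_neg_one_iff [LocallyOfFiniteType f] (M : X.Modules) :
    DerSch.IsPseudoCoherentRel f (-1) (DCoh.inD X M) ↔ (Coh.IsQCoh M ∧ Flatn.IsRelFP f M) := by
  constructor
  · intro hE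
    have hq : Coh.IsQCoh M := isQCoh_of_iso (hdSingleIso M) (isQCoh_hd_of_relPC f hE 0 (by omega))
    refine ⟨hq, RelFP.isRelFP_of_forall fun U V h => ?_⟩
    obtain ⟨n, φ, hφ⟩ := exists_chart f V.2 U.2 h
    letI := (f.appLE (V : S.Opens) (U : X.Opens) h).hom.toAlgebra
    haveI : Algebra.FiniteType Γ(S, (V : S.Opens)) Γ(X, (U : X.Opens)) := f.finiteType_appLE V.2 U.2 h
    let α : MvPolynomial (Fin n) Γ(S, (V : S.Opens)) →ₐ[Γ(S, (V : S.Opens))] Γ(X, (U : X.Opens)) :=
      { φ with commutes' := fun r => RingHom.congr_fun hφ.2 r }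
    exact ⟨n, α, hφ.1, (Groth.Agent.S7021.result α hφ.1 _).2.1
      ((cpc_inD_iff f hq U.2 h φ hφ).1 (relPC_cpc f hE V.2 U.2 h φ hφ))⟩
  · rintro ⟨hq, hP⟩
    refine relPC_of_cpc f fun {V} hV {U} hU h {k} φ hφ => (cpc_inD_iff f hq hU h φ hφ).2 ?_
    letI := (f.appLE V U h).hom.toAlgebra
    haveI : Algebra.FiniteType Γ(S, V) Γ(X, U) := f.finiteType_appLE hV hU h
    obtain ⟨n, α, hα, hfp⟩ := RelFP.relFPOn_of_isRelFP (hF := hq) hP ⟨U, hU⟩ ⟨V, hV⟩ h
    exact (Groth.Agent.S7021.result α hα _).2.2 hfp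

end Groth.Agent.PushAmp
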