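import Groth.Agent.PushAmp.TensorPerfect
import Groth.Agent.PushAmp.PCFlatDescent
import Groth.Agent.KFlatLib.Scheme.CohD
import Groth.Agent.KFlatLib.Scheme.QCohDerived
import Groth.Agent.QCoh.RpushStalk
import Groth.Agent.S0910
import Groth.Agent.PushAmp.RelPCModule

/-!
# Derived tensor products of pseudo-coherent objects, and coherent cohomology
-/

set_option autoImplicit false
set_option linter.style.haveILetI false
set_option backward.isDefEq.respectTransparency false
set_option backward.isDefEq.respectTransparency.types false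

universe u

open CategoryTheory CategoryTheory.Limits AlgebraicGeometry CategoryTheory.Pretriangulated

attribute [local instance] HasDerivedCategory.standard

namespace Groth.Agent.PushAmp

open Groth.Agent.KFlatLib

variable {X : Scheme.{u}}

/-- An approximation of `M` gives one of its tensor product with a pseudo-coherent object. -/
theorem locPC_ltensor_approx (P : CochainComplex X.Modules ℤ) [DCoh.HasLTensorCx P]
    (hP : ∀ m, LocPC m (DCoh.toD X P)) (b : ℤ) [(DCoh.toD X P).IsLE b]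
    (Q : CochainComplex X.Modules ℤ) (hQ : DCoh.IsStrictlyPerfect Q) (m : ℤ) {M : DCoh.D X}
    (α : DCoh.toD X Q ⟶ M) (hα : IsPcMap (m - b - 1) α) :
    LocPC m ((DCoh.LTensorCx P).obj M) := by
  obtain ⟨C, g, d, hT⟩ := CategoryTheory.Pretriangulated.distinguished_cocone_triangle α
  have hC : ∀ i, m - b - 1 ≤ i → IsZero (DCoh.HD C i) := Groth.Agent.DQGen.isZero_obj₃_of_isPcMap hT hα
  haveI : C.IsLE (m - b - 2) := (DerivedCategory.isLE_iff C _).2 fun i hi => hC i (by omega)
  obtain ⟨T', hT', ⟨e₁⟩, ⟨e₂⟩, ⟨e₃⟩⟩ := exists_ltensor_triangle P _ hT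
  have hQ1 : DCoh.IsPerfect ((DCoh.toD X Q)⟦(1 : ℤ)⟧) :=
    (isPerfect_iff _).2 (((isPerfect_iff _).1 (isPerfect_of_strict hQ)).shift 1)
  have h3 : LocPC (m - 1) T'.obj₃ := (locPC_ltensor_perfect P _ hQ1 hP (m - 1)).of_iso e₃.symm
  have h2 : LocPC (m - 1) T'.obj₂ :=
    (locPC_of_isZero_above fun i hi => isZero_hd_ltensor P b C (m - b - 2) i (by omega)).of_iso e₂.symm
  have h1 := (locPC_two_of_three (m - 1) _ hT').2.2 (h2.mono (by omega)) h3
  rw [show m - 1 + 1 = m by omega] at h1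
  exact h1.of_iso e₁

/-- Derived tensor products of pseudo-coherent objects are pseudo-coherent. -/
theorem locPC_ltensor_locPC (M : CochainComplex X.Modules ℤ) [DCoh.HasLTensorCx M] (K : DCoh.D X)
    (hM : ∀ m, LocPC m (DCoh.toD X M)) (hK : ∀ m, LocPC m K) (m : ℤ) :
    LocPC m ((DCoh.LTensorCx M).obj K) := by
  refine LocPC.of_local fun x => ?_
  obtain ⟨U, hU, hxU, -⟩ := exists_isAffineOpen_mem_and_subset (x := x) (U := ⊤) trivial
  let j : (U : Scheme.{u}) ⟶ X := U.ι
  haveI : IsAffine (U : Scheme.{u}) := hU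
  obtain ⟨b, hb⟩ := exists_bound_of_locPC ((hM 0).restrict j)
  obtain ⟨U', i, _, ⟨w, hw⟩, Q, α, hQ, hα⟩ := ((hK (m - b - 1)).restrict j) ⟨x, hxU⟩
  refine ⟨U', i ≫ j, inferInstance, ⟨w, by
    change j.base (i.base w) = x
    rw [hw]; rfl⟩, ?_⟩
  let M' := (rCx (i ≫ j)).obj M
  haveI := hasLTensorCx M'
  let eM : DCoh.toD U' M' ≅ (rho (i ≫ j)).obj (DCoh.toD X M) := ((rhoQ (i ≫ j)).app M).symm
  haveI : (DCoh.toD U' M').IsLE b := (DerivedCategory.isLE_iff _ b).2 fun n hn =>
    (((Scheme.Modules.restrictFunctor i).map_isZero (hb n hn)).of_iso (restrictHDIso i _ n)).of_iso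
      ((DerivedCategory.homologyFunctor _ n).mapIso (eM ≪≫ (rhoComp i j (i ≫ j) rfl _).symm))
  obtain ⟨t⟩ := nonempty_rho_ltensor (i ≫ j) M K M' eM
  exact ((locPC_ltensor_approx M' (fun k => ((hM k).restrict (i ≫ j)).of_iso eM.symm) b Q hQ m α hα).of_iso
    ((DCoh.LTensorCx M').mapIso (rhoComp i j (i ≫ j) rfl K) ≪≫ t.symm))

/-- Inverse images of coherent modules are coherent. -/
theorem isCoh_pullback {Y : Scheme.{u}} (f : X ⟶ Y) {G : Y.Modules} (hG : Coh.IsCoh G) :
    Coh.IsCoh ((Scheme.Modules.pullback f).obj G) :=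
  ⟨QCoh.isQCoh_pullback f hG.1, QCoh.isFT_pullback f hG.1 hG.2⟩

/-- Coherent cohomology and boundedness above give pseudo-coherence. -/
theorem locPC_of_isCohD [IsLocallyNoetherian X] {K : DCoh.D X} (hK : DCoh.IsCohD K) (b : ℤ)
    (hb : ∀ i, b < i → IsZero (DCoh.HD K i)) (m : ℤ) : LocPC m K :=
  locPC_of_coh (isCohD_isQCohD hK) (fun i _ => hK i) b hb

/-- Pseudo-coherent objects have coherent cohomology. -/
theorem isCohD_ltensor_lpull [IsLocallyNoetherian X] {Y : Scheme.{u}} [IsLocallyNoetherian Y] (p : X ⟶ Y)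
    [DCoh.HasLpull p] (F : DCoh.D Y) (hF : DCoh.IsCohD F) (a : ℤ) (ha : ∀ i, a < i → IsZero (DCoh.HD F i))
    (M : CochainComplex X.Modules ℤ) [DCoh.HasLTensorCx M] (hM : DCoh.IsCohD (DCoh.toD X M)) (b : ℤ)
    (hb : ∀ i, b < i → IsZero (DCoh.HD (DCoh.toD X M) i)) :
    DCoh.IsCohD ((DCoh.LTensorCx M).obj ((DCoh.Lpull p).obj F)) := by
  have hp : ∀ m, LocPC m ((DCoh.Lpull p).obj F) := fun m =>
    (isPseudoCoherentD_iff m _).1
      (isPseudoCoherentD_lpull p ((isPseudoCoherentD_iff m _).2 (locPC_of_isCohD hF a ha m)))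
  have h : ∀ m, LocPC m ((DCoh.LTensorCx M).obj ((DCoh.Lpull p).obj F)) :=
    locPC_ltensor_locPC M _ (locPC_of_isCohD hM b hb) hp
  have hq : DCoh.IsQCohD ((DCoh.LTensorCx M).obj ((DCoh.Lpull p).obj F)) :=
    isQCohD_ltensor M (isCohD_isQCohD hM) (isQCohD_lpull p (isCohD_isQCohD hF))
  exact fun i => isCoh_of_locPC hq (h i) i le_rfl

end Groth.Agent.PushAmp

namespace Groth.Agent.PushAmp

open Groth.Agent.KFlatLib

variable {X : Scheme.{u}}

/-- A module in degree zero has coherent cohomology when it is coherent. -/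
theorem isCohD_inD [IsLocallyNoetherian X] {F : X.Modules} (hF : Coh.IsCoh F) : DCoh.IsCohD (DCoh.inD X F) := by
  intro i
  by_cases hi : i = 0
  · subst hi
    exact isCoh_of_iso (((DerivedCategory.singleFunctorCompHomologyFunctorIso X.Modules 0).app F).symm) hF
  · exact isCoh_of_isZero (isZero_hd_inD F hi)

/-- Coherence of hypertor against the pullback of a coherent module. -/
theorem isCohD_ltensor_pullCx_single [IsLocallyNoetherian X] {Y Y' : Scheme.{u}} [IsLocallyNoetherian Y]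
    (p : X ⟶ Y) (q : X ⟶ Y') [DCoh.HasLpull p] (F : Y.Modules) (hF : Coh.IsCoh F) (G : Y'.Modules)
    (hG : Coh.IsCoh G)
    [DCoh.HasLTensorCx ((pullCx q).obj ((HomologicalComplex.single Y'.Modules (ComplexShape.up ℤ) 0).obj G))] :
    DCoh.IsCohD ((DCoh.LTensorCx ((pullCx q).obj
      ((HomologicalComplex.single Y'.Modules (ComplexShape.up ℤ) 0).obj G))).obj
      ((DCoh.Lpull p).obj (DCoh.inD Y F))) := by
  let e : DCoh.toD X ((pullCx q).obj ((HomologicalComplex.single Y'.Modules (ComplexShape.up ℤ) 0).obj G)) ≅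
      DCoh.inD X ((Scheme.Modules.pullback q).obj G) :=
    DerivedCategory.Q.mapIso
        ((HomologicalComplex.singleMapHomologicalComplex (Scheme.Modules.pullback q) (ComplexShape.up ℤ) 0).app G) ≪≫
      ((DerivedCategory.singleFunctorIsoCompQ X.Modules 0).app _).symm
  exact isCohD_ltensor_lpull p _ (isCohD_inD hF) 0 (fun i hi => isZero_hd_inD F (by omega)) _
    (isCohD_of_iso e.symm (isCohD_inD (isCoh_pullback q hG))) 0
    (fun i hi => (isZero_hd_inD ((Scheme.Modules.pullback q).obj G) (by omega : i ≠ 0)).of_iso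
      ((DerivedCategory.homologyFunctor _ i).mapIso e))

/-- Coherence of hypertor against the flat pullback of a complex. -/
theorem isCohD_ltensor_pullCx [IsLocallyNoetherian X] {Y Y' : Scheme.{u}} [IsLocallyNoetherian Y]
    (p : X ⟶ Y) (q : X ⟶ Y') [Flat q] [DCoh.HasLpull p] (P : DCoh.D Y) (hP : DCoh.IsCohD P) (a : ℤ)
    (ha : ∀ i, a < i → IsZero (DCoh.HD P i)) (Q : CochainComplex Y'.Modules ℤ)
    (hQ : DCoh.IsCohD (DCoh.toD Y' Q)) (b : ℤ) (hb : ∀ i, b < i → IsZero (DCoh.HD (DCoh.toD Y' Q) i))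
    [DCoh.HasLTensorCx ((pullCx q).obj Q)] :
    DCoh.IsCohD ((DCoh.LTensorCx ((pullCx q).obj Q)).obj ((DCoh.Lpull p).obj P)) := by
  let e : DCoh.toD X ((pullCx q).obj Q) ≅ (pullD q).obj (DCoh.toD Y' Q) :=
    ((Scheme.Modules.pullback q).mapDerivedCategoryFactors.app Q).symm
  refine isCohD_ltensor_lpull p P hP a ha _ (fun i => ?_) b fun i hi => ?_
  · obtain ⟨h⟩ := nonempty_hd_pullD q (DCoh.toD Y' Q) i
    exact isCoh_of_iso (((DerivedCategory.homologyFunctor _ i).mapIso e ≪≫ h).symm) (isCoh_pullback q (hQ i))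
  · obtain ⟨h⟩ := nonempty_hd_pullD q (DCoh.toD Y' Q) i
    exact ((Scheme.Modules.pullback q).map_isZero (hb i hi)).of_iso
      ((DerivedCategory.homologyFunctor _ i).mapIso e ≪≫ h)

end Groth.Agent.PushAmp
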