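import Groth.Agent.H9Misc.DRingAdic
import Groth.Agent.H9Misc.DRingComplAmp
import Groth.Agent.H9Misc.TorBalance
import Groth.Agent.KFlatLib.Scheme.PullTensorCx
import Groth.Agent.KFlatLib.Ring.InvertibleTwist

/-!
# Derived completion of complexes with finite cohomology over a Noetherian ring
-/

set_option autoImplicit false
set_option linter.style.haveILetI false
set_option backward.isDefEq.respectTransparency false
set_option maxHeartbeats 1000000

universe u

open CategoryTheory CategoryTheory.Category CategoryTheory.Limits MonoidalCategory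
open CategoryTheory.Pretriangulated

attribute [local instance] HasDerivedCategory.standard

noncomputable section

namespace Groth.Agent.PushAmp.ComplFinite

open Groth.Agent.H9Misc Groth.Agent.H9Misc.DRingNakayama Groth.Agent.H9Misc.DRingAdic

variable {A : Type u} [CommRing A]

/-- Two reflections are compared by an isomorphism under the object. -/
lemma exists_iso_of_refl (I : Ideal A) {X Y Y' : Dual.D A} {a : X ⟶ Y} {b : X ⟶ Y'}
    (ha : DRingCompl.Refl (DRing.IsDerivedComplete I) a) (hb : DRingCompl.Refl (DRing.IsDerivedComplete I) b) :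
    ∃ e : Y ≅ Y', a ≫ e.hom = b := by
  let z := fun W : Dual.D A => (shiftFunctorZero (Dual.D A) ℤ).app W
  obtain ⟨p, hp⟩ := (ha.bij Y' hb.mem 0).2 (b ≫ (z Y').inv)
  obtain ⟨q, hq⟩ := (hb.bij Y ha.mem 0).2 (a ≫ (z Y).inv)
  dsimp only at hp hq
  have hp' : a ≫ p ≫ (z Y').hom = b := by rw [← assoc, hp, assoc, Iso.inv_hom_id, comp_id]
  have hq' : b ≫ q ≫ (z Y).hom = a := by rw [← assoc, hq, assoc, Iso.inv_hom_id, comp_id]
  refine ⟨⟨p ≫ (z Y').hom, q ≫ (z Y).hom, ?_, ?_⟩, hp'⟩
  · rw [← cancel_mono (z Y).inv]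
    refine ha.cancel ha.mem ?_
    rw [← assoc a, ← assoc a, hp', hq', id_comp]
  · rw [← cancel_mono (z Y').inv]
    refine hb.cancel hb.mem ?_
    rw [← assoc b, ← assoc b, hq', hp', id_comp]

variable [IsNoetherianRing A] (I : Ideal A)

/-- `Â` as a module. -/
abbrev hatA : ModuleCat.{u} A := ModuleCat.of A (AdicCompletion I A)

/-- `P → P ⊗ Â`. -/
def toHat (P : DRing.Cx A) : P ⟶ (G P).obj (hatA I) :=
  (HomologicalComplex.Hom.isoOfComponents (fun m => ρ_ (P.X m))
      (fun i j _ => (MonoidalCategory.rightUnitor_naturality (P.d i j)).symm) :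
    (G P).obj (𝟙_ (ModuleCat.{u} A)) ≅ P).inv ≫ (G P).map (η I : 𝟙_ (ModuleCat.{u} A) ⟶ hatA I)

/-- Maps from `P` to derived complete objects extend uniquely to `P ⊗ Â`. -/
lemma bijective_toHat (P : DRing.Cx A) (hP : DRingLTensor.IsKF P) (hflat : ∀ n, Module.Flat A (P.X n))
    (Z : Dual.D A) (hZ : DRing.IsDerivedComplete I Z) (n : ℤ) :
    Function.Bijective fun g : DerivedCategory.Q.obj ((G P).obj (hatA I)) ⟶ Z⟦n⟧ =>
      DerivedCategory.Q.map (toHat I P) ≫ g := by
  have hfg : I.FG := IsNoetherian.noetherian _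
  obtain ⟨s, hs⟩ := hfg
  let φ := (G P).map (η I : 𝟙_ (ModuleCat.{u} A) ⟶ hatA I)
  let C := CochainComplex.mappingCone φ
  let eρ : (G P).obj (𝟙_ (ModuleCat.{u} A)) ≅ P :=
    HomologicalComplex.Hom.isoOfComponents (fun m => ρ_ (P.X m))
      (fun i j _ => (MonoidalCategory.rightUnitor_naturality (P.d i j)).symm)
  have hKF₁ : DRingLTensor.IsKF ((G P).obj (𝟙_ (ModuleCat.{u} A))) := KFlatLib.KFlat.of_iso eρ.symm hP
  have hKF₂ : DRingLTensor.IsKF ((G P).obj (hatA I)) := by
    have hsgl : DRingLTensor.IsKF (TorBalance.sgl (hatA I)) := by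
      refine KFlatLib.kFlat_of_termwiseFlat (b := 0) (fun k => ?_) fun i hi =>
        HomologicalComplex.isZero_single_obj_X _ _ _ _ (by omega)
      rcases eq_or_ne k 0 with rfl | hk
      · exact Module.Flat.of_linearEquiv
          (HomologicalComplex.singleObjXSelf (ComplexShape.up ℤ) 0 (hatA I)).toLinearEquiv
      · have hs0 : Subsingleton ((TorBalance.sgl (hatA I)).X k) := ModuleCat.subsingleton_of_isZero
          (HomologicalComplex.isZero_single_obj_X (ComplexShape.up ℤ) 0 (hatA I) k hk)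
        exact @Module.Flat.of_free _ _ _ _ _ (@Module.Free.of_subsingleton _ _ _ _ _ hs0)
    exact KFlatLib.KFlat.of_iso ((TorBalance.sglRightIso (hatA I)).app P) (KFlatLib.kFlat_tensor hP hsgl)
  have hC : DRingLTensor.IsKF C := KFlatLib.kFlat_cone φ hKF₁ hKF₂
  have hCflat : ∀ k, Module.Flat A (C.X k) := fun k => by
    haveI := hflat k
    haveI := hflat (k + 1)
    exact (KFlatLib.ringCover A).of_iso
      (HomologicalComplex.homotopyCofiber.XIsoBiprod φ k (k + 1) rfl).symm
      ((KFlatLib.ringCover A).biprod _ _ (inferInstanceAs (Module.Flat A (TensorProduct A (P.X (k + 1)) A)))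
        (inferInstanceAs (Module.Flat A (TensorProduct A (P.X k) (AdicCompletion I A)))))
  let T := tensorRight (ModuleCat.of A (A ⧸ I))
  have hac : ((G C).obj (ModuleCat.of A (A ⧸ I))).Acyclic := by
    haveI : IsIso ((T.mapHomologicalComplex (ComplexShape.up ℤ)).map φ) := by
      haveI hiso : IsIso (T.map (η I)) := isIso_rTensor_η I
      haveI : ∀ k, IsIso (((T.mapHomologicalComplex (ComplexShape.up ℤ)).map φ).f k) := fun k => by
        show IsIso ((P.X k ◁ (η I : 𝟙_ (ModuleCat.{u} A) ⟶ hatA I)) ▷ (ModuleCat.of A (A ⧸ I)))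
        haveI : IsIso ((η I : 𝟙_ (ModuleCat.{u} A) ⟶ hatA I) ▷ (ModuleCat.of A (A ⧸ I))) := hiso
        rw [MonoidalCategory.whisker_assoc]
        infer_instance
      exact HomologicalComplex.Hom.isIso_of_components _
    have hzero : IsZero (DerivedCategory.Q.obj
        (CochainComplex.mappingCone ((T.mapHomologicalComplex (ComplexShape.up ℤ)).map φ))) :=
      (Triangle.isZero₃_iff_isIso₁ _ (DerivedCategory.mappingCone_triangle_distinguished _)).2
        (inferInstanceAs (IsIso (DerivedCategory.Q.map ((T.mapHomologicalComplex (ComplexShape.up ℤ)).map φ))))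
    intro i
    refine HomologicalComplex.ExactAt.of_iso ?_ (CochainComplex.mappingCone.mapHomologicalComplexIso φ T).symm
    exact (HomologicalComplex.exactAt_iff_isZero_homology _ i).2
      (((DerivedCategory.homologyFunctor (ModuleCat.{u} A) i).map_isZero hzero).of_iso
        ((DerivedCategory.homologyFunctorFactors (ModuleCat.{u} A) i).app _).symm)
  let eC : (G C).obj (𝟙_ (ModuleCat.{u} A)) ≅ C :=
    HomologicalComplex.Hom.isoOfComponents (fun m => ρ_ (C.X m))
      (fun i j _ => (MonoidalCategory.rightUnitor_naturality (C.d i j)).symm)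
  have hl : I ≤ Ideal.ofList (s.toList ++ []) := by
    refine le_of_eq (hs.symm.trans (congrArg Ideal.span ?_))
    ext; simp
  have ho : LOrth Z (DerivedCategory.Q.obj C) :=
    lOrth_of_complete I s.toList (fun f hf => hs ▸ Ideal.subset_span (Finset.mem_toList.1 hf))
      (fun X hX => lOrth_iso (DerivedCategory.Q.mapIso eC)
        (lOrth_GD I hC hCflat hac s.toList [] hl (𝟙_ (ModuleCat.{u} A)) X
          (fun f hf => absurd hf List.not_mem_nil) hX))
      s.toList [] _ (fun f => by simp) hZ (fun f hf => absurd hf List.not_mem_nil)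
  have hT := DerivedCategory.mappingCone_triangle_distinguished φ
  have hb : Function.Bijective fun g : DerivedCategory.Q.obj ((G P).obj (hatA I)) ⟶ Z⟦n⟧ =>
      DerivedCategory.Q.map φ ≫ g := by
    refine ⟨fun g g' hg => sub_eq_zero.1 (lOrth_mor₁ _ hT ho (n := n) ?_), fun x => ?_⟩
    · show DerivedCategory.Q.map φ ≫ (g - g') = 0
      rw [Preadditive.comp_sub, sub_eq_zero]
      exact hg
    · obtain ⟨y, hy⟩ := Triangle.yoneda_exact₂ _ (inv_rot_of_distTriang _ hT) x
        ((lOrth_shift ho (-1) n).elim _ _)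
      exact ⟨y, hy.symm⟩
  have hfun : (fun g : DerivedCategory.Q.obj ((G P).obj (hatA I)) ⟶ Z⟦n⟧ => DerivedCategory.Q.map (toHat I P) ≫ g) =
      (fun g => DerivedCategory.Q.map eρ.inv ≫ g) ∘ fun g => DerivedCategory.Q.map φ ≫ g := by
    funext g
    show DerivedCategory.Q.map (eρ.inv ≫ φ) ≫ g = _
    rw [DerivedCategory.Q.map_comp, assoc]
    rfl
  rw [hfun]
  refine Function.Bijective.comp ⟨fun g g' h => (cancel_epi (DerivedCategory.Q.map eρ.inv)).1 h,
    fun g => ⟨DerivedCategory.Q.map eρ.hom ≫ g, ?_⟩⟩ hb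
  show DerivedCategory.Q.map eρ.inv ≫ DerivedCategory.Q.map eρ.hom ≫ g = g
  rw [← assoc, ← DerivedCategory.Q.map_comp, eρ.inv_hom_id, CategoryTheory.Functor.map_id, id_comp]

/-- The cohomology of `P ⊗ Â`. -/
lemma exists_homology_toHat (P : DRing.Cx A) (n : ℤ) :
    ∃ e : ((G P).obj (hatA I)).homology n ≅ P.homology n ⊗ hatA I,
      HomologicalComplex.homologyMap (toHat I P) n ≫ e.hom =
        (ρ_ (P.homology n)).inv ≫ P.homology n ◁ (η I : 𝟙_ (ModuleCat.{u} A) ⟶ hatA I) := by
  let τ : tensorRight (𝟙_ (ModuleCat.{u} A)) ⟶ tensorRight (hatA I) :=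
    (tensoringRight (ModuleCat.{u} A)).map (η I : 𝟙_ (ModuleCat.{u} A) ⟶ hatA I)
  let r : 𝟭 (ModuleCat.{u} A) ⟶ tensorRight (hatA I) := (rightUnitorNatIso (ModuleCat.{u} A)).inv ≫ τ
  haveI := KFlatLib.preservesFiniteLimits_tensorRight (hatA I)
  haveI : (tensorRight (hatA I)).PreservesHomology := (tensorRight (hatA I)).preservesHomologyOfExact
  refine ⟨(P.sc n).mapHomologyIso (tensorRight (hatA I)), ?_⟩
  have key := NatTrans.app_homology r (P.sc n)
  have hmap : HomologicalComplex.homologyMap (toHat I P) n =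
      ShortComplex.homologyMap ((P.sc n).mapNatTrans r) := by
    unfold HomologicalComplex.homologyMap
    congr 1
  rw [hmap]
  have h1 : (r.app (P.sc n).homology) = (ρ_ (P.homology n)).inv ≫ P.homology n ◁ (η I : 𝟙_ (ModuleCat.{u} A) ⟶ hatA I) := rfl
  rw [← h1, key]
  have h2 : ((P.sc n).mapHomologyIso (𝟭 (ModuleCat.{u} A))).inv = 𝟙 _ := by
    let h := (P.sc n).homologyData.left
    have e0 : (h.map (𝟭 (ModuleCat.{u} A))).cyclesIso.hom = h.cyclesIso.hom := by
      rw [← cancel_mono (h.map (𝟭 (ModuleCat.{u} A))).i]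
      rw [ShortComplex.LeftHomologyData.cyclesIso_hom_comp_i]
      exact h.cyclesIso_hom_comp_i.symm
    have e1 : (h.map (𝟭 (ModuleCat.{u} A))).homologyIso.hom = h.homologyIso.hom := by
      refine (cancel_epi ((P.sc n).map (𝟭 (ModuleCat.{u} A))).homologyπ).1 ?_
      rw [ShortComplex.LeftHomologyData.homologyπ_comp_homologyIso_hom, e0]
      exact h.homologyπ_comp_homologyIso_hom.symm
    rw [h.mapHomologyIso_eq (𝟭 _)]
    refine (Iso.inv_eq_inv _ (Iso.refl _)).2 ?_
    show (h.map (𝟭 (ModuleCat.{u} A))).homologyIso.hom ≫ h.homologyIso.inv = 𝟙 _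
    rw [e1]
    exact h.homologyIso.hom_inv_id
  rw [h2, id_comp]

/-- The derived completion of a complex with finite cohomology. -/
theorem exists_homology_equiv [DRing.HasDerivedCompletion I] (K : Dual.D A)
    (hK : ∀ n : ℤ, Module.Finite A (Dual.HD A K n)) (n : ℤ) :
    ∃ e : Dual.HD A ((DRing.derivedCompletion I).obj K).obj n ≃ₗ[A] AdicCompletion I (Dual.HD A K n),
      ∀ x : Dual.HD A K n,
        e (((DerivedCategory.homologyFunctor (ModuleCat.{u} A) n).map (DRing.toDerivedCompletion I K)).hom x) =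
          AdicCompletion.of I (Dual.HD A K n) x := by
  have hfg : I.FG := IsNoetherian.noetherian _
  obtain ⟨P, hP, hflat, ⟨eP⟩⟩ := DRingLTensor.exists_rep K
  let L := DerivedCategory.Q.obj ((G P).obj (hatA I))
  let u : K ⟶ L := eP.inv ≫ DerivedCategory.Q.map (toHat I P)
  let eHP : ∀ i, P.homology i ≅ (DerivedCategory.homologyFunctor (ModuleCat.{u} A) i).obj K := fun i =>
    ((DerivedCategory.homologyFunctorFactors (ModuleCat.{u} A) i).app P).symm ≪≫
      (DerivedCategory.homologyFunctor (ModuleCat.{u} A) i).mapIso eP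
  have hfinP : ∀ i, Module.Finite A (P.homology i) := fun i =>
    haveI := hK i
    Module.Finite.equiv (eHP i).toLinearEquiv.symm
  choose eG heG using exists_homology_toHat I P
  have heH : ∀ i, ∃ e : Dual.HD A L i ≃ₗ[A] AdicCompletion I (Dual.HD A K i),
      ∀ x, e (((DerivedCategory.homologyFunctor (ModuleCat.{u} A) i).map u).hom x) = AdicCompletion.of I _ x := by
    intro i
    haveI := hfinP i
    let e : Dual.HD A L i ≃ₗ[A] AdicCompletion I (Dual.HD A K i) :=
      ((DerivedCategory.homologyFunctorFactors (ModuleCat.{u} A) i).app _ ≪≫ eG i).toLinearEquiv ≪≫ₗ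
        TensorProduct.comm A (P.homology i) (AdicCompletion I A) ≪≫ₗ
        ((AdicCompletion.ofTensorProductEquivOfFiniteNoetherian I (P.homology i)).restrictScalars A) ≪≫ₗ
        ((AdicCompletion.congr I (eHP i).toLinearEquiv).restrictScalars A)
    refine ⟨e, fun x => ?_⟩
    obtain ⟨y, rfl⟩ := (eHP i).toLinearEquiv.surjective x
    have h1 : (eHP i).hom ≫ (DerivedCategory.homologyFunctor (ModuleCat.{u} A) i).map u ≫
        ((DerivedCategory.homologyFunctorFactors (ModuleCat.{u} A) i).app _ ≪≫ eG i).hom =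
        (ρ_ (P.homology i)).inv ≫ P.homology i ◁ (η I : 𝟙_ (ModuleCat.{u} A) ⟶ hatA I) := by
      rw [← heG i]
      simp only [eHP, u, Iso.trans_hom, Iso.symm_hom, Functor.mapIso_hom, Functor.map_comp, assoc, Iso.app_hom, Iso.app_inv]
      rw [← Functor.map_comp_assoc, Iso.hom_inv_id, CategoryTheory.Functor.map_id, id_comp]
      have := (DerivedCategory.homologyFunctorFactors (ModuleCat.{u} A) i).hom.naturality (toHat I P)
      erw [reassoc_of% this, Iso.inv_hom_id_app_assoc]
      rfl
    have h2 := LinearMap.congr_fun (congrArg ModuleCat.Hom.hom h1) y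
    show AdicCompletion.congr I (eHP i).toLinearEquiv
      (AdicCompletion.ofTensorProductEquivOfFiniteNoetherian I (P.homology i)
        (TensorProduct.comm A (P.homology i) (AdicCompletion I A)
          (((DerivedCategory.homologyFunctorFactors (ModuleCat.{u} A) i).app _ ≪≫ eG i).hom.hom
            (((DerivedCategory.homologyFunctor (ModuleCat.{u} A) i).map u).hom ((eHP i).hom.hom y))))) = _
    erw [h2]
    show AdicCompletion.congr I (eHP i).toLinearEquiv
      (AdicCompletion.ofTensorProductEquivOfFiniteNoetherian I (P.homology i)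
        (AdicCompletion.of I A 1 ⊗ₜ[A] y)) = _
    rw [show AdicCompletion.of I A 1 = (1 : AdicCompletion I A) from AdicCompletion.ext fun k => rfl,
      AdicCompletion.ofTensorProductEquivOfFiniteNoetherian_apply, AdicCompletion.ofTensorProduct_tmul, one_smul]
    exact AdicCompletion.map_of I _ y
  have hL : DRing.IsDerivedComplete I L := by
    refine (DRingTel.isDerivedComplete_iff I L).2 fun f hf i => ?_
    obtain ⟨e, -⟩ := heH i
    haveI := AdicCompletion.isAdicComplete (R := A) (M := Dual.HD A K i) hfg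
    exact TBMod.TBm.of_equiv e.symm (TBMod.tbm_of_isAdicComplete I hf)
  have hu : DRingCompl.Refl (DRing.IsDerivedComplete I) u := ⟨hL, fun Z hZ m => by
    have hb := bijective_toHat I P hP hflat Z hZ m
    have hfun : (fun g : L ⟶ Z⟦m⟧ => u ≫ g) = (fun g => eP.inv ≫ g) ∘ fun g => DerivedCategory.Q.map (toHat I P) ≫ g :=
      funext fun g => assoc _ _ _
    rw [hfun]
    exact (Function.Bijective.comp ⟨fun g g' h => (cancel_epi eP.inv).1 h,
      fun g => ⟨eP.hom ≫ g, eP.inv_hom_id_assoc g⟩⟩ hb)⟩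
  obtain ⟨ec, hec⟩ := exists_iso_of_refl I (DRingCompl.refl_unit (I := I) K) hu
  obtain ⟨e, he⟩ := heH n
  refine ⟨((DerivedCategory.homologyFunctor (ModuleCat.{u} A) n).mapIso ec).toLinearEquiv ≪≫ₗ e, fun x => ?_⟩
  rw [← he x, ← hec, Functor.map_comp]
  rfl

end Groth.Agent.PushAmp.ComplFinite
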