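import Groth.Agent.PushAmp.AmpDrop
import Groth.Agent.PushAmp.SmoothAmp
import Mathlib.RingTheory.RingHom.StandardSmooth
import Mathlib.RingTheory.Etale.Basic

/-!
# Tor amplitude over a scheme smooth over the base, without finiteness assumptions
-/

set_option autoImplicit false
set_option linter.style.haveILetI false
set_option backward.isDefEq.respectTransparency false
set_option backward.isDefEq.respectTransparency.types false

universe u

open CategoryTheory CategoryTheory.Limits AlgebraicGeometry TopologicalSpace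

attribute [local instance] HasDerivedCategory.standard

namespace Groth.Agent.PushAmp

open H9Misc Groth.Agent.KFlatLib

/-- Tor amplitude restricts along flat maps. -/
theorem amp_restrict {R A : Type u} [CommRing R] [CommRing A] (φ : R →+* A) (hφ : φ.Flat) (X : DRing.Cx A)
    {a b : ℤ} (h : DRing.HasTorAmplitudeIn A a b (DRing.toD X)) :
    DRing.HasTorAmplitudeIn R a b
      (DRing.toD (((ModuleCat.restrictScalars.{u} φ).mapHomologicalComplex (ComplexShape.up ℤ)).obj X)) := by
  obtain ⟨E, hz, hf, ⟨e⟩⟩ := h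
  let T := ModuleCat.restrictScalars.{u} φ
  refine ⟨(T.mapHomologicalComplex (ComplexShape.up ℤ)).obj E, fun i hi => T.map_isZero (hz i hi),
    fun i => ?_, ⟨(T.mapDerivedCategoryFactors.app E).symm ≪≫ T.mapDerivedCategory.mapIso e ≪≫
      T.mapDerivedCategoryFactors.app X⟩⟩
  letI := φ.toAlgebra
  haveI : Module.Flat R A := hφ
  letI : Module R (E.X i) := Module.compHom _ φ
  haveI : IsScalarTower R A (E.X i) := IsScalarTower.of_algebraMap_smul fun _ _ => rfl
  haveI := hf i
  exact Module.Flat.trans R A (E.X i)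

/-- A localisation of a standard smooth algebra of relative dimension `n`. -/
theorem drops_standardSmooth {R C B : Type u} [CommRing R] [CommRing C] [CommRing B] {n : ℕ} (φ : R →+* C)
    (hφ : φ.IsStandardSmoothOfRelativeDimension n) (M : Submonoid C) [Algebra C B] [IsLocalization M B] :
    Drops ((algebraMap C B).comp φ) n := by
  obtain ⟨g, hg, het⟩ := hφ.exists_etale_mvPolynomial
  letI := g.toAlgebra
  haveI : Algebra.Etale (MvPolynomial (Fin n) R) C := het
  letI := ((algebraMap C B).comp g).toAlgebra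
  haveI : IsScalarTower (MvPolynomial (Fin n) R) C B := IsScalarTower.of_algebraMap_eq' rfl
  haveI : Algebra.FormallyUnramified C B := Algebra.FormallyUnramified.of_isLocalization M
  haveI : Algebra.EssFiniteType C B := Algebra.EssFiniteType.of_isLocalization B M
  haveI : Algebra.FormallyUnramified (MvPolynomial (Fin n) R) B := Algebra.FormallyUnramified.comp _ C B
  haveI : Algebra.EssFiniteType (MvPolynomial (Fin n) R) B := Algebra.EssFiniteType.comp _ C B
  haveI : Module.Flat C B := IsLocalization.flat B M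
  haveI : Module.Flat (MvPolynomial (Fin n) R) B := Module.Flat.trans _ C B
  have h := (drops_mvPolynomial R n).comp (drops_of_unramified ((algebraMap C B).comp g)
    ‹Algebra.FormallyUnramified (MvPolynomial (Fin n) R) B› ‹Algebra.EssFiniteType (MvPolynomial (Fin n) R) B›
    ‹Module.Flat (MvPolynomial (Fin n) R) B›)
  rw [RingHom.comp_assoc, hg] at h
  exact h

variable {Y S : Scheme.{u}}

/-- Tor amplitude over the base gives tor amplitude over a scheme smooth over it, at a point. -/
theorem torAmpAt_id_of_smooth (g : Y ⟶ S) (n : ℕ) [SmoothOfRelativeDimension n g] {a b : ℤ}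
    (G : CochainComplex Y.Modules ℤ) (y : Y) (hG : DerSch.HasTorAmplitudeAt g a b G y) :
    DerSch.HasTorAmplitudeAt (𝟙 Y) (a - n) b G y := by
  obtain ⟨U, hU, V, hV, hy, e, hf⟩ :=
    SmoothOfRelativeDimension.exists_isStandardSmoothOfRelativeDimension (n := n) (f := g) y
  letI : Algebra Γ(Y, V) (Y.presheaf.stalk y) := (Y.presheaf.germ V y hy).hom.toAlgebra
  haveI := hV.isLocalization_stalk ⟨y, hy⟩
  have hdrop := drops_standardSmooth (B := Y.presheaf.stalk y) (g.appLE U V e).hom hf
    (hV.primeIdealOf ⟨y, hy⟩).asIdeal.primeCompl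
  let η : Γ(S, U) →+* S.presheaf.stalk (g.base y) := (S.presheaf.germ U (g.base y) (e hy)).hom
  have hη : η.Flat := by
    letI := η.toAlgebra
    haveI := hU.isLocalization_stalk ⟨g.base y, e hy⟩
    exact IsLocalization.flat (S.presheaf.stalk (g.base y)) (hU.primeIdealOf ⟨g.base y, e hy⟩).asIdeal.primeCompl
  have hc : (algebraMap Γ(Y, V) (Y.presheaf.stalk y)).comp (g.appLE U V e).hom = (g.stalkMap y).hom.comp η := by
    refine congrArg CommRingCat.Hom.hom (?_ : g.appLE U V e ≫ Y.presheaf.germ V y hy =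
      S.presheaf.germ U (g.base y) (e hy) ≫ g.stalkMap y)
    rw [Scheme.Hom.germ_stalkMap, Scheme.Hom.appLE, Category.assoc, TopCat.Presheaf.germ_res]
  rw [hc] at hdrop
  let L : DRing.Cx (Y.presheaf.stalk y) :=
    ((DerSch.stalkFunctor Y y).mapHomologicalComplex (ComplexShape.up ℤ)).obj G
  have h1 := amp_restrict η hη _ hG
  let σ := (g.stalkMap y).hom
  let ρ := ModuleCat.restrictScalarsComp'.{u} η σ (σ.comp η) rfl
  have h2 : DRing.HasTorAmplitudeIn (Y.presheaf.stalk y) (a - n) b (DRing.toD L) :=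
    hdrop L a b (DRingTor.of_iso (DerivedCategory.Q.mapIso
      ((NatIso.mapHomologicalComplex ρ (ComplexShape.up ℤ)).app L)).symm h1)
  exact hasTorAmplitudeIn_ringEquiv (Scheme.Hom.stalkMap (𝟙 Y) y).hom
    (ConcreteCategory.bijective_of_isIso (Scheme.Hom.stalkMap (𝟙 Y) y)) L h2

/-- Tor amplitude over the base gives absolute tor amplitude where the relative dimension is `n`. -/
theorem torAmpAt_id_of_smooth_nhd (g : Y ⟶ S) (n : ℕ) (V : Y.Opens) [SmoothOfRelativeDimension n (V.ι ≫ g)]
    {a b : ℤ} (G : CochainComplex Y.Modules ℤ) (y : Y) (hy : y ∈ V) (hG : DerSch.HasTorAmplitudeAt g a b G y) :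
    DerSch.HasTorAmplitudeAt (𝟙 Y) (a - n) b G y := by
  let v : (V : Scheme.{u}) := (⟨y, hy⟩ : (V : Scheme.{u}))
  have h := torAmpAt_id_of_smooth (V.ι ≫ g) n _ v ((hasTorAmplitudeAt_restrict_iff V.ι g G v a b).2 hG)
  have h' := (hasTorAmplitudeAt_comp_iff (𝟙 (V : Scheme.{u})) V.ι _ v (a - n) b).2 h
  have hι : 𝟙 (V : Scheme.{u}) ≫ V.ι = V.ι ≫ 𝟙 Y := (Category.id_comp _).trans (Category.comp_id _).symm
  rw [hι] at h'
  exact (hasTorAmplitudeAt_restrict_iff V.ι (𝟙 Y) G v (a - n) b).1 h'

/-- Tor amplitude over the base gives tor amplitude over a scheme smooth over it of dimension at most `d`. -/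
theorem torAmp_id_of_smooth (g : Y ⟶ S) (d : ℕ)
    (hd : ∀ y : Y, ∃ (n : ℕ) (V : Y.Opens), n ≤ d ∧ y ∈ V ∧ SmoothOfRelativeDimension n (V.ι ≫ g))
    {a b : ℤ} (G : CochainComplex Y.Modules ℤ) (y : Y) (hG : DerSch.HasTorAmplitudeAt g a b G y) :
    DerSch.HasTorAmplitudeAt (𝟙 Y) (a - d) b G y := by
  obtain ⟨n, V, hn, hy, hs⟩ := hd y
  exact DRingTor.mono (by omega) le_rfl (torAmpAt_id_of_smooth_nhd g n V G y hy hG)

/-- Absolute tor amplitude restricted to an open. -/
theorem torAmp_restrict_id (W : Y.Opens) {a b : ℤ} (G : CochainComplex Y.Modules ℤ)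
    (h : ∀ y ∈ W, DerSch.HasTorAmplitudeAt (𝟙 Y) a b G y) :
    DerSch.HasTorAmplitude (𝟙 (W : Scheme.{u})) a b
      (((Scheme.Modules.restrictFunctor W.ι).mapHomologicalComplex (ComplexShape.up ℤ)).obj G) := by
  intro w
  have h' := (hasTorAmplitudeAt_restrict_iff W.ι (𝟙 Y) G w a b).2 (h _ w.2)
  have hι : W.ι ≫ 𝟙 Y = 𝟙 (W : Scheme.{u}) ≫ W.ι := (Category.comp_id _).trans (Category.id_comp _).symm
  rw [hι] at h'
  exact (hasTorAmplitudeAt_comp_iff (𝟙 (W : Scheme.{u})) W.ι _ w a b).1 h'

/-- Flat amplitude gives tor amplitude relative to a flat morphism. -/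
theorem torAmp_of_flatAmp (g : Y ⟶ S) [Flat g] {a b : ℤ} (G : CochainComplex Y.Modules ℤ)
    (h : DCoh.HasFlatAmplitudeIn a b (DCoh.toD Y G)) : DerSch.HasTorAmplitude g a b G := by
  obtain ⟨E, hv, hf, he⟩ := h
  exact (hasRelFlatAmplitudeIn_iff g G a b).1 ⟨E, hv, fun i => isFlatOver_of_isFlat g (hf i), he⟩

/-- Flat amplitude from stalkwise tor amplitude over the identity. -/
theorem flatAmp_of_torAmp {a b : ℤ} (G : CochainComplex Y.Modules ℤ)
    (h : DerSch.HasTorAmplitude (𝟙 Y) a b G) : DCoh.HasFlatAmplitudeIn a b (DCoh.toD Y G) := by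
  obtain ⟨E, hv, hf, he⟩ := hasRelFlatAmplitudeIn_of_torAmplitude (𝟙 Y) h
  exact ⟨E, hv, fun i => (isFlatOver_id_iff _).1 (hf i), he⟩

end Groth.Agent.PushAmp
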