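import Groth.Agent.PushAmp.TorLocal
import Groth.Agent.PushAmp.TorAt
import Groth.Agent.KFlatLib.Scheme.Tilde
import Groth.Agent.KFlatLib.Scheme.TildeAmp
import Groth.Agent.PushAmp.SmoothDrop

/-!
# Relative tor amplitude of associated sheaves on affine schemes
-/

set_option autoImplicit false
set_option linter.style.haveILetI false
set_option backward.isDefEq.respectTransparency false

universe u

open CategoryTheory CategoryTheory.Limits AlgebraicGeometry

attribute [local instance] HasDerivedCategory.standard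

namespace Groth.Agent.PushAmp

open Groth.Agent.KFlatLib H9Misc

/-- The stalk is the localisation. -/
theorem isLocalization_toStalkHom {A : CommRingCat.{u}} (x : Spec A) :
    letI := (toStalkHom x).toAlgebra
    IsLocalization.AtPrime ((Spec A).presheaf.stalk x) x.asIdeal := by
  exact inferInstanceAs (IsLocalization.AtPrime ((Spec.structureSheaf A).presheaf.stalk x) x.asIdeal)

/-- The stalk map of a map of affine schemes on global functions. -/
theorem stalkMap_toStalkHom {R A : CommRingCat.{u}} (φ : R ⟶ A) (x : Spec A) :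
    ((Spec.map φ).stalkMap x).hom.comp (toStalkHom ((Spec.map φ).base x)) =
      (toStalkHom x).comp φ.hom := by
  refine congrArg CommRingCat.Hom.hom (?_ :
    ((Scheme.ΓSpecIso R).inv ≫ (Spec R).presheaf.germ ⊤ ((Spec.map φ).base x) trivial) ≫ (Spec.map φ).stalkMap x =
      φ ≫ (Scheme.ΓSpecIso A).inv ≫ (Spec A).presheaf.germ ⊤ x trivial)
  rw [Category.assoc, Scheme.Hom.germ_stalkMap, Scheme.ΓSpecIso_inv_naturality_assoc]
  rfl

variable {R A : CommRingCat.{u}} (φ : R ⟶ A)

/-- The localisation of a base is of tor amplitude drop zero. -/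
theorem drops_toStalkHom (p : Spec R) : Drops (toStalkHom p) 0 := by
  letI := (toStalkHom p).toAlgebra
  haveI := isLocalization_toStalkHom p
  exact drops_of_unramified _ (Algebra.FormallyUnramified.of_isLocalization p.asIdeal.primeCompl)
    (Algebra.EssFiniteType.of_isLocalization _ p.asIdeal.primeCompl)
    (IsLocalization.flat _ p.asIdeal.primeCompl)

/-- The relative stalk complex of an associated sheaf. -/
noncomputable def stalkTildeCxIso (Mc : DRing.Cx A) (x : Spec A) :
    (DerSch.stalkCxOver (Spec.map φ) x).obj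
        (((tilde.functor A).mapHomologicalComplex (ComplexShape.up ℤ)).obj Mc) ≅
      (DRing.restrictCx ((Spec.map φ).stalkMap x).hom).obj
        (((ModuleCat.extendScalars (toStalkHom x)).mapHomologicalComplex (ComplexShape.up ℤ)).obj Mc) :=
  ((ModuleCat.restrictScalars ((Spec.map φ).stalkMap x).hom).mapHomologicalComplex (ComplexShape.up ℤ)).mapIso
    (HomologicalComplex.Hom.isoOfComponents
      (C₁ := ((DerSch.stalkFunctor (Spec A) x).mapHomologicalComplex (ComplexShape.up ℤ)).obj
        (((tilde.functor A).mapHomologicalComplex (ComplexShape.up ℤ)).obj Mc))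
      (C₂ := ((ModuleCat.extendScalars (toStalkHom x)).mapHomologicalComplex (ComplexShape.up ℤ)).obj Mc)
      (fun n => (stalkTildeIso x).app (Mc.X n))
      (fun i j _ => ((stalkTildeIso x).hom.naturality (Mc.d i j)).symm))

/-- Stalkwise tor amplitude of an associated sheaf is tor amplitude over the base ring. -/
theorem hasTorAmplitude_tilde_iff (Mc : DRing.Cx A) (a b : ℤ) :
    DerSch.HasTorAmplitude (Spec.map φ) a b (((tilde.functor A).mapHomologicalComplex (ComplexShape.up ℤ)).obj Mc) ↔
      DRing.HasTorAmplitudeIn R a b (DRing.toD ((DRing.restrictCx φ.hom).obj Mc)) := by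
  constructor
  · intro h
    letI : ∀ j : MaximalSpectrum A, Algebra A ((Spec A).presheaf.stalk (⟨j.asIdeal, inferInstance⟩ : Spec A)) :=
      fun j => (toStalkHom (⟨j.asIdeal, inferInstance⟩ : Spec A)).toAlgebra
    haveI : ∀ j : MaximalSpectrum A, IsLocalization.AtPrime
        ((Spec A).presheaf.stalk (⟨j.asIdeal, inferInstance⟩ : Spec A)) j.asIdeal :=
      fun j => isLocalization_toStalkHom (⟨j.asIdeal, inferInstance⟩ : Spec A)
    refine amp_of_detecting φ.hom Mc a b (fun j : MaximalSpectrum A =>
      ((Spec A).presheaf.stalk (⟨j.asIdeal, inferInstance⟩ : Spec A) : Type u))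
      (fun j => toStalkHom (⟨j.asIdeal, inferInstance⟩ : Spec A))
      (fun Y i hY => detect_of_localizations _ Y i hY) fun j => ?_
    let x : Spec A := ⟨j.asIdeal, inferInstance⟩
    letI := (toStalkHom ((Spec.map φ).base x)).toAlgebra
    haveI := isLocalization_toStalkHom ((Spec.map φ).base x)
    refine ⟨(Spec R).presheaf.stalk ((Spec.map φ).base x), inferInstance, toStalkHom ((Spec.map φ).base x),
      ((Spec.map φ).stalkMap x).hom, IsLocalization.flat _ ((Spec.map φ).base x).asIdeal.primeCompl,
      stalkMap_toStalkHom φ x, ?_⟩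
    exact DRingTor.of_iso (DerivedCategory.Q.mapIso (stalkTildeCxIso φ Mc x)) (h x)
  · intro h x
    letI := (toStalkHom x).toAlgebra
    haveI := isLocalization_toStalkHom x
    have h1 := amp_extend_over φ.hom (toStalkHom x) (IsLocalization.flat _ x.asIdeal.primeCompl) Mc a b h
    let Km := ((ModuleCat.extendScalars (toStalkHom x)).mapHomologicalComplex (ComplexShape.up ℤ)).obj Mc
    let σ := ((Spec.map φ).stalkMap x).hom
    let η := toStalkHom ((Spec.map φ).base x)
    let ρ₁ := ModuleCat.restrictScalarsComp'.{u} η σ ((toStalkHom x).comp φ.hom) (stalkMap_toStalkHom φ x).symm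
    have h2 := drops_toStalkHom ((Spec.map φ).base x) ((DRing.restrictCx σ).obj Km) a b
      (DRingTor.of_iso (DerivedCategory.Q.mapIso
        ((NatIso.mapHomologicalComplex ρ₁ (ComplexShape.up ℤ)).app Km)) h1)
    exact DRingTor.of_iso (DerivedCategory.Q.mapIso (stalkTildeCxIso φ Mc x)).symm
      (DRingTor.mono (by omega) le_rfl h2)

/-- Stalkwise tor amplitude of a representative of an associated object. -/
theorem hasTorAmplitude_tildeD_iff [PreservesFiniteLimits (tilde.functor A)] (M : Dual.D A)
    (F : CochainComplex (Spec A).Modules ℤ) (e : DCoh.toD (Spec A) F ≅ (DCoh.tildeD A).obj M) (a b : ℤ) :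
    DerSch.HasTorAmplitude (Spec.map φ) a b F ↔
      DRing.HasTorAmplitudeIn R a b ((DRing.restrictD φ.hom).obj M) := by
  let Mc := DerivedCategory.Q.objPreimage M
  let eF : DCoh.toD (Spec A) (((tilde.functor A).mapHomologicalComplex (ComplexShape.up ℤ)).obj Mc) ≅
      DCoh.toD (Spec A) F :=
    (toDTildeIso Mc).symm ≪≫ (DCoh.tildeD A).mapIso (DerivedCategory.Q.objObjPreimageIso M) ≪≫ e.symm
  let eR : DRing.toD ((DRing.restrictCx φ.hom).obj Mc) ≅ (DRing.restrictD φ.hom).obj M :=
    ((ModuleCat.restrictScalars.{u} φ.hom).mapDerivedCategoryFactors.app Mc).symm ≪≫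
      (DRing.restrictD φ.hom).mapIso (DerivedCategory.Q.objObjPreimageIso M)
  refine Iff.trans ?_ ((hasTorAmplitude_tilde_iff φ Mc a b).trans
    ⟨DRingTor.of_iso eR, DRingTor.of_iso eR.symm⟩)
  exact ⟨fun h x => hasTorAmplitudeAt_of_iso _ eF.symm (h x), fun h x => hasTorAmplitudeAt_of_iso _ eF (h x)⟩

end Groth.Agent.PushAmp

namespace Groth.Agent.PushAmp

open Groth.Agent.KFlatLib H9Misc TopologicalSpace

/-- On a quasi-compact scheme locally finite tor amplitude is finite tor amplitude. -/
theorem hasFiniteTorAmplitude_of_loc {X Y : Scheme.{u}} [CompactSpace X] (f : X ⟶ Y)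
    {F : CochainComplex X.Modules ℤ} (h : DerSch.LocFiniteTorAmplitude f F) :
    DerSch.HasFiniteTorAmplitude f F := by
  classical
  choose V a b hxV hV using h
  obtain ⟨s, hs⟩ := (isCompact_univ (X := X)).elim_finite_subcover
    (fun x : X => ((V x : X.Opens) : Set X)) (fun x => (V x).2) (fun x _ => Set.mem_iUnion.2 ⟨x, hxV x⟩)
  obtain ⟨A, hA⟩ : ∃ A : ℤ, ∀ x ∈ s, A ≤ a x := by
    obtain ⟨A, hA⟩ := (s.image a).bddBelow
    exact ⟨A, fun x hx => hA (Finset.mem_coe.2 (Finset.mem_image_of_mem a hx))⟩
  obtain ⟨B, hB⟩ : ∃ B : ℤ, ∀ x ∈ s, b x ≤ B := by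
    obtain ⟨B, hB⟩ := (s.image b).bddAbove
    exact ⟨B, fun x hx => hB (Finset.mem_coe.2 (Finset.mem_image_of_mem b hx))⟩
  refine ⟨A, B, fun y => ?_⟩
  obtain ⟨z, hz, hy⟩ := Set.mem_iUnion₂.1 (hs (Set.mem_univ y))
  exact DRingTor.mono (hA z hz) (hB z hz) (hV z y hy)

end Groth.Agent.PushAmp
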