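import Groth.Agent.PushAmp.ClosedCoh
import Groth.Agent.KFlatLib.Perfect.Top
import Groth.Agent.KFlatLib.Scheme.RpushRestrict
import Groth.Agent.QCoh.Filtration
import Groth.Agent.KFlatLib.Scheme.LocalDevissage
import Groth.Agent.KFlatLib.Scheme.TildePC
import Mathlib.CategoryTheory.Triangulated.Basic

/-!
# Pseudo-coherence along closed immersions with pseudo-coherent structure sheaf
-/

set_option autoImplicit false
set_option linter.style.haveILetI false
set_option backward.isDefEq.respectTransparency false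
set_option backward.isDefEq.respectTransparency.types false

universe u

open CategoryTheory CategoryTheory.Limits AlgebraicGeometry TopologicalSpace
  CategoryTheory.Pretriangulated

attribute [local instance] HasDerivedCategory.standard

namespace Groth.Agent.PushAmp

open Groth.Agent.KFlatLib

variable {Z W V : Scheme.{u}} (s : Z ⟶ W) [IsClosedImmersion s]

instance preservesFiniteColimits_push_closed :
    PreservesFiniteColimits (Scheme.Modules.pushforward s) :=
  ⟨fun J _ _ => preservesColimitsOfShape_push s J⟩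

instance isClosedImmersion_morphismRestrict (O : W.Opens) : IsClosedImmersion (s ∣_ O) :=
  IsZariskiLocalAtTarget.restrict (P := @IsClosedImmersion) inferInstance O

/-- The direct image along a closed immersion on derived categories. -/
noncomputable abbrev pushD : DCoh.D Z ⥤ DCoh.D W :=
  (Scheme.Modules.pushforward s).mapDerivedCategory

/-- `pushD` on a representative. -/
noncomputable def pushDQ :
    DerivedCategory.Q ⋙ pushD s ≅
      (Scheme.Modules.pushforward s).mapHomologicalComplex (ComplexShape.up ℤ) ⋙ DerivedCategory.Q :=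
  (Scheme.Modules.pushforward s).mapDerivedCategoryFactors

lemma nonempty_hd_pushD (K : DCoh.D Z) (i : ℤ) :
    Nonempty (DCoh.HD ((pushD s).obj K) i ≅ (Scheme.Modules.pushforward s).obj (DCoh.HD K i)) := by
  obtain ⟨e⟩ := nonempty_hd_pushCx_closed s (DerivedCategory.Q.objPreimage K) i
  exact ⟨(DerivedCategory.homologyFunctor W.Modules i).mapIso
    ((pushD s).mapIso (repIso K).symm ≪≫ (pushDQ s).app _) ≪≫ e ≪≫
    (Scheme.Modules.pushforward s).mapIso
      ((DerivedCategory.homologyFunctor Z.Modules i).mapIso (repIso K))⟩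

/-- `pushD` commutes with restriction to an open. -/
noncomputable def pushDRho (O : W.Opens) (K : DCoh.D Z) :
    (rho O.ι).obj ((pushD s).obj K) ≅ (pushD (s ∣_ O)).obj ((rho (s ⁻¹ᵁ O).ι).obj K) :=
  (rho O.ι).mapIso ((pushD s).mapIso (repIso K).symm ≪≫ (pushDQ s).app _) ≪≫
    (rhoQ O.ι).app _ ≪≫
    DerivedCategory.Q.mapIso ((NatIso.mapHomologicalComplex (pushRestrictIso s O)
      (ComplexShape.up ℤ)).app _) ≪≫
    ((pushDQ (s ∣_ O)).app ((rCx (s ⁻¹ᵁ O).ι).obj (DerivedCategory.Q.objPreimage K))).symm ≪≫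
    (pushD (s ∣_ O)).mapIso (((rhoQ (s ⁻¹ᵁ O).ι).app _).symm ≪≫
      (rho (s ⁻¹ᵁ O).ι).mapIso (repIso K))

/-- `pushD` of a composite. -/
noncomputable def pushDComp (t : W ⟶ V) [IsClosedImmersion t] (k : Z ⟶ V) [IsClosedImmersion k]
    (h : s ≫ t = k) (K : DCoh.D Z) :
    (pushD t).obj ((pushD s).obj K) ≅ (pushD k).obj K :=
  (pushD t).mapIso ((pushD s).mapIso (repIso K).symm ≪≫ (pushDQ s).app _) ≪≫
    (pushDQ t).app _ ≪≫
    DerivedCategory.Q.mapIso ((NatIso.mapHomologicalComplex
      (Scheme.Modules.pushforwardComp s t ≪≫ Scheme.Modules.pushforwardCongr h)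
      (ComplexShape.up ℤ)).app _) ≪≫
    ((pushDQ k).app _).symm ≪≫ (pushD k).mapIso (repIso K)

/-- The direct image of the structure sheaf is pseudo-coherent. -/
def PushPC : Prop :=
  ∀ m : ℤ, LocPC m ((pushD s).obj (DCoh.inD Z (Coh.structureModule Z)))

variable {s}

/-- The restriction of a module in degree zero. -/
noncomputable def rhoInDIso {U X : Scheme.{u}} (j : U ⟶ X) [IsOpenImmersion j] (F : X.Modules) :
    (rho j).obj (DCoh.inD X F) ≅ DCoh.inD U (F.restrict j) :=
  ((Scheme.Modules.restrictFunctor j).mapDerivedCategorySingleFunctor 0).app F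

lemma PushPC.restrict (h : PushPC s) (O : W.Opens) : PushPC (s ∣_ O) := fun m =>
  ((h m).restrict O.ι).of_iso (pushDRho s O _ ≪≫ (pushD (s ∣_ O)).mapIso
    (rhoInDIso _ _ ≪≫ (DerivedCategory.singleFunctor _ 0).mapIso (restrictStructureIso (s ⁻¹ᵁ O).ι)))

/-- An object without cohomology in degrees at least `m` is `m`-pseudo-coherent. -/
lemma locPC_of_isZero_above {X : Scheme.{u}} {m : ℤ} {K : DCoh.D X}
    (h : ∀ i, m ≤ i → IsZero (DCoh.HD K i)) : LocPC m K := fun x => by
  let P : CochainComplex X.Modules ℤ :=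
    (HomologicalComplex.single X.Modules (ComplexShape.up ℤ) 0).obj (FlatMod.freeMod X 0)
  have hP : DCoh.IsStrictlyPerfect P := isStrictlyPerfect_single 0
  let j := (⊤ : X.Opens).ι
  have hz : ∀ i, m ≤ i → IsZero (DCoh.HD ((rho j).obj K) i) := fun i hi =>
    ((Scheme.Modules.restrictFunctor j).map_isZero (h i hi)).of_iso (hdRhoIso j K i)
  have hF : IsZero (FlatMod.freeMod X 0) :=
    (IsZero.iff_id_eq_zero _).2 (Sigma.hom_ext _ _ fun i => i.elim0)
  have hzP : ∀ i, IsZero (DCoh.HD (DerivedCategory.Q.obj ((rCx j).obj P)) i) := fun i =>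
    Functor.map_isZero _ (Functor.map_isZero _ (Functor.map_isZero _ (Functor.map_isZero _ hF)))
  refine ⟨_, j, inferInstance, ⟨⟨x, trivial⟩, rfl⟩, (rCx j).obj P, 0,
    isStrictlyPerfect_restrict j hP, fun i hi => ?_, ?_⟩
  · exact ⟨0, (hzP i).eq_of_src _ _, (hz i hi.le).eq_of_tgt _ _⟩
  · exact ⟨fun a b _ => (hz m le_rfl).eq_of_src a b⟩

/-- A bound for the cohomology near a point. -/
lemma exists_bound_near {X : Scheme.{u}} {m : ℤ} {K : DCoh.D X} (hK : LocPC m K) (x : X) :
    ∃ (U : X.Opens) (b : ℤ), x ∈ U ∧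
      ∀ i, b < i → IsZero (DCoh.HD ((rho U.ι).obj K) i) := by
  obtain ⟨U, j, _, hx, P, α, hP, hα⟩ := hK x
  obtain ⟨a, b, hab⟩ := hP.1
  refine ⟨j.opensRange, max b m, hx, fun i hi => ?_⟩
  haveI := hα.1 i (by omega)
  have hz : IsZero (DCoh.HD ((rho j).obj K) i) :=
    ((ShortComplex.isZero_homology_of_isZero_X₂ (P.sc i) (hab i (Or.inr (by omega)))).of_iso
      ((DerivedCategory.homologyFunctorFactors U.Modules i).app P)).of_iso
      (asIso ((DerivedCategory.homologyFunctor U.Modules i).map α)).symm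
  exact ((Scheme.Modules.restrictFunctor (rangeHom j)).map_isZero hz).of_iso
    ((DerivedCategory.homologyFunctor _ i).mapIso
      (rhoComp (rangeHom j) j j.opensRange.ι (rangeHom_fac j) K).symm ≪≫
      hdRhoIso (rangeHom j) ((rho j).obj K) i)

/-- A direct image is zero on the complement. -/
lemma isZero_rho_push_compl (s : Z ⟶ W) [IsClosedImmersion s] (O : W.Opens) (hO : s ⁻¹ᵁ O = ⊥)
    (K : DCoh.D Z) (i : ℤ) : IsZero (DCoh.HD ((rho O.ι).obj ((pushD s).obj K)) i) := by
  obtain ⟨e⟩ := nonempty_hd_pushD (s ∣_ O) ((rho (s ⁻¹ᵁ O).ι).obj K) i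
  refine IsZero.of_iso ?_ ((DerivedCategory.homologyFunctor _ i).mapIso (pushDRho s O K) ≪≫ e)
  refine Functor.map_isZero _ (isZero_of_stalk _ fun y => ?_)
  exact absurd (show (y.1 : Z) ∈ (⊥ : Z.Opens) from hO.le y.2) (by simp)

/-- The open cover criterion at the points of the image. -/
lemma locPC_push_of_local {m : ℤ} {K : DCoh.D Z}
    (h : ∀ z : Z, ∃ O : W.Opens, s.base z ∈ O ∧
      LocPC m ((pushD (s ∣_ O)).obj ((rho (s ⁻¹ᵁ O).ι).obj K))) :
    LocPC m ((pushD s).obj K) := LocPC.of_local fun w => by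
  by_cases hw : w ∈ Set.range s.base
  · obtain ⟨z, rfl⟩ := hw
    obtain ⟨O, hO, hpc⟩ := h z
    exact ⟨_, O.ι, inferInstance, ⟨⟨_, hO⟩, rfl⟩, hpc.of_iso (pushDRho s O K).symm⟩
  · let O : W.Opens := ⟨(Set.range s.base)ᶜ, s.isClosedEmbedding.isClosed_range.isOpen_compl⟩
    refine ⟨_, O.ι, inferInstance, ⟨⟨w, hw⟩, rfl⟩, locPC_of_isZero_above fun i _ =>
      isZero_rho_push_compl s O ?_ K i⟩
    ext z
    simp only [Opens.coe_bot, Set.mem_empty_iff_false, iff_false]
    exact fun hz => hz ⟨z, rfl⟩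

/-- Direct images of finite free modules are pseudo-coherent. -/
lemma PushPC.free (h : PushPC s) : ∀ (n : ℕ) (m : ℤ),
    LocPC m ((pushD s).obj (DCoh.inD Z (FlatMod.freeMod Z n))) := by
  intro n
  induction n with
  | zero =>
    intro m
    refine locPC_of_isZero_above fun i _ => Functor.map_isZero _ (Functor.map_isZero _
      (Functor.map_isZero _ ?_))
    exact (IsZero.iff_id_eq_zero _).2 (Sigma.hom_ext _ _ fun i => i.elim0)
  | succ n ih =>
    intro m
    let F := DerivedCategory.singleFunctor Z.Modules 0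
    let e1 : FlatMod.freeMod Z 1 ≅ Coh.structureModule Z :=
      coproductUniqueIso (fun _ : Fin 1 => Coh.structureModule Z)
    haveI := preservesBinaryBiproducts_of_preservesBinaryCoproducts (F ⋙ pushD s)
    let A := (pushD s).obj (DCoh.inD Z (FlatMod.freeMod Z n))
    let B := (pushD s).obj (DCoh.inD Z (FlatMod.freeMod Z 1))
    have hB : LocPC m B := (h m).of_iso ((pushD s).mapIso (F.mapIso e1.symm))
    let eAB : A ⊞ B ≅ (pushD s).obj (DCoh.inD Z (FlatMod.freeMod Z (n + 1))) :=
      ((F ⋙ pushD s).mapBiprod _ _).symm ≪≫ (F ⋙ pushD s).mapIso (biprodFreeIso n 1)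
    exact ((locPC_two_of_three m _ (binaryBiproductTriangle_distinguished A B)).2.1
      (ih m) hB).of_iso eAB

/-- Finite free modules are pseudo-coherent. -/
lemma locPC_free {X : Scheme.{u}} (n : ℕ) (m : ℤ) : LocPC m (DCoh.inD X (FlatMod.freeMod X n)) :=
  LocPC.of_local fun x => by
    refine ⟨_, (⊤ : X.Opens).ι, inferInstance, ⟨⟨x, trivial⟩, rfl⟩, fun y => ?_⟩
    let j := (⊤ : X.Opens).ι
    refine ⟨_, 𝟙 _, inferInstance, ⟨y, rfl⟩, _,
      ((DerivedCategory.singleFunctorIsoCompQ _ 0).inv.app (FlatMod.freeMod _ n)) ≫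
        (((rho (𝟙 _)).mapIso (rhoInDIso j (FlatMod.freeMod X n) ≪≫
          (DerivedCategory.singleFunctor _ 0).mapIso
            ((Scheme.Modules.restrictFunctorIsoPullback j).app _ ≪≫ pullFreeIso j n)) ≪≫
          rhoInDIso (𝟙 _) _ ≪≫
          (DerivedCategory.singleFunctor _ 0).mapIso (Scheme.Modules.restrictFunctorId.app _)).inv),
      isStrictlyPerfect_single n, isPcMap_of_isIso _ _⟩

/-- A map from a free module in degree `b` given by cycles. -/
lemma exists_pcMap_single {C : Type*} [Category C] [Abelian C]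
    {G : CochainComplex C ℤ} {b : ℤ} (hz : ∀ i, b < i → IsZero (G.homology i)) {A : C}
    (t : A ⟶ G.cycles b) [Epi (t ≫ G.homologyπ b)] :
    ∃ φ : DerivedCategory.Q.obj ((HomologicalComplex.single C (ComplexShape.up ℤ) b).obj A) ⟶
      DerivedCategory.Q.obj G, IsPcMap b φ := by
  let f : (HomologicalComplex.single C (ComplexShape.up ℤ) b).obj A ⟶ G :=
    HomologicalComplex.mkHomFromSingle (t ≫ G.iCycles b) (fun i _ => by simp)
  refine ⟨DerivedCategory.Q.map f, isPcMap_of_homologyMap b f (fun i hi => ?_) ?_⟩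
  · exact ⟨0, (ShortComplex.isZero_homology_of_isZero_X₂ _
      (HomologicalComplex.isZero_single_obj_X (ComplexShape.up ℤ) b A i (by omega))).eq_of_src _ _,
      (hz i hi).eq_of_tgt _ _⟩
  · have hc : (HomologicalComplex.singleObjCyclesSelfIso (ComplexShape.up ℤ) b A).inv ≫
        HomologicalComplex.cyclesMap f b = t := by
      rw [← cancel_mono (G.iCycles b), Category.assoc, HomologicalComplex.cyclesMap_i,
        ← Category.assoc, HomologicalComplex.singleObjCyclesSelfIso_inv_iCycles]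
      simp [f]
    have he : Epi (((HomologicalComplex.singleObjCyclesSelfIso (ComplexShape.up ℤ) b A).inv ≫
        ((HomologicalComplex.single C (ComplexShape.up ℤ) b).obj A).homologyπ b) ≫
          HomologicalComplex.homologyMap f b) := by
      rw [Category.assoc, HomologicalComplex.homologyπ_naturality, ← Category.assoc, hc]
      infer_instance
    exact epi_of_epi ((HomologicalComplex.singleObjCyclesSelfIso (ComplexShape.up ℤ) b A).inv ≫
      ((HomologicalComplex.single C (ComplexShape.up ℤ) b).obj A).homologyπ b) _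

/-- The passage to homology commutes with an exact functor. -/
lemma mapCyclesIso_hom_map_homologyπ {C D : Type*} [Category C] [Category D] [Abelian C] [Abelian D]
    (S : ShortComplex C) (F : C ⥤ D) [F.PreservesZeroMorphisms] [F.PreservesLeftHomologyOf S] :
    (S.mapCyclesIso F).hom ≫ F.map S.homologyπ =
      (S.map F).homologyπ ≫ (S.mapHomologyIso F).hom := by
  rw [S.leftHomologyData.mapCyclesIso_eq F, S.leftHomologyData.mapHomologyIso_eq F]
  simp only [Iso.trans_hom, Functor.mapIso_hom, Iso.symm_hom, Category.assoc,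
    ShortComplex.LeftHomologyData.homologyπ_comp_homologyIso_hom_assoc,
    ShortComplex.LeftHomologyData.map_π, ← Functor.map_comp,
    ShortComplex.LeftHomologyData.π_comp_homologyIso_inv]

/-- A free module in degree `b` mapping onto the top cohomology. -/
lemma exists_free_top {X : Scheme.{u}} {M : DCoh.D X} {b : ℤ}
    (hz : ∀ i, b < i → IsZero (DCoh.HD M i)) (hFT : CohB1.IsFT (DCoh.HD M b)) (x : X) :
    ∃ (U : X.Opens) (n : ℕ) (φ : (DCoh.inD (U : Scheme.{u}) (FlatMod.freeMod _ n))⟦-b⟧ ⟶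
      (rho U.ι).obj M), x ∈ U ∧ IsPcMap b φ := by
  obtain ⟨W₁, n, p, hx₁, hp⟩ := exists_epi_free_of_isFT hFT x
  let M₁ := (rho W₁.ι).obj M
  let G := DerivedCategory.Q.objPreimage M₁
  let eG : G.homology b ≅ (DCoh.HD M b).restrict W₁.ι :=
    ((DerivedCategory.homologyFunctorFactors _ b).app G).symm ≪≫
      (DerivedCategory.homologyFunctor _ b).mapIso (repIso M₁) ≪≫ hdRhoIso W₁.ι M b
  haveI := hp
  let g := p ≫ eG.inv
  haveI : Epi g := epi_comp _ _
  obtain ⟨W₂, h, hx₂, hh⟩ := exists_lift (isFinLocFree_freeMod n) (G.homologyπ b) g ⟨x, hx₁⟩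
  let R := Scheme.Modules.restrictFunctor W₂.ι
  let G₂ := (rCx W₂.ι).obj G
  let t : (FlatMod.freeMod (W₁ : Scheme.{u}) n).restrict W₂.ι ⟶ G₂.cycles b :=
    h ≫ ((G.sc b).mapCyclesIso R).inv
  have ht : t ≫ G₂.homologyπ b = R.map g ≫ ((G.sc b).mapHomologyIso R).inv := by
    rw [← hh, Category.assoc, Category.assoc]
    refine congrArg (h ≫ ·) ?_
    rw [Iso.inv_comp_eq, ← Category.assoc, Iso.eq_comp_inv]
    exact (mapCyclesIso_hom_map_homologyπ (G.sc b) R).symm
  haveI : Epi (R.map g) := inferInstance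
  haveI : Epi (t ≫ G₂.homologyπ b) := by rw [ht]; infer_instance
  obtain ⟨φ, hφ⟩ := exists_pcMap_single (G := G₂) (b := b) (fun i hi => by
    refine IsZero.of_iso (R.map_isZero ?_) ((G.sc i).mapHomologyIso R)
    exact (((Scheme.Modules.restrictFunctor W₁.ι).map_isZero (hz i hi)).of_iso
      (hdRhoIso W₁.ι M i)).of_iso (((DerivedCategory.homologyFunctorFactors _ i).app G).symm ≪≫
        (DerivedCategory.homologyFunctor _ i).mapIso (repIso M₁))) t
  let k := W₂.ι ≫ W₁.ι
  let i := rangeHom k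
  let S := DerivedCategory.singleFunctor
  let eF : ((FlatMod.freeMod (W₁ : Scheme.{u}) n).restrict W₂.ι).restrict i ≅
      FlatMod.freeMod (k.opensRange : Scheme.{u}) n :=
    (Scheme.Modules.restrictFunctor i).mapIso
      ((Scheme.Modules.restrictFunctorIsoPullback W₂.ι).app _ ≪≫ pullFreeIso W₂.ι n) ≪≫
      (Scheme.Modules.restrictFunctorIsoPullback i).app _ ≪≫ pullFreeIso i n
  let a : (DCoh.inD (k.opensRange : Scheme.{u}) (FlatMod.freeMod _ n))⟦-b⟧ ≅
      (rho i).obj (DerivedCategory.Q.obj ((HomologicalComplex.single _ (ComplexShape.up ℤ) b).obj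
        ((FlatMod.freeMod (W₁ : Scheme.{u}) n).restrict W₂.ι))) :=
    (((DerivedCategory.singleFunctors _).shiftIso (-b) b 0 (by omega)).app (FlatMod.freeMod _ n)) ≪≫
      (S _ b).mapIso eF.symm ≪≫
      (((Scheme.Modules.restrictFunctor i).mapDerivedCategorySingleFunctor b).app _).symm ≪≫
      (rho i).mapIso (singleQ b _)
  let c : (rho i).obj (DerivedCategory.Q.obj G₂) ≅ (rho k.opensRange.ι).obj M :=
    (rho i).mapIso (((rhoQ W₂.ι).app G).symm ≪≫ (rho W₂.ι).mapIso (repIso M₁) ≪≫
      rhoComp W₂.ι W₁.ι k rfl M) ≪≫ rhoComp i k k.opensRange.ι (rangeHom_fac k) M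
  exact ⟨k.opensRange, n, a.hom ≫ (rho i).map φ ≫ c.hom, ⟨⟨⟨x, hx₁⟩, hx₂⟩, rfl⟩,
    (hφ.map_exact _).comp_iso _ _⟩

/-- Finite type descends along a closed immersion. -/
lemma isFT_of_push_closed (F : Z.Modules)
    (hF : CohB1.IsFT ((Scheme.Modules.pushforward s).obj F)) : CohB1.IsFT F := by
  refine isFT_of_epi_free fun z => ?_
  obtain ⟨O, n, p, hzO, hp⟩ := exists_epi_free_of_isFT hF (s.base z)
  let adj := Scheme.Modules.pullbackPushforwardAdjunction (s ∣_ O)
  let F' := F.restrict (s ⁻¹ᵁ O).ι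
  let p' : FlatMod.freeMod (O : Scheme.{u}) n ⟶ (Scheme.Modules.pushforward (s ∣_ O)).obj F' :=
    p ≫ (pushRestrictIso s O).hom.app F
  haveI := hp
  haveI : Epi p' := epi_comp _ _
  let q := (adj.homEquiv _ F').symm p'
  have hq : Epi q := by
    have h₁ : adj.unit.app _ ≫ (Scheme.Modules.pushforward (s ∣_ O)).map q = p' :=
      (Adjunction.homEquiv_unit adj _ _ q).symm.trans ((adj.homEquiv _ F').apply_symm_apply p')
    haveI : Epi ((Scheme.Modules.pushforward (s ∣_ O)).map q) := epi_of_epi_fac h₁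
    rw [Preadditive.epi_iff_isZero_cokernel]
    refine QCoh.isZero_of_isZero_push (s ∣_ O) ?_
    exact (isZero_cokernel_of_epi _).of_iso (PreservesCokernel.iso _ q)
  haveI := hq
  exact ⟨s ⁻¹ᵁ O, n, (pullFreeIso (s ∣_ O) n).inv ≫ q, hzO, epi_comp _ _⟩

/-- Opens of the source come from the target. -/
lemma exists_open_preimage (s : Z ⟶ W) [IsClosedImmersion s] (U : Z.Opens) :
    ∃ O : W.Opens, s ⁻¹ᵁ O = U := by
  obtain ⟨O, hO, h⟩ := s.isClosedEmbedding.isInducing.isOpen_iff.1 U.2
  exact ⟨⟨O, hO⟩, Opens.ext h⟩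

/-- Cohomological bounds pass to restrictions. -/
lemma isZero_hd_rho {X U : Scheme.{u}} (j : U ⟶ X) [IsOpenImmersion j] {K : DCoh.D X} {i : ℤ}
    (h : IsZero (DCoh.HD K i)) : IsZero (DCoh.HD ((rho j).obj K) i) :=
  ((Scheme.Modules.restrictFunctor j).map_isZero h).of_iso (hdRhoIso j K i)

/-- The induction step: a local reduction to lower cohomological degree. -/
theorem locPC_push_iff_bounded : ∀ (k : ℕ) {Z W : Scheme.{u}} (s : Z ⟶ W) [IsClosedImmersion s],
    PushPC s → ∀ (m : ℤ) (M : DCoh.D Z), (∀ i, m + k ≤ i → IsZero (DCoh.HD M i)) →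
    (LocPC m M ↔ LocPC m ((pushD s).obj M)) := by
  intro k
  induction k with
  | zero =>
    intro Z W s _ _ m M hz
    refine iff_of_true (locPC_of_isZero_above fun i hi => hz i (by omega))
      (locPC_of_isZero_above fun i hi => ?_)
    obtain ⟨e⟩ := nonempty_hd_pushD s M i
    exact (Functor.map_isZero _ (hz i (by omega))).of_iso e
  | succ k ih =>
    intro Z W s _ hs m M hz
    let b : ℤ := m + k
    have hzb : ∀ i, b < i → IsZero (DCoh.HD M i) := fun i hi => hz i (by omega)
    have core : CohB1.IsFT (DCoh.HD M b) → ∀ z : Z, ∃ O : W.Opens, s.base z ∈ O ∧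
        (LocPC m ((rho (s ⁻¹ᵁ O).ι).obj M) ↔
          LocPC m ((pushD (s ∣_ O)).obj ((rho (s ⁻¹ᵁ O).ι).obj M))) := by
      intro hFT z
      obtain ⟨U, n, φ, hzU, hφ⟩ := exists_free_top hzb hFT z
      obtain ⟨O, rfl⟩ := exists_open_preimage s U
      refine ⟨O, hzU, ?_⟩
      let N := (rho (s ⁻¹ᵁ O).ι).obj M
      let A := (DCoh.inD (s ⁻¹ᵁ O : Scheme.{u}) (FlatMod.freeMod _ n))⟦-b⟧
      obtain ⟨M', u, δ, hT⟩ := distinguished_cocone_triangle φ
      let H := DerivedCategory.homologyFunctor (s ⁻¹ᵁ O : Scheme.{u}).Modules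
      have hzA : ∀ i, i ≠ b → IsZero ((H i).obj A) := fun i hi =>
        ((ShortComplex.isZero_homology_of_isZero_X₂ _
          (HomologicalComplex.isZero_single_obj_X (ComplexShape.up ℤ) b _ i hi)).of_iso
          ((DerivedCategory.homologyFunctorFactors _ i).app _)).of_iso
          ((H i).mapIso ((((DerivedCategory.singleFunctors _).shiftIso (-b) b 0 (by omega)).app _) ≪≫
            singleQ b _))
      have hz' : ∀ i, m + k ≤ i → IsZero ((H i).obj M') := fun i hi => by
        haveI : Epi ((H i).map u) :=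
          (DerivedCategory.HomologySequence.exact₃ _ hT i (i + 1) rfl).epi_f
            ((hzA (i + 1) (by omega)).eq_of_tgt _ _)
        refine IsZero.of_epi_eq_zero ((H i).map u) ?_
        rcases eq_or_lt_of_le hi with h | h
        · obtain rfl : b = i := h
          haveI := hφ.2
          refine (cancel_epi ((H b).map φ)).1 ?_
          rw [← Functor.map_comp]
          exact ((congrArg (H b).map (comp_distTriang_mor_zero₁₂ _ hT)).trans
            (Functor.map_zero _ _ _)).trans comp_zero.symm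
        · exact (isZero_hd_rho _ (hz i (by omega))).eq_of_src _ _
      have hA : ∀ m' : ℤ, LocPC m' A := fun m' => by
        have := (locPC_free (X := (s ⁻¹ᵁ O : Scheme.{u})) n (m' - b)).shift (-b)
        rwa [show m' - b - -b = m' by omega] at this
      have hpA : ∀ m' : ℤ, LocPC m' ((pushD (s ∣_ O)).obj A) := fun m' => by
        have := (((hs.restrict O).free n (m' - b)).shift (-b)).of_iso
          (((pushD (s ∣_ O)).commShiftIso (-b)).app _).symm
        rwa [show m' - b - -b = m' by omega] at this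
      have hM' := ih (s ∣_ O) (hs.restrict O) m M' hz'
      have hT' := (pushD (s ∣_ O)).map_distinguished _ hT
      constructor
      · intro hN
        exact (locPC_two_of_three m _ hT').2.1 (hpA m)
          (hM'.1 ((locPC_two_of_three m _ hT).1 (hA (m + 1)) hN))
      · intro hN
        exact (locPC_two_of_three m _ hT).2.1 (hA m)
          (hM'.2 ((locPC_two_of_three m _ hT').1 (hpA (m + 1)) hN))
    constructor
    · intro hM
      refine locPC_push_of_local fun z => ?_
      obtain ⟨O, hzO, hiff⟩ := core (isFT_top (hM.mono (by omega)) hzb) z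
      exact ⟨O, hzO, hiff.1 (hM.restrict _)⟩
    · intro hM
      have hzp : ∀ i, b < i → IsZero (DCoh.HD ((pushD s).obj M) i) := fun i hi => by
        obtain ⟨e⟩ := nonempty_hd_pushD s M i
        exact (Functor.map_isZero _ (hzb i hi)).of_iso e
      obtain ⟨eb⟩ := nonempty_hd_pushD s M b
      have hFT : CohB1.IsFT (DCoh.HD M b) :=
        isFT_of_push_closed (s := s) _ (isFT_of_iso' eb (isFT_top (hM.mono (by omega)) hzp))
      refine LocPC.of_local fun z => ?_
      obtain ⟨O, hzO, hiff⟩ := core hFT z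
      exact ⟨_, (s ⁻¹ᵁ O).ι, inferInstance, ⟨⟨z, hzO⟩, rfl⟩,
        hiff.2 ((hM.restrict O.ι).of_iso (pushDRho s O M))⟩

/-- Pseudo-coherence is unchanged by a closed immersion with pseudo-coherent structure sheaf. -/
theorem locPC_pushD_iff (s : Z ⟶ W) [IsClosedImmersion s] (hs : PushPC s) (m : ℤ) (M : DCoh.D Z) :
    LocPC m M ↔ LocPC m ((pushD s).obj M) := by
  constructor
  · intro hM
    refine locPC_push_of_local fun z => ?_
    obtain ⟨U, b, hzU, hb⟩ := exists_bound_near hM z
    obtain ⟨O, rfl⟩ := exists_open_preimage s U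
    exact ⟨O, hzU, (locPC_push_iff_bounded (b + 1 - m).toNat (s ∣_ O) (hs.restrict O) m _
      (fun i hi => hb i (by omega))).1 (hM.restrict _)⟩
  · intro hM
    refine LocPC.of_local fun z => ?_
    obtain ⟨O, b, hzO, hb⟩ := exists_bound_near hM (s.base z)
    refine ⟨_, (s ⁻¹ᵁ O).ι, inferInstance, ⟨⟨z, hzO⟩, rfl⟩,
      (locPC_push_iff_bounded (b + 1 - m).toNat (s ∣_ O) (hs.restrict O) m _
        (fun i hi => ?_)).2 ((hM.restrict O.ι).of_iso (pushDRho s O M))⟩
    obtain ⟨e⟩ := nonempty_hd_pushD (s ∣_ O) ((rho (s ⁻¹ᵁ O).ι).obj M) i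
    exact QCoh.isZero_of_isZero_push (s ∣_ O) ((hb i (by omega)).of_iso
      (e.symm ≪≫ (DerivedCategory.homologyFunctor _ i).mapIso (pushDRho s O M).symm))

end Groth.Agent.PushAmp
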