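import Groth.Agent.PushAmp.RelPC
import Groth.Agent.KFlatLib.Scheme.RpushRestrict
import Groth.Agent.KFlatLib.Scheme.ProjLocFree
import Groth.Agent.DQGen.RpushCoh
import Groth.Agent.DQGen.RpushProperSupp
import Groth.Agent.PushAmp.Adjoint

/-! Derived direct images along proper morphisms of relatively pseudo-coherent objects. -/

set_option autoImplicit false
set_option linter.style.haveILetI false
set_option backward.isDefEq.respectTransparency false

universe u

open CategoryTheory CategoryTheory.Limits AlgebraicGeometry TopologicalSpace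

attribute [local instance] HasDerivedCategory.standard

namespace Groth.Agent.PushAmp

open KFlatLib

variable {X Y S : Scheme.{u}} [IsLocallyNoetherian S] (p : X ⟶ S) (q : Y ⟶ S)
  [LocallyOfFiniteType p] [LocallyOfFiniteType q] (f : X ⟶ Y) [IsProper f] [DCoh.HasRpush f]

include q in
/-- Over an affine open the direct image is coherent and bounded above. -/
theorem isCoh_bound_rpush_affine (E : DCoh.D X) (a : ℤ) [E.IsGE a]
    (hE : DerSch.IsPseudoCoherentRelAll p E) (V : Y.affineOpens) :
    DCoh.IsCohD ((rho (V : Y.Opens).ι).obj ((DCoh.Rpush f).obj E)) ∧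
      ∃ b : ℤ, ∀ i, b < i → IsZero
        ((Scheme.Modules.restrictFunctor (V : Y.Opens).ι).obj (DCoh.HD ((DCoh.Rpush f).obj E) i)) := by
  haveI : IsLocallyNoetherian Y := LocallyOfFiniteType.isLocallyNoetherian q
  haveI : IsLocallyNoetherian X := LocallyOfFiniteType.isLocallyNoetherian p
  let U : Y.Opens := V
  let W := f ⁻¹ᵁ U
  haveI : IsAffine (U : Scheme.{u}) := V.2
  haveI : IsLocallyNoetherian (U : Scheme.{u}) := isLocallyNoetherian_of_isOpenImmersion U.ι
  haveI : IsNoetherian (U : Scheme.{u}) := {}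
  haveI : IsLocallyNoetherian (W : Scheme.{u}) := isLocallyNoetherian_of_isOpenImmersion W.ι
  haveI : IsProper (f ∣_ U) := MorphismProperty.of_isPullback (isPullback_morphismRestrict f U).flip inferInstance
  haveI := hasRpush_scheme (f ∣_ U)
  haveI : HasInjectiveResolutions (W : Scheme.{u}).Modules := hasInjectiveResolutions_modules
  let E' := (rho W.ι).obj E
  have hc : DCoh.IsCohD E' := isCohD_rho _ (isCohD_of_relPC p hE)
  obtain ⟨b, hb⟩ := exists_bound_of_relPC p (hE 0) W (f.isCompact_preimage V.2.isCompact)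
  haveI : E'.IsGE a := (DerivedCategory.isGE_iff _ _).2 fun i hi =>
    ((Scheme.Modules.restrictFunctor W.ι).map_isZero (DerivedCategory.isZero_of_isGE E a i hi)).of_iso
      (restrictHDIso W.ι E i)
  haveI : E'.IsLE b := (DerivedCategory.isLE_iff _ _).2 fun i hi =>
    (hb i hi).of_iso (restrictHDIso W.ι E i)
  have hg : ∀ i, DQGen.GoodPush (f ∣_ U) (DCoh.HD E' i) := fun i =>
    DQGen.goodPush_of_properSupport (f ∣_ U) (hc i)
      (isProperOver_of_isProper (f ∣_ U) (QCoh.isClosed_support_of_isFT (hc i).1 (hc i).2))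
  obtain ⟨e⟩ := nonempty_rpush_restrictD_iso f U
  refine ⟨isCohD_of_iso (e.app E).symm (DQGen.isCohD_rpush_of_isGE (f ∣_ U) E' a hg), ?_⟩
  obtain ⟨b', hb'⟩ := DQGen.exists_isLE_rpush (f ∣_ U) E' a b hg
  exact ⟨b', fun i hi =>
    (@DerivedCategory.isZero_of_isLE _ _ _ _ ((DCoh.Rpush (f ∣_ U)).obj E') b' i hi hb').of_iso
    ((restrictHDIso U.ι _ i).symm ≪≫ (DerivedCategory.homologyFunctor _ i).mapIso (e.app E))⟩

/-- Derived direct images along proper morphisms preserve relative pseudo-coherence. -/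
theorem relPC_rpush (E : DCoh.D X) (a : ℤ) [E.IsGE a] (hE : DerSch.IsPseudoCoherentRelAll p E) :
    DerSch.IsPseudoCoherentRelAll q ((DCoh.Rpush f).obj E) := by
  haveI : IsLocallyNoetherian Y := LocallyOfFiniteType.isLocallyNoetherian q
  refine relPC_of_coh q (fun i => KFlatLib.isCoh_of_local fun y => ?_)
    fun V => (isCoh_bound_rpush_affine p q f E a hE V).2
  obtain ⟨_, ⟨(V : Y.Opens), hV, rfl⟩, hyV, -⟩ :=
    Y.isBasis_affineOpens.exists_subset_of_mem_open (Set.mem_univ y) isOpen_univ
  haveI : IsLocallyNoetherian ((V : Y.Opens) : Scheme.{u}) := isLocallyNoetherian_of_isOpenImmersion (V : Y.Opens).ι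
  exact ⟨_, (V : Y.Opens).ι, inferInstance, ⟨⟨y, hyV⟩, rfl⟩,
    KFlatLib.isCoh_of_iso (restrictHDIso (V : Y.Opens).ι ((DCoh.Rpush f).obj E) i)
    ((isCoh_bound_rpush_affine p q f E a hE ⟨V, hV⟩).1 i)⟩

end Groth.Agent.PushAmp
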