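import Groth.Agent.PushAmp.Stalk
import Groth.Agent.PushAmp.Restrict
import Groth.Agent.KFlatLib.Scheme.Amplitude
import Groth.Agent.KFlatLib.Scheme.TorQCoh
import Groth.Agent.KFlatLib.Perfect.Corollaries
import Groth.Agent.H9Misc.DRingTorLTensor
import Mathlib.LinearAlgebra.TensorProduct.Tower

/-! `E ⊗^L G` for perfect `E` and `G` flat over the base has finite tor amplitude over the base. -/

set_option autoImplicit false
set_option linter.style.haveILetI false
set_option backward.isDefEq.respectTransparency false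

universe u

open CategoryTheory CategoryTheory.Limits AlgebraicGeometry MonoidalCategory

attribute [local instance] HasDerivedCategory.standard

namespace Groth.Agent.PushAmp

open KFlatLib

section Ring

open scoped TensorProduct

variable {A B : Type u} [CommRing A] [CommRing B]

theorem flat_tensorProduct_of_flat [Algebra A B] (M N : Type u) [AddCommGroup M] [Module B M]
    [AddCommGroup N] [Module B N] [Module A N] [IsScalarTower A B N] [Module.Flat B M]
    [Module.Flat A N] [Module A M] [IsScalarTower A B M] :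
    Module.Flat A (M ⊗[B] N) := by
  rw [Module.Flat.iff_lTensor_preserves_injective_linearMap]
  intro P P' _ _ _ _ g hg
  let e := fun (Q : Type u) [AddCommGroup Q] [Module A Q] =>
    TensorProduct.AlgebraTensorModule.assoc A B B M N Q
  let gB : N ⊗[A] P →ₗ[B] N ⊗[A] P' := TensorProduct.AlgebraTensorModule.lTensor B N g
  have hcomm : ∀ z : (M ⊗[B] N) ⊗[A] P,
      e P' (LinearMap.lTensor (M ⊗[B] N) g z) = LinearMap.lTensor M gB (e P z) := by
    intro z
    induction z using TensorProduct.induction_on with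
    | zero => simp
    | add a b ha hb => simp [map_add, ha, hb]
    | tmul mn p =>
      induction mn using TensorProduct.induction_on with
      | zero => simp
      | add a b ha hb => simp only [TensorProduct.add_tmul, map_add] at ha hb ⊢; rw [ha, hb]
      | tmul m n => rfl
  have hgB : Function.Injective gB := Module.Flat.lTensor_preserves_injective_linearMap (M := N) g hg
  intro z z' h
  apply (e P).injective
  apply Module.Flat.lTensor_preserves_injective_linearMap (M := M) gB hgB
  rw [← hcomm, ← hcomm, h]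

/-- A K-flat complex of tor amplitude in `[a, b]` tensored with a module flat over `A`. -/
theorem hasTorAmplitude_restrict_tensor (φ : A →+* B) {L : DRing.Cx B} {a b : ℤ}
    (hL : H9Misc.DRingLTensor.IsKF L) (h : DRing.HasTorAmplitudeIn B a b (DRing.toD L))
    (G : ModuleCat.{u} B) (hG : Module.Flat A ((ModuleCat.restrictScalars φ).obj G)) :
    DRing.HasTorAmplitudeIn A a b (DRing.toD (((tensorRight G ⋙
      ModuleCat.restrictScalars φ).mapHomologicalComplex (ComplexShape.up ℤ)).obj L)) := by
  obtain ⟨P, hPz, hPf, ⟨eP⟩⟩ := h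
  let T := curriedTensor (ModuleCat.{u} B)
  obtain ⟨F, ψ, hψ, hF⟩ := H9Misc.DRingTorLTensor.exists_resolution G
  haveI := hψ
  let Φ : DRing.Cx B ⥤ Dual.D B := T.map₂CochainComplex.flip.obj F ⋙ DerivedCategory.Q
  have hΦ : (HomologicalComplex.quasiIso (ModuleCat.{u} B) (ComplexShape.up ℤ)).IsInvertedBy Φ := by
    intro X Y g (hg : QuasiIso g)
    haveI := hg
    haveI : QuasiIso ((T.map₂CochainComplex.flip.obj F).map g) := KFlat.quasiIso_map hF g
    exact inferInstanceAs (IsIso (DerivedCategory.Q.map _))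
  let eΦ : Φ.obj P ≅ Φ.obj L :=
    ((Localization.fac Φ hΦ DerivedCategory.Q).app P).symm ≪≫
      (Localization.lift Φ hΦ DerivedCategory.Q).mapIso eP ≪≫
      (Localization.fac Φ hΦ DerivedCategory.Q).app L
  have hP : H9Misc.DRingLTensor.IsKF P :=
    H9Misc.DRingTor.isKF_of_flat (fun j => hPf j) fun j hj => hPz j (Or.inr hj)
  have key : ∀ (K : DRing.Cx B), H9Misc.DRingLTensor.IsKF K →
      Nonempty (Φ.obj K ≅ DerivedCategory.Q.obj
        (((tensorRight G).mapHomologicalComplex (ComplexShape.up ℤ)).obj K)) := fun K hK => by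
    haveI : QuasiIso ((T.map₂CochainComplex.obj K).map ψ) := quasiIso_tensorHom_id ψ hK
    exact ⟨asIso (DerivedCategory.Q.map ((T.map₂CochainComplex.obj K).map ψ)) ≪≫
      DerivedCategory.Q.mapIso ((singleIso T G).app K)⟩
  obtain ⟨k₁⟩ := key P hP
  obtain ⟨k₂⟩ := key L hL
  let R := ModuleCat.restrictScalars.{u} φ
  let comp : ∀ K : DRing.Cx B,
      ((tensorRight G ⋙ R).mapHomologicalComplex (ComplexShape.up ℤ)).obj K ≅
        (R.mapHomologicalComplex (ComplexShape.up ℤ)).obj
          (((tensorRight G).mapHomologicalComplex (ComplexShape.up ℤ)).obj K) := fun K =>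
    HomologicalComplex.Hom.isoOfComponents (fun _ => Iso.refl _) (fun _ _ _ => by simp)
  refine ⟨((tensorRight G ⋙ R).mapHomologicalComplex (ComplexShape.up ℤ)).obj P,
    fun i hi => (tensorRight G ⋙ R).map_isZero (hPz i hi), fun i => ?_, ⟨?_⟩⟩
  · letI : Algebra A B := φ.toAlgebra
    letI : Module A (G : Type u) := Module.compHom G φ
    haveI : IsScalarTower A B (G : Type u) := IsScalarTower.of_algebraMap_smul fun _ _ => rfl
    letI : Module A (P.X i : Type u) := Module.compHom (P.X i) φ
    haveI : IsScalarTower A B (P.X i : Type u) := IsScalarTower.of_algebraMap_smul fun _ _ => rfl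
    haveI : Module.Flat B (P.X i) := hPf i
    haveI : Module.Flat A (G : Type u) := hG
    haveI := flat_tensorProduct_of_flat (A := A) (B := B) (P.X i : Type u) (G : Type u)
    let e' : ((R.obj (P.X i ⊗ G)) : Type u) ≃ₗ[A] (P.X i : Type u) ⊗[B] (G : Type u) :=
      { toFun := fun z => z
        invFun := fun z => z
        left_inv := fun _ => rfl
        right_inv := fun _ => rfl
        map_add' := fun _ _ => rfl
        map_smul' := fun r z => algebraMap_smul B r (show (P.X i : Type u) ⊗[B] (G : Type u) from z) }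
    exact Module.Flat.of_linearEquiv e'
  · exact DerivedCategory.Q.mapIso (comp P) ≪≫ (R.mapDerivedCategoryFactors.app _).symm ≪≫
      R.mapDerivedCategory.mapIso (k₁.symm ≪≫ eΦ ≪≫ k₂) ≪≫ R.mapDerivedCategoryFactors.app _ ≪≫
      DerivedCategory.Q.mapIso (comp L).symm

end Ring

variable {X S : Scheme.{u}}

/-- The stalks of a complex having a flat representative in `[a, b]` near a point. -/
theorem exists_nbhd_amplitude {E : DCoh.D X} (hE : DCoh.IsPerfect E) (R : CochainComplex X.Modules ℤ)
    (e : DCoh.toD X R ≅ E) (x : X) :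
    ∃ (V : X.Opens) (a b : ℤ), x ∈ V ∧ ∀ y ∈ V, DRing.HasTorAmplitudeIn (X.presheaf.stalk y) a b
      (DRing.toD ((stalkCx y).obj R)) := by
  obtain ⟨V, a, b, hxV, hV⟩ := locHasFiniteTorDim_of_locSP hE x
  obtain ⟨P, hPz, hPf, ⟨eP⟩⟩ := hV R ⟨e⟩
  refine ⟨V, a, b, hxV, fun y hy => ?_⟩
  let v : (V : Scheme.{u}) := ⟨y, hy⟩
  let Φ := DerSch.stalkOver (V.ι ≫ 𝟙 X) v
  obtain ⟨e₁⟩ := nonempty_stalkOver_iso V.ι (𝟙 X) v
  let e₂ : DerSch.stalkOver (𝟙 X) y ≅ DerSch.stalkFunctor X y :=
    Functor.isoWhiskerLeft _ (ModuleCat.restrictScalarsId' _ (by rw [Scheme.Hom.stalkMap_id]; rfl)) ≪≫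
      Functor.rightUnitor _
  let e₃ : Scheme.Modules.restrictFunctor V.ι ⋙ Φ ≅ DerSch.stalkFunctor X y := e₁ ≪≫ e₂
  let c : (Φ.mapHomologicalComplex (ComplexShape.up ℤ)).obj
      (((Scheme.Modules.restrictFunctor V.ι).mapHomologicalComplex (ComplexShape.up ℤ)).obj R) ≅
      (stalkCx y).obj R :=
    HomologicalComplex.Hom.isoOfComponents (fun i => e₃.app (R.X i))
      (fun i k _ => (e₃.hom.naturality (R.d i k)).symm)
  haveI : PreservesFiniteLimits Φ := comp_preservesFiniteLimits _ _
  haveI : PreservesFiniteColimits Φ := comp_preservesFiniteColimits _ _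
  refine ⟨(Φ.mapHomologicalComplex (ComplexShape.up ℤ)).obj P, fun i hi => Φ.map_isZero (hPz i hi),
    fun i => ?_, ⟨(Φ.mapDerivedCategoryFactors.app _).symm ≪≫ Φ.mapDerivedCategory.mapIso eP ≪≫
      Φ.mapDerivedCategoryFactors.app _ ≪≫ DerivedCategory.Q.mapIso c⟩⟩
  let σ := ((V.ι ≫ 𝟙 X).stalkMap v).hom
  haveI : IsIso ((V.ι ≫ 𝟙 X).stalkMap v) := inferInstance
  have hσ : σ.Flat := RingHom.Flat.of_bijective (asIso ((V.ι ≫ 𝟙 X).stalkMap v)).commRingCatIsoToRingEquiv.bijective
  let A' : Type u := X.presheaf.stalk ((V.ι ≫ 𝟙 X).base v)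
  letI : Algebra A' ((V : Scheme.{u}).presheaf.stalk v) := σ.toAlgebra
  letI : Module A' ((P.X i).presheaf.stalk v) := Module.compHom _ σ
  haveI : IsScalarTower A' ((V : Scheme.{u}).presheaf.stalk v) ((P.X i).presheaf.stalk v) :=
    IsScalarTower.of_algebraMap_smul fun _ _ => rfl
  haveI : Module.Flat A' ((V : Scheme.{u}).presheaf.stalk v) := hσ
  haveI : Module.Flat ((V : Scheme.{u}).presheaf.stalk v) ((P.X i).presheaf.stalk v) := hPf i v
  exact Module.Flat.trans A' ((V : Scheme.{u}).presheaf.stalk v) ((P.X i).presheaf.stalk v)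

/-- The derived tensor product of a perfect object with a module flat over the base, supported in a
quasi-compact set, has finite tor amplitude over the base. -/
theorem hasFiniteTorAmplitude_tensorMod (f : X ⟶ S) {E : DCoh.D X} (hE : DCoh.IsPerfect E)
    (R : CochainComplex X.Modules ℤ) (hR : DCoh.IsKFlat R) (e : DCoh.toD X R ≅ E)
    (G : X.Modules) (hG : FlatMod.IsFlatOver f G) (hs : IsCompact (CohB1.support G)) :
    DerSch.HasFiniteTorAmplitude f ((tensorModCx G).obj R) := by
  classical
  choose V a b hxV hV using exists_nbhd_amplitude hE R e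
  obtain ⟨s, hs⟩ := hs.elim_finite_subcover (fun x : X => (V x : Set X)) (fun x => (V x).2)
    (fun x _ => Set.mem_iUnion.2 ⟨x, hxV x⟩)
  obtain ⟨A, hA⟩ : ∃ A : ℤ, ∀ x ∈ s, A ≤ a x := by
    obtain ⟨A, hA⟩ := (s.image a).bddBelow
    exact ⟨A, fun x hx => hA (Finset.mem_coe.2 (Finset.mem_image_of_mem a hx))⟩
  obtain ⟨B, hB⟩ : ∃ B : ℤ, ∀ x ∈ s, b x ≤ B := by
    obtain ⟨B, hB⟩ := (s.image b).bddAbove
    exact ⟨B, fun x hx => hB (Finset.mem_coe.2 (Finset.mem_image_of_mem b hx))⟩
  refine ⟨A, B, fun x => ?_⟩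
  let C := ((tensorRight ((DerSch.stalkFunctor X x).obj G) ⋙
      ModuleCat.restrictScalars (f.stalkMap x).hom).mapHomologicalComplex (ComplexShape.up ℤ)).obj
      ((stalkCx x).obj R)
  let c : (DerSch.stalkCxOver f x).obj ((tensorModCx G).obj R) ≅ C :=
    HomologicalComplex.Hom.isoOfComponents
      (fun k => (ModuleCat.restrictScalars (f.stalkMap x).hom).mapIso
        ((stalkTensorRightIso G x).app (R.X k)))
      (fun k l _ => by
        change (ModuleCat.restrictScalars (f.stalkMap x).hom).map _ ≫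
          (ModuleCat.restrictScalars (f.stalkMap x).hom).map _ = (ModuleCat.restrictScalars (f.stalkMap x).hom).map _ ≫
          (ModuleCat.restrictScalars (f.stalkMap x).hom).map _
        rw [← Functor.map_comp, ← Functor.map_comp]
        exact congrArg _ ((stalkTensorRightIso G x).hom.naturality (R.d k l)).symm)
  refine H9Misc.DRingTor.of_iso (DerivedCategory.Q.mapIso c).symm ?_
  by_cases hx : x ∈ CohB1.support G
  · obtain ⟨z, hz, hxz⟩ := Set.mem_iUnion₂.1 (hs hx)
    exact H9Misc.DRingTor.mono (hA z hz) (hB z hz)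
      (hasTorAmplitude_restrict_tensor _ ((kFlat_iff_stalk R).1 hR x) (hV z x hxz) _ (hG x))
  · refine H9Misc.DRingTor.of_isZero (Functor.map_isZero DerivedCategory.Q ?_)
    haveI : Subsingleton ((DerSch.stalkFunctor X x).obj G : Type u) := not_not.1 hx
    refine (IsZero.iff_id_eq_zero C).2 (HomologicalComplex.hom_ext _ _ fun k => ?_)
    refine IsZero.eq_of_src ?_ _ _
    exact (ModuleCat.restrictScalars (f.stalkMap x).hom).map_isZero
      ((tensorLeft _).map_isZero (ModuleCat.isZero_of_subsingleton _))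

end Groth.Agent.PushAmp
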