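import Groth.Agent.PushAmp.Perfect
import Groth.Agent.DQGen.Basic
import Groth.Agent.PushAmp.Tensor
import Groth.Agent.QCoh.TensorSections
import Groth.Agent.QCoh.LocFree
import Groth.Agent.KFlatLib.Scheme.QCohTensor
import Groth.Agent.KFlatLib.Perfect.Amplitude
import Groth.Agent.QCoh.SupportFT
import Groth.Agent.QCoh.ProperOver2

/-! Derived direct images of `E ⊗^L G`. -/

set_option autoImplicit false
set_option linter.style.haveILetI false
set_option backward.isDefEq.respectTransparency false

universe u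

open CategoryTheory CategoryTheory.Limits AlgebraicGeometry MonoidalCategory

attribute [local instance] HasDerivedCategory.standard

namespace Groth.Agent.PushAmp

open KFlatLib

variable {X : Scheme.{u}}

open scoped ZeroObject in
/-- The zero module. -/
private noncomputable abbrev Zer {X : Scheme.{u}} : X.Modules := 0

lemma isCoh_homology [IsLocallyNoetherian X] (K : CochainComplex X.Modules ℤ) (h : ∀ i, Coh.IsCoh (K.X i)) (i : ℤ) :
    Coh.IsCoh (K.homology i) := by
  have hz : Coh.IsCoh (Zer : X.Modules) := isCoh_of_isZero (isZero_zero _)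
  have hcyc : Coh.IsCoh (K.cycles i) :=
    isCoh_of_exact (f := (0 : (Zer : X.Modules) ⟶ Zer)) (g := (0 : Zer ⟶ K.cycles i))
      (h := K.iCycles i) (k := K.d i (i + 1)) zero_comp zero_comp (K.iCycles_d i (i + 1))
      (ShortComplex.exact_of_isZero_X₂ _ (isZero_zero _))
      ((ShortComplex.exact_iff_mono _ rfl).2 (inferInstanceAs (Mono (K.iCycles i))))
      (ShortComplex.exact_of_f_is_kernel _ (K.cyclesIsKernel i (i + 1) (by simp)))
      hz hz (h i) (h (i + 1))
  exact isCoh_of_exact (f := K.toCycles (i - 1) i) (g := K.homologyπ i)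
      (h := (0 : K.homology i ⟶ Zer)) (k := (0 : (Zer : X.Modules) ⟶ Zer))
      (K.toCycles_comp_homologyπ _ _) comp_zero comp_zero
      (ShortComplex.exact_of_g_is_cokernel _ (K.homologyIsCokernel (i - 1) i (by simp)))
      ((ShortComplex.exact_iff_epi _ rfl).2 (inferInstanceAs (Epi (K.homologyπ i))))
      (ShortComplex.exact_of_isZero_X₂ _ (isZero_zero _))
      (h (i - 1)) hcyc hz hz

lemma isCoh_tensor_finLocFree [IsLocallyNoetherian X] {M N : X.Modules} (hM : FlatMod.IsFinLocFree M)
    (hN : Coh.IsCoh N) : Coh.IsCoh (CohB1.tensorMod M N) := by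
  have hM' : Coh.IsCoh M := QCoh.isCoh_iff_isFP.2 (QCoh.isFP_of_isFinLocFree hM)
  refine QCoh.isCoh_iff.2 ⟨KFlatLib.isQCoh_tensor hM'.1 hN.1, fun U => ?_⟩
  haveI := (QCoh.isCoh_iff.1 hM').2 U
  haveI := (QCoh.isCoh_iff.1 hN).2 U
  exact Module.Finite.of_surjective (QCoh.tmLin M N U.1) (QCoh.bijective_tmLin hM'.1 hN.1 U.2).2

/-- `E ⊗^L G` has coherent cohomology for perfect `E` and coherent `G`. -/
theorem isCoh_homology_tensorMod [IsLocallyNoetherian X] {E : DCoh.D X} (hE : DCoh.IsPerfect E)
    (R : CochainComplex X.Modules ℤ) (hR : DCoh.IsKFlat R) (e : DCoh.toD X R ≅ E)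
    (G : X.Modules) (hG : Coh.IsCoh G) (i : ℤ) :
    Coh.IsCoh (((tensorModCx G).obj R).homology i) := by
  refine isCoh_of_local fun x => ?_
  obtain ⟨U, j, hj, hx, P, hP, ⟨eP⟩⟩ := (isPerfect_iff E).1 hE x
  refine ⟨U, j, hj, hx, ?_⟩
  haveI : IsLocallyNoetherian U := isLocallyNoetherian_of_isOpenImmersion j
  let G' := (Scheme.Modules.pullback j).obj G
  haveI := hasLTensorMod G'
  have hG' : Coh.IsCoh G' :=
    isCoh_of_iso ((Scheme.Modules.restrictFunctorIsoPullback j).app G) (isCoh_restrict j hG)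
  obtain ⟨a, b, hab⟩ := hP.1
  have hPk : DCoh.IsKFlat P := isKFlat_of_vanishesOutside hab fun k => isFlat_of_isFinLocFree (hP.2 k)
  have c₁ : (pullCx j).obj ((tensorModCx G).obj R) ≅
      (tensorModCx G').obj ((pullCx j).obj R) :=
    (NatIso.mapHomologicalComplex (pullTensorRightIso j G) (ComplexShape.up ℤ)).app R
  have e₁ : (((tensorModCx G).obj R).homology i).restrict j ≅
      ((tensorModCx G').obj ((rCx j).obj R)).homology i :=
    (((((tensorModCx G).obj R)).sc i).mapHomologyIso (Scheme.Modules.restrictFunctor j)).symm ≪≫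
      (HomologicalComplex.homologyFunctor U.Modules _ i).mapIso
        (((restrictPullCxIso j).app _) ≪≫
          c₁ ≪≫
          (tensorModCx _).mapIso ((restrictPullCxIso j).app R).symm)
  have e₂ : ((tensorModCx G').obj ((rCx j).obj R)).homology i ≅ ((tensorModCx G').obj P).homology i :=
    (hdLTensorModIso G' (isKFlat_restrict j hR) i).symm ≪≫
      (DerivedCategory.homologyFunctor U.Modules i).mapIso ((DCoh.LTensorMod G').mapIso
        (((rhoQ j).app R).symm ≪≫ (rho j).mapIso e ≪≫ eP.symm)) ≪≫ hdLTensorModIso G' hPk i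
  exact isCoh_of_iso (e₁ ≪≫ e₂).symm
    (isCoh_homology _ (fun k => isCoh_tensor_finLocFree (hP.2 k) hG') i)

variable {S : Scheme.{u}}

/-- `Rf_*(E ⊗^L G)` is perfect for perfect `E` and coherent `G` flat over the base with proper support. -/
theorem isPerfect_rpush_ltensorMod [IsNoetherian S] (f : X ⟶ S) [LocallyOfFiniteType f]
    {E : DCoh.D X} (hE : DCoh.IsPerfect E) (G : X.Modules) (hG : Coh.IsCoh G)
    (hflat : FlatMod.IsFlatOver f G) (hsupp : ClSub.IsProperOver f (CohB1.support G))
    [DCoh.HasLTensorMod G] [DCoh.HasRpush f] :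
    DCoh.IsPerfect ((DCoh.Rpush f).obj ((DCoh.LTensorMod G).obj E)) := by
  haveI : IsLocallyNoetherian X := LocallyOfFiniteType.isLocallyNoetherian f
  let R := repK E
  have hR : DCoh.IsKFlat R := isKFlat_repK E
  let F := (tensorModCx G).obj R
  haveI := isIso_ltensorModComparison G hR
  let eF : DCoh.toD X F ≅ (DCoh.LTensorMod G).obj E :=
    (asIso ((ltensorModComparison G).app R)).symm ≪≫ (DCoh.LTensorMod G).mapIso (repKIso E)
  let eH : ∀ i, DCoh.HD (DCoh.toD X F) i ≅ F.homology i := fun i =>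
    (DerivedCategory.homologyFunctorFactors X.Modules i).app F
  have htor := hasFiniteTorAmplitude_tensorMod f hE R hR (repKIso E) G hflat
    (isCompact_of_isProperOver f hsupp).2
  have hc : ∀ i, Coh.IsCoh (F.homology i) := isCoh_homology_tensorMod hE R hR (repKIso E) G hG
  obtain ⟨a, b, hab⟩ := htor
  have hz : ∀ i, (i < a ∨ b < i) → IsZero (F.homology i) := by
    intro i hi
    rw [← HomologicalComplex.exactAt_iff_isZero_homology, HomologicalComplex.exactAt_iff]
    refine (exact_iff_stalk _).2 fun x => ?_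
    refine (ShortComplex.exact_map_iff_of_faithful _ (ModuleCat.restrictScalars (f.stalkMap x).hom)).1 ?_
    obtain ⟨Q, hQ, -, ⟨eQ⟩⟩ := hab x
    show ((DerSch.stalkCxOver f x).obj F).ExactAt i
    rw [HomologicalComplex.exactAt_iff_isZero_homology]
    let H := DerivedCategory.homologyFunctorFactors (ModuleCat.{u} (S.presheaf.stalk (f.base x))) i
    exact (ShortComplex.isZero_homology_of_isZero_X₂ (Q.sc i) (hQ i hi)).of_iso
      ((H.app _).symm ≪≫ (DerivedCategory.homologyFunctor _ i).mapIso eQ.symm ≪≫ H.app _)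
  have hsub : ∀ i, CohB1.support (DCoh.HD (DCoh.toD X F) i) ⊆ CohB1.support G := by
    intro i x hx
    by_contra hxG
    refine hx ?_
    haveI : Subsingleton ((DerSch.stalkFunctor X x).obj G : Type u) := not_not.1 hxG
    have h1 : IsZero ((DerSch.stalkFunctor X x).obj (F.X i)) :=
      ((tensorLeft _).map_isZero (ModuleCat.isZero_of_subsingleton _)).of_iso
        ((stalkTensorRightIso G x).app (R.X i))
    exact ModuleCat.subsingleton_of_isZero
      ((ShortComplex.isZero_homology_of_isZero_X₂ ((F.sc i).map (DerSch.stalkFunctor X x)) h1).of_iso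
        ((DerSch.stalkFunctor X x).mapIso (eH i) ≪≫
          ((F.sc i).mapHomologyIso (DerSch.stalkFunctor X x)).symm))
  have hcoh : DCoh.IsCohD (DCoh.toD X F) := fun i => isCoh_of_iso (eH i).symm (hc i)
  exact DQGen.isPerfect_of_iso ((DCoh.Rpush f).mapIso eF) (isPerfect_rpush f F hcoh
    ⟨a, b, fun i hi => (hz i hi).of_iso (eH i)⟩
    (fun i => QCoh.IsProperOver.subset hsupp (QCoh.isClosed_support_of_ft (hcoh i).2) (hsub i))
    ⟨a, b, hab⟩)

end Groth.Agent.PushAmp
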