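import Groth.Agent.KFlatLib.Scheme.QCohDerived
import Groth.Agent.KFlatLib.Scheme.PullTensorCx
import Groth.Agent.KFlatLib.Scheme.RpushUnbounded
import Groth.Agent.KFlatLib.Scheme.RpushBound
import Groth.Agent.KFlatLib.Scheme.RpushTriangle
import Groth.Agent.KFlatLib.Scheme.PCQCoh
import Groth.Agent.KFlatLib.Scheme.QCohD
import Groth.Agent.PushAmp.PushPC
import Groth.Agent.DQGen.Approx

/-!
# Bounds and triangles for derived tensor products
-/

set_option autoImplicit false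
set_option linter.style.haveILetI false
set_option backward.isDefEq.respectTransparency false
set_option backward.isDefEq.respectTransparency.types false

universe u

open CategoryTheory CategoryTheory.Limits AlgebraicGeometry TopologicalSpace CategoryTheory.Pretriangulated

attribute [local instance] HasDerivedCategory.standard

namespace Groth.Agent.PushAmp

open Groth.Agent.KFlatLib

variable {X : Scheme.{u}}

/-- Derived tensor products of bounded above objects are bounded above. -/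
theorem isZero_hd_ltensor (K : CochainComplex X.Modules ℤ) [DCoh.HasLTensorCx K] (b : ℤ)
    [(DCoh.toD X K).IsLE b] (E : DCoh.D X) (c : ℤ) [E.IsLE c] (i : ℤ) (hi : c + b < i) :
    IsZero (DCoh.HD ((DCoh.LTensorCx K).obj E) i) := by
  obtain ⟨E₀, hE₀, ⟨e⟩⟩ := DerivedCategory.exists_iso_Q_obj_of_isLE E c
  obtain ⟨R, ρ, hρ, hR, hR'⟩ := exists_flat_rep E₀ c
  haveI : K.IsLE b := (DerivedCategory.isLE_Q_obj_iff K b).1 ‹_›
  obtain ⟨L, σ, hσ, hL, hL'⟩ := exists_flat_rep K b
  haveI := hσ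
  haveI := hρ
  haveI : QuasiIso ((DCoh.tensorCx.obj R).map σ) := KFlat.quasiIso_map' (tensorBiFlipIso X) hR' _
  haveI : IsIso (DerivedCategory.Q.map ((DCoh.tensorCx.obj R).map σ)) := isIso_Q_map _ inferInstance
  haveI : IsIso (DerivedCategory.Q.map ρ) := isIso_Q_map _ inferInstance
  let κ : (DCoh.LTensorCx K).obj E ≅ DCoh.toD X ((DCoh.tensorCx.obj R).obj L) :=
    (DCoh.LTensorCx K).mapIso (e ≪≫ (asIso (DerivedCategory.Q.map ρ)).symm) ≪≫ ltensorCxIso K hR' ≪≫
      (asIso (DerivedCategory.Q.map ((DCoh.tensorCx.obj R).map σ))).symm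
  exact (ShortComplex.isZero_homology_of_isZero_X₂ _ (isZero_tensorCx_X R L c b i hi)).of_iso
    ((DerivedCategory.homologyFunctor X.Modules i).mapIso κ ≪≫
      (DerivedCategory.homologyFunctorFactors X.Modules i).app _)

/-- The derived tensor product of a triangle sits in a rotated triangle. -/
theorem exists_ltensor_triangle (K : CochainComplex X.Modules ℤ) [DCoh.HasLTensorCx K]
    (T : Triangle (DCoh.D X)) (hT : T ∈ distTriang (DCoh.D X)) :
    ∃ T' : Triangle (DCoh.D X), T' ∈ distTriang (DCoh.D X) ∧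
      Nonempty (T'.obj₁ ≅ (DCoh.LTensorCx K).obj T.obj₂) ∧
      Nonempty (T'.obj₂ ≅ (DCoh.LTensorCx K).obj T.obj₃) ∧
      Nonempty (T'.obj₃ ≅ (DCoh.LTensorCx K).obj (T.obj₁⟦(1 : ℤ)⟧)) := by
  obtain ⟨A, B, φ, ⟨e⟩⟩ := (DerivedCategory.mem_distTriang_iff T).1 hT
  let φ' := (kRes X).map φ
  let T₁ := DerivedCategory.Q.mapTriangle.obj (CochainComplex.mappingCone.triangle φ')
  have hT₁ : T₁ ∈ distinguishedTriangles :=
    (DerivedCategory.mem_distTriang_iff _).2 ⟨_, _, φ', ⟨Iso.refl _⟩⟩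
  have hT₀ : DerivedCategory.Q.mapTriangle.obj (CochainComplex.mappingCone.triangle φ) ∈
      distinguishedTriangles (C := DCoh.D X) :=
    (DerivedCategory.mem_distTriang_iff _).2 ⟨_, _, φ, ⟨Iso.refl _⟩⟩
  let e' : T₁ ≅ T := isoTriangleOfIso₁₂ T₁
    (DerivedCategory.Q.mapTriangle.obj (CochainComplex.mappingCone.triangle φ)) hT₁ hT₀
    ((resQIso X).app A) ((resQIso X).app B) ((resQIso X).hom.naturality φ) ≪≫ e.symm
  have hA : DCoh.IsKFlat ((kRes X).obj A) := isKFlat_kRes A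
  have hB : DCoh.IsKFlat ((kRes X).obj B) := isKFlat_kRes B
  have hC : DCoh.IsKFlat (CochainComplex.mappingCone φ') := kFlat_cone (T := DCoh.tensorBi) φ' hA hB
  have hA1 : DCoh.IsKFlat (((kRes X).obj A)⟦(1 : ℤ)⟧) :=
    kFlat_iff_isKFlat.1 ((kFlat_iff_isKFlat.2 hA).shift 1)
  have hS := shortExact₁_of_splitting (T := DCoh.tensorBi (X := X)) K (coneSeq φ') fun n => ⟨coneSeqSplitting φ' n⟩
  refine ⟨_, DerivedCategory.triangleOfSES_distinguished hS, ⟨?_⟩, ⟨?_⟩, ⟨?_⟩⟩
  · exact (ltensorCxIso K hB).symm ≪≫ (DCoh.LTensorCx K).mapIso (Triangle.π₂.mapIso e')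
  · exact (ltensorCxIso K hC).symm ≪≫ (DCoh.LTensorCx K).mapIso (Triangle.π₃.mapIso e')
  · exact (ltensorCxIso K hA1).symm ≪≫ (DCoh.LTensorCx K).mapIso
      (((DerivedCategory.Q.commShiftIso (1 : ℤ)).app ((kRes X).obj A)) ≪≫
        (shiftFunctor (DCoh.D X) (1 : ℤ)).mapIso (Triangle.π₁.mapIso e'))

end Groth.Agent.PushAmp
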