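import Groth.Agent.PushAmp.RelFlatRep
import Groth.Agent.H9Misc.DRingTorTriangle
import Groth.Agent.H9Misc.DRingTorDevissage
import Groth.Agent.KFlatLib.Perfect.Corollaries
import Groth.Agent.KFlatLib.Perfect.Retract

/-! Objects perfect relative to a flat morphism. -/

set_option autoImplicit false
set_option linter.style.haveILetI false
set_option backward.isDefEq.respectTransparency false

universe u

open CategoryTheory CategoryTheory.Limits AlgebraicGeometry Pretriangulated

attribute [local instance] HasDerivedCategory.standard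

namespace Groth.Agent.PushAmp

open KFlatLib

variable {X S : Scheme.{u}} (f : X ⟶ S)

/-- Shifting stalkwise tor amplitude. -/
theorem hasTorAmplitudeIn_shift {A : Type u} [CommRing A] {K : Dual.D A} {a b : ℤ}
    (h : DRing.HasTorAmplitudeIn A a b K) (n : ℤ) :
    DRing.HasTorAmplitudeIn A (a - n) (b - n) (K⟦n⟧) := by
  obtain ⟨E, hz, hf, ⟨e⟩⟩ := h
  refine ⟨E⟦n⟧, fun i hi => ?_, fun i => ?_,
    ⟨(DerivedCategory.Q.commShiftIso n).app E ≪≫ (shiftFunctor (Dual.D A) n).mapIso e⟩⟩
  · obtain ⟨eX⟩ := H9Misc.DRingTor.shiftX_iso E n i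
    exact (hz (i + n) (by omega)).of_iso eX
  · obtain ⟨eX⟩ := H9Misc.DRingTor.shiftX_iso E n i
    exact (Module.Flat.equiv_iff eX.toLinearEquiv).2 (hf (i + n))

/-- The relative stalk on the derived category. -/
noncomputable abbrev stalkD (x : X) : DCoh.D X ⥤ Dual.D (S.presheaf.stalk (f.base x)) :=
  haveI : PreservesFiniteLimits (DerSch.stalkOver f x) := comp_preservesFiniteLimits _ _
  haveI : PreservesFiniteColimits (DerSch.stalkOver f x) := comp_preservesFiniteColimits _ _
  (DerSch.stalkOver f x).mapDerivedCategory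

/-- Locally finite tor amplitude, on the derived category. -/
def LocFin (K : DCoh.D X) : Prop :=
  ∀ x : X, ∃ (V : X.Opens) (a b : ℤ), x ∈ V ∧ ∀ x' ∈ V,
    DRing.HasTorAmplitudeIn (S.presheaf.stalk (f.base x')) a b ((stalkD f x').obj K)

/-- `LocFin` is the stalkwise notion. -/
theorem locFin_iff [Flat f] (K : DCoh.D X) : DCoh.LocHasFiniteRelTorDim f K ↔ LocFin f K := by
  let F := DerivedCategory.Q.objPreimage K
  rw [locHasFiniteRelTorDim_iff f F (repIso K)]
  have key : ∀ x a b, DerSch.HasTorAmplitudeAt f a b F x ↔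
      DRing.HasTorAmplitudeIn (S.presheaf.stalk (f.base x)) a b ((stalkD f x).obj K) := fun x a b => by
    haveI : PreservesFiniteLimits (DerSch.stalkOver f x) := comp_preservesFiniteLimits _ _
    haveI : PreservesFiniteColimits (DerSch.stalkOver f x) := comp_preservesFiniteColimits _ _
    let e := ((DerSch.stalkOver f x).mapDerivedCategoryFactors.app F).symm ≪≫
      (stalkD f x).mapIso (repIso K)
    exact ⟨H9Misc.DRingTor.of_iso e, H9Misc.DRingTor.of_iso e.symm⟩
  exact forall_congr' fun x => exists_congr fun V => exists_congr fun a => exists_congr fun b =>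
    and_congr_right fun _ => forall_congr' fun x' => imp_congr_right fun _ => key x' a b

/-- Closed under the middle term of triangles. -/
theorem LocFin.obj₂ {T : Triangle (DCoh.D X)} (hT : T ∈ distinguishedTriangles) (h₁ : LocFin f T.obj₁)
    (h₃ : LocFin f T.obj₃) : LocFin f T.obj₂ := fun x => by
  obtain ⟨V, a, b, hxV, hV⟩ := h₁ x
  obtain ⟨W, c, d, hxW, hW⟩ := h₃ x
  refine ⟨V ⊓ W, min a c, max b d, ⟨hxV, hxW⟩, fun x' hx' => ?_⟩
  haveI : PreservesFiniteLimits (DerSch.stalkOver f x') := comp_preservesFiniteLimits _ _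
  haveI : PreservesFiniteColimits (DerSch.stalkOver f x') := comp_preservesFiniteColimits _ _
  exact H9Misc.DRingTor.obj₂_of ((stalkD f x').mapTriangle.obj T)
    ((stalkD f x').map_distinguished T hT)
    (H9Misc.DRingTor.mono (min_le_left a c) (le_max_left b d) (hV x' hx'.1))
    (H9Misc.DRingTor.mono (min_le_right a c) (le_max_right b d) (hW x' hx'.2))

/-- Closed under shifts. -/
theorem LocFin.shift {K : DCoh.D X} (h : LocFin f K) (n : ℤ) : LocFin f (K⟦n⟧) := fun x => by
  obtain ⟨V, a, b, hxV, hV⟩ := h x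
  refine ⟨V, a - n, b - n, hxV, fun x' hx' => ?_⟩
  haveI : PreservesFiniteLimits (DerSch.stalkOver f x') := comp_preservesFiniteLimits _ _
  haveI : PreservesFiniteColimits (DerSch.stalkOver f x') := comp_preservesFiniteColimits _ _
  exact H9Misc.DRingTor.of_iso (((stalkD f x').commShiftIso n).app K).symm
    (hasTorAmplitudeIn_shift (hV x' hx') n)

/-- Closed under retracts. -/
theorem LocFin.retract {K L : DCoh.D X} (r : Retract K L) (h : LocFin f L) : LocFin f K := fun x => by
  obtain ⟨V, a, b, hxV, hV⟩ := h x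
  refine ⟨V, a, b, hxV, fun x' hx' => ?_⟩
  exact H9Misc.DRingTor.of_retract ((stalkD f x').map r.i) ((stalkD f x').map r.r)
    (by rw [← Functor.map_comp, r.retract, CategoryTheory.Functor.map_id]) (hV x' hx')

/-- Zero objects. -/
theorem LocFin.of_isZero {K : DCoh.D X} (h : IsZero K) : LocFin f K := fun x => by
  refine ⟨⊤, 0, 0, trivial, fun x' _ => ?_⟩
  haveI : PreservesFiniteLimits (DerSch.stalkOver f x') := comp_preservesFiniteLimits _ _
  haveI : PreservesFiniteColimits (DerSch.stalkOver f x') := comp_preservesFiniteColimits _ _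
  exact H9Misc.DRingTor.of_isZero ((stalkD f x').map_isZero h)

/-- Perfect objects have locally finite tor dimension over the base of a flat morphism. -/
theorem locHasFiniteRelTorDim_of_isPerfect [Flat f] {K : DCoh.D X} (hK : DCoh.IsPerfect K) :
    DCoh.LocHasFiniteRelTorDim f K := by
  let F := DerivedCategory.Q.objPreimage K
  rw [locHasFiniteRelTorDim_iff f F (repIso K)]
  intro x
  obtain ⟨U, j, _, ⟨u', rfl⟩, P, hP, ⟨eP⟩⟩ := (isPerfect_iff K).1 hK x
  obtain ⟨a, b, hab⟩ := hP.1
  refine ⟨j.opensRange, a, b, ⟨u', rfl⟩, ?_⟩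
  rintro _ ⟨v, rfl⟩
  exact (hasTorAmplitudeAt_restrict_iff j f F v a b).1 (hasTorAmplitudeAt_of_iso (j ≫ f)
    (eP ≪≫ (rho j).mapIso (repIso K).symm ≪≫ (rhoQ j).app F)
    (hasTorAmplitude_of_flatOver (j ≫ f) hab
      (fun i => isFlatOver_of_isFlat (j ≫ f) (isFlat_of_isFinLocFree (hP.2 i))) v))

end Groth.Agent.PushAmp
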