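import Groth.Agent.PushAmp.TorAt
import Groth.Agent.PushAmp.OverBaseBound
import Groth.Agent.H9Misc.DRingTorLTensor
import Groth.Agent.KFlatLib.Scheme.CoEvalPerfect

/-! Relative tor amplitude of a tensor product with a pullback. -/

set_option autoImplicit false
set_option linter.style.haveILetI false
set_option backward.isDefEq.respectTransparency false

universe u

open CategoryTheory CategoryTheory.Limits AlgebraicGeometry MonoidalCategory

attribute [local instance] HasDerivedCategory.standard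

namespace Groth.Agent.PushAmp

open KFlatLib

variable {X Y Z : Scheme.{u}} (f : X ⟶ Y) (g : Y ⟶ Z)

/-- The tor amplitude of `E ⊗ f^*P` over the base of `g`. -/
theorem hasTorAmplitudeAt_tensor_pull (E : CochainComplex X.Modules ℤ) (P : CochainComplex Y.Modules ℤ)
    (hP : DCoh.IsKFlat P) (x : X) {a b c d : ℤ} (hE : DerSch.HasTorAmplitudeAt f a b E x)
    (hG : DerSch.HasTorAmplitudeAt g c d P (f.base x)) :
    DerSch.HasTorAmplitudeAt (f ≫ g) (a + c) (b + d) ((DCoh.tensorCx.obj E).obj ((pullCx f).obj P)) x := by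
  obtain ⟨Q, hQz, hQf, ⟨eQ⟩⟩ := hE
  let φ := (g.stalkMap (f.base x)).hom
  let ψ := (f.stalkMap x).hom
  let R := ModuleCat.restrictScalars.{u} φ
  let T := curriedTensor (ModuleCat.{u} (Y.presheaf.stalk (f.base x)))
  let L := (stalkCx (f.base x)).obj P
  have hL : H9Misc.DRingLTensor.IsKF L := (kFlat_iff_stalk P).1 hP (f.base x)
  -- replace the stalk of `E` by the flat model
  let Φ : DRing.Cx (Y.presheaf.stalk (f.base x)) ⥤ Dual.D (Y.presheaf.stalk (f.base x)) :=
    T.map₂CochainComplex.flip.obj L ⋙ DerivedCategory.Q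
  have hΦ : (HomologicalComplex.quasiIso (ModuleCat.{u} (Y.presheaf.stalk (f.base x))) (ComplexShape.up ℤ)).IsInvertedBy Φ := by
    intro F G γ (hγ : QuasiIso γ)
    haveI := hγ
    haveI : QuasiIso ((T.map₂CochainComplex.flip.obj L).map γ) := KFlat.quasiIso_map hL γ
    exact inferInstanceAs (IsIso (DerivedCategory.Q.map _))
  let L₀ := (DerSch.stalkCxOver f x).obj E
  let eL : Φ.obj Q ≅ Φ.obj L₀ :=
    ((Localization.fac Φ hΦ DerivedCategory.Q).app Q).symm ≪≫
      (Localization.lift Φ hΦ DerivedCategory.Q).mapIso eQ ≪≫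
      (Localization.fac Φ hΦ DerivedCategory.Q).app L₀
  -- the stalk of the tensor product
  let K := (stalkCx x).obj E
  let e₁ : (((curriedTensor (ModuleCat.{u} (X.presheaf.stalk x))).map₂CochainComplex.obj
        (((𝟭 _).mapHomologicalComplex (ComplexShape.up ℤ)).obj K)).obj
          (((ModuleCat.extendScalars ψ).mapHomologicalComplex (ComplexShape.up ℤ)).obj L)) ≅
        ((𝟭 _).mapHomologicalComplex (ComplexShape.up ℤ)).obj
          (((extT ψ).map₂CochainComplex.obj K).obj L) :=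
    totalMapIso (Φ₁ := 𝟭 _) (Φ₂ := ModuleCat.extendScalars ψ)
      (Ψ := 𝟭 _) (T := extT ψ) (T' := curriedTensor (ModuleCat.{u} (X.presheaf.stalk x)))
      (Iso.refl _) K L
  let e₂ := totalMapIso (extTIso ψ) K L
  let eS : (stalkCx x).obj ((DCoh.tensorCx.obj E).obj ((pullCx f).obj P)) ≅
      ((extT ψ).map₂CochainComplex.obj K).obj L :=
    (stalkTensorCxIso x E ((pullCx f).obj P)).symm ≪≫
      ((curriedTensor (ModuleCat.{u} (X.presheaf.stalk x))).map₂CochainComplex.obj K).mapIso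
        (stalkPullCxIso f x P) ≪≫ e₁
  let Rψ := (ModuleCat.restrictScalars.{u} ψ).mapHomologicalComplex (ComplexShape.up ℤ)
  let eW : (DerSch.stalkCxOver f x).obj ((DCoh.tensorCx.obj E).obj ((pullCx f).obj P)) ≅
      (T.map₂CochainComplex.obj L₀).obj L :=
    Rψ.mapIso eS ≪≫ e₂.symm
  have hs : ((f ≫ g).stalkMap x).hom = ψ.comp φ := by rw [Scheme.Hom.stalkMap_comp]; rfl
  let ρ : ModuleCat.restrictScalars.{u} ((f ≫ g).stalkMap x).hom ≅
      ModuleCat.restrictScalars ψ ⋙ ModuleCat.restrictScalars φ :=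
    ModuleCat.restrictScalarsComp' (R₁ := Z.presheaf.stalk (g.base (f.base x))) φ ψ _ hs
  let W := (DCoh.tensorCx.obj E).obj ((pullCx f).obj P)
  let e : (DerSch.stalkCxOver (f ≫ g) x).obj W ≅
      (R.mapHomologicalComplex (ComplexShape.up ℤ)).obj ((DerSch.stalkCxOver f x).obj W) :=
    HomologicalComplex.Hom.isoOfComponents
      (fun i => ρ.app ((DerSch.stalkFunctor X x).obj (W.X i)))
      (fun i k _ => (ρ.hom.naturality ((DerSch.stalkFunctor X x).map (W.d i k))).symm)
  refine H9Misc.DRingTor.of_iso ?_ (H9Misc.DRingTorLTensor.hasTorAmplitudeIn_tensor φ Q L hQz hQf hG)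
  exact (R.mapDerivedCategoryFactors.app _).symm ≪≫ R.mapDerivedCategory.mapIso eL ≪≫
    R.mapDerivedCategoryFactors.app _ ≪≫
      DerivedCategory.Q.mapIso ((R.mapHomologicalComplex (ComplexShape.up ℤ)).mapIso eW.symm ≪≫ e.symm)

/-- A flat representative of a complex of bounded relative tor amplitude. -/
theorem exists_flat_rep_of_torAmplitude (G : CochainComplex Y.Modules ℤ) {c d : ℤ}
    (hG : DerSch.HasTorAmplitude g c d G) :
    ∃ (P : CochainComplex Y.Modules ℤ) (_ : DCoh.IsKFlat P) (_ : DCoh.toD Y P ≅ DCoh.toD Y G),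
      DerSch.HasTorAmplitude g c d P := by
  haveI : G.IsLE d := (CochainComplex.isLE_iff G d).2 fun i hi =>
    exactAt_of_hasTorAmplitude g hG i (Or.inr hi)
  obtain ⟨P, ρ, hρ, -, hP⟩ := exists_flat_rep G d
  haveI := hρ
  haveI := isIso_Q_map ρ hρ
  exact ⟨P, hP, asIso (DerivedCategory.Q.map ρ), fun y =>
    hasTorAmplitudeAt_of_iso g (asIso (DerivedCategory.Q.map ρ)).symm (hG y)⟩

/-- The tor amplitude of `Lf^*G ⊗^L E`. -/
theorem hasTorAmplitudeD_ltensor_lpull [DCoh.HasLpull f] (E : CochainComplex X.Modules ℤ)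
    [DCoh.HasLTensorCx E] {a b c d : ℤ} (hE : DerSch.HasTorAmplitude f a b E)
    (G : CochainComplex Y.Modules ℤ) (hG : DerSch.HasTorAmplitude g c d G) :
    DerSch.HasTorAmplitudeD (f ≫ g) (a + c) (b + d)
      ((DCoh.LTensorCx E).obj ((DCoh.Lpull f).obj (DCoh.toD Y G))) := by
  obtain ⟨P, hP, eP, hPt⟩ := exists_flat_rep_of_torAmplitude g G hG
  intro W ⟨eW⟩ x
  haveI := isIso_LTensorCx_counit E (isKFlat_pullback f hP)
  refine hasTorAmplitudeAt_of_iso (f ≫ g) ?_ (hasTorAmplitudeAt_tensor_pull f g E P hP x (hE x) (hPt _))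
  exact DerivedCategory.Q.mapIso (braidCx ((pullCx f).obj P) E).symm ≪≫
    (asIso (((DCoh.tensorCxQ E).totalLeftDerivedCounit DerivedCategory.Q (qisX _)).app ((pullCx f).obj P))).symm ≪≫
    (DCoh.LTensorCx E).mapIso ((lpullIso f hP).symm ≪≫ (DCoh.Lpull f).mapIso eP) ≪≫ eW.symm

end Groth.Agent.PushAmp
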