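import Groth.Agent.PushAmp.TensorBound
import Groth.Agent.PushAmp.TorTensor
import Groth.Agent.PushAmp.RelFlatRep
import Groth.Agent.PushAmp.RelPerf
import Groth.Agent.PushAmp.FinitePC
import Groth.Agent.KFlatLib.Scheme.ProjFormula
import Groth.Agent.KFlatLib.Perfect.Basic
import Groth.Agent.KFlatLib.Perfect.Corollaries

/-!
# Derived tensor products with perfect objects
-/

set_option autoImplicit false
set_option linter.style.haveILetI false
set_option backward.isDefEq.respectTransparency false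
set_option backward.isDefEq.respectTransparency.types false

universe u

open CategoryTheory CategoryTheory.Limits AlgebraicGeometry CategoryTheory.Pretriangulated

attribute [local instance] HasDerivedCategory.standard

namespace Groth.Agent.PushAmp

open Groth.Agent.KFlatLib

variable {X : Scheme.{u}}

/-- A strictly perfect complex is perfect. -/
theorem isPerfect_of_strict {P : CochainComplex X.Modules ℤ} (hP : DCoh.IsStrictlyPerfect P) :
    DCoh.IsPerfect (DCoh.toD X P) :=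
  (isPerfect_iff _).2 fun x => ⟨X, 𝟙 X, inferInstance, ⟨x, rfl⟩, P, hP, ⟨(rhoIdIso (𝟙 X) rfl _).symm⟩⟩

/-- The derived tensor product is symmetric. -/
theorem nonempty_ltensor_comm (M P : CochainComplex X.Modules ℤ) [DCoh.HasLTensorCx M] [DCoh.HasLTensorCx P] :
    Nonempty ((DCoh.LTensorCx M).obj (DCoh.toD X P) ≅ (DCoh.LTensorCx P).obj (DCoh.toD X M)) := by
  obtain ⟨R, hR, ⟨eR⟩⟩ := exists_kFlat_rep (DCoh.toD X P)
  obtain ⟨L, hL, ⟨eL⟩⟩ := exists_kFlat_rep (DCoh.toD X M)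
  haveI := hasLTensorCx R
  haveI := hasLTensorCx L
  obtain ⟨cR⟩ := nonempty_LTensorCx_congr_D (P := P) (E := R) eR.symm
  obtain ⟨cL⟩ := nonempty_LTensorCx_congr_D (P := M) (E := L) eL.symm
  exact ⟨(DCoh.LTensorCx M).mapIso eR.symm ≪≫ cL.app _ ≪≫ ltensorCxIso L hR ≪≫
    DerivedCategory.Q.mapIso (braidCx R L) ≪≫ (ltensorCxIso R hL).symm ≪≫ cR.symm.app _ ≪≫
    (DCoh.LTensorCx P).mapIso eL⟩

/-- Restriction is the derived pullback. -/
noncomputable def rhoLpull {U : Scheme.{u}} (j : U ⟶ X) [IsOpenImmersion j] [DCoh.HasLpull j] (E : DCoh.D X) :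
    (rho j).obj E ≅ (DCoh.Lpull j).obj E :=
  (rho j).mapIso (repKIso E).symm ≪≫ (rhoQ j).app (repK E) ≪≫
    DerivedCategory.Q.mapIso ((restrictPullCxIso j).app (repK E)) ≪≫ lpullRepIso j E

/-- The derived tensor product restricts to opens. -/
theorem nonempty_rho_ltensor {U : Scheme.{u}} (j : U ⟶ X) [IsOpenImmersion j] (L : CochainComplex X.Modules ℤ)
    [DCoh.HasLTensorCx L] (K : DCoh.D X) (P : CochainComplex U.Modules ℤ) [DCoh.HasLTensorCx P]
    (e : DCoh.toD U P ≅ (rho j).obj (DCoh.toD X L)) :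
    Nonempty ((rho j).obj ((DCoh.LTensorCx L).obj K) ≅ (DCoh.LTensorCx P).obj ((rho j).obj K)) := by
  let L' := repK (DCoh.toD X L)
  let eL := repKIso (DCoh.toD X L)
  haveI := hasLTensorCx L'
  haveI := hasLTensorCx ((pullCx j).obj L')
  haveI := KFlatLib.hasLpull j
  obtain ⟨c₁⟩ := nonempty_LTensorCx_congr_D (P := L) (E := L') eL.symm
  obtain ⟨c₂⟩ := nonempty_LTensorCx_congr_D (P := P) (E := (pullCx j).obj L')
    (e ≪≫ (rho j).mapIso eL.symm ≪≫ rhoLpull j _ ≪≫ lpullIso j (isKFlat_repK _))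
  obtain ⟨t⟩ := nonempty_lpull_ltensor j L' (isKFlat_repK _) K
  exact ⟨(rho j).mapIso (c₁.app K) ≪≫ rhoLpull j _ ≪≫ t ≪≫
    (DCoh.LTensorCx ((pullCx j).obj L')).mapIso (rhoLpull j K).symm ≪≫ (c₂.app _).symm⟩

/-- The tensor product of a strictly perfect complex with an approximation of a pseudo-coherent object. -/
theorem locPC_ltensor_strict (P : CochainComplex X.Modules ℤ) [DCoh.HasLTensorCx P]
    (hP : DCoh.IsStrictlyPerfect P) (b : ℤ) [(DCoh.toD X P).IsLE b]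
    (Q : CochainComplex X.Modules ℤ) (hQ : DCoh.IsStrictlyPerfect Q) (m : ℤ) {M : DCoh.D X}
    (α : DCoh.toD X Q ⟶ M) (hα : IsPcMap (m - b - 1) α) :
    LocPC m ((DCoh.LTensorCx P).obj M) := by
  obtain ⟨C, g, d, hT⟩ := CategoryTheory.Pretriangulated.distinguished_cocone_triangle α
  have hC : ∀ i, m - b - 1 ≤ i → IsZero (DCoh.HD C i) := Groth.Agent.DQGen.isZero_obj₃_of_isPcMap hT hα
  haveI : C.IsLE (m - b - 2) := (DerivedCategory.isLE_iff C _).2 fun i hi => hC i (by omega)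
  obtain ⟨T', hT', ⟨e₁⟩, ⟨e₂⟩, ⟨e₃⟩⟩ := exists_ltensor_triangle P _ hT
  have hQ1 : DCoh.IsPerfect ((DCoh.toD X Q)⟦(1 : ℤ)⟧) :=
    (isPerfect_iff _).2 (((isPerfect_iff _).1 (isPerfect_of_strict hQ)).shift 1)
  have h3 : LocPC (m - 1) T'.obj₃ :=
    (((isPerfect_iff _).1 (isPerfect_ltensor P (isKFlat_of_isStrictlyPerfect hP) (isPerfect_of_strict hP)
      hQ1)).locPC (m - 1)).of_iso e₃.symm
  have h2 : LocPC (m - 1) T'.obj₂ :=
    (locPC_of_isZero_above fun i hi => isZero_hd_ltensor P b C (m - b - 2) i (by omega)).of_iso e₂.symm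
  have h1 := (locPC_two_of_three (m - 1) _ hT').2.2 (h2.mono (by omega)) h3
  rw [show m - 1 + 1 = m by omega] at h1
  exact h1.of_iso e₁

/-- Pseudo-coherent objects tensored with perfect objects are pseudo-coherent. -/
theorem locPC_ltensor_perfect (M : CochainComplex X.Modules ℤ) [DCoh.HasLTensorCx M] (K : DCoh.D X)
    (hK : DCoh.IsPerfect K) (hM : ∀ m, LocPC m (DCoh.toD X M)) (m : ℤ) :
    LocPC m ((DCoh.LTensorCx M).obj K) := by
  refine LocPC.of_local fun x => ?_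
  obtain ⟨U, j, _, ⟨u', rfl⟩, P, hP, ⟨eP⟩⟩ := (isPerfect_iff K).1 hK x
  obtain ⟨a, b, hab⟩ := hP.1
  obtain ⟨U', i, _, ⟨w, rfl⟩, Q, α, hQ, hα⟩ := ((hM (m - b - 1)).restrict j) u'
  refine ⟨U', i ≫ j, inferInstance, ⟨w, rfl⟩, ?_⟩
  let P' := (rCx i).obj P
  let M' := (rCx (i ≫ j)).obj M
  haveI := hasLTensorCx P'
  haveI := hasLTensorCx M'
  haveI : (DCoh.toD U' P').IsLE b := (DerivedCategory.isLE_iff _ b).2 fun n hn =>
    (ShortComplex.isZero_homology_of_isZero_X₂ (P'.sc n)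
      ((Scheme.Modules.restrictFunctor i).map_isZero (hab n (Or.inr hn)))).of_iso
      ((DerivedCategory.homologyFunctorFactors _ n).app P')
  let eK : DCoh.toD U' P' ≅ (rho (i ≫ j)).obj K :=
    ((rhoQ i).app P).symm ≪≫ (rho i).mapIso eP ≪≫ rhoComp i j (i ≫ j) rfl K
  let eM : DCoh.toD U' M' ≅ (rho (i ≫ j)).obj (DCoh.toD X M) := ((rhoQ (i ≫ j)).app M).symm
  obtain ⟨t₁⟩ := nonempty_rho_ltensor (i ≫ j) M K M' eM
  obtain ⟨t₂⟩ := nonempty_ltensor_comm M' P'
  let t₃ : (DCoh.LTensorCx P').obj ((rho i).obj ((rho j).obj (DCoh.toD X M))) ≅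
      (rho (i ≫ j)).obj ((DCoh.LTensorCx M).obj K) :=
    (DCoh.LTensorCx P').mapIso (rhoComp i j (i ≫ j) rfl _ ≪≫ eM.symm) ≪≫ t₂.symm ≪≫
      (DCoh.LTensorCx M').mapIso eK ≪≫ t₁.symm
  exact (locPC_ltensor_strict P' (isStrictlyPerfect_restrict i hP) b Q hQ m α hα).of_iso t₃

/-- The tensor product with a perfect object keeps locally finite tor dimension over a base. -/
theorem locHasFiniteRelTorDim_ltensor_perfect {S : Scheme.{u}} (f : X ⟶ S) [Flat f]
    (M : CochainComplex X.Modules ℤ) [DCoh.HasLTensorCx M] (K : DCoh.D X) (hK : DCoh.IsPerfect K)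
    (hM : DCoh.LocHasFiniteRelTorDim f (DCoh.toD X M)) :
    DCoh.LocHasFiniteRelTorDim f ((DCoh.LTensorCx M).obj K) := by
  obtain ⟨R, hR, ⟨eR⟩⟩ := exists_kFlat_rep K
  obtain ⟨L, hL, ⟨eL⟩⟩ := exists_kFlat_rep (DCoh.toD X M)
  haveI := hasLTensorCx L
  obtain ⟨cL⟩ := nonempty_LTensorCx_congr_D (P := M) (E := L) eL.symm
  let W := (DCoh.tensorCx.obj R).obj ((pullCx (𝟙 X)).obj L)
  let eI : (pullCx (𝟙 X)).obj L ≅ L :=
    (NatIso.mapHomologicalComplex (Scheme.Modules.pullbackId X) (ComplexShape.up ℤ)).app L ≪≫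
      (Functor.mapHomologicalComplexIdIso X.Modules (ComplexShape.up ℤ)).app L
  let e : DCoh.toD X W ≅ (DCoh.LTensorCx M).obj K :=
    DerivedCategory.Q.mapIso ((DCoh.tensorCx.obj R).mapIso eI) ≪≫ (ltensorCxIso L hR).symm ≪≫
      (DCoh.LTensorCx L).mapIso eR ≪≫ (cL.app K).symm
  refine (locHasFiniteRelTorDim_iff f W e).2 fun x => ?_
  obtain ⟨V, a, b, hxV, hV⟩ :=
    (locHasFiniteRelTorDim_iff (𝟙 X) R eR).1 (locHasFiniteRelTorDim_of_isPerfect (𝟙 X) hK) x
  obtain ⟨V', c, d, hxV', hV'⟩ := (locHasFiniteRelTorDim_iff f L eL).1 hM x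
  refine ⟨V ⊓ V', a + c, b + d, ⟨hxV, hxV'⟩, fun x' hx' => ?_⟩
  have h := hasTorAmplitudeAt_tensor_pull (𝟙 X) f R L hL x' (hV x' hx'.1) (hV' _ hx'.2)
  rw [Category.id_comp] at h
  exact h

end Groth.Agent.PushAmp
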