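import Groth.Agent.PushAmp.Stalk
import Groth.Agent.KFlatLib.Scheme.ProjFormula
import Groth.Agent.KFlatLib.Scheme.TensorAssoc
import Groth.Agent.KFlatLib.Scheme.QCohDerived
import Groth.Agent.KFlatLib.Scheme.RpushUnbounded
import Groth.Agent.KFlatLib.Scheme.RpushBound
import Groth.Agent.KFlatLib.Scheme.TorQCoh
import Groth.Agent.KFlatLib.Scheme.Flatness
import Groth.Agent.KFlatLib.Scheme.LpullComp

/-! The tor amplitude of a derived direct image. -/

set_option autoImplicit false
set_option linter.style.haveILetI false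
set_option backward.isDefEq.respectTransparency false

universe u

open CategoryTheory CategoryTheory.Limits AlgebraicGeometry MonoidalCategory

attribute [local instance] HasDerivedCategory.standard

namespace Groth.Agent.PushAmp

open KFlatLib

variable {X Y : Scheme.{u}}

/-- The derived tensor product with a module is the one with the module as a complex. -/
theorem nonempty_hd_ltensorMod_cx (G : Y.Modules) [DCoh.HasLTensorMod G]
    [DCoh.HasLTensorCx ((HomologicalComplex.single Y.Modules (ComplexShape.up ℤ) 0).obj G)]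
    (K : DCoh.D Y) (i : ℤ) :
    Nonempty (DCoh.HD ((DCoh.LTensorMod G).obj K) i ≅ DCoh.HD ((DCoh.LTensorCx
      ((HomologicalComplex.single Y.Modules (ComplexShape.up ℤ) 0).obj G)).obj K) i) := by
  let R := repK K
  have hR : DCoh.IsKFlat R := isKFlat_repK K
  let H := DerivedCategory.homologyFunctor Y.Modules i
  exact ⟨H.mapIso ((DCoh.LTensorMod G).mapIso (repKIso K).symm) ≪≫ hdLTensorModIso G hR i ≪≫
    (HomologicalComplex.homologyFunctor Y.Modules _ i).mapIso ((singleIso DCoh.tensorBi G).app R).symm ≪≫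
    ((DerivedCategory.homologyFunctorFactors Y.Modules i).app _).symm ≪≫
    H.mapIso (ltensorCxIso _ hR).symm ≪≫ H.mapIso ((DCoh.LTensorCx _).mapIso (repKIso K))⟩

variable (f : X ⟶ Y) [QuasiCompact f] [QuasiSeparated f] [DCoh.HasRpush f]

/-- A uniform bound of the cohomological dimension of `Rf_*`. -/
theorem exists_hd_bound [CompactSpace Y] :
    ∃ N : ℕ, ∀ (K : DCoh.D X), DCoh.IsQCohD K → ∀ b : ℤ, K.IsLE b → ∀ i : ℤ, b + N ≤ i →
      IsZero (DCoh.HD ((DCoh.Rpush f).obj K) i) := by
  haveI : HasInjectiveResolutions X.Modules := hasInjectiveResolutions_modules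
  obtain ⟨N, hN⟩ := exists_Rpush_bound f
  refine ⟨N, fun K hK b hb i hi => isZero_of_isZero_restrict _ fun y => ⟨⊤, trivial, ?_⟩⟩
  haveI := hb
  refine isZero_restrict_hd_rpush f hK b ⊤ N (fun M hM p hp => ?_) i hi
  exact (Scheme.Modules.restrictFunctor (⊤ : Y.Opens).ι).map_isZero (hN M hM p hp)

/-- If a complex has tor amplitude in `[a, b]` over the base then so has its derived direct image,
up to the cohomological dimension of the morphism. -/
theorem exists_flatAmplitude_rpush [CompactSpace Y] [QuasiSeparatedSpace Y]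
    (E : CochainComplex X.Modules ℤ) (hq : DCoh.IsQCohD (DCoh.toD X E)) (a b : ℤ)
    (hE : DerSch.HasTorAmplitude f a b E) :
    ∃ b' : ℤ, DCoh.HasFlatAmplitudeIn a b' ((DCoh.Rpush f).obj (DCoh.toD X E)) := by
  haveI : DCoh.HasLpull f := hasLpull f
  obtain ⟨N, hN⟩ := exists_hd_bound f
  refine ⟨max (b + N) a, flatAmplitude_of_torAmplitude (fun G => hasLTensorMod G) (le_max_right _ _) ?_⟩
  refine torAmplitude_of_qcoh _ _ _ fun G hG _ i hi => ?_
  let K₀ := (HomologicalComplex.single Y.Modules (ComplexShape.up ℤ) 0).obj G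
  haveI : CochainComplex.IsLE K₀ 0 := inferInstance
  obtain ⟨P, ψ, hψ, hPle, hP⟩ := exists_flat_rep K₀ 0
  haveI := hψ
  haveI := hasLTensorCx K₀
  let M := (pullCx f).obj P
  have hMK : DCoh.IsKFlat M := isKFlat_pullback f hP
  haveI := hasLTensorCx M
  haveI := isIso_Q_map ψ hψ
  let eψ : DCoh.toD Y P ≅ DCoh.toD Y K₀ := asIso (DerivedCategory.Q.map ψ)
  have hK₀ : DCoh.IsQCohD (DCoh.toD Y K₀) := (isQCohD_Q_iff K₀).2 fun j => by
    refine isQCoh_homology_of_terms K₀ (fun p => ?_) j
    rcases eq_or_ne p 0 with rfl | hp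
    · exact isQCoh_of_iso (HomologicalComplex.singleObjXSelf (ComplexShape.up ℤ) 0 G).symm hG
    · exact isQCoh_of_isZero (HomologicalComplex.isZero_single_obj_X _ _ _ _ hp)
  obtain ⟨e⟩ := nonempty_projection_DQCoh f (DCoh.toD X E) hq K₀ hK₀ M
    ⟨(lpullIso f hP).symm ≪≫ (DCoh.Lpull f).mapIso eψ⟩
  obtain ⟨e'⟩ := nonempty_hd_ltensorMod_cx G ((DCoh.Rpush f).obj (DCoh.toD X E)) i
  refine IsZero.of_iso ?_ (e' ≪≫ (DerivedCategory.homologyFunctor Y.Modules i).mapIso e)
  haveI := isIso_LTensorCx_counit_of_isKFlat_right M hMK E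
  let L := (DCoh.LTensorCx M).obj (DCoh.toD X E)
  let eL : L ≅ DerivedCategory.Q.obj ((DCoh.tensorCx.obj E).obj M) :=
    asIso (((DCoh.tensorCxQ M).totalLeftDerivedCounit DerivedCategory.Q (qisX X)).app E)
  have hz : ∀ j, (j < a ∨ b < j) → IsZero (DCoh.HD L j) := fun j hj =>
    (isZero_homology_tensor_pull f hE hP G ψ j hj).of_iso
      ((DerivedCategory.homologyFunctor X.Modules j).mapIso eL ≪≫
        (DerivedCategory.homologyFunctorFactors X.Modules j).app _)
  haveI hge : L.IsGE a := (DerivedCategory.isGE_iff L a).2 fun j hj => hz j (Or.inl hj)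
  have hle : L.IsLE b := (DerivedCategory.isLE_iff L b).2 fun j hj => hz j (Or.inr hj)
  have hLq : DCoh.IsQCohD L :=
    isQCohD_ltensor M (isQCohD_of_iso (lpullIso f hP)
      (isQCohD_lpull f (isQCohD_of_iso eψ.symm hK₀))) hq
  rcases hi with hi | hi
  · exact isZero_hd_rpush_of_lt f L a i hi
  · exact hN L hLq b hle i (by omega)

end Groth.Agent.PushAmp
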