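import Groth.Agent.KFlatLib.Scheme.RpushTriangle
import Groth.Agent.KFlatLib.Scheme.ProjLocFree
import Groth.Agent.KFlatLib.Scheme.LpullLE
import Groth.Agent.KFlatLib.Scheme.PullTensorCx

/-!
# Derived pullback preserves distinguished triangles; its top cohomology
-/

set_option linter.style.haveILetI false
set_option backward.isDefEq.respectTransparency false

universe u

open CategoryTheory CategoryTheory.Limits AlgebraicGeometry Pretriangulated

attribute [local instance] HasDerivedCategory.standard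

namespace Groth.Agent.PushAmp

open Groth.Agent.KFlatLib

variable {X Y : Scheme.{u}} (f : X ⟶ Y) [DCoh.HasLpull f]

/-- Derived pullback preserves distinguished triangles. -/
theorem exists_lpull_triangle (T : Triangle (DCoh.D Y)) (hT : T ∈ distTriang (DCoh.D Y)) :
    ∃ c : (DCoh.Lpull f).obj T.obj₃ ⟶ ((DCoh.Lpull f).obj T.obj₁)⟦(1 : ℤ)⟧,
      Triangle.mk ((DCoh.Lpull f).map T.mor₁) ((DCoh.Lpull f).map T.mor₂) c ∈ distTriang (DCoh.D X) := by
  haveI := hasRpush_scheme f
  obtain ⟨adj⟩ := nonempty_lpull_rpush_adj f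
  haveI := TriCat.qh_isLeftAdjoint_of_exists_resolution (A := X.Modules) exists_kInjective_res
  let adjQ := Adjunction.ofIsLeftAdjoint (DerivedCategory.Qh (C := X.Modules))
  let ρ := (DerivedCategory.Qh (C := X.Modules)).rightAdjoint
  let W := HomotopyCategory.quasiIso X.Modules (ComplexShape.up ℤ)
  haveI : (ρ ⋙ DCoh.pushKh f).IsRightDerivedFunctor
      (Functor.whiskerRight adjQ.unit (DCoh.pushKh f)) W :=
    TriCat.isRightDerivedFunctor_of_adjunction adjQ W (DCoh.pushKh f)
  let e : ρ ⋙ DCoh.pushKh f ≅ DCoh.Rpush f :=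
    Functor.rightDerivedUnique _ _ (Functor.whiskerRight adjQ.unit (DCoh.pushKh f))
      ((DCoh.pushKh f).totalRightDerivedUnit DerivedCategory.Qh W) W
  letI := adjQ.rightAdjointCommShift ℤ
  haveI := adjQ.commShift_of_leftAdjoint ℤ
  haveI : ρ.IsTriangulated := adjQ.isTriangulated_rightAdjoint
  letI : (DCoh.Rpush f).CommShift ℤ := Functor.CommShift.ofIso e ℤ
  haveI : NatTrans.CommShift e.hom ℤ := Functor.CommShift.ofIso_compatibility e ℤ
  haveI : (DCoh.Rpush f).IsTriangulated := Functor.isTriangulated_of_iso e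
  letI := adj.leftAdjointCommShift ℤ
  haveI : adj.CommShift ℤ := adj.commShift_of_rightAdjoint ℤ
  haveI := adj.isTriangulated_leftAdjoint
  exact ⟨_, (DCoh.Lpull f).map_distinguished T hT⟩

/-- The top cohomology of a derived pullback is the pullback of the top cohomology. -/
theorem nonempty_hd_lpull_top (M : DCoh.D Y) (b : ℤ) [M.IsLE b] :
    Nonempty (DCoh.HD ((DCoh.Lpull f).obj M) b ≅ (Scheme.Modules.pullback f).obj (DCoh.HD M b)) := by
  obtain ⟨K₀, hK₀, ⟨e⟩⟩ := DerivedCategory.exists_iso_Q_obj_of_isLE M b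
  obtain ⟨R, ρ, hρ, hR, hR'⟩ := exists_flat_rep K₀ b
  haveI := hρ
  let eR : DerivedCategory.Q.obj R ≅ M := asIso (DerivedCategory.Q.map ρ) ≪≫ e.symm
  let P := Scheme.Modules.pullback f
  haveI : PreservesColimitsOfSize.{0, 0} P :=
    (Scheme.Modules.pullbackPushforwardAdjunction f).leftAdjoint_preservesColimits
  have hg : (R.sc b).g = 0 :=
    (R.isZero_of_isStrictlyLE b ((ComplexShape.up ℤ).next b) (by simp)).eq_of_tgt _ _
  let S' := ((pullCx f).obj R).sc b
  have hg' : S'.g = 0 := by
    show P.map (R.sc b).g = 0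
    rw [hg, Functor.map_zero]
  let eC : S'.homology ≅ P.obj (R.sc b).homology :=
    S'.asIsoHomologyι hg' ≪≫ IsColimit.coconePointUniqueUpToIso S'.opcyclesIsCokernel (colimit.isColimit _) ≪≫
      (PreservesCokernel.iso P (R.sc b).f).symm ≪≫
      P.mapIso (IsColimit.coconePointUniqueUpToIso (colimit.isColimit _) (R.sc b).opcyclesIsCokernel ≪≫
        ((R.sc b).asIsoHomologyι hg).symm)
  exact ⟨(DerivedCategory.homologyFunctor X.Modules b).mapIso ((DCoh.Lpull f).mapIso eR.symm ≪≫ lpullIso f hR') ≪≫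
    (DerivedCategory.homologyFunctorFactors X.Modules b).app _ ≪≫ eC ≪≫
    P.mapIso (((DerivedCategory.homologyFunctorFactors Y.Modules b).app R).symm ≪≫
      (DerivedCategory.homologyFunctor Y.Modules b).mapIso eR)⟩

end Groth.Agent.PushAmp
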