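import Groth.Agent.PushAmp.Coh
import Groth.Agent.KFlatLib.Scheme.DualPerfect
import Groth.Agent.KFlatLib.Scheme.TensorAssoc
import Mathlib.CategoryTheory.Adjunction.Unique

/-! `RHom(E, G) ≅ E^∨ ⊗^L G` and its direct image. -/

set_option autoImplicit false
set_option linter.style.haveILetI false
set_option backward.isDefEq.respectTransparency false

universe u

open CategoryTheory CategoryTheory.Limits AlgebraicGeometry MonoidalCategory

attribute [local instance] HasDerivedCategory.standard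

namespace Groth.Agent.PushAmp

open KFlatLib

variable {X : Scheme.{u}}

/-- `RHom(E, G)` for perfect `E` is `D ⊗^L G` for a perfect `D`. -/
theorem exists_dual_iso (E : CochainComplex X.Modules ℤ) (hE : DCoh.IsPerfect (DCoh.toD X E))
    [DCoh.HasLTensorCx E] [DCoh.HasRSheafHom E] (G : X.Modules) [DCoh.HasLTensorMod G] :
    ∃ D : DCoh.D X, DCoh.IsPerfect D ∧
      Nonempty ((DCoh.LTensorMod G).obj D ≅ (DCoh.RSheafHom E).obj (DCoh.inD X G)) := by
  let K := (kRes X).obj E
  have hK : DCoh.IsKFlat K := isKFlat_kRes E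
  haveI := (flatCover X).quasiIso_ψ E
  haveI := isIso_Q_map ((flatCover X).ψ.app E) inferInstance
  let eK : DerivedCategory.Q.obj K ≅ DerivedCategory.Q.obj E :=
    asIso (DerivedCategory.Q.map ((flatCover X).ψ.app E))
  haveI := hasLTensorCx K
  obtain ⟨cT⟩ := nonempty_LTensorCx_congr_D eK
  haveI : DCoh.HasRSheafHom K := Functor.isLeftAdjoint_of_iso cT.symm
  let cR : DCoh.RSheafHom K ≅ DCoh.RSheafHom E :=
    ((DCoh.RSheafHomAdj K).ofNatIsoLeft cT).rightAdjointUniq (DCoh.RSheafHomAdj E)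
  have hKp : DCoh.IsPerfect (DerivedCategory.Q.obj K) := DQGen.isPerfect_of_iso eK.symm hE
  let K' := (DCoh.RSheafHom K).obj
    ((DerivedCategory.singleFunctor X.Modules 0).obj (Coh.structureModule X))
  let D := repK K'
  have hD : DCoh.IsKFlat D := isKFlat_repK K'
  haveI := hasLTensorCx D
  obtain ⟨e⟩ := nonempty_ltensor_dual_iso K hK hKp D hD ⟨repKIso K'⟩ (DCoh.inD X G)
  let S := (HomologicalComplex.single X.Modules (ComplexShape.up ℤ) 0).obj G
  haveI := isIso_LTensorCx_counit_of_isKFlat_right D hD S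
  haveI := isIso_ltensorModComparison G hD
  refine ⟨DCoh.toD X D, DQGen.isPerfect_of_iso (repKIso K').symm
    (isPerfect_RSheafHom_structure K hKp), ⟨?_⟩⟩
  exact asIso ((ltensorModComparison G).app D) ≪≫
    DerivedCategory.Q.mapIso (((singleIso DCoh.tensorBi G).app D).symm ≪≫
      (symmIso (tensorBiFlipIso X) S).app D) ≪≫
    (asIso (((DCoh.tensorCxQ D).totalLeftDerivedCounit DerivedCategory.Q (qisX X)).app S)).symm ≪≫
    (DCoh.LTensorCx D).mapIso ((DerivedCategory.singleFunctorIsoCompQ X.Modules 0).app G).symm ≪≫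
    e ≪≫ cR.app _

variable {S : Scheme.{u}}

/-- `Rf_* RHom(E, G)` is perfect. -/
theorem isPerfect_rpush_RSheafHom [IsNoetherian S] (f : X ⟶ S) [LocallyOfFiniteType f]
    (E : CochainComplex X.Modules ℤ) (hE : DCoh.IsPerfect (DCoh.toD X E))
    [DCoh.HasLTensorCx E] [DCoh.HasRSheafHom E] [DCoh.HasRpush f]
    (G : X.Modules) (hG : Coh.IsCoh G) (hflat : FlatMod.IsFlatOver f G)
    (hsupp : ClSub.IsProperOver f (CohB1.support G)) :
    DCoh.IsPerfect ((DCoh.Rpush f).obj ((DCoh.RSheafHom E).obj (DCoh.inD X G))) := by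
  haveI := hasLTensorMod G
  obtain ⟨D, hD, ⟨e⟩⟩ := exists_dual_iso E hE G
  exact DQGen.isPerfect_of_iso ((DCoh.Rpush f).mapIso e)
    (isPerfect_rpush_ltensorMod f hD G hG hflat hsupp)

end Groth.Agent.PushAmp
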