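import Groth.Agent.H9Misc.DRingTorDim
import Groth.Agent.KFlatLib.Ring.BaseChangeTor

/-!
# Dimension shifting for `Tor` in the first variable
-/

set_option autoImplicit false
set_option linter.style.haveILetI false
set_option backward.isDefEq.respectTransparency false
set_option maxHeartbeats 1000000

universe u

open CategoryTheory CategoryTheory.Limits MonoidalCategory

noncomputable section

namespace Groth.Agent.PushAmp

open Groth.Agent.TorBridge

variable {A : Type u} [CommRing A]

variable (W : ModuleCat.{u} A)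

/-- `X ⊗ P` for the chosen resolution `P` of `W`. -/
abbrev torCx (X : ModuleCat.{u} A) : ChainComplex (ModuleCat.{u} A) ℕ :=
  ((tenF X).mapHomologicalComplex (ComplexShape.down ℕ)).obj (ProjectiveResolution.of W).complex

/-- Functoriality in `X`. -/
abbrev torCxMap {X Y : ModuleCat.{u} A} (f : X ⟶ Y) : torCx W X ⟶ torCx W Y :=
  (NatTrans.mapHomologicalComplex ((tensoringLeft (ModuleCat.{u} A)).map f) (ComplexShape.down ℕ)).app _

/-- The long exact sequence input. -/
lemma exists_shortExact_torCx {S : ShortComplex (ModuleCat.{u} A)} (hS : S.ShortExact) :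
    ∃ w : torCxMap W S.f ≫ torCxMap W S.g = 0, (ShortComplex.mk _ _ w).ShortExact := by
  let P := ProjectiveResolution.of W
  refine ⟨HomologicalComplex.hom_ext _ _ fun j => ModuleCat.hom_ext ?_,
    HomologicalComplex.shortExact_of_degreewise_shortExact _ fun j => ?_⟩
  · show S.g.hom.rTensor (P.complex.X j) ∘ₗ S.f.hom.rTensor (P.complex.X j) = 0
    rw [← LinearMap.rTensor_comp, ← ModuleCat.hom_comp, S.zero, ModuleCat.hom_zero, LinearMap.rTensor_zero]
  · haveI : Module.Projective A (P.complex.X j) := (IsProjective.iff_projective _).2 (P.projective j)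
    exact
      { exact := (ShortComplex.ShortExact.moduleCat_exact_iff_function_exact _).2
          (rTensor_exact (P.complex.X j) ((ShortComplex.ShortExact.moduleCat_exact_iff_function_exact _).1 hS.exact)
            ((ModuleCat.epi_iff_surjective _).1 hS.epi_g))
        mono_f := (ModuleCat.mono_iff_injective _).2 (Module.Flat.rTensor_preserves_injective_linearMap
          (M := P.complex.X j) S.f.hom ((ModuleCat.mono_iff_injective _).1 hS.mono_f))
        epi_g := (ModuleCat.epi_iff_surjective _).2
          (LinearMap.rTensor_surjective (P.complex.X j) ((ModuleCat.epi_iff_surjective _).1 hS.epi_g)) }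

lemma isZero_torCx_homology_of_flat (X : ModuleCat.{u} A) [Module.Flat A X] (j : ℕ) :
    IsZero ((torCx W X).homology (j + 1)) :=
  (isZero_tor_succ_of_flat X W j).of_iso ((ProjectiveResolution.of W).isoLeftDerivedObj (tenF X) (j + 1)).symm

/-- Higher dimension shifting. -/
lemma nonempty_tor_shift {S : ShortComplex (ModuleCat.{u} A)} (hS : S.ShortExact) [Module.Flat A S.X₂] (q : ℕ) :
    Nonempty (((Tor (ModuleCat.{u} A) (q + 2)).obj S.X₃).obj W ≅ ((Tor (ModuleCat.{u} A) (q + 1)).obj S.X₁).obj W) := by
  obtain ⟨w, hT⟩ := exists_shortExact_torCx W hS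
  have hij : (ComplexShape.down ℕ).Rel (q + 2) (q + 1) := rfl
  haveI : Mono (hT.δ (q + 2) (q + 1) hij) :=
    (hT.homology_exact₃ (q + 2) (q + 1) hij).mono_g ((isZero_torCx_homology_of_flat W S.X₂ (q + 1)).eq_of_src _ _)
  haveI : Epi (hT.δ (q + 2) (q + 1) hij) :=
    (hT.homology_exact₁ (q + 2) (q + 1) hij).epi_f ((isZero_torCx_homology_of_flat W S.X₂ q).eq_of_tgt _ _)
  haveI := isIso_of_mono_of_epi (hT.δ (q + 2) (q + 1) hij)
  let P := ProjectiveResolution.of W
  exact ⟨P.isoLeftDerivedObj (tenF S.X₃) (q + 2) ≪≫ asIso (hT.δ (q + 2) (q + 1) hij) ≪≫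
    (P.isoLeftDerivedObj (tenF S.X₁) (q + 1)).symm⟩

/-- The first `Tor` as a kernel. -/
lemma nonempty_tor_one {S : ShortComplex (ModuleCat.{u} A)} (hS : S.ShortExact) [Module.Flat A S.X₂] :
    Nonempty (((Tor (ModuleCat.{u} A) 1).obj S.X₃).obj W ≅
      ModuleCat.of A (LinearMap.ker (S.f.hom.rTensor W))) := by
  obtain ⟨w, hT⟩ := exists_shortExact_torCx W hS
  let P := ProjectiveResolution.of W
  have hij : (ComplexShape.down ℕ).Rel 1 0 := rfl
  haveI : Mono (hT.δ 1 0 hij) :=
    (hT.homology_exact₃ 1 0 hij).mono_g ((isZero_torCx_homology_of_flat W S.X₂ 0).eq_of_src _ _)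
  let aug : ∀ X : ModuleCat.{u} A, (torCx W X).homology 0 ⟶ (tenF X).obj W := fun X =>
    HomologicalComplex.homologyMap (((tenF X).mapHomologicalComplex (ComplexShape.down ℕ)).map P.π ≫
      ((HomologicalComplex.singleMapHomologicalComplex (tenF X) (ComplexShape.down ℕ) 0).app W).hom) 0 ≫
      (HomologicalComplex.singleObjHomologySelfIso (ComplexShape.down ℕ) 0 ((tenF X).obj W)).hom
  have haug : ∀ X, IsIso (aug X) := fun X => by
    haveI : PreservesFiniteColimits (tenF X) :=
      inferInstanceAs (PreservesFiniteColimits (MonoidalCategory.tensorLeft X))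
    haveI := KFlatLib.quasiIsoAt₀_map_π (tenF X) P
    haveI : IsIso (HomologicalComplex.homologyMap (((tenF X).mapHomologicalComplex (ComplexShape.down ℕ)).map P.π) 0) :=
      (quasiIsoAt_iff_isIso_homologyMap _ 0).1 inferInstance
    simp only [aug, HomologicalComplex.homologyMap_comp]
    infer_instance
  have hnat : HomologicalComplex.homologyMap (torCxMap W S.f) 0 ≫ aug S.X₂ =
      aug S.X₁ ≫ (S.f ▷ W) := by
    simp only [aug]
    rw [← Category.assoc, ← HomologicalComplex.homologyMap_comp, Category.assoc]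
    erw [← HomologicalComplex.singleObjHomologySelfIso_hom_naturality]
    refine Eq.trans ?_ (Category.assoc _ _ _)
    erw [← HomologicalComplex.homologyMap_comp]
    congr 2
    refine HomologicalComplex.to_single_hom_ext ?_
    simp [HomologicalComplex.singleMapHomologicalComplex]
    exact (MonoidalCategory.whisker_exchange _ _).symm
  haveI := haug S.X₁
  haveI := haug S.X₂
  let d : ((Tor (ModuleCat.{u} A) 1).obj S.X₃).obj W ⟶ ModuleCat.of A (S.X₁ ⊗ W : ModuleCat.{u} A) :=
    (P.isoLeftDerivedObj (tenF S.X₃) 1).hom ≫ hT.δ 1 0 hij ≫ aug S.X₁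
  have hd : Function.Exact d (S.f ▷ W) := by
    refine (ShortComplex.ShortExact.moduleCat_exact_iff_function_exact (ShortComplex.mk d (S.f ▷ W) ?_)).1 ?_
    · simp only [d, Category.assoc]
      rw [← hnat, ← Category.assoc (hT.δ 1 0 hij)]
      erw [hT.δ_comp]
      simp
    · refine (ShortComplex.exact_iff_of_iso ?_).1 (hT.homology_exact₁ 1 0 hij)
      exact ShortComplex.isoMk (P.isoLeftDerivedObj (tenF S.X₃) 1).symm (asIso (aug S.X₁)) (asIso (aug S.X₂))
        (by simp [d]) (by simpa using hnat.symm)
  have hinj : Function.Injective d := (ModuleCat.mono_iff_injective d).1 inferInstance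
  exact ⟨((LinearEquiv.ofInjective d.hom hinj).trans (LinearEquiv.ofEq _ _ (LinearMap.exact_iff.1 hd).symm)).toModuleIso⟩

end Groth.Agent.PushAmp
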