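import Groth.Agent.PushAmp.KoszulPowers
import Groth.Agent.PushAmp.TorShift
import Groth.Agent.KRegLib.Perfect
import Groth.Agent.KRegLib.Kinds
import Groth.Agent.QRegBC.Basic
import Groth.Agent.S2103

/-!
# `Tor` of powers of a Koszul-regular ideal
-/

set_option autoImplicit false
set_option linter.style.haveILetI false
set_option backward.isDefEq.respectTransparency false
set_option maxHeartbeats 1000000

universe u

open CategoryTheory CategoryTheory.Limits MonoidalCategory HomologicalComplex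
open CochainComplex (mappingCone)

noncomputable section

namespace Groth.Agent.PushAmp

open KFlatLib H9Misc.DRingLTensor H9Misc.DRingLTensorCx Groth.Agent.TorBridge H9Misc.TorBalance

variable {A : Type u} [CommRing A]

/-- `Tor` from a flat resolution of the first variable. -/
lemma nonempty_tor_of_flat_res (K : DRing.Cx A) (hK : DRing.TermwiseFlat K) (hK0 : DRing.VanishesAbove K 0)
    (h : ∀ i : ℤ, i ≠ 0 → IsZero (K.homology i)) (N : ModuleCat.{u} A) (p : ℕ) :
    Nonempty (((Tor (ModuleCat.{u} A) p).obj (K.homology 0)).obj N ≅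
      (HTor.tensorCx K (sgl N)).homology (-(p : ℤ))) := by
  haveI : K.IsStrictlyLE 0 := (CochainComplex.isStrictlyLE_iff _ _).2 fun i hi => hK0 i (by omega)
  haveI : CochainComplex.IsGE K 0 := (CochainComplex.isGE_iff _ _).2 fun i hi => by
    rw [HomologicalComplex.exactAt_iff_isZero_homology]
    exact h i (by omega)
  obtain ⟨M, ⟨eM⟩⟩ := CochainComplex.exists_iso_single (K.truncGE 0) 0
  let π : K ⟶ sgl M := K.πTruncGE 0 ≫ eM.hom
  haveI : QuasiIso π := by
    haveI : QuasiIso (K.πTruncGE 0) := inferInstance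
    exact quasiIso_comp _ _
  let Q := ProjectiveResolution.of N
  haveI : QuasiIso ((T.obj Q.cochainComplex).map π) := quasiIso_tensorHom_id π (isKF_cochainComplex Q)
  haveI : QuasiIso ((T.obj K).map Q.π') := quasiIso_tensorHom_id Q.π' (kFlat_of_termwiseFlat hK hK0)
  let e0 : K.homology 0 ≅ M :=
    isoOfQuasiIsoAt π 0 ≪≫ HomologicalComplex.singleObjHomologySelfIso (ComplexShape.up ℤ) 0 M
  exact ⟨((Tor (ModuleCat.{u} A) p).mapIso e0).app N ≪≫ torIso M Q p ≪≫
    (HomologicalComplex.homologyFunctor _ _ (-(p : ℤ))).mapIso ((sglRightIso M).symm.app Q.cochainComplex) ≪≫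
    (isoOfQuasiIsoAt ((T.obj Q.cochainComplex).map π) _).symm ≪≫
    (HomologicalComplex.homologyFunctor _ _ (-(p : ℤ))).mapIso
      ((symmIso curriedTensorFlipIso Q.cochainComplex).app K).symm ≪≫
    isoOfQuasiIsoAt ((T.obj K).map Q.π') _⟩

/-- Cones commute with restriction of scalars. -/
lemma nonempty_iterCone_restrict {B : Type u} [CommRing B] (φ : A →+* B) (K : DRing.Cx B) : ∀ l : List A,
    Nonempty (((ModuleCat.restrictScalars φ).mapHomologicalComplex (ComplexShape.up ℤ)).obj (iterCone (l.map φ) K) ≅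
      iterCone l (((ModuleCat.restrictScalars φ).mapHomologicalComplex (ComplexShape.up ℤ)).obj K))
  | [] => ⟨Iso.refl _⟩
  | a :: l => by
    obtain ⟨e⟩ := nonempty_iterCone_restrict φ K l
    let G := ModuleCat.restrictScalars.{u, u, u} φ
    have hs : (G.mapHomologicalComplex (ComplexShape.up ℤ)).map (φ a • 𝟙 (iterCone (l.map φ) K)) =
        a • 𝟙 ((G.mapHomologicalComplex (ComplexShape.up ℤ)).obj (iterCone (l.map φ) K)) := by
      refine HomologicalComplex.hom_ext _ _ fun i => ModuleCat.hom_ext (LinearMap.ext fun m => ?_)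
      rfl
    exact ⟨CochainComplex.mappingCone.mapHomologicalComplexIso _ G ≪≫ eqToIso (by rw [hs]) ≪≫ coneOnCongr a e⟩

/-- The base case: `Tor_p(A/J, A') = 0`. -/
theorem isZero_tor_quotient_koszul {A' : Type u} [CommRing A'] [Algebra A A'] (fs : List A)
    (hfs : LCI.IsKoszulRegularSeq A fs) (hfs' : LCI.IsKoszulRegularSeq A' (fs.map (algebraMap A A'))) (p : ℕ) :
    IsZero (((Tor (ModuleCat.{u} A) (p + 1)).obj (ModuleCat.of A (A ⧸ Ideal.span {x | x ∈ fs}))).obj
      (ModuleCat.of A A')) := by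
  obtain ⟨t⟩ := Koszul15.nonempty_top_equiv fs (ModuleCat.of A A)
  have he : (Ideal.ofList fs • (⊤ : Submodule A (ModuleCat.of A A)) : Submodule A A) = Ideal.span {x | x ∈ fs} := by
    show Ideal.ofList fs • (⊤ : Submodule A A) = _
    rw [smul_eq_mul, Ideal.mul_top]
  let e0 : (Koszul.koszul A fs).homology 0 ≅ ModuleCat.of A (A ⧸ Ideal.span {x | x ∈ fs}) :=
    eqToIso (by rw [Synt29.koszul_eq]) ≪≫ t.toModuleIso ≪≫ (Submodule.quotEquivOfEq _ _ he).toModuleIso
  obtain ⟨e⟩ := nonempty_tor_of_flat_res (Koszul.koszul A fs) (termwiseFree_koszul fs) (vanishesAbove_koszul fs)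
    hfs (ModuleCat.of A A') (p + 1)
  refine IsZero.of_iso ?_ (((Tor (ModuleCat.{u} A) (p + 1)).mapIso e0.symm).app _ ≪≫ e)
  let φ := algebraMap A A'
  let G := ModuleCat.restrictScalars.{u, u, u} φ
  let eA₀ : A' ≃ₗ[A] (G.obj (ModuleCat.of A' A') : ModuleCat.{u} A) :=
    { toFun := fun x => x
      invFun := fun x => x
      map_add' := fun _ _ => rfl
      map_smul' := fun a x => Algebra.smul_def a x
      left_inv := fun _ => rfl
      right_inv := fun _ => rfl }
  let eA : ModuleCat.of A A' ≅ G.obj (ModuleCat.of A' A') :=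
    { hom := ConcreteCategory.ofHom (C := ModuleCat.{u} A) (X := ModuleCat.of A A') (Y := G.obj (ModuleCat.of A' A')) eA₀.toLinearMap
      inv := ConcreteCategory.ofHom (C := ModuleCat.{u} A) (Y := ModuleCat.of A A') (X := G.obj (ModuleCat.of A' A')) eA₀.symm.toLinearMap
      hom_inv_id := ModuleCat.hom_ext (LinearMap.ext fun x => eA₀.symm_apply_apply x)
      inv_hom_id := ModuleCat.hom_ext (LinearMap.ext fun x => eA₀.apply_symm_apply x) }
  obtain ⟨e1⟩ := nonempty_koszul_tensor (sgl (ModuleCat.of A A')) fs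
  obtain ⟨e2⟩ := nonempty_iterCone_congr fs
    ((CochainComplex.singleFunctor (ModuleCat.{u} A) 0).mapIso eA ≪≫
      ((HomologicalComplex.singleMapHomologicalComplex G (ComplexShape.up ℤ) 0).app (ModuleCat.of A' A')).symm)
  obtain ⟨e3⟩ := nonempty_iterCone_restrict φ ((HomologicalComplex.single _ (ComplexShape.up ℤ) 0).obj
    (ModuleCat.of A' A')) fs
  let n : ℤ := -((p + 1 : ℕ) : ℤ)
  have hz : IsZero ((CohIII.koszulCx (ModuleCat.of A' A') (fs.map φ)).homology n) := by
    rw [← Synt29.koszul_eq]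
    exact hfs' n (by omega)
  rw [koszulCx_eq_iterCone] at hz
  refine (G.map_isZero hz).of_iso ?_
  exact (HomologicalComplex.homologyFunctor _ _ n).mapIso (e1 ≪≫ e2 ≪≫ e3.symm) ≪≫
    ((iterCone (fs.map φ) _).sc n).mapHomologyIso G

section

variable (W : ModuleCat.{u} A)

/-- Vanishing in the middle. -/
lemma isZero_tor_middle {S : ShortComplex (ModuleCat.{u} A)} (hS : S.ShortExact) (i : ℕ)
    (h₁ : IsZero (((Tor (ModuleCat.{u} A) i).obj S.X₁).obj W))
    (h₃ : IsZero (((Tor (ModuleCat.{u} A) i).obj S.X₃).obj W)) :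
    IsZero (((Tor (ModuleCat.{u} A) i).obj S.X₂).obj W) := by
  obtain ⟨w, hT⟩ := exists_shortExact_torCx W hS
  let P := ProjectiveResolution.of W
  refine IsZero.of_iso ?_ (P.isoLeftDerivedObj (tenF S.X₂) i)
  exact (hT.homology_exact₂ i).isZero_X₂
    ((h₁.of_iso (P.isoLeftDerivedObj (tenF S.X₁) i).symm).eq_zero_of_src _)
    ((h₃.of_iso (P.isoLeftDerivedObj (tenF S.X₃) i).symm).eq_zero_of_tgt _)

lemma isZero_tor_of_subsingleton (M : ModuleCat.{u} A) [Subsingleton M] (p : ℕ) :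
    IsZero (((Tor (ModuleCat.{u} A) (p + 1)).obj M).obj W) := by
  haveI : Module.Flat A M := Module.Flat.of_free
  exact isZero_tor_succ_of_flat M W p

lemma isZero_tor_finPower (M : ModuleCat.{u} A) (p : ℕ)
    (h : IsZero (((Tor (ModuleCat.{u} A) (p + 1)).obj M).obj W)) : ∀ k : ℕ,
    IsZero (((Tor (ModuleCat.{u} A) (p + 1)).obj (ModuleCat.of A (Fin k → M))).obj W)
  | 0 => isZero_tor_of_subsingleton W (ModuleCat.of A (Fin 0 → M)) p
  | k + 1 => by
    let e : ModuleCat.of A (Fin (k + 1) → M) ≅ ModuleCat.of A (M × (Fin k → M)) :=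
      (Fin.consLinearEquiv A (fun _ : Fin (k + 1) => (M : Type u))).symm.toModuleIso
    refine IsZero.of_iso ?_ (((Tor (ModuleCat.{u} A) (p + 1)).mapIso e).app W)
    let S : ShortComplex (ModuleCat.{u} A) := ShortComplex.mk
      (ModuleCat.ofHom (LinearMap.inl A M (Fin k → M))) (ModuleCat.ofHom (LinearMap.snd A M (Fin k → M))) rfl
    have hS : S.ShortExact :=
      { exact := (ShortComplex.ShortExact.moduleCat_exact_iff_function_exact S).2 Function.Exact.inl_snd
        mono_f := (ModuleCat.mono_iff_injective _).2 LinearMap.inl_injective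
        epi_g := (ModuleCat.epi_iff_surjective _).2 LinearMap.snd_surjective }
    exact isZero_tor_middle W hS (p + 1) h (isZero_tor_finPower M p h k)

lemma isZero_tor_fintypePower (M : ModuleCat.{u} A) (p : ℕ)
    (h : IsZero (((Tor (ModuleCat.{u} A) (p + 1)).obj M).obj W)) (ι : Type) [Fintype ι] :
    IsZero (((Tor (ModuleCat.{u} A) (p + 1)).obj (ModuleCat.of A (ι → M))).obj W) :=
  (isZero_tor_finPower W M p h (Fintype.card ι)).of_iso (((Tor (ModuleCat.{u} A) (p + 1)).mapIso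
    (LinearEquiv.funCongrLeft A M (Fintype.equivFin ι).symm).toModuleIso).app W)

variable {r : ℕ} (f : Fin r → A)

local notation "𝐉" => Ideal.span (Set.range f)

/-- `Tor` of `A/J^n`. -/
theorem isZero_tor_quotient_pow (hq : CAlgX.IsQuasiRegular f)
    (h1 : ∀ p : ℕ, IsZero (((Tor (ModuleCat.{u} A) (p + 1)).obj (ModuleCat.of A (A ⧸ 𝐉))).obj W)) (p : ℕ) :
    ∀ n : ℕ, IsZero (((Tor (ModuleCat.{u} A) (p + 1)).obj (ModuleCat.of A (A ⧸ 𝐉 ^ n))).obj W)
  | 0 => by
    haveI : Subsingleton (ModuleCat.of A (A ⧸ 𝐉 ^ 0)) :=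
      Submodule.Quotient.subsingleton_iff.2 (by rw [pow_zero, Ideal.one_eq_top])
    exact isZero_tor_of_subsingleton W _ p
  | n + 1 => by
    let g : (A ⧸ 𝐉 ^ (n + 1)) →ₗ[A] A ⧸ 𝐉 ^ n := Submodule.factor (Ideal.pow_le_pow_right (Nat.le_succ n))
    let S : ShortComplex (ModuleCat.{u} A) := ShortComplex.mk
      (ModuleCat.ofHom (QRegBC.iota f n hq)) (ModuleCat.ofHom g)
      (ModuleCat.hom_ext (LinearMap.ext fun w => (QRegBC.iota_exact f n hq).apply_apply_eq_zero w))
    have hS : S.ShortExact :=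
      { exact := (ShortComplex.ShortExact.moduleCat_exact_iff_function_exact S).2 (QRegBC.iota_exact f n hq)
        mono_f := (ModuleCat.mono_iff_injective _).2 (QRegBC.iota_injective f n hq)
        epi_g := (ModuleCat.epi_iff_surjective _).2 (Submodule.factor_surjective (Ideal.pow_le_pow_right (Nat.le_succ n) : 𝐉 ^ (n + 1) ≤ 𝐉 ^ n)) }
    exact isZero_tor_middle W hS (p + 1)
      (isZero_tor_fintypePower W (ModuleCat.of A (A ⧸ 𝐉)) p (h1 p) (QRegBC.Mon r n))
      (isZero_tor_quotient_pow hq h1 p n)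

/-- `Tor` of `J^n`. -/
theorem isZero_tor_pow (hq : CAlgX.IsQuasiRegular f)
    (h1 : ∀ p : ℕ, IsZero (((Tor (ModuleCat.{u} A) (p + 1)).obj (ModuleCat.of A (A ⧸ 𝐉))).obj W)) (p n : ℕ) :
    IsZero (((Tor (ModuleCat.{u} A) (p + 1)).obj (ModuleCat.of A ↥(𝐉 ^ n))).obj W) := by
  let S : ShortComplex (ModuleCat.{u} A) := ShortComplex.mk
    (ModuleCat.ofHom (𝐉 ^ n).subtype) (ModuleCat.ofHom (𝐉 ^ n).mkQ)
    (ModuleCat.hom_ext (LinearMap.ext fun x => (Submodule.Quotient.mk_eq_zero _).2 x.2))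
  have hS : S.ShortExact :=
    { exact := (ShortComplex.ShortExact.moduleCat_exact_iff_function_exact S).2 (LinearMap.exact_subtype_mkQ _)
      mono_f := (ModuleCat.mono_iff_injective _).2 Subtype.val_injective
      epi_g := (ModuleCat.epi_iff_surjective _).2 (Submodule.mkQ_surjective _) }
  exact H9Misc.DRingTor.isZero_tor_first hS W (p + 1)
    (isZero_tor_succ_of_flat (ModuleCat.of A A) W p) (isZero_tor_quotient_pow W f hq h1 (p + 1) n)

/-- `Tor` of the graded pieces. -/
theorem isZero_tor_gr (hq : CAlgX.IsQuasiRegular f)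
    (h1 : ∀ p : ℕ, IsZero (((Tor (ModuleCat.{u} A) (p + 1)).obj (ModuleCat.of A (A ⧸ 𝐉))).obj W)) (p n : ℕ) :
    IsZero (((Tor (ModuleCat.{u} A) (p + 1)).obj (ModuleCat.of A
      (↥(𝐉 ^ n) ⧸ Submodule.comap (𝐉 ^ n).subtype (𝐉 ^ (n + 1))))).obj W) := by
  let N := Submodule.comap (𝐉 ^ n).subtype (𝐉 ^ (n + 1))
  have hle : 𝐉 ^ (n + 1) ≤ 𝐉 ^ n := Ideal.pow_le_pow_right (Nat.le_succ n)
  let i : (↥(𝐉 ^ n) ⧸ N) →ₗ[A] A ⧸ 𝐉 ^ (n + 1) := Submodule.mapQ N _ (𝐉 ^ n).subtype le_rfl
  let g : (A ⧸ 𝐉 ^ (n + 1)) →ₗ[A] A ⧸ 𝐉 ^ n := Submodule.factor hle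
  have hex : Function.Exact i g := by
    intro y
    obtain ⟨b, rfl⟩ := Submodule.Quotient.mk_surjective _ y
    constructor
    · intro hb
      exact ⟨Submodule.Quotient.mk ⟨b, (Submodule.Quotient.mk_eq_zero _).1 hb⟩, rfl⟩
    · rintro ⟨w, hw⟩
      obtain ⟨z, rfl⟩ := Submodule.Quotient.mk_surjective _ w
      rw [← hw]
      exact (Submodule.Quotient.mk_eq_zero _).2 z.2
  have hi : Function.Injective i := (injective_iff_map_eq_zero _).2 fun w hw => by
    obtain ⟨z, rfl⟩ := Submodule.Quotient.mk_surjective _ w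
    exact (Submodule.Quotient.mk_eq_zero _).2 ((Submodule.Quotient.mk_eq_zero _).1 hw :)
  let S : ShortComplex (ModuleCat.{u} A) := ShortComplex.mk (ModuleCat.ofHom i) (ModuleCat.ofHom g)
    (ModuleCat.hom_ext (LinearMap.ext fun w => hex.apply_apply_eq_zero w))
  have hS : S.ShortExact :=
    { exact := (ShortComplex.ShortExact.moduleCat_exact_iff_function_exact S).2 hex
      mono_f := (ModuleCat.mono_iff_injective _).2 hi
      epi_g := (ModuleCat.epi_iff_surjective _).2 (Submodule.factor_surjective (Ideal.pow_le_pow_right (Nat.le_succ n) : 𝐉 ^ (n + 1) ≤ 𝐉 ^ n)) }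
  exact H9Misc.DRingTor.isZero_tor_first hS W (p + 1)
    (isZero_tor_quotient_pow W f hq h1 p (n + 1)) (isZero_tor_quotient_pow W f hq h1 (p + 1) n)

end

end Groth.Agent.PushAmp
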