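import Groth.Agent.H9Misc.TorBalance
import Groth.Agent.H9Misc.DRingLTensorCx
import Groth.Prelude.Def_HTor
import Mathlib.Algebra.Homology.Embedding.TruncLEHomology
import Mathlib.Algebra.Homology.Embedding.CochainComplex

/-!
# Vanishing of the homology of a tensor product of complexes
-/

set_option autoImplicit false
set_option linter.style.haveILetI false
set_option backward.isDefEq.respectTransparency false

universe u

open CategoryTheory CategoryTheory.Limits MonoidalCategory HomologicalComplex

noncomputable section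

namespace Groth.Agent.PushAmp

open KFlatLib H9Misc.DRingLTensor H9Misc.DRingLTensorCx

variable {A : Type u} [CommRing A]

lemma isZero_homology_tensor_devissage {L : DRing.Cx A} (hL : DRing.TermwiseFlat L) (bL : ℤ)
    (hbL : DRing.VanishesAbove L bL) (n : ℤ) : ∀ (k : ℕ) (M : DRing.Cx A),
    M.IsStrictlyLE (n - bL - 1 + k) →
    (∀ (c : ℤ) (N : ModuleCat.{u} A), (N ≅ M.homology c) →
      IsZero ((((curriedTensor (ModuleCat.{u} A)).map₂CochainComplex.obj L).obj
        ((HomologicalComplex.single _ (ComplexShape.up ℤ) c).obj N)).homology n)) →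
    IsZero ((((curriedTensor (ModuleCat.{u} A)).map₂CochainComplex.obj L).obj M).homology n) := by
  intro k
  induction k with
  | zero =>
    intro M hM _
    haveI := hM
    refine ShortComplex.isZero_homology_of_isZero_X₂ _ ?_
    exact vanishesAbove_tensor hbL (fun i hi => M.isZero_of_isStrictlyLE (n - bL - 1 + (0 : ℕ)) i hi) n
      (by push_cast; omega)
  | succ k ih =>
    intro M hM h
    haveI := hM
    let F := (curriedTensor (ModuleCat.{u} A)).map₂CochainComplex.obj L
    let e := ComplexShape.embeddingUpIntLE (n - bL - 1 + k)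
    let c : ℤ := n - bL - 1 + (k + 1 : ℕ)
    let S := HomologicalComplex.shortComplexTruncLE M e
    have hS : S.ShortExact := HomologicalComplex.shortComplexTruncLE_shortExact M e
    have hF : (S.map F).ShortExact := shortExact₂ _ L S fun p q => by
      haveI : Module.Flat A (L.X p) := hL p
      exact ((HomologicalComplex.shortExact_iff_degreewise_shortExact S).1 hS q).map_of_exact _
    refine (hF.homology_exact₂ n).isZero_X₂ ?_ ?_
    · refine (ih (HomologicalComplex.truncLE M e) inferInstance fun i N eN => ?_).eq_zero_of_src _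
      by_cases hi : i ≤ n - bL - 1 + k
      · obtain ⟨j, hj⟩ : ∃ j, e.f j = i := ⟨(n - bL - 1 + k - i).toNat, by
          simp [e, ComplexShape.embeddingUpIntLE]; omega⟩
        haveI := HomologicalComplex.quasiIsoAt_ιTruncLE M (e := e) hj
        exact h i N (eN ≪≫ isoOfQuasiIsoAt (HomologicalComplex.ιTruncLE M e) i)
      · have hz : IsZero N := ((HomologicalComplex.truncLE M e).exactAt_of_isSupported e i fun j hj => by
          simp [e, ComplexShape.embeddingUpIntLE] at hj; omega).isZero_homology.of_iso eN
        refine ShortComplex.isZero_homology_of_isZero_X₂ _ (IsZero.of_iso (isZero_zero _) ?_)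
        have hs : IsZero ((HomologicalComplex.single (ModuleCat.{u} A) (ComplexShape.up ℤ) i).obj N) :=
          Functor.map_isZero _ hz
        exact ((HomologicalComplex.eval _ _ n).map_isZero (F.map_isZero hs)).isoZero
    · refine IsZero.eq_zero_of_tgt ?_ _
      let X : CochainComplex (ModuleCat.{u} A) ℤ := S.X₃
      haveI : X.IsStrictlyLE c := (CochainComplex.isStrictlyLE_iff _ _).2 fun i hi => by
        haveI : Epi (S.g.f i) := inferInstance
        exact IsZero.of_epi (S.g.f i) (M.isZero_of_isStrictlyLE c i hi)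
      haveI : X.IsGE c := (CochainComplex.isGE_iff _ _).2 fun i hi => by
        obtain ⟨j, hj⟩ : ∃ j, e.f j = i := ⟨(n - bL - 1 + k - i).toNat, by
          simp [e, c, ComplexShape.embeddingUpIntLE] at *; omega⟩
        exact hj ▸ (HomologicalComplex.shortComplexTruncLE_X₃_isSupportedOutside M e).exactAt j
      obtain ⟨N, ⟨eN⟩⟩ := CochainComplex.exists_iso_single (X.truncGE c) c
      let π : X ⟶ (HomologicalComplex.single _ (ComplexShape.up ℤ) c).obj N := X.πTruncGE c ≫ eN.hom
      haveI := quasiIso_tensorHom_id π (kFlat_of_termwiseFlat hL hbL)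
      haveI : QuasiIsoAt S.g c := HomologicalComplex.quasiIsoAt_shortComplexTruncLE_g M e c fun j hj => by
        simp [e, c, ComplexShape.embeddingUpIntLE] at hj; omega
      refine (h c N ?_).of_iso (isoOfQuasiIsoAt (F.map π) n)
      exact (HomologicalComplex.singleObjHomologySelfIso _ c N).symm ≪≫
        (isoOfQuasiIsoAt π c).symm ≪≫ (isoOfQuasiIsoAt S.g c).symm

lemma exists_flat_res (c : ℤ) (N : ModuleCat.{u} A) :
    ∃ (P : DRing.Cx A) (π : P ⟶ (HomologicalComplex.single _ (ComplexShape.up ℤ) c).obj N),
      QuasiIso π ∧ DRing.TermwiseFlat P ∧ DRing.VanishesAbove P c ∧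
      ∀ (U : ModuleCat.{u} A) (i : ℤ), (∀ p : ℕ, c - p = i → IsZero (((Tor (ModuleCat.{u} A) p).obj U).obj N)) →
        IsZero (((tensC U).obj P).homology i) := by
  let Q := ProjectiveResolution.of N
  let e := ((CochainComplex.singleFunctors (ModuleCat.{u} A)).shiftIso (-c) c 0 (by omega)).app N
  refine ⟨Q.cochainComplex⟦-c⟧, Q.π'⟦-c⟧' ≫ e.hom, inferInstance, fun i => ?_, fun i hi => ?_, ?_⟩
  · have hP : Projective (Q.cochainComplex.X (i + -c)) := inferInstance
    haveI : Module.Projective A (Q.cochainComplex.X (i + -c)) := (IsProjective.iff_projective _).2 hP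
    exact Module.Flat.of_projective (R := A) (M := Q.cochainComplex.X (i + -c))
  · exact CochainComplex.isZero_of_isStrictlyLE Q.cochainComplex 0 (i + -c) (by omega)
  · intro U i h
    refine IsZero.of_iso ?_ ((HomologicalComplex.homologyFunctor _ _ i).mapIso
      ((((tensorRight U).mapHomologicalComplex (ComplexShape.up ℤ)).commShiftIso (-c)).app Q.cochainComplex) ≪≫
        (CochainComplex.ShiftSequence.shiftIso _ (-c) i (i - c) (by omega)).app _)
    by_cases hic : i ≤ c
    · obtain ⟨p, hp⟩ : ∃ p : ℕ, i - c = -(p : ℤ) := ⟨(c - i).toNat, by omega⟩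
      rw [HomologicalComplex.homologyFunctor_obj, hp]
      exact (h p (by omega)).of_iso (H9Misc.TorBalance.torIso U Q p).symm
    · exact ShortComplex.isZero_homology_of_isZero_X₂ _ ((tensorRight U).map_isZero
        (CochainComplex.isZero_of_isStrictlyLE Q.cochainComplex 0 (i - c) (by omega)))

theorem isZero_homology_tensor_of_tor (L M : DRing.Cx A) (hL : DRing.TermwiseFlat L)
    (bL bM : ℤ) (hbL : DRing.VanishesAbove L bL) (hbM : DRing.VanishesAbove M bM) (n : ℤ)
    (h : ∀ (p : ℕ) (i j : ℤ), i + j - p = n →
      Subsingleton (DRing.Tor A p (L.homology i) (M.homology j))) :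
    IsZero ((HTor.tensorCx L M).homology n) := by
  let T := (curriedTensor (ModuleCat.{u} A)).map₂CochainComplex
  haveI : M.IsStrictlyLE (n - bL - 1 + (bM - (n - bL - 1)).toNat) :=
    (CochainComplex.isStrictlyLE_iff _ _).2 fun i hi => hbM i (by omega)
  refine isZero_homology_tensor_devissage hL bL hbL n ((bM - (n - bL - 1)).toNat) M inferInstance fun c N eN => ?_
  obtain ⟨P, π, hπ, hP, hPc, hPtor⟩ := exists_flat_res c N
  haveI := hπ
  haveI := quasiIso_tensorHom_id π (kFlat_of_termwiseFlat hL hbL)
  refine IsZero.of_iso ?_ (isoOfQuasiIsoAt ((T.obj L).map π) n).symm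
  refine IsZero.of_iso ?_ ((HomologicalComplex.homologyFunctor _ _ n).mapIso
    ((symmIso curriedTensorFlipIso L).symm.app P))
  haveI : L.IsStrictlyLE (n - c - 1 + (bL - (n - c - 1)).toNat) :=
    (CochainComplex.isStrictlyLE_iff _ _).2 fun i hi => hbL i (by omega)
  refine IsZero.of_iso (isZero_homology_tensor_devissage hP c hPc n ((bL - (n - c - 1)).toNat) L inferInstance fun i U eU => ?_) ?_
  · let es := ((CochainComplex.singleFunctors (ModuleCat.{u} A)).shiftIso (-i) i 0 (by omega)).app U
    refine IsZero.of_iso ?_ ((HomologicalComplex.homologyFunctor _ _ n).mapIso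
      ((T.obj P).mapIso es.symm ≪≫
        CochainComplex.mapBifunctorShift₂Iso P _ (curriedTensor (ModuleCat.{u} A)) (-i) ≪≫
        (shiftFunctor _ (-i)).mapIso ((H9Misc.TorBalance.sglRightIso U).app P)) ≪≫
      (CochainComplex.ShiftSequence.shiftIso _ (-i) n (n - i) (by omega)).app _)
    refine hPtor U (n - i) fun p hp => ?_
    exact (ModuleCat.isZero_iff_subsingleton.2 (h p i c (by omega))).of_iso
      (((Tor (ModuleCat.{u} A) p).mapIso eU).app N ≪≫
        ((Tor (ModuleCat.{u} A) p).obj (L.homology i)).mapIso eN)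
  · exact Iso.refl _

end Groth.Agent.PushAmp
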