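import Groth.Agent.PushAmp.ChartClosed
import Groth.Agent.PushAmp.RelPerf
import Groth.Agent.KFlatLib.Scheme.ClosedPush
import Groth.Agent.QCoh.Stalk

/-!
# Relative stalks of direct images along closed immersions
-/

set_option autoImplicit false
set_option linter.style.haveILetI false
set_option backward.isDefEq.respectTransparency false
set_option backward.isDefEq.respectTransparency.types false

universe u

open CategoryTheory CategoryTheory.Limits AlgebraicGeometry TopologicalSpace

attribute [local instance] HasDerivedCategory.standard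

namespace Groth.Agent.PushAmp

open Groth.Agent.KFlatLib

variable {X Y S : Scheme.{u}} (i : X ⟶ Y) [IsClosedImmersion i]

/-- The stalk of a direct image, linearly. -/
noncomputable def pushStalkEquiv (M : X.Modules) (x : X) :
    letI : Module (Y.presheaf.stalk (i.base x)) (M.presheaf.stalk x) := Module.compHom _ (i.stalkMap x).hom
    ((Scheme.Modules.pushforward i).obj M).presheaf.stalk (i.base x) ≃ₗ[Y.presheaf.stalk (i.base x)]
      M.presheaf.stalk x := by
  letI : Module (Y.presheaf.stalk (i.base x)) (M.presheaf.stalk x) := Module.compHom _ (i.stalkMap x).hom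
  haveI := KFlatLib.isIso_stalkPushforward_closed i M x
  let e : ((Scheme.Modules.pushforward i).obj M).presheaf.stalk (i.base x) ≃+ M.presheaf.stalk x :=
    (asIso (TopCat.Presheaf.stalkPushforward Ab.{u} i.base M.presheaf x)).addCommGroupIsoToAddEquiv
  have he : ∀ (U : Y.Opens) (hU : i.base x ∈ U) (v : Γ(M, i ⁻¹ᵁ U)),
      e (((Scheme.Modules.pushforward i).obj M).presheaf.germ U (i.base x) hU v) =
        M.presheaf.germ (i ⁻¹ᵁ U) x hU v := fun U hU v =>
    congrArg (fun φ => φ v) (TopCat.Presheaf.stalkPushforward_germ Ab.{u} i.base M.presheaf U x hU)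
  refine { e with map_smul' := ?_ }
  intro a m
  obtain ⟨U, hU, b, rfl⟩ := Y.presheaf.exists_germ_eq (x := i.base x) a
  obtain ⟨V, hV, v, rfl⟩ := ((Scheme.Modules.pushforward i).obj M).presheaf.germ_exist m
  have hW : i.base x ∈ U ⊓ V := ⟨hU, hV⟩
  simp only [AddEquiv.toEquiv_eq_coe, Equiv.toFun_as_coe, EquivLike.coe_coe, RingHom.id_apply]
  rw [← Y.presheaf.germ_res_apply (homOfLE inf_le_left : U ⊓ V ⟶ U) (i.base x) hW b,
    ← ((Scheme.Modules.pushforward i).obj M).presheaf.germ_res_apply (homOfLE inf_le_right : U ⊓ V ⟶ V)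
      (i.base x) hW v]
  generalize Y.presheaf.map (homOfLE inf_le_left : U ⊓ V ⟶ U).op b = b'
  generalize ((Scheme.Modules.pushforward i).obj M).presheaf.map (homOfLE inf_le_right : U ⊓ V ⟶ V).op v = v'
  rw [← QCoh.germ_smul' ((Scheme.Modules.pushforward i).obj M) hW, he, he]
  refine (QCoh.germ_smul' M (show x ∈ i ⁻¹ᵁ (U ⊓ V) from hW) (i.app _ b') v').trans ?_
  exact congrArg (fun t => t • M.presheaf.germ (i ⁻¹ᵁ (U ⊓ V)) x hW v')
    (Scheme.Hom.germ_stalkMap_apply i (U ⊓ V) x hW b').symm

/-- Stalks of direct images along closed immersions. -/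
noncomputable def pushStalkIso (x : X) :
    Scheme.Modules.pushforward i ⋙ DerSch.stalkFunctor Y (i.base x) ≅
      DerSch.stalkFunctor X x ⋙ ModuleCat.restrictScalars (i.stalkMap x).hom :=
  NatIso.ofComponents
    (fun M => LinearEquiv.toModuleIso
      (letI : Module (Y.presheaf.stalk (i.base x)) (M.presheaf.stalk x) :=
        Module.compHom _ (i.stalkMap x).hom
      ({ pushStalkEquiv i M x with } :
        ((Scheme.Modules.pushforward i).obj M).presheaf.stalk (i.base x) ≃ₗ[Y.presheaf.stalk (i.base x)]
          M.presheaf.stalk x)))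
    fun {M N} φ => by
      ext m
      exact congrArg (fun ψ => ψ m) (stalkPushforward_naturality' i.base
        ((toAb X ⋙ TopCat.Sheaf.forget _ _).map φ) x)

variable (g : Y ⟶ S)

/-- Relative stalks of direct images along closed immersions. -/
theorem nonempty_pushStalkOver_iso (x : X) :
    Nonempty (Scheme.Modules.pushforward i ⋙ DerSch.stalkOver g (i.base x) ≅
      DerSch.stalkOver (i ≫ g) x) := by
  have hσ : ((i ≫ g).stalkMap x).hom = (i.stalkMap x).hom.comp (g.stalkMap (i.base x)).hom := by
    rw [Scheme.Hom.stalkMap_comp]; rfl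
  let ρ : ModuleCat.restrictScalars.{u} ((i ≫ g).stalkMap x).hom ≅
      ModuleCat.restrictScalars (i.stalkMap x).hom ⋙ ModuleCat.restrictScalars (g.stalkMap (i.base x)).hom :=
    ModuleCat.restrictScalarsComp' (R₁ := S.presheaf.stalk (g.base (i.base x)))
      (g.stalkMap (i.base x)).hom (i.stalkMap x).hom _ hσ
  exact ⟨(Functor.associator _ _ _).symm ≪≫ Functor.isoWhiskerRight (pushStalkIso i x) _ ≪≫
    Functor.associator _ _ _ ≪≫ Functor.isoWhiskerLeft _ ρ.symm⟩

/-- Tor amplitude of a direct image along a closed immersion. -/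
theorem hasTorAmplitudeAt_push_iff (F : CochainComplex X.Modules ℤ) (x : X) (a b : ℤ) :
    DerSch.HasTorAmplitudeAt g a b ((DerSch.pushCx i).obj F) (i.base x) ↔
      DerSch.HasTorAmplitudeAt (i ≫ g) a b F x := by
  obtain ⟨e⟩ := nonempty_pushStalkOver_iso i g x
  let e' := (NatIso.mapHomologicalComplex e (ComplexShape.up ℤ)).app F
  exact ⟨H9Misc.DRingTor.of_iso (DerivedCategory.Q.mapIso e'),
    H9Misc.DRingTor.of_iso (DerivedCategory.Q.mapIso e').symm⟩

end Groth.Agent.PushAmp

namespace Groth.Agent.PushAmp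

open Groth.Agent.KFlatLib

variable {X Y S : Scheme.{u}} (i : X ⟶ Y) [IsClosedImmersion i] (g : Y ⟶ S)

/-- The relative stalk complex of a direct image vanishes off the image. -/
theorem isZero_stalkCx_push_compl (F : CochainComplex X.Modules ℤ) (y : Y) (hy : y ∉ Set.range i.base) :
    IsZero ((DerSch.stalkCxOver g y).obj ((DerSch.pushCx i).obj F)) := by
  rw [IsZero.iff_id_eq_zero]
  refine HomologicalComplex.hom_ext _ _ fun k => ?_
  haveI : Subsingleton (((Scheme.Modules.pushforward i).obj (F.X k)).presheaf.stalk y) :=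
    AddCommGrpCat.isZero_iff_subsingleton.1 (KFlatLib.isZero_stalk_push i y hy (F.X k))
  haveI : Subsingleton ((DerSch.stalkOver g y).obj ((Scheme.Modules.pushforward i).obj (F.X k))) :=
    inferInstanceAs (Subsingleton (((Scheme.Modules.pushforward i).obj (F.X k)).presheaf.stalk y))
  have hz : IsZero (((DerSch.stalkCxOver g y).obj ((DerSch.pushCx i).obj F)).X k) :=
    ModuleCat.isZero_of_subsingleton ((DerSch.stalkOver g y).obj ((Scheme.Modules.pushforward i).obj (F.X k)))
  exact hz.eq_of_src _ _

/-- Tor amplitude of a direct image at every point. -/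
theorem hasTorAmplitude_push {F : CochainComplex X.Modules ℤ} {a b : ℤ}
    (h : DerSch.HasTorAmplitude (i ≫ g) a b F) : DerSch.HasTorAmplitude g a b ((DerSch.pushCx i).obj F) := by
  intro y
  by_cases hy : y ∈ Set.range i.base
  · obtain ⟨x, rfl⟩ := hy
    exact (hasTorAmplitudeAt_push_iff i g F x a b).2 (h x)
  · exact H9Misc.DRingTor.of_isZero (Functor.map_isZero _ (isZero_stalkCx_push_compl i g F y hy))

end Groth.Agent.PushAmp
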