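import Groth.Agent.PushAmp.KunnethFirst
import Mathlib.Algebra.Homology.HomotopyCategory.Pretriangulated
import Mathlib.LinearAlgebra.Finsupp.LinearCombination

/-!
# One step of the syzygy tower of a complex
-/

set_option autoImplicit false
set_option linter.style.haveILetI false
set_option backward.isDefEq.respectTransparency false
set_option maxHeartbeats 1000000

universe u

open CategoryTheory CategoryTheory.Limits MonoidalCategory HomologicalComplex

noncomputable section

namespace Groth.Agent.PushAmp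

open KFlatLib H9Misc.DRingLTensor CochainComplex

variable {A : Type u} [CommRing A]

section Cone

variable {F L : DRing.Cx A} (φ : F ⟶ L)

/-- The cylinder-like object `L ⊞ Cone(1)`. -/
abbrev cyl {F L : DRing.Cx A} (_φ : F ⟶ L) : DRing.Cx A := L ⊞ mappingCone (𝟙 F)

/-- `F → L ⊞ Cone(1)`. -/
def cylIn : F ⟶ cyl φ := biprod.lift φ (-mappingCone.inr (𝟙 F))

/-- `L ⊞ Cone(1) → Cone(φ)`. -/
def cylOut : cyl φ ⟶ mappingCone φ :=
  biprod.desc (mappingCone.inr φ) (mappingCone.map (𝟙 F) φ (𝟙 F) φ rfl)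

lemma inr_map_cone : mappingCone.inr (𝟙 F) ≫ mappingCone.map (𝟙 F) φ (𝟙 F) φ rfl = φ ≫ mappingCone.inr φ := by
  simp [mappingCone.map]

/-- `F → L ⊞ Cone(1) → Cone(φ)`. -/
abbrev cylSeq : ShortComplex (DRing.Cx A) :=
  ShortComplex.mk (cylIn φ) (cylOut φ) (by
    simp [cylIn, cylOut, biprod.lift_desc, inr_map_cone])

/-- The retraction. -/
def cylR (n : ℤ) : (cyl φ).X n ⟶ F.X n :=
  -((biprod.snd : cyl φ ⟶ _).f n ≫ (mappingCone.snd (𝟙 F)).v n n (add_zero n))

/-- The section. -/
def cylS (n : ℤ) : (mappingCone φ).X n ⟶ (cyl φ).X n :=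
  (mappingCone.snd φ).v n n (add_zero n) ≫ (biprod.inl : L ⟶ cyl φ).f n +
    (mappingCone.fst φ).1.v n (n + 1) rfl ≫ (mappingCone.inl (𝟙 F)).v (n + 1) n (by omega) ≫
      (biprod.inr : mappingCone (𝟙 F) ⟶ cyl φ).f n

lemma cylS_cylOut (n : ℤ) : cylS φ n ≫ (cylOut φ).f n = 𝟙 _ := by
  apply mappingCone.ext_from φ (n + 1) n rfl <;>
    simp [cylS, cylOut, mappingCone.map, biprod.inl_desc_assoc, ← HomologicalComplex.comp_f_assoc,
      ← HomologicalComplex.comp_f]

lemma cyl_id (n : ℤ) : cylR φ n ≫ (cylIn φ).f n + (cylOut φ).f n ≫ cylS φ n = 𝟙 _ := by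
  have h : ∀ {Z : ModuleCat.{u} A} (a b : (cyl φ).X n ⟶ Z),
      (biprod.inl : L ⟶ cyl φ).f n ≫ a = (biprod.inl : L ⟶ cyl φ).f n ≫ b →
      (biprod.inr : mappingCone (𝟙 F) ⟶ cyl φ).f n ≫ a = (biprod.inr : mappingCone (𝟙 F) ⟶ cyl φ).f n ≫ b → a = b := by
    intro Z a b h₁ h₂
    have ht : 𝟙 ((cyl φ).X n) = (biprod.fst : cyl φ ⟶ L).f n ≫ (biprod.inl : L ⟶ cyl φ).f n +
        (biprod.snd : cyl φ ⟶ _).f n ≫ (biprod.inr : mappingCone (𝟙 F) ⟶ cyl φ).f n := by
      rw [← HomologicalComplex.comp_f, ← HomologicalComplex.comp_f, ← HomologicalComplex.add_f_apply, biprod.total,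
        HomologicalComplex.id_f]
    rw [← Category.id_comp a, ← Category.id_comp b, ht, Preadditive.add_comp, Preadditive.add_comp,
      Category.assoc, Category.assoc, Category.assoc, Category.assoc, h₁, h₂]
  have hi : (cylIn φ).f n = φ.f n ≫ (biprod.inl : L ⟶ cyl φ).f n -
      (mappingCone.inr (𝟙 F)).f n ≫ (biprod.inr : mappingCone (𝟙 F) ⟶ cyl φ).f n := by
    rw [← HomologicalComplex.comp_f, ← HomologicalComplex.comp_f, ← HomologicalComplex.sub_f_apply]
    congr 1
    apply biprod.hom_ext <;> simp [cylIn]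
  have o1 : (biprod.inl : L ⟶ cyl φ).f n ≫ (cylOut φ).f n = (mappingCone.inr φ).f n := by
    rw [← HomologicalComplex.comp_f, cylOut, biprod.inl_desc]
  have o2 : (biprod.inr : mappingCone (𝟙 F) ⟶ cyl φ).f n ≫ (cylOut φ).f n =
      (mappingCone.map (𝟙 F) φ (𝟙 F) φ rfl).f n := by
    rw [← HomologicalComplex.comp_f, cylOut, biprod.inr_desc]
  have r1 : (biprod.inl : L ⟶ cyl φ).f n ≫ cylR φ n = 0 := by
    rw [cylR, Preadditive.comp_neg, ← HomologicalComplex.comp_f_assoc, biprod.inl_snd]; simp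
  have r2 : (biprod.inr : mappingCone (𝟙 F) ⟶ cyl φ).f n ≫ cylR φ n =
      -(mappingCone.snd (𝟙 F)).v n n (add_zero n) := by
    rw [cylR, Preadditive.comp_neg, ← HomologicalComplex.comp_f_assoc, biprod.inr_snd]; simp
  refine h _ _ ?_ ?_
  · rw [Preadditive.comp_add, ← Category.assoc, ← Category.assoc, o1, r1]
    simp [cylS]
  · rw [Preadditive.comp_add, ← Category.assoc, ← Category.assoc, o2, r2]
    apply mappingCone.ext_from (𝟙 F) (n + 1) n rfl <;> simp [cylS, hi, mappingCone.map]

/-- It is degreewise split. -/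
def cylSeqSplitting (n : ℤ) :
    ((cylSeq φ).map (HomologicalComplex.eval _ (ComplexShape.up ℤ) n)).Splitting where
  r := cylR φ n
  s := cylS φ n
  f_r := by
    change (cylIn φ).f n ≫ cylR φ n = 𝟙 (F.X n)
    rw [cylR, Preadditive.comp_neg, ← Category.assoc, ← HomologicalComplex.comp_f, cylIn, biprod.lift_snd,
      HomologicalComplex.neg_f_apply, Preadditive.neg_comp, neg_neg, mappingCone.inr_f_snd_v]
  s_g := cylS_cylOut φ n
  id := cyl_id φ n

/-- Exactness of `H(F) → H(L) → H(Cone φ)` after a functor killing contractible complexes. -/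
lemma exact_map_cone {C : Type*} [Category C] [Abelian C] (G : DRing.Cx A ⥤ CochainComplex C ℤ) [G.Additive]
    (hG : ((cylSeq φ).map G).ShortExact) (hK : (G.obj (mappingCone (𝟙 F))).Acyclic) (n : ℤ) :
    (ShortComplex.mk (homologyMap (G.map φ) n) (homologyMap (G.map (mappingCone.inr φ)) n) (by
      rw [← homologyMap_comp, ← G.map_comp]
      have h' : φ ≫ mappingCone.inr φ = mappingCone.inr (𝟙 F) ≫ mappingCone.map (𝟙 F) φ (𝟙 F) φ rfl :=
        (inr_map_cone φ).symm
      rw [h', G.map_comp, homologyMap_comp]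
      simp [(hK n).isZero_homology.eq_of_src (homologyMap (G.map (mappingCone.map (𝟙 F) φ (𝟙 F) φ rfl)) n) 0])).Exact := by
  let e : (G.obj L).homology n ≅ (G.obj (cyl φ)).homology n :=
    { hom := homologyMap (G.map (biprod.inl : L ⟶ cyl φ)) n
      inv := homologyMap (G.map (biprod.fst : cyl φ ⟶ L)) n
      hom_inv_id := by rw [← homologyMap_comp, ← G.map_comp, biprod.inl_fst, G.map_id, homologyMap_id]
      inv_hom_id := by
        have h : homologyMap (G.map ((biprod.snd : cyl φ ⟶ _) ≫ (biprod.inr : mappingCone (𝟙 F) ⟶ cyl φ))) n = 0 := by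
          rw [G.map_comp, homologyMap_comp]
          simp [(hK n).isZero_homology.eq_of_tgt (homologyMap (G.map (biprod.snd : cyl φ ⟶ _)) n) 0]
        rw [← homologyMap_comp, ← G.map_comp, ← homologyMap_id, ← G.map_id, ← biprod.total,
          G.map_add, homologyMap_add, h, add_zero] }
  have h₁ : homologyMap (G.map φ) n = homologyMap (G.map (cylIn φ)) n ≫ e.inv := by
    rw [← homologyMap_comp, ← G.map_comp, cylIn, biprod.lift_fst]
  have h₂ : homologyMap (G.map (cylOut φ)) n = e.inv ≫ homologyMap (G.map (mappingCone.inr φ)) n := by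
    rw [Iso.eq_inv_comp, ← homologyMap_comp, ← G.map_comp, cylOut, biprod.inl_desc]
  refine (ShortComplex.exact_iff_of_iso ?_).1 (hG.homology_exact₂ n)
  refine ShortComplex.isoMk (Iso.refl _) e.symm (Iso.refl _) ?_ ?_
  · exact (Category.id_comp _).trans h₁
  · exact h₂.symm.trans (Category.comp_id _).symm

lemma exact_homology_cone (n : ℤ) :
    Function.Exact (homologyMap φ n) (homologyMap (mappingCone.inr φ) n) :=
  (ShortComplex.ShortExact.moduleCat_exact_iff_function_exact _).1
    (exact_map_cone φ (𝟭 _)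
      (HomologicalComplex.shortExact_of_degreewise_shortExact _ fun n => (cylSeqSplitting φ n).shortExact)
      (acyclic_of_homotopy_id_zero (mappingCone.homotopyToZeroOfId F)) n)

lemma exact_tensor_cone (M : DRing.Cx A) (n : ℤ) :
    Function.Exact (homologyMap ((rightTen M).map φ) n) (homologyMap ((rightTen M).map (mappingCone.inr φ)) n) :=
  (ShortComplex.ShortExact.moduleCat_exact_iff_function_exact _).1
    (exact_map_cone φ (rightTen M) (shortExact₁_of_splitting M (cylSeq φ) (fun n => ⟨cylSeqSplitting φ n⟩))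
      (acyclic_of_homotopy_id_zero ((Homotopy.ofEq ((rightTen M).map_id _).symm).trans
        ((nonempty_homotopy₁ (curriedTensor (ModuleCat.{u} A)) M (mappingCone.homotopyToZeroOfId F)).some.trans
          (Homotopy.ofEq ((rightTen M).map_zero _ _))))) n)

end Cone

end Groth.Agent.PushAmp
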