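import Groth.Agent.S15828
import Groth.Agent.PushAmp.KunnethStep
import Groth.Agent.PushAmp.TorVanish
import Groth.Agent.FlatCxLib.Field
import Groth.Agent.FlatCxLib.BoundedFlat
import Groth.Prelude.Def_ega3
import Groth.Prelude.Def_LCI2

/-!
# Powers of a Koszul-regular sequence
-/

set_option autoImplicit false
set_option linter.style.haveILetI false
set_option backward.isDefEq.respectTransparency false
set_option maxHeartbeats 1000000

universe u

open CategoryTheory CategoryTheory.Limits MonoidalCategory HomologicalComplex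
open CochainComplex (mappingCone)

noncomputable section

namespace Groth.Agent.PushAmp

open KFlatLib

variable {A : Type u} [CommRing A]

/-- The cone of multiplication by `a`. -/
abbrev coneOn (a : A) (K : DRing.Cx A) : DRing.Cx A := mappingCone (a • 𝟙 K)

/-- Iterated cones. -/
def iterCone : List A → DRing.Cx A → DRing.Cx A
  | [], K => K
  | a :: l, K => coneOn a (iterCone l K)

/-- Functoriality of `coneOn` for isomorphisms. -/
def coneOnCongr (a : A) {K K' : DRing.Cx A} (e : K ≅ K') : coneOn a K ≅ coneOn a K' where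
  hom := CochainComplex.mappingCone.map _ _ e.hom e.hom (by simp)
  inv := CochainComplex.mappingCone.map _ _ e.inv e.inv (by simp)
  hom_inv_id := by
    rw [← CochainComplex.mappingCone.map_comp]
    simp [CochainComplex.mappingCone.map_id]
  inv_hom_id := by
    rw [← CochainComplex.mappingCone.map_comp]
    simp [CochainComplex.mappingCone.map_id]

/-- The basic two-term complex. -/
abbrev twoTerm (a : A) : DRing.Cx A := coneOn a (𝟙_ (DRing.Cx A))

/-- `coneOn` is tensoring with the two-term complex. -/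
def coneOnIso (a : A) (K : DRing.Cx A) : twoTerm a ⊗ K ≅ coneOn a K :=
  S15828.coneTensorIso (a • 𝟙 (𝟙_ (DRing.Cx A))) ≪≫
    eqToIso (by rw [S15828.tensorHom_smul]; rfl) ≪≫ coneOnCongr a (λ_ K)

/-- Two cones commute. -/
def coneOnSwap (a b : A) (K : DRing.Cx A) : coneOn a (coneOn b K) ≅ coneOn b (coneOn a K) :=
  coneOnCongr a (coneOnIso b K).symm ≪≫ (coneOnIso a _).symm ≪≫ (α_ (twoTerm a) (twoTerm b) K).symm ≪≫
    whiskerRightIso ((symmIso curriedTensorFlipIso (twoTerm b)).app (twoTerm a)) K ≪≫
    α_ (twoTerm b) (twoTerm a) K ≪≫ coneOnIso b _ ≪≫ coneOnCongr b (coneOnIso a K)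

lemma nonempty_iterCone_congr : ∀ (l : List A) {K K' : DRing.Cx A}, (K ≅ K') → Nonempty (iterCone l K ≅ iterCone l K')
  | [], _, _, e => ⟨e⟩
  | a :: l, _, _, e => ⟨coneOnCongr a (nonempty_iterCone_congr l e).some⟩

lemma nonempty_coneOn_iterCone (a : A) : ∀ (l : List A) (K : DRing.Cx A),
    Nonempty (coneOn a (iterCone l K) ≅ iterCone l (coneOn a K))
  | [], _ => ⟨Iso.refl _⟩
  | b :: l, K => ⟨coneOnSwap a b _ ≪≫ coneOnCongr b (nonempty_coneOn_iterCone a l K).some⟩

/-- Cohomology only in degrees at least zero. -/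
def NegVanish (K : DRing.Cx A) : Prop := ∀ i : ℤ, i < 0 → IsZero (K.homology i)

lemma NegVanish.of_iso {K K' : DRing.Cx A} (h : NegVanish K) (e : K ≅ K') : NegVanish K' := fun i hi =>
  (h i hi).of_iso ((HomologicalComplex.homologyFunctor _ _ i).mapIso e.symm)

lemma homologyMap_smul_id_apply (a : A) (K : DRing.Cx A) (i : ℤ) (x : K.homology i) :
    homologyMap (a • 𝟙 K) i x = a • x := by
  obtain ⟨z, rfl⟩ := surjective_homologyπ K i x
  refine (LinearMap.congr_fun (ModuleCat.hom_ext_iff.1 (homologyπ_naturality (a • 𝟙 K) i)) z).trans ?_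
  have h : cyclesMap (a • 𝟙 K) i z = a • z := by
    refine (ModuleCat.mono_iff_injective (K.iCycles i)).1 inferInstance ?_
    refine (LinearMap.congr_fun (ModuleCat.hom_ext_iff.1 (cyclesMap_i (a • 𝟙 K) i)) z).trans ?_
    rw [map_smul]
    rfl
  exact (congrArg (K.homologyπ i) h).trans (map_smul _ _ _)

/-- `H^{<0}` of the cone of `a` vanishes iff `a` is injective on `H^{≤0}` and surjective on `H^{<0}`. -/
lemma negVanish_coneOn_iff (a : A) (K : DRing.Cx A) :
    NegVanish (coneOn a K) ↔
      (∀ i : ℤ, i ≤ 0 → ∀ x : K.homology i, a • x = 0 → x = 0) ∧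
        (∀ i : ℤ, i < 0 → ∀ x : K.homology i, ∃ y, a • y = x) := by
  let φ := a • 𝟙 K
  have hS : (cylSeq φ).ShortExact :=
    HomologicalComplex.shortExact_of_degreewise_shortExact _ fun n => (cylSeqSplitting φ n).shortExact
  have hKa : (mappingCone (𝟙 K)).Acyclic :=
    acyclic_of_homotopy_id_zero (CochainComplex.mappingCone.homotopyToZeroOfId K)
  let e : ∀ i, K.homology i ≅ (cyl φ).homology i := fun i =>
    { hom := homologyMap (biprod.inl : K ⟶ cyl φ) i
      inv := homologyMap (biprod.fst : cyl φ ⟶ K) i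
      hom_inv_id := by rw [← homologyMap_comp, biprod.inl_fst, homologyMap_id]
      inv_hom_id := by
        have h : homologyMap (biprod.snd : cyl φ ⟶ _) i = 0 := (hKa i).isZero_homology.eq_of_tgt _ _
        rw [← homologyMap_id, ← biprod.total, homologyMap_add,
          homologyMap_comp (biprod.snd : cyl φ ⟶ _), h, zero_comp, add_zero, homologyMap_comp] }
  have hφ : ∀ (i : ℤ) (x : K.homology i), (e i).inv (homologyMap (cylIn φ) i x) = a • x := fun i x => by
    show homologyMap (biprod.fst : cyl φ ⟶ K) i (homologyMap (cylIn φ) i x) = _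
    rw [← ModuleCat.comp_apply, ← homologyMap_comp, cylIn, biprod.lift_fst, homologyMap_smul_id_apply]
  have hinj : ∀ i, Function.Injective (e i).inv := fun i => (e i).symm.toLinearEquiv.injective
  have hex₁ : ∀ i, Function.Exact (hS.δ i (i + 1) (by simp)) (homologyMap (cylIn φ) (i + 1)) := fun i =>
    (ShortComplex.ShortExact.moduleCat_exact_iff_function_exact _).1 (hS.homology_exact₁ i (i + 1) (by simp))
  have hex₃ : ∀ i, Function.Exact (homologyMap (cylOut φ) i) (hS.δ i (i + 1) (by simp)) := fun i =>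
    (ShortComplex.ShortExact.moduleCat_exact_iff_function_exact _).1 (hS.homology_exact₃ i (i + 1) (by simp))
  have hex₂ : ∀ i, Function.Exact (homologyMap (cylIn φ) i) (homologyMap (cylOut φ) i) := fun i =>
    (ShortComplex.ShortExact.moduleCat_exact_iff_function_exact _).1 (hS.homology_exact₂ i)
  constructor
  · intro h
    refine ⟨fun i hi x hx => ?_, fun i hi x => ?_⟩
    · obtain ⟨j, rfl⟩ : ∃ j, i = j + 1 := ⟨i - 1, by omega⟩
      haveI := ModuleCat.subsingleton_of_isZero (h j (by omega))
      obtain ⟨y, hy⟩ := (hex₁ j x).1 (hinj _ ((hφ _ x).trans (hx.trans (map_zero _).symm)))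
      rw [← hy, show y = 0 from Subsingleton.elim _ _, map_zero]
    · haveI := ModuleCat.subsingleton_of_isZero (h i hi)
      obtain ⟨y, hy⟩ := (hex₂ i ((e i).hom x)).1 (Subsingleton.elim _ _)
      refine ⟨y, ?_⟩
      rw [← hφ, hy]
      exact (e i).toLinearEquiv.symm_apply_apply x
  · rintro ⟨h₁, h₂⟩ i hi
    haveI : Subsingleton ((coneOn a K).homology i) := subsingleton_of_forall_eq 0 fun c => by
      have hδ : hS.δ i (i + 1) (by simp) c = 0 := by
        refine h₁ (i + 1) (by omega) _ ?_
        rw [← hφ, (hex₁ i).apply_apply_eq_zero, map_zero]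
      obtain ⟨z, rfl⟩ := (hex₃ i c).1 hδ
      obtain ⟨w, hw⟩ := h₂ i hi ((e i).inv z)
      rw [← hinj i ((hφ i w).trans hw), (hex₂ i).apply_apply_eq_zero]
    exact ModuleCat.isZero_of_subsingleton _

lemma negVanish_coneOn_pow (a : A) (K : DRing.Cx A) (h : NegVanish (coneOn a K)) (n : ℕ) :
    NegVanish (coneOn (a ^ n) K) := by
  rw [negVanish_coneOn_iff] at h ⊢
  induction n with
  | zero => exact ⟨fun i _ x hx => by simpa using hx, fun i _ x => ⟨x, by simp⟩⟩
  | succ n ih =>
    refine ⟨fun i hi x hx => h.1 i hi x (ih.1 i hi _ ?_), fun i hi x => ?_⟩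
    · rw [← mul_smul, ← pow_succ]; exact hx
    · obtain ⟨y, rfl⟩ := h.2 i hi x
      obtain ⟨z, rfl⟩ := ih.2 i hi y
      exact ⟨z, by rw [pow_succ', mul_smul]⟩

/-- Raising all entries to powers keeps the vanishing. -/
theorem negVanish_iterCone_pow (n : ℕ) : ∀ (l : List A) (K : DRing.Cx A),
    NegVanish (iterCone l K) → NegVanish (iterCone (l.map (· ^ n)) K)
  | [], _, h => h
  | a :: l, K, h =>
    ((negVanish_iterCone_pow n l _ ((negVanish_coneOn_pow a _ h n).of_iso (nonempty_coneOn_iterCone _ l K).some)).of_iso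
      (nonempty_coneOn_iterCone _ (l.map (· ^ n)) K).some.symm)

lemma koszulCx_eq_iterCone (M : ModuleCat.{u} A) : ∀ l : List A,
    CohIII.koszulCx M l = iterCone l ((HomologicalComplex.single _ (ComplexShape.up ℤ) 0).obj M)
  | [] => rfl
  | a :: l => by
    show mappingCone (a • 𝟙 (CohIII.koszulCx M l)) = mappingCone (a • 𝟙 (iterCone l _))
    rw [koszulCx_eq_iterCone M l]

lemma nonempty_koszul_tensor (S : DRing.Cx A) : ∀ l : List A,
    Nonempty ((Koszul.koszul A l : DRing.Cx A) ⊗ S ≅ iterCone l S)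
  | [] => ⟨λ_ S⟩
  | a :: l => ⟨S15828.coneTensorIso (a • 𝟙 (Koszul.koszul A l)) ≪≫ eqToIso (by rw [S15828.tensorHom_smul]; rfl) ≪≫
      coneOnCongr a (nonempty_koszul_tensor S l).some⟩

lemma termwiseFree_koszul : ∀ (l : List A) (i : ℤ), Module.Flat A ((Koszul.koszul A l).X i)
  | [], i => by
    by_cases hi : i = 0
    · subst hi
      exact (Module.Flat.equiv_iff (HomologicalComplex.singleObjXSelf (ComplexShape.up ℤ) 0 (ModuleCat.of A A)).toLinearEquiv).2
        inferInstance
    · exact (Module.Flat.equiv_iff (HomologicalComplex.isZero_single_obj_X (ComplexShape.up ℤ) 0 (ModuleCat.of A A) i hi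
        |>.iso (ModuleCat.isZero_of_subsingleton (ModuleCat.of A PUnit.{u + 1}))).toLinearEquiv).2 inferInstance
  | a :: l, i => by
    haveI := termwiseFree_koszul l (i + 1)
    haveI := termwiseFree_koszul l i
    haveI : Module.Flat A (ModuleCat.of A ((Koszul.koszul A l).X (i + 1) × (Koszul.koszul A l).X i)) :=
      FlatCxLib.flat_of_flat_sub_quotient LinearMap.inl_injective
        (Function.Exact.inl_snd (R := A) (M := (Koszul.koszul A l).X (i + 1)) (N := (Koszul.koszul A l).X i))
        LinearMap.snd_surjective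
    exact Module.Flat.of_linearEquiv
      (FlatCxLib.coneX (a • 𝟙 (Koszul.koszul A l)) i ≪≫ ModuleCat.biprodIsoProd _ _).toLinearEquiv

lemma vanishesAbove_koszul : ∀ l : List A, DRing.VanishesAbove (Koszul.koszul A l) 0
  | [] => fun i hi => HomologicalComplex.isZero_single_obj_X (ComplexShape.up ℤ) 0 (ModuleCat.of A A) i (by omega)
  | a :: l => fun i hi => IsZero.of_iso ((biprod_isZero_iff _ _).2
      ⟨vanishesAbove_koszul l (i + 1) (by omega), vanishesAbove_koszul l i hi⟩)
      (FlatCxLib.coneX (a • 𝟙 (Koszul.koszul A l)) i)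

/-- The Koszul complex of powers of a regular sequence on a flat module. -/
theorem negVanish_koszulCx_pow (M : ModuleCat.{u} A) [Module.Flat A M] (l : List A)
    (hl : LCI.IsKoszulRegularSeq A l) (n : ℕ) : NegVanish (CohIII.koszulCx M (l.map (· ^ n))) := by
  rw [koszulCx_eq_iterCone]
  refine negVanish_iterCone_pow n l _ (NegVanish.of_iso (fun i hi => ?_) (nonempty_koszul_tensor _ l).some)
  let S := (HomologicalComplex.single (ModuleCat.{u} A) (ComplexShape.up ℤ) 0).obj M
  have hj : ∀ j : ℤ, j ≠ 0 → Subsingleton (S.homology j) := fun j hj =>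
    ModuleCat.subsingleton_of_isZero (isZero_single_obj_homology (ComplexShape.up ℤ) 0 M j hj)
  refine isZero_homology_tensor_of_tor (Koszul.koszul A l) S (termwiseFree_koszul l) 0 0 (vanishesAbove_koszul l)
    (fun j hj' => HomologicalComplex.isZero_single_obj_X (ComplexShape.up ℤ) 0 M j (by omega)) i fun p a b hab => ?_
  refine ModuleCat.subsingleton_of_isZero ?_
  by_cases ha : a = 0
  · subst ha
    by_cases hb : b = 0
    · subst hb
      obtain ⟨p, rfl⟩ : ∃ q, p = q + 1 := ⟨p - 1, by omega⟩
      haveI : Module.Flat A (S.homology 0) :=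
        (Module.Flat.equiv_iff (singleObjHomologySelfIso (ComplexShape.up ℤ) 0 M).toLinearEquiv).2 inferInstance
      exact (TorBridge.isZero_tor_succ_of_flat (S.homology 0) ((Koszul.koszul A l).homology 0) p).of_iso
        (H9Misc.TorBalance.torSymm _ _ (p + 1))
    · let P := ProjectiveResolution.of ((Koszul.koszul A l).homology 0)
      refine IsZero.of_iso ?_ (H9Misc.TorBalance.torSymm _ _ p ≪≫
        P.isoLeftDerivedObj (TorBridge.tenF (S.homology b)) p)
      exact ShortComplex.isZero_homology_of_isZero_X₂ _ ((MonoidalCategory.tensorRight (P.complex.X p)).map_isZero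
        (isZero_single_obj_homology (ComplexShape.up ℤ) 0 M b hb))
  · let P := ProjectiveResolution.of (S.homology b)
    refine IsZero.of_iso ?_ (P.isoLeftDerivedObj (TorBridge.tenF ((Koszul.koszul A l).homology a)) p)
    exact ShortComplex.isZero_homology_of_isZero_X₂ _ ((MonoidalCategory.tensorRight (P.complex.X p)).map_isZero (hl a ha))

/-- Base change of a Koszul-regular sequence along a flat map. -/
theorem isKoszulRegularSeq_map {B : Type u} [CommRing B] (φ : A →+* B) (hφ : φ.Flat) (l : List A)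
    (hl : LCI.IsKoszulRegularSeq A l) : LCI.IsKoszulRegularSeq B (l.map φ) := by
  let G := ModuleCat.extendScalars.{u, u, u} φ
  have hflat : letI := φ.toAlgebra; Module.Flat A B := hφ
  let Gc := G.mapHomologicalComplex (ComplexShape.up ℤ)
  have key : ∀ l : List A, Nonempty (Gc.obj (Koszul.koszul A l) ≅ Koszul.koszul B (l.map φ)) := by
    intro l
    induction l with
    | nil =>
      letI := φ.toAlgebra
      exact ⟨(HomologicalComplex.singleMapHomologicalComplex G (ComplexShape.up ℤ) 0).app (ModuleCat.of A A) ≪≫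
        (HomologicalComplex.single _ (ComplexShape.up ℤ) 0).mapIso
          (LinearEquiv.toModuleIso ((Algebra.TensorProduct.rid A B B).toLinearEquiv))⟩
    | cons a l ih =>
      obtain ⟨e⟩ := ih
      have hs : Gc.map (a • 𝟙 (Koszul.koszul A l)) = φ a • 𝟙 (Gc.obj (Koszul.koszul A l)) := by
        letI := φ.toAlgebra
        refine HomologicalComplex.hom_ext _ _ fun i => ModuleCat.ExtendScalars.hom_ext fun m => ?_
        show (1 : B) ⊗ₜ[A] (a • m) = φ a • ((1 : B) ⊗ₜ[A] m)
        rw [TensorProduct.tmul_smul, ← algebraMap_smul B a]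
        rfl
      exact ⟨CochainComplex.mappingCone.mapHomologicalComplexIso _ G ≪≫ eqToIso (by rw [hs]) ≪≫ coneOnCongr (φ a) e⟩
  intro i hi
  obtain ⟨e⟩ := key l
  exact (G.map_isZero (hl i hi)).of_iso
    ((HomologicalComplex.homologyFunctor _ _ i).mapIso e.symm ≪≫
      FlatCxLib.homologyExtendScalarsIso φ hflat (Koszul.koszul A l) i)

end Groth.Agent.PushAmp
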