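import Groth.Agent.PushAmp.FibrePerfect
import Groth.Agent.FlatSyz5.PC
import Groth.Agent.H9Misc.DRingRestrict

/-!
# Relative perfection of finitely presented flat algebras, through points
-/

set_option autoImplicit false
set_option linter.style.haveILetI false
set_option backward.isDefEq.respectTransparency false

universe u

open CategoryTheory CategoryTheory.Limits

attribute [local instance] HasDerivedCategory.standard

namespace Groth.Agent.PushAmp

open H9Misc H9Misc.DRingTor H9Misc.DRingLTensor

/-- A pseudo-coherent complex over a presented flat algebra has finite tor amplitude over the base if it is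
bounded below and bounded in the fibre at every point. -/
theorem exists_amp_of_bounded_fibres {R A : Type u} [CommRing R] [CommRing A] [Algebra R A] [Module.Flat R A]
    [Algebra.FinitePresentation R A] (Mc : DRing.Cx A) (hK : DRing.IsPseudoCoherent' A (DRing.toD Mc))
    (a₀ : ℤ) (hH : ∀ i < a₀, IsZero (Mc.homology i))
    (h : ∀ (q : Ideal A) [q.IsPrime], ∃ (a : ℤ) (Ay Bx : Type u) (_ : CommRing Ay) (_ : CommRing Bx)
      (_ : IsLocalRing Ay) (_ : Algebra R Ay) (_ : Algebra A Bx) (_ : IsLocalization.AtPrime Bx q)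
      (_ : IsLocalization.AtPrime Ay (q.comap (algebraMap R A))) (σ : Ay →+* Bx)
      (_ : σ.comp (algebraMap R Ay) = (algebraMap A Bx).comp (algebraMap R A)) (N : DRing.Cx Bx)
      (_ : IsKF ((DRing.restrictCx σ).obj N))
      (_ : DRing.toD N ≅ DRing.toD ((extC' (algebraMap A Bx)).obj Mc)),
      ∀ i < a, ((extC' (IsLocalRing.residue Ay)).obj ((DRing.restrictCx σ).obj N)).ExactAt i) :
    ∃ a a' : ℤ, DRing.HasTorAmplitudeIn R a a' (DRing.toD ((DRing.restrictCx (algebraMap R A)).obj Mc)) := by
  obtain ⟨d, f, hf, hker⟩ := Algebra.FinitePresentation.out (R := R) (A := A)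
  let P := MvPolynomial (Fin d) R
  let ψ : P →+* A := f.toRingHom
  have hψC : ψ.comp MvPolynomial.C = algebraMap R A := RingHom.ext fun r => f.commutes r
  letI : Algebra P A := ψ.toAlgebra
  haveI : IsScalarTower R P A := IsScalarTower.of_algebraMap_eq fun r => (f.commutes r).symm
  haveI : Module.FinitePresentation P A :=
    Module.finitePresentation_of_surjective (Algebra.linearMap P A) hf hker
  have hA := Groth.Agent.FlatSyz5.pc' R P A
  have hM : DRing.IsPseudoCoherent' P (DRing.toD ((DRing.restrictCx ψ).obj Mc)) :=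
    (DRingPC.pc'_iff _).2 fun m => DRingPC.of_iso
      ((ModuleCat.restrictScalars.{u} ψ).mapDerivedCategoryFactors.app Mc)
      (DRingRestrict.pc_restrict ψ hA ((DRingPC.pc'_iff _).1 hK m))
  obtain ⟨E, b, hb, hE, ⟨e⟩⟩ := hM
  obtain ⟨a, a', ha⟩ := exists_amp_of_points ψ hE hb Mc e hf a₀ hH fun q _ => by
    obtain ⟨a, Ay, Bx, _, _, _, _, _, _, hloc, σ, hσ, N, hN, eN, hx⟩ := h q
    haveI : IsLocalization.AtPrime Ay ((q.comap ψ).comap (algebraMap R P)) := by
      have e2 : (q.comap ψ).comap (algebraMap R P) = q.comap (algebraMap R A) := by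
        rw [Ideal.comap_comap, ← hψC]
        rfl
      have key : ∀ (I J : Ideal R) [I.IsPrime] [J.IsPrime], I = J → IsLocalization.AtPrime Ay J → IsLocalization.AtPrime Ay I := by
        rintro I J _ _ rfl hh
        exact hh
      exact key _ _ e2 hloc
    exact ⟨a - d, amp_of_fibre_point ψ hf q σ (by rw [hσ, RingHom.comp_assoc, hψC]) hE hb Mc e N hN eN a hx⟩
  exact ⟨a, a', by rwa [hψC] at ha⟩

end Groth.Agent.PushAmp
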