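import Groth.Agent.PushAmp.BCBase
import Groth.Agent.PushAmp.FibrePerfectAlg
import Groth.Agent.KFlatLib.Scheme.PullCx
import Mathlib.AlgebraicGeometry.Fiber
import Groth.Agent.PushAmp.TildeTor

/-!
# Stalks of derived pullbacks to fibres
-/

set_option autoImplicit false
set_option linter.style.haveILetI false
set_option backward.isDefEq.respectTransparency false
set_option backward.isDefEq.respectTransparency.types false

universe u

open CategoryTheory CategoryTheory.Limits AlgebraicGeometry TensorProduct

attribute [local instance] HasDerivedCategory.standard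

namespace Groth.Agent.PushAmp

open Groth.Agent.KFlatLib H9Misc H9Misc.DRingLTensor

/-- Flat local maps reflect exactness after extension of scalars. -/
theorem exactAt_of_extC_local {A B : Type u} [CommRing A] [CommRing B] [IsLocalRing A] [IsLocalRing B]
    (φ : A →+* B) [IsLocalHom φ] (hφ : φ.Flat) (K : DRing.Cx A) (i : ℤ) (h : ((extC' φ).obj K).ExactAt i) :
    K.ExactAt i := by
  letI := φ.toAlgebra
  haveI : Module.Flat A B := hφ
  haveI : IsLocalHom (algebraMap A B) := ‹IsLocalHom φ›
  haveI : Module.FaithfullyFlat A B := Module.FaithfullyFlat.of_flat_of_isLocalHom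
  haveI := ModuleCat.preservesFiniteLimits_extendScalars_of_flat hφ
  haveI : PreservesFiniteColimits (ModuleCat.extendScalars.{u, u, u} φ) := by
    haveI : (ModuleCat.extendScalars.{u, u, u} φ).IsLeftAdjoint :=
      (ModuleCat.extendRestrictScalarsAdj φ).isLeftAdjoint
    infer_instance
  rw [HomologicalComplex.exactAt_iff_isZero_homology] at h ⊢
  have h' : IsZero ((ModuleCat.extendScalars.{u, u, u} φ).obj (K.homology i)) :=
    h.of_iso ((K.sc i).mapHomologyIso (ModuleCat.extendScalars.{u, u, u} φ)).symm
  haveI : Subsingleton (B ⊗[A] (K.homology i : Type u)) := ModuleCat.subsingleton_of_isZero h'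
  haveI : Subsingleton (K.homology i : Type u) :=
    Module.FaithfullyFlat.lTensor_reflects_triviality A B _
  exact ModuleCat.isZero_of_subsingleton _

variable {X S X' T : Scheme.{u}} {u : X ⟶ S} {u' : X' ⟶ T} {g' : X' ⟶ X} {h : T ⟶ S}

/-- At a point over a field, exactness of the pulled back stalk gives exactness in the closed fibre. -/
theorem exactAt_residue_of_pullback (hc : IsPullback g' u' u h) (x' : X')
    (hF : IsField (T.presheaf.stalk (u'.base x'))) (hτ : Function.Surjective (baseStalkMap hc x').hom)
    (R : CochainComplex X.Modules ℤ) (i : ℤ) (he : ((stalkCx x').obj ((pullCx g').obj R)).ExactAt i) :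
    ((extC' (IsLocalRing.residue (S.presheaf.stalk (u.base (g'.base x'))))).obj
      ((DerSch.stalkCxOver u (g'.base x')).obj R)).ExactAt i := by
  let σ := (u.stalkMap (g'.base x')).hom
  let τ := (baseStalkMap hc x').hom
  letI := σ.toAlgebra
  letI := τ.toAlgebra
  letI := (u.stalkMap (g'.base x') ≫ g'.stalkMap x').hom.toAlgebra
  obtain ⟨φ, hφ, h₁, -⟩ := flat_stalk_pullback hc x'
  let Ay := (S.presheaf.stalk (u.base (g'.base x')) : Type u)
  let Bx := (X.presheaf.stalk (g'.base x') : Type u)
  let A' := (T.presheaf.stalk (u'.base x') : Type u)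
  let l : Bx →+* Bx ⊗[Ay] A' := Algebra.TensorProduct.includeLeftRingHom
  let r : A' →+* Bx ⊗[Ay] A' := (Algebra.TensorProduct.includeRight (R := Ay) (A := Bx) (B := A')).toRingHom
  have hl : Function.Surjective l := fun z => by
    induction z with
    | zero => exact ⟨0, map_zero _⟩
    | add p q hp hq =>
      obtain ⟨p, rfl⟩ := hp
      obtain ⟨q, rfl⟩ := hq
      exact ⟨p + q, map_add _ _ _⟩
    | tmul b a =>
      obtain ⟨c, rfl⟩ := hτ a
      refine ⟨c • b, ?_⟩
      show (c • b) ⊗ₜ[Ay] (1 : A') = b ⊗ₜ[Ay] (algebraMap Ay A' c)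
      rw [TensorProduct.smul_tmul, Algebra.smul_def, mul_one]
  haveI : IsLocalHom (g'.stalkMap x').hom := inferInstance
  haveI : Nontrivial (Bx ⊗[Ay] A') := RingHom.domain_nontrivial φ
  haveI : IsLocalRing (Bx ⊗[Ay] A') := IsLocalRing.of_surjective' l hl
  haveI : IsLocalHom φ := ⟨fun t ht => by
    obtain ⟨b, rfl⟩ := hl t
    have hb : IsUnit ((g'.stalkMap x').hom b) := by rw [← h₁]; exact ht
    exact (isUnit_of_map_unit (g'.stalkMap x').hom b hb).map l⟩
  let K := (stalkCx (g'.base x')).obj R
  have e1 : ((extC' (g'.stalkMap x').hom).obj K).ExactAt i := he.of_iso (stalkPullCxIso g' x' R)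
  have e2 : ((extC' l).obj K).ExactAt i := exactAt_of_extC_local φ hφ _ i
    ((DRingFibre.exactAt_extC_comp l φ _ h₁.symm i).2 e1)
  obtain ⟨ρ⟩ := nonempty_extend_restrict_iso σ τ
  let e₃ : (extC' τ).obj ((DRing.restrictCx σ).obj K) ≅ (DRing.restrictCx r).obj ((extC' l).obj K) :=
    HomologicalComplex.Hom.isoOfComponents (fun n => ρ.app (K.X n))
      (fun p q _ => (ρ.hom.naturality (K.d p q)).symm)
  have e4 : ((DRing.restrictCx r).obj ((extC' l).obj K)).ExactAt i := e2.map (ModuleCat.restrictScalars r)
  have e5 : ((extC' τ).obj ((DRing.restrictCx σ).obj K)).ExactAt i := e4.of_iso e₃.symm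
  letI : Field A' := hF.toField
  haveI : IsLocalHom τ := hτ.isLocalHom
  let η : IsLocalRing.ResidueField Ay →+* A' := IsLocalRing.ResidueField.lift τ
  have hη : Function.Bijective η := ⟨η.injective, fun a => by
    obtain ⟨c, rfl⟩ := hτ a
    exact ⟨IsLocalRing.residue Ay c, rfl⟩⟩
  haveI : IsLocalHom η := hη.2.isLocalHom
  exact exactAt_of_extC_local η (RingHom.Flat.of_bijective hη) _ i
    ((DRingFibre.exactAt_extC_comp (IsLocalRing.residue Ay) η τ rfl i).2 e5)

/-- The local ring of the spectrum of a field is a field. -/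
theorem isField_stalk_specField {K : CommRingCat.{u}} (hK : IsField K) (z : Spec K) :
    IsField ((Spec K).presheaf.stalk z) := by
  letI := (toStalkHom z).toAlgebra
  haveI := isLocalization_toStalkHom z
  exact MulEquiv.isField hK (IsLocalization.atUnits K z.asIdeal.primeCompl (S := (Spec K).presheaf.stalk z)
    fun x hx => isUnit_iff_exists_inv.2 (hK.mul_inv_cancel fun h0 => hx (h0 ▸ z.asIdeal.zero_mem))).symm.toRingEquiv.toMulEquiv

/-- The fibre case. -/
theorem exactAt_residue_of_fibre_stalk (f : X ⟶ S) (s : S) (y : f.fiber s) (R : CochainComplex X.Modules ℤ) (i : ℤ)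
    (he : ((stalkCx y).obj ((pullCx (f.fiberι s)).obj R)).ExactAt i) :
    ((extC' (IsLocalRing.residue (S.presheaf.stalk (f.base ((f.fiberι s).base y))))).obj
      ((DerSch.stalkCxOver f ((f.fiberι s).base y)).obj R)).ExactAt i := by
  have hc : IsPullback (f.fiberι s) (f.fiberToSpecResidueField s) f (S.fromSpecResidueField s) :=
    IsPullback.of_hasPullback f (S.fromSpecResidueField s)
  refine exactAt_residue_of_pullback hc y ?_ ?_ R i he
  · exact isField_stalk_specField (Field.toIsField (S.residueField s)) _
  · rw [baseStalkMap, CommRingCat.hom_comp]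
    exact ((S.fromSpecResidueField s).stalkMap_surjective _).comp (ConcreteCategory.bijective_of_isIso _).2

end Groth.Agent.PushAmp
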