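import Groth.Agent.PushAmp.Adjoint
import Groth.Agent.PerfMor.Spread
import Groth.Agent.H9Misc.DRingTorRestrict
import Groth.Agent.KFlatLib.Scheme.RpushRestrict

/-! Direct images of perfect objects along proper perfect morphisms. -/

set_option autoImplicit false
set_option linter.style.haveILetI false
set_option backward.isDefEq.respectTransparency false

universe u

open CategoryTheory CategoryTheory.Limits AlgebraicGeometry

attribute [local instance] HasDerivedCategory.standard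

namespace Groth.Agent.PushAmp

open KFlatLib

variable {X Y : Scheme.{u}}

/-- A perfect morphism has locally bounded tor dimension on stalks. -/
theorem exists_torDimLE_stalk (f : X ⟶ Y) (hf : MoreMor.IsPerfectMor f) (x : X) :
    ∃ (U : X.Opens) (d : ℕ), x ∈ U ∧ ∀ y ∈ U,
      letI := (f.stalkMap y).hom.toAlgebra
      DRing.HasTorDimLE (Y.presheaf.stalk (f y)) d (X.presheaf.stalk y) := by
  obtain ⟨V, hV, hxV, -⟩ := exists_isAffineOpen_mem_and_subset (U := (⊤ : Y.Opens)) (x := f x) trivial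
  obtain ⟨U, hU, hxU, hUV⟩ := exists_isAffineOpen_mem_and_subset (U := f ⁻¹ᵁ V) (x := x) hxV
  letI : Algebra Γ(Y, V) Γ(X, U) := (f.appLE V U hUV).hom.toAlgebra
  obtain ⟨-, d, hd⟩ := hf U V hU hV hUV
  refine ⟨U, d, hxU, fun y hy => ?_⟩
  letI : Algebra (Y.presheaf.stalk (f y)) (X.presheaf.stalk y) := (f.stalkMap y).hom.toAlgebra
  letI : Algebra Γ(Y, V) (Y.presheaf.stalk (f y)) := (Y.presheaf.germ V (f y) (hUV hy)).hom.toAlgebra
  letI : Algebra Γ(X, U) (X.presheaf.stalk y) := (X.presheaf.germ U y hy).hom.toAlgebra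
  haveI : IsLocalization.AtPrime (Y.presheaf.stalk (f y)) (hV.primeIdealOf ⟨f y, hUV hy⟩).asIdeal :=
    hV.isLocalization_stalk ⟨f y, hUV hy⟩
  haveI : IsLocalization.AtPrime (X.presheaf.stalk y) (hU.primeIdealOf ⟨y, hy⟩).asIdeal :=
    hU.isLocalization_stalk ⟨y, hy⟩
  letI : Algebra Γ(Y, V) (X.presheaf.stalk y) :=
    ((X.presheaf.germ U y hy).hom.comp (f.appLE V U hUV).hom).toAlgebra
  haveI : IsScalarTower Γ(Y, V) Γ(X, U) (X.presheaf.stalk y) := .of_algebraMap_eq fun _ => rfl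
  haveI : IsScalarTower Γ(Y, V) (Y.presheaf.stalk (f y)) (X.presheaf.stalk y) :=
    .of_algebraMap_eq fun a => congr($(PerfMor.germ_appLE_stalkMap f hUV hy) a)
  let W := (hV.primeIdealOf ⟨f y, hUV hy⟩).asIdeal.primeCompl
  haveI : Module.Flat Γ(Y, V) (Y.presheaf.stalk (f y)) := IsLocalization.flat _ W
  haveI : Module.Flat Γ(X, U) (X.presheaf.stalk y) :=
    IsLocalization.flat _ (hU.primeIdealOf ⟨y, hy⟩).asIdeal.primeCompl
  have h1 : DRing.HasTorDimLE Γ(Y, V) d (X.presheaf.stalk y) :=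
    H9Misc.DRingTor.torDimLE_of_flat hd (X.presheaf.stalk y)
  exact DiagSmooth.torDimLE_of_equiv (IsLocalization.moduleLid W (Y.presheaf.stalk (f y)) (X.presheaf.stalk y))
    (PerfMor.torDimLE_baseChange Γ(Y, V) (Y.presheaf.stalk (f y)) d (X.presheaf.stalk y) h1)

/-- A perfect complex has finite tor amplitude over the base along a perfect morphism with compact source. -/
theorem hasFiniteTorAmplitude_perfMor [CompactSpace X] (f : X ⟶ Y) (hf : MoreMor.IsPerfectMor f)
    {E : DCoh.D X} (hE : DCoh.IsPerfect E) (R : CochainComplex X.Modules ℤ) (e : DCoh.toD X R ≅ E) :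
    DerSch.HasFiniteTorAmplitude f R := by
  classical
  choose V a b hxV hV using exists_nbhd_amplitude hE R e
  choose U d hxU hd using exists_torDimLE_stalk f hf
  obtain ⟨s, hs⟩ := (isCompact_univ (X := X)).elim_finite_subcover
    (fun x : X => ((V x ⊓ U x : X.Opens) : Set X)) (fun x => (V x ⊓ U x).2)
    (fun x _ => Set.mem_iUnion.2 ⟨x, hxV x, hxU x⟩)
  obtain ⟨A, hA⟩ : ∃ A : ℤ, ∀ x ∈ s, A ≤ a x - d x := by
    obtain ⟨A, hA⟩ := (s.image fun x => a x - d x).bddBelow
    exact ⟨A, fun x hx => hA (Finset.mem_coe.2 (Finset.mem_image_of_mem (fun x => a x - (d x : ℤ)) hx))⟩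
  obtain ⟨B, hB⟩ : ∃ B : ℤ, ∀ x ∈ s, b x ≤ B := by
    obtain ⟨B, hB⟩ := (s.image b).bddAbove
    exact ⟨B, fun x hx => hB (Finset.mem_coe.2 (Finset.mem_image_of_mem b hx))⟩
  refine ⟨A, B, fun y => ?_⟩
  obtain ⟨z, hz, hyV, hyU⟩ := Set.mem_iUnion₂.1 (hs (Set.mem_univ y))
  letI : Algebra (Y.presheaf.stalk (f y)) (X.presheaf.stalk y) := (f.stalkMap y).hom.toAlgebra
  have h1 := H9Misc.DRingTor.hasTorAmplitudeIn_restrictScalars (A := Y.presheaf.stalk (f y))
    (B := X.presheaf.stalk y) (d z)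
    ((H9Misc.DRingTor.torDimLE_iff (d z) (ModuleCat.of _ (X.presheaf.stalk y))).1 (hd z y hyU))
    _ _ _ (hV z y hyV)
  refine H9Misc.DRingTor.mono (hA z hz) (hB z hz) (H9Misc.DRingTor.of_iso ?_ h1)
  exact (ModuleCat.restrictScalars (f.stalkMap y).hom).mapDerivedCategoryFactors.app _ ≪≫
    DerivedCategory.Q.mapIso (HomologicalComplex.Hom.isoOfComponents (fun _ => Iso.refl _)
      (fun _ _ _ => by simp))

/-- Perfect direct image along a proper perfect morphism to a Noetherian scheme. -/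
theorem isPerfect_rpush_perfMor [IsNoetherian Y] (f : X ⟶ Y) [IsProper f] (hf : MoreMor.IsPerfectMor f)
    [DCoh.HasRpush f] {E : DCoh.D X} (hE : DCoh.IsPerfect E) :
    DCoh.IsPerfect ((DCoh.Rpush f).obj E) := by
  haveI : IsLocallyNoetherian X := LocallyOfFiniteType.isLocallyNoetherian f
  haveI : CompactSpace X := QuasiCompact.compactSpace_of_compactSpace f
  have hpc : ∀ m, LocPC m E := fun m => ((isPerfect_iff E).1 hE).locPC m
  have hq := DQGen.isQCohD_of_isPerfect hE
  have hcoh : DCoh.IsCohD E := fun i => isCoh_of_locPC hq (hpc i) i le_rfl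
  obtain ⟨b, hb⟩ := exists_bound_of_locPC (hpc 0)
  obtain ⟨a, ha⟩ := exists_lower_bound_of_locSP ((isPerfect_iff E).1 hE)
  let R := repK E
  let eR : DCoh.toD X R ≅ E := repKIso E
  let eH := fun i => (DerivedCategory.homologyFunctor X.Modules i).mapIso eR
  refine DQGen.isPerfect_of_iso ((DCoh.Rpush f).mapIso eR) (isPerfect_rpush f R
    (isCohD_of_iso eR.symm hcoh)
    ⟨a, b, fun i hi => (hi.elim (ha i) (hb i)).of_iso (eH i)⟩
    (fun i => isProperOver_of_isProper f
      (QCoh.isClosed_support_of_ft (isCohD_of_iso eR.symm hcoh i).2))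
    (hasFiniteTorAmplitude_perfMor f hf hE R eR))

/-- Perfect direct image along a proper perfect morphism to a locally Noetherian scheme. -/
theorem isPerfect_rpush_perfMor_loc [IsLocallyNoetherian Y] (f : X ⟶ Y) [IsProper f]
    (hf : MoreMor.IsPerfectMor f) [DCoh.HasRpush f] {E : DCoh.D X} (hE : DCoh.IsPerfect E) :
    DCoh.IsPerfect ((DCoh.Rpush f).obj E) := by
  refine (isPerfect_iff _).2 (LocSP.of_local fun y => ?_)
  obtain ⟨V, hV, hyV, -⟩ := exists_isAffineOpen_mem_and_subset (U := (⊤ : Y.Opens)) (x := y) trivial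
  haveI : IsAffine (V : Scheme.{u}) := hV
  haveI : CompactSpace (V : Scheme.{u}) := isCompact_iff_compactSpace.1 hV.isCompact
  haveI : IsLocallyNoetherian (V : Scheme.{u}) := isLocallyNoetherian_of_isOpenImmersion V.ι
  haveI : IsNoetherian (V : Scheme.{u}) := { }
  haveI := hasRpush_scheme (f ∣_ V)
  haveI : IsProper (f ∣_ V) := IsZariskiLocalAtTarget.restrict ‹IsProper f› V
  have hfV : MoreMor.IsPerfectMor (f ∣_ V) :=
    PerfMor.perfMor_baseChange f (f ∣_ V) (f ⁻¹ᵁ V).ι V.ι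
      (isPullback_morphismRestrict f V).flip hf
  obtain ⟨e⟩ := nonempty_rpush_restrictD_iso f V
  refine ⟨(V : Scheme.{u}), V.ι, inferInstance, ⟨⟨y, hyV⟩, rfl⟩, (isPerfect_iff _).1 ?_⟩
  exact DQGen.isPerfect_of_iso (e.app E).symm
    (isPerfect_rpush_perfMor (f ∣_ V) hfV (DQGen.isPerfect_rho (f ⁻¹ᵁ V).ι hE))

end Groth.Agent.PushAmp
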