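import Groth.Agent.PushAmp.ChartAll

/-!
# Charts of a pseudo-coherent morphism
-/

set_option autoImplicit false
set_option linter.style.haveILetI false
set_option backward.isDefEq.respectTransparency false
set_option backward.isDefEq.respectTransparency.types false

universe u

open CategoryTheory CategoryTheory.Limits AlgebraicGeometry TopologicalSpace

attribute [local instance] HasDerivedCategory.standard

namespace Groth.Agent.PushAmp

open Groth.Agent.KFlatLib

variable {X Y : Scheme.{u}} (f : X ⟶ Y)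

/-- The structure sheaf of a chart of a pseudo-coherent morphism has pseudo-coherent direct image. -/
theorem pushPC_chart (hf : ∀ m : ℤ, DerSch.IsNPseudoCoherent f m) {V : Y.Opens} (hV : IsAffineOpen V)
    {U : X.Opens} (hU : IsAffineOpen U) (h : U ≤ f ⁻¹ᵁ V) {n : ℕ}
    (φ : MvPolynomial (Fin n) Γ(Y, V) →+* Γ(X, U)) (hφ : DerSch.IsChart f U V h φ) :
    haveI := isClosedImmersion_imm hU φ hφ.1
    PushPC (imm U φ) := by
  haveI := isClosedImmersion_imm hU φ hφ.1
  intro m
  exact ((cpc_iff φ).1 (relPC_cpc f (hf m) hV hU h φ hφ)).of_iso ((pushD (imm U φ)).mapIso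
    ((rho U.ι).mapIso (singleQ 0 (Coh.structureModule X)).symm ≪≫ rhoInDIso U.ι (Coh.structureModule X) ≪≫
      (DerivedCategory.singleFunctor _ 0).mapIso (restrictStructureIso U.ι)))

/-- For a pseudo-coherent morphism relative and absolute pseudo-coherence agree. -/
theorem locPC_iff_relPC [LocallyOfFiniteType f] (hf : ∀ m : ℤ, DerSch.IsNPseudoCoherent f m) (r : ℤ)
    (E : DCoh.D X) : LocPC r E ↔ DerSch.IsPseudoCoherentRel f r E := by
  constructor
  · intro h
    refine relPC_of_cpc f fun hV _ hU hle _ φ hφ => ?_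
    haveI := isClosedImmersion_imm hU φ hφ.1
    exact (cpc_iff φ).2 ((locPC_pushD_iff _ (pushPC_chart f hf hV hU hle φ hφ) r _).1 (h.restrict _))
  · intro h
    refine LocPC.of_local fun x => ?_
    obtain ⟨V, hV, hxV, -⟩ :=
      exists_isAffineOpen_mem_and_subset (x := f.base x) (U := (⊤ : Y.Opens)) trivial
    obtain ⟨U, hU, hxU, hUV⟩ := exists_isAffineOpen_mem_and_subset (x := x) (U := f ⁻¹ᵁ V) hxV
    obtain ⟨n, φ, hφ⟩ := exists_chart f hV hU hUV
    haveI := isClosedImmersion_imm hU φ hφ.1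
    exact ⟨_, U.ι, inferInstance, ⟨⟨x, hxU⟩, rfl⟩, (locPC_pushD_iff _ (pushPC_chart f hf hV hU hUV φ hφ) r _).2
      ((cpc_iff φ).1 (relPC_cpc f h hV hU hUV φ hφ))⟩

end Groth.Agent.PushAmp
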