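import Groth.Agent.PushAmp.ChartIndep

/-!
# Relative pseudo-coherence holds on every chart
-/

set_option autoImplicit false
set_option linter.style.haveILetI false
set_option backward.isDefEq.respectTransparency false
set_option backward.isDefEq.respectTransparency.types false

universe u

open CategoryTheory CategoryTheory.Limits AlgebraicGeometry TopologicalSpace

attribute [local instance] HasDerivedCategory.standard

namespace Groth.Agent.PushAmp

open Groth.Agent.KFlatLib Groth.Agent.H9Misc.DRingRelPC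

variable {X Y : Scheme.{u}}

/-- Pseudo-coherence on `U` relative to a ring mapping to its sections: some presentation works. -/
def CPA (m : ℤ) (E : DCoh.D X) (U : X.Opens) {A : Type u} [CommRing A] (a : A →+* Γ(X, U)) : Prop :=
  ∃ (n : ℕ) (ψ : MvPolynomial (Fin n) A →+* Γ(X, U)),
    Function.Surjective ψ ∧ ψ.comp MvPolynomial.C = a ∧ CPC m E U ψ

variable {m : ℤ} {E : DCoh.D X}

/-- Every presentation works. -/
theorem CPA.all {U : X.Opens} {A : Type u} [CommRing A] {a : A →+* Γ(X, U)} (h : CPA m E U a)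
    (hU : IsAffineOpen U) {k : ℕ} (ψ' : MvPolynomial (Fin k) A →+* Γ(X, U))
    (hψ' : Function.Surjective ψ') (hC : ψ'.comp MvPolynomial.C = a) : CPC m E U ψ' := by
  obtain ⟨n, ψ, hψ, hψC, hPC⟩ := h
  exact cpc_indep hU ψ hψ ψ' hψ' (hC.trans hψC.symm) hPC

/-- A presentation in nested variables. -/
theorem CPA.of_nested {U : X.Opens} (hU : IsAffineOpen U) {A : Type u} [CommRing A] {k n : ℕ}
    (ψ : MvPolynomial (Fin k) (MvPolynomial (Fin n) A) →+* Γ(X, U)) (hψ : Function.Surjective ψ)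
    {a : A →+* Γ(X, U)} (hC : ∀ r, ψ (MvPolynomial.C (MvPolynomial.C r)) = a r) (h : CPC m E U ψ) :
    CPA m E U a := by
  refine ⟨k + n, ψ.comp (PCMor.nestEquiv A k n).toRingEquiv.toRingHom,
    hψ.comp (PCMor.nestEquiv A k n).surjective, RingHom.ext fun r => ?_, ?_⟩
  · refine Eq.trans ?_ (hC r)
    show ψ (PCMor.nestEquiv A k n (MvPolynomial.C r)) = _
    rw [show (MvPolynomial.C r : MvPolynomial (Fin (k + n)) A) = algebraMap A _ r from rfl, AlgEquiv.commutes]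
    rfl
  · exact (cpc_comp_iff hU _ (PCMor.nestEquiv A k n).surjective
      (PCHom.of_bijective (PCMor.nestEquiv A k n).bijective) ψ hψ).2 h

/-- Nested presentations from the property. -/
theorem CPA.nested {U : X.Opens} (hU : IsAffineOpen U) {A : Type u} [CommRing A] {k n : ℕ}
    (ψ : MvPolynomial (Fin k) (MvPolynomial (Fin n) A) →+* Γ(X, U)) (hψ : Function.Surjective ψ)
    {a : A →+* Γ(X, U)} (hC : ∀ r, ψ (MvPolynomial.C (MvPolynomial.C r)) = a r) (h : CPA m E U a) :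
    CPC m E U ψ := by
  refine (cpc_comp_iff hU _ (PCMor.nestEquiv A k n).surjective
    (PCHom.of_bijective (φ := (PCMor.nestEquiv A k n).toRingEquiv.toRingHom) (PCMor.nestEquiv A k n).bijective) ψ hψ).1
    (h.all hU _ (hψ.comp (PCMor.nestEquiv A k n).surjective) (RingHom.ext fun r => ?_))
  refine Eq.trans ?_ (hC r)
  show ψ (PCMor.nestEquiv A k n (MvPolynomial.C r)) = _
  rw [show (MvPolynomial.C r : MvPolynomial (Fin (k + n)) A) = algebraMap A _ r from rfl, AlgEquiv.commutes]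
  rfl

/-- Changing the base ring along a pseudo-coherent ring map. -/
theorem cpa_comp_iff {U : X.Opens} (hU : IsAffineOpen U) {A B : Type u} [CommRing A] [CommRing B]
    {ρ : A →+* B} (hρ : PCMor.Q ρ) (b : B →+* Γ(X, U)) : CPA m E U (b.comp ρ) ↔ CPA m E U b := by
  obtain ⟨r, α, hα1, hα2, hα3⟩ := hρ
  subst hα1
  constructor
  · intro h
    obtain ⟨n, ψ₀, hψ₀, hC₀, hPC₀⟩ := id h
    let ψ : MvPolynomial (Fin n) B →+* Γ(X, U) :=
      MvPolynomial.eval₂Hom b fun i => ψ₀ (MvPolynomial.X i)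
    have hψ : Function.Surjective ψ := fun z => by
      obtain ⟨p, rfl⟩ := hψ₀ z
      refine ⟨MvPolynomial.map (α.comp MvPolynomial.C) p, ?_⟩
      show (ψ.comp (MvPolynomial.map (α.comp MvPolynomial.C))) p = ψ₀ p
      refine RingHom.congr_fun (MvPolynomial.ringHom_ext (fun a => ?_) fun i => ?_) p
      · simp [ψ]
        exact (RingHom.congr_fun hC₀ a).symm
      · simp [ψ]
    refine ⟨n, ψ, hψ, RingHom.ext fun x => by simp [ψ], ?_⟩
    refine (cpc_comp_iff hU _ (MvPolynomial.map_surjective α hα2) (PCMor.pcHom_map hα3 n) ψ hψ).1 ?_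
    exact h.nested hU _ (hψ.comp (MvPolynomial.map_surjective α hα2)) fun a => by simp [ψ]
  · rintro ⟨n, ψ, hψ, hC, hPC⟩
    subst hC
    exact CPA.of_nested hU _ (hψ.comp (MvPolynomial.map_surjective α hα2)) (fun a => by simp)
      ((cpc_comp_iff hU _ (MvPolynomial.map_surjective α hα2) (PCMor.pcHom_map hα3 n) ψ hψ).2 hPC)

/-- The presentation of a localization in one variable. -/
noncomputable def awayPres {P : Type u} [CommRing P] (G : P) :
    MvPolynomial (Fin 1) P →+* Localization.Away G :=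
  MvPolynomial.eval₂Hom (algebraMap P (Localization.Away G))
    (fun _ : Fin 1 => IsLocalization.Away.invSelf G)

theorem awayPres_surjective {P : Type u} [CommRing P] (G : P) : Function.Surjective (awayPres G) := by
  intro x
  obtain ⟨⟨a, ⟨_, k, rfl⟩⟩, hx⟩ := IsLocalization.surj (Submonoid.powers G) x
  refine ⟨MvPolynomial.C a * MvPolynomial.X 0 ^ k, ?_⟩
  simp only [awayPres, map_mul, map_pow, MvPolynomial.eval₂Hom_C, MvPolynomial.eval₂Hom_X']
  rw [← hx, mul_assoc, map_pow, ← mul_pow, IsLocalization.Away.mul_invSelf, one_pow, mul_one]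

/-- Restriction to a basic open. -/
theorem CPA.away {U : X.Opens} (hU : IsAffineOpen U) {A : Type u} [CommRing A] {a : A →+* Γ(X, U)}
    (h : CPA m E U a) (g : Γ(X, U)) :
    CPA m E (X.basicOpen g) ((X.presheaf.map (homOfLE (X.basicOpen_le g)).op).hom.comp a) := by
  obtain ⟨n, ψ, hψ, hC, hPC⟩ := h
  obtain ⟨G, rfl⟩ := hψ g
  refine CPA.of_nested (hU.basicOpen (ψ G)) _
    ((awayMap_surjective hU ψ hψ G).comp (awayPres_surjective G)) (fun r => ?_)
    ((cpc_comp_iff (hU.basicOpen (ψ G)) _ (awayPres_surjective G) (pcHom_away_mv G) _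
      (awayMap_surjective hU ψ hψ G)).2 (cpc_away hU ψ hψ G hPC))
  subst hC
  simp only [RingHom.comp_apply, awayPres, MvPolynomial.eval₂Hom_C]
  exact RingHom.congr_fun (awayMap_comp ψ G) _

/-- Locality on basic opens. -/
theorem CPA.of_away {U : X.Opens} (hU : IsAffineOpen U) {A : Type u} [CommRing A] {n : ℕ}
    (ψ : MvPolynomial (Fin n) A →+* Γ(X, U)) (hψ : Function.Surjective ψ)
    (h : ∀ x ∈ U, ∃ g : Γ(X, U), x ∈ X.basicOpen g ∧ CPA m E (X.basicOpen g)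
      ((X.presheaf.map (homOfLE (X.basicOpen_le g)).op).hom.comp (ψ.comp MvPolynomial.C))) :
    CPC m E U ψ := by
  refine cpc_of_away hU ψ hψ fun x hx => ?_
  obtain ⟨g, hxg, hg⟩ := h x hx
  obtain ⟨G, rfl⟩ := hψ g
  refine ⟨G, hxg, (cpc_comp_iff (hU.basicOpen (ψ G)) _ (awayPres_surjective G) (pcHom_away_mv G) _
    (awayMap_surjective hU ψ hψ G)).1 (hg.nested (hU.basicOpen (ψ G)) _
      ((awayMap_surjective hU ψ hψ G).comp (awayPres_surjective G)) fun r => ?_)⟩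
  simp only [RingHom.comp_apply, awayPres, MvPolynomial.eval₂Hom_C]
  exact RingHom.congr_fun (awayMap_comp ψ G) _

theorem CPA.congr_open {U U' : X.Opens} (e : U' = U) {A : Type u} [CommRing A] {a : A →+* Γ(X, U)}
    (h : CPA m E U a) : CPA m E U' ((X.presheaf.map (homOfLE e.le).op).hom.comp a) := by
  subst e
  simpa using h

variable (f : X ⟶ Y)

/-- Shrinking the base to a basic open. -/
theorem cpa_appLE_basic_iff {V : Y.Opens} (hV : IsAffineOpen V) (r : Γ(Y, V)) {U : X.Opens}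
    (hU : IsAffineOpen U) (h : U ≤ f ⁻¹ᵁ Y.basicOpen r) :
    CPA m E U (f.appLE V U (h.trans (f.preimage_mono (Y.basicOpen_le r)))).hom ↔
      CPA m E U (f.appLE (Y.basicOpen r) U h).hom := by
  let ρ := (Y.presheaf.map (homOfLE (Y.basicOpen_le r)).op).hom
  letI := ρ.toAlgebra
  haveI : IsLocalization.Away r Γ(Y, Y.basicOpen r) := hV.isLocalization_basicOpen r
  have hρ : PCMor.Q ρ := PCMor.holdsForLocalizationAway Γ(Y, Y.basicOpen r) r
  have e : (f.appLE V U (h.trans (f.preimage_mono (Y.basicOpen_le r)))).hom =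
      (f.appLE (Y.basicOpen r) U h).hom.comp ρ := by
    rw [← Scheme.Hom.map_appLE f h (homOfLE (Y.basicOpen_le r)).op]
    rfl
  rw [e]
  exact cpa_comp_iff hU hρ _

/-- The restriction to a smaller basic open. -/
theorem CPA.appLE_away {V : Y.Opens} {U : X.Opens} (hU : IsAffineOpen U) {h : U ≤ f ⁻¹ᵁ V}
    (hP : CPA m E U (f.appLE V U h).hom) (g : Γ(X, U)) :
    CPA m E (X.basicOpen g) (f.appLE V (X.basicOpen g) ((X.basicOpen_le g).trans h)).hom := by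
  have := hP.away hU g
  rwa [← CommRingCat.hom_comp, Scheme.Hom.appLE_map] at this

theorem CPA.appLE_congr {V : Y.Opens} {U U' : X.Opens} (e : U' = U) {h : U ≤ f ⁻¹ᵁ V}
    (hP : CPA m E U (f.appLE V U h).hom) : CPA m E U' (f.appLE V U' (e.trans_le h)).hom := by
  subst e
  exact hP

theorem CPA.base_congr {V V' : Y.Opens} (e : V' = V) {U : X.Opens} {h : U ≤ f ⁻¹ᵁ V}
    (hP : CPA m E U (f.appLE V U h).hom) : CPA m E U (f.appLE V' U (e ▸ h)).hom := by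
  subst e
  exact hP

/-- Charts on a cover give all charts. -/
theorem cpc_of_local
    (H : ∀ x : X, ∃ (V : Y.affineOpens) (U : X.affineOpens) (h : (U : X.Opens) ≤ f ⁻¹ᵁ (V : Y.Opens)),
      x ∈ (U : X.Opens) ∧ CPA m E (U : X.Opens) (f.appLE (V : Y.Opens) (U : X.Opens) h).hom)
    {V : Y.Opens} (hV : IsAffineOpen V) {U : X.Opens} (hU : IsAffineOpen U) (h : U ≤ f ⁻¹ᵁ V) {n : ℕ}
    (φ : MvPolynomial (Fin n) Γ(Y, V) →+* Γ(X, U)) (hφ : DerSch.IsChart f U V h φ) : CPC m E U φ := by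
  refine CPA.of_away hU φ hφ.1 fun x hx => ?_
  obtain ⟨⟨V₀, hV₀⟩, ⟨U₀, hU₀⟩, h₀, hx₀, hP₀⟩ := H x
  obtain ⟨r₀, r, er, hfr⟩ :=
    exists_basicOpen_le_affine_inter hV₀ hV (f.base x) ⟨h₀ hx₀, h hx⟩
  let g₁ : Γ(X, U₀) := f.appLE V₀ U₀ h₀ r₀
  have hx₁ : x ∈ X.basicOpen g₁ := by
    rw [Scheme.basicOpen_appLE]
    exact ⟨hx₀, hfr⟩
  obtain ⟨g, g₀, eg, hxg⟩ := exists_basicOpen_le_affine_inter hU (hU₀.basicOpen g₁) x ⟨hx, hx₁⟩
  refine ⟨g, hxg, ?_⟩
  rw [hφ.2, ← CommRingCat.hom_comp, Scheme.Hom.appLE_map]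
  have hD : X.basicOpen g ≤ f ⁻¹ᵁ Y.basicOpen r₀ := by
    rw [eg]
    refine (X.basicOpen_le g₀).trans ?_
    rw [Scheme.basicOpen_appLE]
    exact inf_le_right
  have hD' : X.basicOpen g ≤ f ⁻¹ᵁ Y.basicOpen r := er ▸ hD
  have p₁ := ((hP₀.appLE_away f hU₀ g₁).appLE_away f (hU₀.basicOpen g₁) g₀).appLE_congr f eg
  have p₂ := ((cpa_appLE_basic_iff f hV₀ r₀ (hU.basicOpen g) hD).1 p₁).base_congr f er.symm
  exact (cpa_appLE_basic_iff f hV r (hU.basicOpen g) hD').2 p₂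

/-- Relative pseudo-coherence gives charts around each point. -/
theorem exists_cpa (hE : DerSch.IsPseudoCoherentRel f m E) (x : X) :
    ∃ (V : Y.affineOpens) (U : X.affineOpens) (h : (U : X.Opens) ≤ f ⁻¹ᵁ (V : Y.Opens)),
      x ∈ (U : X.Opens) ∧ CPA m E (U : X.Opens) (f.appLE (V : Y.Opens) (U : X.Opens) h).hom := by
  obtain ⟨-, 𝒱, h𝒱, hV⟩ := hE
  obtain ⟨V, hxV⟩ := Opens.mem_iSup.1 (h𝒱.ge (show f.base x ∈ (⊤ : Y.Opens) from trivial))
  obtain ⟨hV', hxV⟩ := Opens.mem_iSup.1 hxV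
  obtain ⟨𝒰, h𝒰, hU⟩ := hV V hV'
  obtain ⟨U, hxU⟩ := Opens.mem_iSup.1 (h𝒰.ge (show x ∈ f ⁻¹ᵁ (V : Y.Opens) from hxV))
  obtain ⟨hU', hxU⟩ := Opens.mem_iSup.1 hxU
  have h : (U : X.Opens) ≤ f ⁻¹ᵁ (V : Y.Opens) := fun z hz =>
    h𝒰.le (Opens.mem_iSup.2 ⟨U, Opens.mem_iSup.2 ⟨hU', hz⟩⟩)
  obtain ⟨n, φ, hφ, hPC⟩ := hU U hU' h
  exact ⟨V, U, h, hxU, n, φ, hφ.1, hφ.2, (chartPC_iff_cpc _ _ _ _ _).1 hPC⟩

/-- Relative pseudo-coherence holds on every chart. -/
theorem relPC_cpc (hE : DerSch.IsPseudoCoherentRel f m E) {V : Y.Opens} (hV : IsAffineOpen V)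
    {U : X.Opens} (hU : IsAffineOpen U) (h : U ≤ f ⁻¹ᵁ V) {n : ℕ}
    (φ : MvPolynomial (Fin n) Γ(Y, V) →+* Γ(X, U)) (hφ : DerSch.IsChart f U V h φ) : CPC m E U φ :=
  cpc_of_local f (exists_cpa f hE) hV hU h φ hφ

theorem exists_chart [LocallyOfFiniteType f] {V : Y.Opens} (hV : IsAffineOpen V) {U : X.Opens}
    (hU : IsAffineOpen U) (h : U ≤ f ⁻¹ᵁ V) :
    ∃ (n : ℕ) (φ : MvPolynomial (Fin n) Γ(Y, V) →+* Γ(X, U)), DerSch.IsChart f U V h φ := by
  obtain ⟨n, φ, h1, h2⟩ := PCMor.exists_surjective (f.finiteType_appLE hV hU h)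
  exact ⟨n, φ, h2, h1⟩

/-- Every affine pair has a chart with the property. -/
theorem relPC_cpa (hE : DerSch.IsPseudoCoherentRel f m E) {V : Y.Opens} (hV : IsAffineOpen V)
    {U : X.Opens} (hU : IsAffineOpen U) (h : U ≤ f ⁻¹ᵁ V) : CPA m E U (f.appLE V U h).hom := by
  haveI := hE.1
  obtain ⟨n, φ, hφ⟩ := exists_chart f hV hU h
  exact ⟨n, φ, hφ.1, hφ.2, relPC_cpc f hE hV hU h φ hφ⟩

/-- Relative pseudo-coherence from all charts. -/
theorem relPC_of_cpc [LocallyOfFiniteType f]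
    (H : ∀ {V : Y.Opens}, IsAffineOpen V → ∀ {U : X.Opens}, IsAffineOpen U → ∀ (h : U ≤ f ⁻¹ᵁ V) {n : ℕ}
      (φ : MvPolynomial (Fin n) Γ(Y, V) →+* Γ(X, U)), DerSch.IsChart f U V h φ → CPC m E U φ) :
    DerSch.IsPseudoCoherentRel f m E := by
  refine ⟨inferInstance, Set.univ, top_le_iff.1 fun y _ => ?_, fun V _ => ?_⟩
  · obtain ⟨_, ⟨V, hV, rfl⟩, hyV, -⟩ :=
      Y.isBasis_affineOpens.exists_subset_of_mem_open (Set.mem_univ y) isOpen_univ
    exact Opens.mem_iSup.2 ⟨⟨V, hV⟩, Opens.mem_iSup.2 ⟨trivial, hyV⟩⟩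
  refine ⟨{U | (U : X.Opens) ≤ f ⁻¹ᵁ (V : Y.Opens)}, le_antisymm (iSup₂_le fun U hU => hU)
    (fun x hx => ?_), fun U _ h => ?_⟩
  · obtain ⟨W, hW, hxW, hWV⟩ := exists_isAffineOpen_mem_and_subset hx
    exact Opens.mem_iSup.2 ⟨⟨W, hW⟩, Opens.mem_iSup.2 ⟨hWV, hxW⟩⟩
  obtain ⟨n, φ, hφ⟩ := exists_chart f V.2 U.2 h
  exact ⟨n, φ, hφ, (chartPC_iff_cpc _ _ _ _ _).2 (H V.2 U.2 h φ hφ)⟩

/-- Relative pseudo-coherence is local on charts. -/
theorem relPC_of_local [LocallyOfFiniteType f]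
    (H : ∀ x : X, ∃ (V : Y.affineOpens) (U : X.affineOpens) (h : (U : X.Opens) ≤ f ⁻¹ᵁ (V : Y.Opens)),
      x ∈ (U : X.Opens) ∧ CPA m E (U : X.Opens) (f.appLE (V : Y.Opens) (U : X.Opens) h).hom) :
    DerSch.IsPseudoCoherentRel f m E :=
  relPC_of_cpc f fun hV _ hU h _ φ hφ => cpc_of_local f H hV hU h φ hφ

section OpenImmersion

variable {X' : Scheme.{u}} (j : X' ⟶ X) [IsOpenImmersion j]

/-- The direct image along an isomorphism on derived categories. -/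
noncomputable def pushDIso {A B : Scheme.{u}} (θ : A ≅ B) (K : DCoh.D A) :
    (pushD θ.hom).obj K ≅ (rho θ.inv).obj K :=
  (pushD θ.hom).mapIso (repIso K).symm ≪≫ (pushDQ θ.hom).app _ ≪≫
    DerivedCategory.Q.mapIso ((NatIso.mapHomologicalComplex (pushIsoRestrict θ) (ComplexShape.up ℤ)).app _) ≪≫
    ((rhoQ θ.inv).app _).symm ≪≫ (rho θ.inv).mapIso (repIso K)

/-- The test on an open of an open subscheme. -/
theorem cpc_restrict_iff {W : X'.Opens} (hW : IsAffineOpen W) {P : Type u} [CommRing P]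
    (φ : P →+* Γ(X', W)) (hφ : Function.Surjective φ) :
    CPC m ((rho j).obj E) W φ ↔ CPC m E (j ''ᵁ W) ((j.appIso W).inv.hom.comp φ) := by
  have hW' : IsAffineOpen (j ''ᵁ W) := hW.image_of_isOpenImmersion j
  have hφ' : Function.Surjective ((j.appIso W).inv.hom.comp φ) :=
    (ConcreteCategory.bijective_of_isIso (j.appIso W).inv).2.comp hφ
  haveI := isClosedImmersion_imm hW φ hφ
  haveI := isClosedImmersion_imm hW' _ hφ'
  let θ := j.isoImage W
  have e₁ : θ.hom ≫ (j ''ᵁ W).toSpecΓ ≫ Spec.map (j.appIso W).inv = W.toSpecΓ := by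
    have e₀ : Spec.map (j.appIso W).inv ≫ hW.fromSpec ≫ j = hW'.fromSpec := by
      have := hW'.SpecMap_appLE_fromSpec j hW (j.preimage_image_eq W).ge
      rw [← Scheme.Hom.appIso_hom'] at this
      rw [← this, ← Spec.map_comp_assoc, Iso.hom_inv_id, Spec.map_id, Category.id_comp]
    rw [← cancel_mono (hW.fromSpec ≫ j)]
    simp only [Category.assoc, e₀, hW'.toSpecΓ_fromSpec, IsAffineOpen.toSpecΓ_fromSpec_assoc]
    exact j.isoImage_hom_ι W
  have e : θ.hom ≫ imm (j ''ᵁ W) ((j.appIso W).inv.hom.comp φ) = imm W φ := by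
    show θ.hom ≫ (j ''ᵁ W).toSpecΓ ≫ Spec.map (CommRingCat.ofHom φ ≫ (j.appIso W).inv) =
      W.toSpecΓ ≫ Spec.map (CommRingCat.ofHom φ)
    rw [Spec.map_comp, reassoc_of% e₁]
  let κ : (pushD (imm W φ)).obj ((rho W.ι).obj ((rho j).obj E)) ≅
      (pushD (imm (j ''ᵁ W) ((j.appIso W).inv.hom.comp φ))).obj ((rho (j ''ᵁ W).ι).obj E) :=
    (pushDComp _ _ _ e _).symm ≪≫ (pushD _).mapIso (pushDIso θ _ ≪≫
      rhoComp θ.inv W.ι (θ.inv ≫ W.ι) rfl _ ≪≫
      rhoComp (θ.inv ≫ W.ι) j (j ''ᵁ W).ι (by rw [Category.assoc]; exact j.isoImage_inv_ι W) E)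
  rw [cpc_iff, cpc_iff]
  exact ⟨fun h => h.of_iso κ, fun h => h.of_iso κ.symm⟩

end OpenImmersion

/-- Invariance under isomorphism. -/
theorem CPC.of_iso {E' : DCoh.D X} (e : E ≅ E') {U : X.Opens} {P : Type u} [CommRing P]
    {φ : P →+* Γ(X, U)} (h : CPC m E U φ) : CPC m E' U φ :=
  fun G ⟨eG⟩ => h G ⟨eG ≪≫ e.symm⟩

theorem CPA.of_iso {E' : DCoh.D X} (e : E ≅ E') {U : X.Opens} {A : Type u} [CommRing A]
    {a : A →+* Γ(X, U)} (h : CPA m E U a) : CPA m E' U a := by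
  obtain ⟨n, ψ, h1, h2, h3⟩ := h
  exact ⟨n, ψ, h1, h2, h3.of_iso e⟩

theorem relPC_of_iso (f : X ⟶ Y) {E' : DCoh.D X} (e : E ≅ E') (h : DerSch.IsPseudoCoherentRel f m E) :
    DerSch.IsPseudoCoherentRel f m E' := by
  haveI := h.1
  exact relPC_of_cpc f fun hV _ hU hle _ φ hφ => (relPC_cpc f h hV hU hle φ hφ).of_iso e

section Restrict

variable {X' : Scheme.{u}} (j : X' ⟶ X) [IsOpenImmersion j]

/-- The property on an open of an open subscheme. -/
theorem cpa_restrict_iff (f : X ⟶ Y) {V : Y.Opens} {W : X'.Opens} (hW : IsAffineOpen W)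
    (h : W ≤ (j ≫ f) ⁻¹ᵁ V) (h' : j ''ᵁ W ≤ f ⁻¹ᵁ V) :
    CPA m ((rho j).obj E) W ((j ≫ f).appLE V W h).hom ↔ CPA m E (j ''ᵁ W) (f.appLE V (j ''ᵁ W) h').hom := by
  have e : (j ≫ f).appLE V W h = f.appLE V (j ''ᵁ W) h' ≫ (j.appIso W).hom := by
    rw [Scheme.Hom.appIso_hom']
    exact (Scheme.Hom.appLE_comp_appLE j f V (j ''ᵁ W) W h' (j.preimage_image_eq W).ge).symm
  constructor
  · rintro ⟨n, φ, hφ, hC, hPC⟩
    refine ⟨n, (j.appIso W).inv.hom.comp φ,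
      (ConcreteCategory.bijective_of_isIso (j.appIso W).inv).2.comp hφ, ?_,
      (cpc_restrict_iff j hW φ hφ).1 hPC⟩
    rw [RingHom.comp_assoc, hC, e, ← CommRingCat.hom_comp, Category.assoc, Iso.hom_inv_id, Category.comp_id]
  · rintro ⟨n, ψ, hψ, hC, hPC⟩
    have hφ : Function.Surjective ((j.appIso W).hom.hom.comp ψ) :=
      (ConcreteCategory.bijective_of_isIso (j.appIso W).hom).2.comp hψ
    refine ⟨n, (j.appIso W).hom.hom.comp ψ, hφ, ?_, (cpc_restrict_iff j hW _ hφ).2 ?_⟩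
    · rw [RingHom.comp_assoc, hC, e, ← CommRingCat.hom_comp]
    · rwa [← RingHom.comp_assoc, ← CommRingCat.hom_comp, Iso.hom_inv_id, CommRingCat.hom_id,
        RingHom.id_comp]

/-- Restriction to an open subscheme. -/
theorem relPC_restrict (f : X ⟶ Y) (h : DerSch.IsPseudoCoherentRel f m E) :
    DerSch.IsPseudoCoherentRel (j ≫ f) m ((rho j).obj E) := by
  haveI := h.1
  refine relPC_of_local _ fun x => ?_
  obtain ⟨_, ⟨V, hV, rfl⟩, hxV, -⟩ :=
    Y.isBasis_affineOpens.exists_subset_of_mem_open (Set.mem_univ ((j ≫ f).base x)) isOpen_univ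
  obtain ⟨W, hW, hxW, hWV⟩ := exists_isAffineOpen_mem_and_subset (U := (j ≫ f) ⁻¹ᵁ V) hxV
  have h' : j ''ᵁ W ≤ f ⁻¹ᵁ V := by
    rintro _ ⟨w, hw, rfl⟩
    exact hWV hw
  exact ⟨⟨V, hV⟩, ⟨W, hW⟩, hWV, hxW,
    (cpa_restrict_iff j f hW hWV h').2 (relPC_cpa f h hV (hW.image_of_isOpenImmersion j) h')⟩

/-- Locality of relative pseudo-coherence on the source. -/
theorem exists_cpa_of_restrict (f : X ⟶ Y) (h : DerSch.IsPseudoCoherentRel (j ≫ f) m ((rho j).obj E)) (z : X') :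
    ∃ (V : Y.affineOpens) (U : X.affineOpens) (h : (U : X.Opens) ≤ f ⁻¹ᵁ (V : Y.Opens)),
      j.base z ∈ (U : X.Opens) ∧ CPA m E (U : X.Opens) (f.appLE (V : Y.Opens) (U : X.Opens) h).hom := by
  obtain ⟨V, W, hWV, hzW, hP⟩ := exists_cpa _ h z
  have h' : j ''ᵁ (W : X'.Opens) ≤ f ⁻¹ᵁ (V : Y.Opens) := by
    rintro _ ⟨w, hw, rfl⟩
    exact hWV hw
  exact ⟨V, ⟨_, W.2.image_of_isOpenImmersion j⟩, h', ⟨z, hzW, rfl⟩, (cpa_restrict_iff j f W.2 hWV h').1 hP⟩

end Restrict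

end Groth.Agent.PushAmp
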