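import Groth.Agent.PushAmp.PushPC
import Groth.Agent.PushAmp.ChartFlat
import Groth.Agent.PCMor.Ring

/-!
# Independence of the chart in relative pseudo-coherence
-/

set_option autoImplicit false
set_option linter.style.haveILetI false
set_option backward.isDefEq.respectTransparency false
set_option backward.isDefEq.respectTransparency.types false

universe u

open CategoryTheory CategoryTheory.Limits AlgebraicGeometry TopologicalSpace MvPolynomial

attribute [local instance] HasDerivedCategory.standard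

namespace Groth.Agent.PushAmp

open Groth.Agent.KFlatLib Groth.Agent.H9Misc.DRingRelPC

section BaseChange

/-- The direct image along an isomorphism is restriction along its inverse. -/
noncomputable def pushIsoRestrict {A B : Scheme.{u}} (e : A ≅ B) :
    Scheme.Modules.pushforward e.hom ≅ Scheme.Modules.restrictFunctor e.inv :=
  (Functor.rightUnitor _).symm ≪≫
    Functor.isoWhiskerLeft (Scheme.Modules.pushforward e.hom)
      (asIso (Scheme.Modules.restrictAdjunction e.inv).counit).symm ≪≫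
    (Functor.associator _ _ _).symm ≪≫
    Functor.isoWhiskerRight (Scheme.Modules.pushforwardComp e.hom e.inv ≪≫
      Scheme.Modules.pushforwardCongr e.hom_inv_id ≪≫ Scheme.Modules.pushforwardId A)
      (Scheme.Modules.restrictFunctor e.inv) ≪≫
    Functor.leftUnitor _

variable {U U' W W' : Scheme.{u}} (i : U ⟶ W) (i' : U' ⟶ W') (j' : U' ⟶ U) (j : W' ⟶ W)
  [IsOpenImmersion j] [IsOpenImmersion j']

/-- Direct images commute with cartesian open restrictions. -/
theorem nonempty_push_restrict_bc (w : i' ≫ j = j' ≫ i) (h : j'.opensRange = i ⁻¹ᵁ j.opensRange) :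
    Nonempty (Scheme.Modules.pushforward i ⋙ Scheme.Modules.restrictFunctor j ≅
      Scheme.Modules.restrictFunctor j' ⋙ Scheme.Modules.pushforward i') := by
  let O := j.opensRange
  let V := i ⁻¹ᵁ O
  haveI : ∀ {A B : Scheme.{u}} (g : A ⟶ B) [IsOpenImmersion g],
      PreservesFiniteLimits (Scheme.Modules.restrictFunctor g) := fun g _ => inferInstance
  let θ : (O : Scheme.{u}) ≅ W' := IsOpenImmersion.isoOfRangeEq O.ι j (by simp [O])
  have hθ : θ.hom ≫ j = O.ι := IsOpenImmersion.isoOfRangeEq_hom_fac _ _ _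
  let θ' : (V : Scheme.{u}) ≅ U' := IsOpenImmersion.isoOfRangeEq V.ι j' (by
    rw [Scheme.Opens.range_ι, ← Scheme.Hom.coe_opensRange, h])
  have hθ' : θ'.hom ≫ j' = V.ι := IsOpenImmersion.isoOfRangeEq_hom_fac _ _ _
  have hw : (i ∣_ O) ≫ θ.hom = θ'.hom ≫ i' := by
    rw [← cancel_mono j, Category.assoc, Category.assoc, hθ, w, reassoc_of% hθ', morphismRestrict_ι]
  have hj : θ.inv ≫ O.ι = j := by rw [← hθ, θ.inv_hom_id_assoc]
  have hj' : θ'.inv ≫ V.ι = j' := by rw [← hθ', θ'.inv_hom_id_assoc]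
  refine ⟨Functor.isoWhiskerLeft _ ((Scheme.Modules.restrictFunctorCongr hj).symm ≪≫
      Scheme.Modules.restrictFunctorComp θ.inv O.ι) ≪≫ (Functor.associator _ _ _).symm ≪≫
    Functor.isoWhiskerRight (pushRestrictIso i O) _ ≪≫ Functor.associator _ _ _ ≪≫
    Functor.isoWhiskerLeft _ (Functor.isoWhiskerLeft _ (pushIsoRestrict θ).symm ≪≫
      Scheme.Modules.pushforwardComp (i ∣_ O) θ.hom ≪≫ Scheme.Modules.pushforwardCongr hw ≪≫
      (Scheme.Modules.pushforwardComp θ'.hom i').symm ≪≫
      Functor.isoWhiskerRight (pushIsoRestrict θ') _) ≪≫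
    (Functor.associator _ _ _).symm ≪≫
    Functor.isoWhiskerRight ((Scheme.Modules.restrictFunctorComp θ'.inv V.ι).symm ≪≫
      Scheme.Modules.restrictFunctorCongr hj') _⟩

/-- The same on derived categories. -/
theorem nonempty_rho_pushD_bc [IsClosedImmersion i] [IsClosedImmersion i'] (w : i' ≫ j = j' ≫ i)
    (h : j'.opensRange = i ⁻¹ᵁ j.opensRange) (K : DCoh.D U) :
    Nonempty ((rho j).obj ((pushD i).obj K) ≅ (pushD i').obj ((rho j').obj K)) := by
  obtain ⟨e⟩ := nonempty_push_restrict_bc i i' j' j w h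
  exact ⟨(rho j).mapIso ((pushD i).mapIso (repIso K).symm ≪≫ (pushDQ i).app _) ≪≫
    (rhoQ j).app _ ≪≫
    DerivedCategory.Q.mapIso ((NatIso.mapHomologicalComplex e (ComplexShape.up ℤ)).app _) ≪≫
    ((pushDQ i').app ((rCx j').obj (DerivedCategory.Q.objPreimage K))).symm ≪≫
    (pushD i').mapIso (((rhoQ j').app _).symm ≪≫ (rho j').mapIso (repIso K))⟩

end BaseChange

variable {X : Scheme.{u}}

/-- The closed immersion of an affine open given by a surjection onto its ring. -/
noncomputable abbrev imm (U : X.Opens) {P : Type u} [CommRing P] (φ : P →+* Γ(X, U)) :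
    (U : Scheme.{u}) ⟶ Spec (CommRingCat.of P) :=
  U.toSpecΓ ≫ Spec.map (CommRingCat.ofHom φ)

theorem isClosedImmersion_imm {U : X.Opens} (hU : IsAffineOpen U) {P : Type u} [CommRing P]
    (φ : P →+* Γ(X, U)) (hφ : Function.Surjective φ) : IsClosedImmersion (imm U φ) := by
  haveI : IsClosedImmersion (Spec.map (CommRingCat.ofHom φ)) :=
    IsClosedImmersion.spec_of_surjective (CommRingCat.ofHom φ) hφ
  haveI : IsIso U.toSpecΓ := by rw [← hU.isoSpec_hom]; infer_instance
  infer_instance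

/-- Pseudo-coherence of the direct image to an affine space containing `U`. -/
def CPC (m : ℤ) (E : DCoh.D X) (U : X.Opens) {P : Type u} [CommRing P] (φ : P →+* Γ(X, U)) : Prop :=
  ∀ G : CochainComplex X.Modules ℤ, Nonempty (DCoh.toD X G ≅ E) →
    LocPC m (DCoh.toD (Spec (CommRingCat.of P))
      ((DerSch.pushCx (imm U φ)).obj ((DCoh.restrictCx U).obj G)))

/-- The pushed complex represents the pushed object. -/
theorem nonempty_pushCx_iso (U : X.Opens) {W : Scheme.{u}} (i : (U : Scheme.{u}) ⟶ W)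
    [IsClosedImmersion i] {G : CochainComplex X.Modules ℤ} {E : DCoh.D X} (e : DCoh.toD X G ≅ E) :
    Nonempty (DCoh.toD W ((DerSch.pushCx i).obj ((DCoh.restrictCx U).obj G)) ≅
      (pushD i).obj ((rho U.ι).obj E)) :=
  ⟨((pushDQ i).app _).symm ≪≫ (pushD i).mapIso (((rhoQ U.ι).app G).symm ≪≫ (rho U.ι).mapIso e)⟩

theorem chartPC_iff_cpc {Y : Scheme.{u}} (m : ℤ) (E : DCoh.D X) (U : X.Opens) (V : Y.Opens) {n : ℕ}
    (φ : MvPolynomial (Fin n) Γ(Y, V) →+* Γ(X, U)) : DerSch.ChartPC m E U V φ ↔ CPC m E U φ :=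
  forall_congr' fun _ => imp_congr_right fun _ => isPseudoCoherentD_iff _ _

theorem cpc_iff {m : ℤ} {E : DCoh.D X} {U : X.Opens} {P : Type u} [CommRing P] (φ : P →+* Γ(X, U))
    [IsClosedImmersion (imm U φ)] :
    CPC m E U φ ↔ LocPC m ((pushD (imm U φ)).obj ((rho U.ι).obj E)) := by
  constructor
  · intro h
    obtain ⟨e⟩ := nonempty_pushCx_iso U (imm U φ) (repIso E)
    exact (h _ ⟨repIso E⟩).of_iso e
  · rintro h G ⟨eG⟩
    obtain ⟨e⟩ := nonempty_pushCx_iso U (imm U φ) eG
    exact h.of_iso e.symm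

/-- A surjection with pseudo-coherent quotient gives a closed immersion with pseudo-coherent structure
sheaf. -/
theorem pushPC_spec {P Q : Type u} [CommRing P] [CommRing Q] (ψ : P →+* Q) (hψ : Function.Surjective ψ)
    (h : PCHom ψ) :
    haveI : IsClosedImmersion (Spec.map (CommRingCat.ofHom ψ)) :=
      IsClosedImmersion.spec_of_surjective (CommRingCat.ofHom ψ) hψ
    PushPC (Spec.map (CommRingCat.ofHom ψ)) := by
  haveI : IsClosedImmersion (Spec.map (CommRingCat.ofHom ψ)) :=
    IsClosedImmersion.spec_of_surjective (CommRingCat.ofHom ψ) hψ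
  let A := CommRingCat.of P
  let B := CommRingCat.of Q
  haveI : PreservesFiniteLimits (tilde.functor A) := Groth.Agent.QCoh.tilde_preservesFiniteLimits
  haveI : (tilde.functor A).Additive := tilde_additive A
  haveI : PreservesFiniteColimits (tilde.functor A) := Groth.Agent.QCoh.tilde_preservesFiniteColimits
  intro m
  let N : ModuleCat.{u} A := (ModuleCat.restrictScalars ψ).obj (ModuleCat.of Q Q)
  obtain ⟨E, a, b, α, hz, hf, hi, he⟩ := (Groth.Agent.H9Misc.DRingPC.pc'_iff _).1 h m
  have hR : RPC (R := A) m ((DerivedCategory.singleFunctor (ModuleCat.{u} A) 0).obj N) :=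
    ⟨E, α, ⟨⟨a, b, hz⟩, hf⟩, hi, he⟩
  refine (locPC_of_rpc hR).of_iso ?_
  exact ((tilde.functor A).mapDerivedCategorySingleFunctor 0).app N ≪≫
    (DerivedCategory.singleFunctor (Spec A).Modules 0).mapIso
      (((pushTildeIso (CommRingCat.ofHom ψ)).app (ModuleCat.of Q Q)).symm ≪≫
        (Scheme.Modules.pushforward (Spec.map (CommRingCat.ofHom ψ))).mapIso (tildeSelf (R := B))) ≪≫
    (((Scheme.Modules.pushforward (Spec.map (CommRingCat.ofHom ψ))).mapDerivedCategorySingleFunctor 0).app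
      (Coh.structureModule (Spec B))).symm

/-- Changing the ambient affine space along a pseudo-coherent surjection. -/
theorem cpc_comp_iff {m : ℤ} {E : DCoh.D X} {U : X.Opens} (hU : IsAffineOpen U) {P Q : Type u}
    [CommRing P] [CommRing Q] (ψ : P →+* Q) (hψ : Function.Surjective ψ) (h : PCHom ψ)
    (φ : Q →+* Γ(X, U)) (hφ : Function.Surjective φ) :
    CPC m E U (φ.comp ψ) ↔ CPC m E U φ := by
  haveI := isClosedImmersion_imm hU φ hφ
  haveI := isClosedImmersion_imm hU (φ.comp ψ) (hφ.comp hψ)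
  haveI : IsClosedImmersion (Spec.map (CommRingCat.ofHom ψ)) :=
    IsClosedImmersion.spec_of_surjective (CommRingCat.ofHom ψ) hψ
  have e : imm U φ ≫ Spec.map (CommRingCat.ofHom ψ) = imm U (φ.comp ψ) := by
    rw [Category.assoc, ← Spec.map_comp]; rfl
  rw [cpc_iff φ, cpc_iff (φ.comp ψ), locPC_pushD_iff _ (pushPC_spec ψ hψ h) m]
  exact ⟨fun h' => h'.of_iso (pushDComp _ _ _ e _).symm, fun h' => h'.of_iso (pushDComp _ _ _ e _)⟩

/-- The test does not depend on the presentation. -/
theorem cpc_indep {m : ℤ} {E : DCoh.D X} {U : X.Opens} (hU : IsAffineOpen U) {A : Type u} [CommRing A]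
    {n k : ℕ} (ψ : MvPolynomial (Fin n) A →+* Γ(X, U)) (hψ : Function.Surjective ψ)
    (ψ' : MvPolynomial (Fin k) A →+* Γ(X, U)) (hψ' : Function.Surjective ψ')
    (hC : ψ'.comp MvPolynomial.C = ψ.comp MvPolynomial.C) (h : CPC m E U ψ) : CPC m E U ψ' := by
  choose p hp' using fun j : Fin k => hψ (ψ' (MvPolynomial.X j))
  choose q hq' using fun i : Fin n => hψ' (ψ (MvPolynomial.X i))
  let ρ : MvPolynomial (Fin k) (MvPolynomial (Fin n) A) →+* MvPolynomial (Fin n) A :=
    eval₂Hom (RingHom.id _) p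
  let σ := (commAlgEquiv A (Fin k) (Fin n)).toRingEquiv.toRingHom
  let ρ' : MvPolynomial (Fin k) (MvPolynomial (Fin n) A) →+* MvPolynomial (Fin k) A :=
    (eval₂Hom (RingHom.id _) q).comp σ
  have hρ' : PCHom ρ' :=
    (PCHom.of_bijective (commAlgEquiv A (Fin k) (Fin n)).bijective).comp (pcHom_aeval n _ q)
  have hρs : Function.Surjective ρ := fun x => ⟨MvPolynomial.C x, by simp [ρ]⟩
  have hρs' : Function.Surjective ρ' := fun y => by
    obtain ⟨z, hz⟩ := (commAlgEquiv A (Fin k) (Fin n)).surjective (MvPolynomial.C y)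
    exact ⟨z, by simp [ρ', σ, hz]⟩
  have heq : ψ'.comp ρ' = ψ.comp ρ := by
    refine MvPolynomial.ringHom_ext (fun r => ?_) fun j => ?_
    · show (ψ'.comp (ρ'.comp MvPolynomial.C)) r = (ψ.comp (ρ.comp MvPolynomial.C)) r
      refine RingHom.congr_fun (MvPolynomial.ringHom_ext (fun s => ?_) fun i => ?_) r
      · have hs := RingHom.congr_fun hC s
        simpa [ρ, ρ', σ] using hs
      · simp [ρ, ρ', σ, hq']
    · simp [ρ, ρ', σ, hp']
  refine (cpc_comp_iff hU ρ' hρs' hρ' ψ' hψ').1 ?_
  rw [heq]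
  exact (cpc_comp_iff hU ρ hρs (pcHom_aeval k _ p) ψ hψ).2 h

/-- The surjection of a basic open. -/
noncomputable def awayMap {U : X.Opens} {P : Type u} [CommRing P] (φ : P →+* Γ(X, U)) (G : P) :
    Localization.Away G →+* Γ(X, X.basicOpen (φ G)) :=
  IsLocalization.Away.lift G
    (g := (X.presheaf.map (homOfLE (X.basicOpen_le (φ G))).op).hom.comp φ)
    (X.toRingedSpace.isUnit_res_basicOpen (φ G))

theorem awayMap_comp {U : X.Opens} {P : Type u} [CommRing P] (φ : P →+* Γ(X, U)) (G : P) :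
    (awayMap φ G).comp (algebraMap P (Localization.Away G)) =
      (X.presheaf.map (homOfLE (X.basicOpen_le (φ G))).op).hom.comp φ :=
  IsLocalization.Away.lift_comp G _

theorem awayMap_surjective {U : X.Opens} (hU : IsAffineOpen U) {P : Type u} [CommRing P]
    (φ : P →+* Γ(X, U)) (hφ : Function.Surjective φ) (G : P) : Function.Surjective (awayMap φ G) := by
  intro x
  letI := (X.presheaf.map (homOfLE (X.basicOpen_le (φ G))).op).hom.toAlgebra
  haveI : IsLocalization.Away (φ G) Γ(X, X.basicOpen (φ G)) := hU.isLocalization_basicOpen (φ G)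
  obtain ⟨⟨a, ⟨_, k, rfl⟩⟩, hx⟩ := IsLocalization.surj (Submonoid.powers (φ G)) x
  obtain ⟨a', rfl⟩ := hφ a
  have hu : ∀ y, awayMap φ G (algebraMap _ _ y) = algebraMap Γ(X, U) _ (φ y) :=
    fun y => RingHom.congr_fun (awayMap_comp φ G) y
  have hinv : algebraMap Γ(X, U) Γ(X, X.basicOpen (φ G)) (φ G) *
      awayMap φ G (IsLocalization.Away.invSelf G) = 1 := by
    rw [← hu, ← map_mul, IsLocalization.Away.mul_invSelf, map_one]
  refine ⟨algebraMap _ _ a' * IsLocalization.Away.invSelf G ^ k, ?_⟩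
  rw [map_mul, map_pow, hu, ← hx]
  simp only [map_pow]
  rw [mul_assoc, ← mul_pow, hinv, one_pow, mul_one]

/-- Restriction of the pushed object to a basic open. -/
theorem nonempty_rho_pushD_away {U : X.Opens} (hU : IsAffineOpen U) {P : Type u} [CommRing P]
    (φ : P →+* Γ(X, U)) (hφ : Function.Surjective φ) (G : P) (E : DCoh.D X) :
    haveI := isClosedImmersion_imm hU φ hφ
    haveI := isClosedImmersion_imm (hU.basicOpen (φ G)) (awayMap φ G) (awayMap_surjective hU φ hφ G)
    Nonempty ((rho (Spec.map (CommRingCat.ofHom (algebraMap P (Localization.Away G))))).obj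
        ((pushD (imm U φ)).obj ((rho U.ι).obj E)) ≅
      (pushD (imm (X.basicOpen (φ G)) (awayMap φ G))).obj ((rho (X.basicOpen (φ G)).ι).obj E)) := by
  haveI := isClosedImmersion_imm hU φ hφ
  haveI := isClosedImmersion_imm (hU.basicOpen (φ G)) (awayMap φ G) (awayMap_surjective hU φ hφ G)
  let j : Spec (CommRingCat.of (Localization.Away G)) ⟶ Spec (CommRingCat.of P) :=
    Spec.map (CommRingCat.ofHom (algebraMap P (Localization.Away G)))
  haveI : IsOpenImmersion j := IsOpenImmersion.of_isLocalization G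
  let Ug := X.basicOpen (φ G)
  let j' := X.homOfLE (X.basicOpen_le (φ G))
  have w : imm Ug (awayMap φ G) ≫ j = j' ≫ imm U φ := by
    rw [Category.assoc, ← Spec.map_comp, ← CommRingCat.ofHom_comp, awayMap_comp, CommRingCat.ofHom_comp,
      Spec.map_comp, CommRingCat.ofHom_hom]
    exact Scheme.Opens.toSpecΓ_SpecMap_presheaf_map_assoc _ _ _ _
  have h : j'.opensRange = (imm U φ) ⁻¹ᵁ j.opensRange := by
    have hj : j.opensRange = PrimeSpectrum.basicOpen G :=
      Opens.ext (PrimeSpectrum.localization_away_comap_range (Localization.Away G) G)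
    rw [hj, Scheme.Hom.comp_preimage, SpecMap_preimage_basicOpen]
    show j'.opensRange = U.toSpecΓ ⁻¹ᵁ PrimeSpectrum.basicOpen (φ G)
    rw [Scheme.Opens.toSpecΓ_preimage_basicOpen, Scheme.opensRange_homOfLE]
  obtain ⟨e⟩ := nonempty_rho_pushD_bc (imm U φ) (imm Ug (awayMap φ G)) j' j w h ((rho U.ι).obj E)
  exact ⟨e ≪≫ (pushD _).mapIso (rhoComp j' U.ι Ug.ι (X.homOfLE_ι _) E)⟩

theorem cpc_away {m : ℤ} {E : DCoh.D X} {U : X.Opens} (hU : IsAffineOpen U) {P : Type u} [CommRing P]
    (φ : P →+* Γ(X, U)) (hφ : Function.Surjective φ) (G : P) (h : CPC m E U φ) :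
    CPC m E (X.basicOpen (φ G)) (awayMap φ G) := by
  haveI := isClosedImmersion_imm hU φ hφ
  haveI := isClosedImmersion_imm (hU.basicOpen (φ G)) (awayMap φ G) (awayMap_surjective hU φ hφ G)
  haveI : IsOpenImmersion (Spec.map (CommRingCat.ofHom (algebraMap P (Localization.Away G)))) :=
    IsOpenImmersion.of_isLocalization G
  obtain ⟨e⟩ := nonempty_rho_pushD_away hU φ hφ G E
  exact (cpc_iff _).2 ((((cpc_iff φ).1 h).restrict _).of_iso e)

/-- Locality of the test on basic opens. -/
theorem cpc_of_away {m : ℤ} {E : DCoh.D X} {U : X.Opens} (hU : IsAffineOpen U) {P : Type u} [CommRing P]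
    (φ : P →+* Γ(X, U)) (hφ : Function.Surjective φ)
    (h : ∀ x ∈ U, ∃ G : P, x ∈ X.basicOpen (φ G) ∧ CPC m E (X.basicOpen (φ G)) (awayMap φ G)) :
    CPC m E U φ := by
  haveI := isClosedImmersion_imm hU φ hφ
  refine (cpc_iff φ).2 (locPC_push_of_local fun z => ?_)
  obtain ⟨G, hxG, hG⟩ := h z.1 z.2
  haveI := isClosedImmersion_imm (hU.basicOpen (φ G)) (awayMap φ G) (awayMap_surjective hU φ hφ G)
  let j : Spec (CommRingCat.of (Localization.Away G)) ⟶ Spec (CommRingCat.of P) :=
    Spec.map (CommRingCat.ofHom (algebraMap P (Localization.Away G)))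
  haveI : IsOpenImmersion j := IsOpenImmersion.of_isLocalization G
  obtain ⟨e⟩ := nonempty_rho_pushD_away hU φ hφ G E
  refine ⟨j.opensRange, ?_, ?_⟩
  · have hj : j.opensRange = PrimeSpectrum.basicOpen G :=
      Opens.ext (PrimeSpectrum.localization_away_comap_range (Localization.Away G) G)
    have : z ∈ (imm U φ) ⁻¹ᵁ j.opensRange := by
      rw [hj, Scheme.Hom.comp_preimage, SpecMap_preimage_basicOpen]
      show z ∈ U.toSpecΓ ⁻¹ᵁ PrimeSpectrum.basicOpen (φ G)
      rw [Scheme.Opens.toSpecΓ_preimage_basicOpen]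
      exact hxG
    exact this
  · have h₁ : LocPC m ((rho j).obj ((pushD (imm U φ)).obj ((rho U.ι).obj E))) :=
      ((cpc_iff _).1 hG).of_iso e.symm
    exact ((h₁.restrict (rangeHom j)).of_iso (rhoComp (rangeHom j) j _ (rangeHom_fac j) _)).of_iso
      (pushDRho (imm U φ) j.opensRange _)

end Groth.Agent.PushAmp
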