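import Groth.Agent.TriCat.DerivedProducts
import Groth.Agent.TriCat.SeqColimit
import Groth.Agent.TriCat.AcyclicObj
import Groth.Agent.TriCat.Resolve
import Groth.Agent.KFlatLib.BrutalTrunc
import Groth.Agent.H9Misc.BrownGroth
import Mathlib.CategoryTheory.Functor.OfSequence
import Mathlib.CategoryTheory.Triangulated.Adjunction

/-!
# Complexes of acyclic objects compute derived functors commuting with countable sums
-/

set_option autoImplicit false
set_option linter.style.haveILetI false
set_option backward.isDefEq.respectTransparency false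
set_option maxHeartbeats 1000000

universe w w' v v' u u'

open CategoryTheory CategoryTheory.Category CategoryTheory.Limits ZeroObject

noncomputable section

namespace Groth.Agent.PushAmp.AcyclicSums

section abstract

variable {A : Type u} [Category.{v} A] [Abelian A] [HasColimitsOfShape ℕ A]
  {B : Type u'} [Category.{v'} B] [Abelian B]

attribute [local instance] Abelian.hasFiniteBiproducts

/-- An additive functor preserving sequential colimits preserves countable sums. -/
lemma preservesColimitsOfShape_discrete (F : A ⥤ B) [F.Additive] [PreservesColimitsOfShape ℕ F] :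
    PreservesColimitsOfShape (Discrete ℕ) F := by
  haveI := TriCat.hasColimitsOfShape_discrete_nat (A := A)
  suffices ∀ X : ℕ → A, PreservesColimit (Discrete.functor X) F from
    ⟨fun {K} => by
      haveI := this fun n => K.obj ⟨n⟩
      exact preservesColimit_of_iso_diagram F (Discrete.natIsoFunctor (F := K)).symm⟩
  intro X
  let G : ℕ ⥤ A := Functor.ofSequence (fun n => (0 : X n ⟶ X (n + 1)))
  refine preservesColimit_of_preserves_colimit_cocone (coproductIsCoproduct X)
    ((Cofan.isColimitMapCoconeEquiv F _ _).symm ?_)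
  let c := TriCat.partialSumsCocone G
  have hc : IsColimit (F.mapCocone c) := isColimitOfPreserves F (TriCat.isColimitPartialSumsCocone G)
  have hι : ∀ N k (hk : k < N), F.map (TriCat.pinc G N k hk) ≫ F.map (c.ι.app N) =
      F.map (Sigma.ι G.obj k) := fun N k hk => by
    rw [← F.map_comp]
    exact congrArg F.map (TriCat.pinc_desc G hk _)
  have htot : ∀ N, 𝟙 (F.obj (TriCat.psum G N)) =
      ∑ k : Fin N, F.map (TriCat.pprj G N k k.2) ≫ F.map (TriCat.pinc G N k k.2) := fun N => by
    simp only [← F.map_comp]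
    rw [← F.map_sum, ← F.map_id]
    exact congrArg F.map (biproduct.total).symm
  have ext' : ∀ {N : ℕ} {Z : B} (g g' : F.obj (TriCat.psum G N) ⟶ Z),
      (∀ k hk, F.map (TriCat.pinc G N k hk) ≫ g = F.map (TriCat.pinc G N k hk) ≫ g') → g = g' := by
    intro N Z g g' h
    rw [← id_comp g, ← id_comp g', htot, Preadditive.sum_comp, Preadditive.sum_comp]
    exact Finset.sum_congr rfl fun k _ => by rw [assoc, assoc, h]
  let dat : ∀ t : Cofan (fun j => F.obj (X j)), Cocone (TriCat.partialSums G ⋙ F) := fun t =>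
    ⟨t.pt,
    { app := fun N => ∑ k : Fin N, F.map (TriCat.pprj G N k k.2) ≫ t.inj k
      naturality := fun N M h => by
        refine (ext' _ _ fun j hj => ?_).trans (comp_id _).symm
        have hm : F.map (TriCat.pinc G N j hj) ≫ F.map ((TriCat.partialSums G).map h) =
            F.map (TriCat.pinc G M j (lt_of_lt_of_le hj (leOfHom h))) := by
          rw [← F.map_comp]; exact congrArg F.map (TriCat.pinc_desc G hj _)
        have hsum : ∀ (L : ℕ) (hL : j < L), F.map (TriCat.pinc G L j hL) ≫
            (∑ k : Fin L, F.map (TriCat.pprj G L k k.2) ≫ t.inj k) = t.inj j := by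
          intro L hL
          rw [Preadditive.comp_sum, Finset.sum_eq_single (⟨j, hL⟩ : Fin L)]
          · rw [← assoc, ← F.map_comp, TriCat.pinc_pprj_self, F.map_id, id_comp]
          · intro k _ hk
            rw [← assoc, ← F.map_comp, TriCat.pinc_pprj_ne G _ _ _ _ _ (fun e => hk (Fin.ext e.symm)),
              F.map_zero, zero_comp]
          · exact fun h => absurd (Finset.mem_univ _) h
        show _ ≫ F.map ((TriCat.partialSums G).map h) ≫ _ = _
        rw [reassoc_of% hm, hsum, hsum] }⟩
  have hsum' : ∀ (t : Cofan (fun j => F.obj (X j))) (j : ℕ),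
      F.map (TriCat.pinc G (j + 1) j (Nat.lt_succ_self j)) ≫ (dat t).ι.app (j + 1) = t.inj j := fun t j => by
    show _ ≫ (∑ k : Fin (j + 1), F.map (TriCat.pprj G (j + 1) k k.2) ≫ t.inj k) = _
    rw [Preadditive.comp_sum, Finset.sum_eq_single (⟨j, Nat.lt_succ_self j⟩ : Fin (j + 1))]
    · rw [← assoc, ← F.map_comp, TriCat.pinc_pprj_self, F.map_id, id_comp]
    · intro k _ hk
      rw [← assoc, ← F.map_comp, TriCat.pinc_pprj_ne G _ _ _ _ _ (fun e => hk (Fin.ext e.symm)),
        F.map_zero, zero_comp]
    · exact fun h => absurd (Finset.mem_univ _) h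
  refine Cofan.IsColimit.mk _ (fun t => hc.desc (dat t)) (fun t j => ?_) (fun t m hm => hc.hom_ext fun N => ?_)
  · have := congrArg (fun g => F.map (TriCat.pinc G (j + 1) j (Nat.lt_succ_self j)) ≫ g) (hc.fac (dat t) (j + 1))
    rw [hsum'] at this
    refine Eq.trans ?_ this
    show F.map (Sigma.ι X j) ≫ _ = F.map (TriCat.pinc G (j + 1) j _) ≫ F.map (c.ι.app (j + 1)) ≫ _
    rw [reassoc_of% (hι (j + 1) j (Nat.lt_succ_self j))]
    rfl
  · refine ext' _ _ fun j hj => ?_
    rw [hc.fac]
    show F.map _ ≫ F.map (c.ι.app N) ≫ m = _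
    rw [reassoc_of% (hι N j hj)]
    refine (hm j).trans ?_
    show _ = _ ≫ (∑ k : Fin N, F.map (TriCat.pprj G N k k.2) ≫ t.inj k)
    rw [Preadditive.comp_sum, Finset.sum_eq_single (⟨j, hj⟩ : Fin N)]
    · rw [← assoc, ← F.map_comp, TriCat.pinc_pprj_self, F.map_id]
      exact (id_comp _).symm
    · intro k _ hk
      rw [← assoc, ← F.map_comp, TriCat.pinc_pprj_ne G _ _ _ _ _ (fun e => hk (Fin.ext e.symm)),
        F.map_zero, zero_comp]
    · exact fun h => absurd (Finset.mem_univ _) h

end abstract

/-- A natural transformation between functors preserving a colimit is an isomorphism there. -/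
lemma isIso_app_colimit {J : Type*} [Category J] {C : Type*} [Category C] {D : Type*} [Category D]
    {P P' : C ⥤ D} (τ : P ⟶ P') {K : J ⥤ C} {c : Cocone K} (hc : IsColimit c)
    [PreservesColimit K P] [PreservesColimit K P'] (h : ∀ j, IsIso (τ.app (K.obj j))) :
    IsIso (τ.app c.pt) := by
  let e : K ⋙ P ≅ K ⋙ P' := NatIso.ofComponents (fun j => @asIso _ _ _ _ _ (h j))
    (fun f => τ.naturality (K.map f))
  have : τ.app c.pt = ((isColimitOfPreserves P hc).coconePointsIsoOfNatIso (isColimitOfPreserves P' hc) e).hom := by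
    refine (isColimitOfPreserves P hc).hom_ext fun j => ?_
    rw [IsColimit.comp_coconePointsIsoOfNatIso_hom]
    exact τ.naturality (c.ι.app j)
  rw [this]
  infer_instance

section trunc

variable {A : Type u} [Category.{v} A] [Abelian A] (K : CochainComplex A ℤ)

/-- `σ≥-n`. -/
abbrev st (n : ℕ) : CochainComplex A ℤ := K.stupidTrunc (ComplexShape.embeddingUpIntGE (-(n : ℤ)))

/-- `σ≥-n → σ≥-(n+1)`. -/
def stSucc (n : ℕ) : st K n ⟶ st K (n + 1) where
  f i := if h : -((n + 1 : ℕ) : ℤ) ≤ i then
    (KFlatLib.sigmaGEι K _).f i ≫ @inv _ _ _ _ ((KFlatLib.sigmaGEι K (-((n + 1 : ℕ) : ℤ))).f i) (KFlatLib.isIso_sigmaGEι_f K _ i h) else 0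
  comm' i j _ := by
    have key : ∀ k, (if h : -((n + 1 : ℕ) : ℤ) ≤ k then
        (KFlatLib.sigmaGEι K (-(n : ℤ))).f k ≫ @inv _ _ _ _ ((KFlatLib.sigmaGEι K (-((n + 1 : ℕ) : ℤ))).f k) (KFlatLib.isIso_sigmaGEι_f K _ k h) else 0) ≫
        (KFlatLib.sigmaGEι K (-((n + 1 : ℕ) : ℤ))).f k = (KFlatLib.sigmaGEι K (-(n : ℤ))).f k := fun k => by
      split_ifs with h
      · rw [assoc, IsIso.inv_hom_id, comp_id]
      · exact (KFlatLib.isZero_stupidTrunc_of_lt K _ k (by omega)).eq_of_src _ _
    haveI := KFlatLib.mono_sigmaGEι_f K (-((n + 1 : ℕ) : ℤ)) j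
    rw [← cancel_mono ((KFlatLib.sigmaGEι K (-((n + 1 : ℕ) : ℤ))).f j), assoc, assoc, key,
      ← HomologicalComplex.Hom.comm, reassoc_of% key, HomologicalComplex.Hom.comm]

lemma stSucc_ι (n : ℕ) : stSucc K n ≫ KFlatLib.sigmaGEι K _ = KFlatLib.sigmaGEι K (-(n : ℤ)) := by
  ext k
  dsimp [stSucc]
  split_ifs with h
  · rw [assoc, IsIso.inv_hom_id, comp_id]
  · exact (KFlatLib.isZero_stupidTrunc_of_lt K _ k (by omega)).eq_of_src _ _

/-- The sequence of truncations. -/
abbrev seq : ℕ ⥤ CochainComplex A ℤ := Functor.ofSequence (stSucc K)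

/-- Its cocone to `K`. -/
def seqCocone : Cocone (seq K) where
  pt := K
  ι := NatTrans.ofSequence (fun n => KFlatLib.sigmaGEι K (-(n : ℤ))) fun n => by
    simp only [seq, Functor.ofSequence_map_homOfLE_succ]
    exact (stSucc_ι K n).trans (comp_id _).symm

/-- The cocone is a colimit. -/
def isColimitSeqCocone : IsColimit (seqCocone K) :=
  HomologicalComplex.isColimitOfEval _ _ fun i => by
    let c := (HomologicalComplex.eval A (ComplexShape.up ℤ) i).mapCocone (seqCocone K)
    let n₀ : ℕ := (-i).toNat
    haveI hi : ∀ n, n₀ ≤ n → IsIso (c.ι.app n) := fun n hn => by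
      show IsIso ((KFlatLib.sigmaGEι K (-(n : ℤ))).f i)
      exact KFlatLib.isIso_sigmaGEι_f K _ i (by omega)
    haveI := hi n₀ le_rfl
    exact
      { desc := fun s => inv (c.ι.app n₀) ≫ s.ι.app n₀
        fac := fun s n => by
          rcases le_total n n₀ with h | h
          · rw [← c.w (homOfLE h), assoc, IsIso.hom_inv_id_assoc, s.w]
          · haveI := hi n h
            haveI : IsIso ((seq K ⋙ HomologicalComplex.eval A (ComplexShape.up ℤ) i).map (homOfLE h)) := by
              have := c.w (homOfLE h)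
              exact IsIso.of_isIso_fac_right this
            rw [← cancel_epi ((seq K ⋙ HomologicalComplex.eval A (ComplexShape.up ℤ) i).map (homOfLE h)),
              s.w, ← assoc, c.w, IsIso.hom_inv_id_assoc]
        uniq := fun s m hm => by rw [IsIso.eq_inv_comp]; exact hm n₀ }

end trunc

variable {A : Type u} [Category.{v} A] [Abelian A] [IsGrothendieckAbelian.{v} A] [HasDerivedCategory.{w} A]
  {B : Type u'} [Category.{v'} B] [Abelian B] [HasColimitsOfShape (Discrete ℕ) B]
  [HasExactColimitsOfShape (Discrete ℕ) B] [HasDerivedCategory.{w'} B]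
  (F : A ⥤ B) [F.Additive] [PreservesFiniteLimits F] [PreservesColimitsOfShape ℕ F]
  [(F.mapHomotopyCategory (ComplexShape.up ℤ) ⋙ DerivedCategory.Qh).HasRightDerivedFunctor
    (HomotopyCategory.quasiIso A (ComplexShape.up ℤ))]
  [PreservesColimitsOfShape (Discrete ℕ) ((F.mapHomotopyCategory (ComplexShape.up ℤ) ⋙ DerivedCategory.Qh).totalRightDerived
    DerivedCategory.Qh (HomotopyCategory.quasiIso A (ComplexShape.up ℤ)))]

open DerivedCategory Pretriangulated in
theorem isIso_unit (K : CochainComplex A ℤ) (hK : ∀ (m : ℤ) (i : ℕ), 0 < i → IsZero ((F.rightDerived i).obj (K.X m))) :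
    IsIso (((F.mapHomotopyCategory (ComplexShape.up ℤ) ⋙ Qh).totalRightDerivedUnit Qh
      (HomotopyCategory.quasiIso A (ComplexShape.up ℤ))).app ((HomotopyCategory.quotient A (ComplexShape.up ℤ)).obj K)) := by
  haveI := TriCat.qh_isLeftAdjoint_of_exists_resolution (A := A) fun L => by
    obtain ⟨I, f, hI, hf, -, -⟩ := TriCat.exists_kInjective_resolution' L
    exact ⟨I, f, hI, hf⟩
  let adjQ := Adjunction.ofIsLeftAdjoint (Qh (C := A))
  let W := HomotopyCategory.quasiIso A (ComplexShape.up ℤ)
  let q := HomotopyCategory.quotient A (ComplexShape.up ℤ)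
  let G := F.mapHomotopyCategory (ComplexShape.up ℤ) ⋙ Qh
  haveI := TriCat.isRightDerivedFunctor_of_adjunction adjQ W G
  let R := G.totalRightDerived Qh W
  let ρ : DerivedCategory A ⥤ _ := Qh.rightAdjoint
  let α₀ : G ⟶ Qh ⋙ ρ ⋙ G := Functor.whiskerRight adjQ.unit G
  let e : ρ ⋙ G ≅ R := Functor.rightDerivedUnique _ _ α₀ (G.totalRightDerivedUnit Qh W) W
  letI : ρ.CommShift ℤ := adjQ.rightAdjointCommShift ℤ
  haveI : adjQ.CommShift ℤ := adjQ.commShift_of_leftAdjoint ℤ
  haveI : ρ.IsTriangulated := adjQ.isTriangulated_rightAdjoint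
  let H := (Qh ⋙ ρ) ⋙ G
  let α : G ⟶ H := (Functor.leftUnitor G).inv ≫ Functor.whiskerRight adjQ.unit G
  haveI : NatTrans.CommShift adjQ.unit ℤ := inferInstance
  haveI : NatTrans.CommShift α ℤ := inferInstance
  have hunit : ∀ X, IsIso (α.app X) → IsIso ((G.totalRightDerivedUnit Qh W).app X) := by
    intro X hX
    have h0 : α.app X = α₀.app X := id_comp _
    have h1 : α.app X ≫ e.hom.app (Qh.obj X) = (G.totalRightDerivedUnit Qh W).app X := (congrArg (· ≫ _) h0).trans <|
      (Functor.rightDerivedNatTrans_app (ρ ⋙ G) R α₀ (G.totalRightDerivedUnit Qh W) W (𝟙 G) X).trans (id_comp _)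
    rw [← h1]
    exact IsIso.comp_isIso' hX inferInstance
  have hα : ∀ X, α.app X = G.map (adjQ.unit.app X) := fun X => id_comp _
  refine hunit _ ?_
  let Φ := F.mapHomologicalComplex (ComplexShape.up ℤ)
  -- bounded below
  have hplus : ∀ (L : CochainComplex A ℤ) (a : ℤ), L.IsStrictlyGE a →
      (∀ n, TriCat.IsRightAcyclic F (L.X n)) → IsIso (α.app (q.obj L)) := by
    intro L a _ hL
    obtain ⟨I, s, hI, hinj, hm, hs⟩ := TriCat.exists_quasiIso_resolution (A := A) Injective
      ⟨0, isZero_zero _, IsZero.injective (isZero_zero _)⟩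
      (fun M => ⟨Injective.under M, Injective.ι M, inferInstance, inferInstance⟩) L a
    haveI := hI
    haveI := hinj
    haveI := hs
    haveI : I.IsKInjective := CochainComplex.isKInjective_of_injective _ a
    haveI := TriCat.quasiIso_map_of_adapted (TriCat.isAdapted_isRightAcyclic (F := F)) s hm a hL
      (fun n => TriCat.isRightAcyclic_of_injective _)
    have h1 : IsIso (G.map (q.map s)) := by
      have : IsIso ((Φ ⋙ Q).map s) := inferInstanceAs (IsIso (Q.map (Φ.map s)))
      exact (NatIso.isIso_map_iff (Functor.isoWhiskerRight (F.mapHomotopyCategoryFactors (ComplexShape.up ℤ)) Qh ≪≫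
        Functor.associator _ _ _ ≪≫ Functor.isoWhiskerLeft Φ (quotientCompQhIso B)) s).2 this
    have h2 : IsIso (H.map (q.map s)) := by
      haveI : IsIso (Qh.map (q.map s)) := (NatIso.isIso_map_iff (quotientCompQhIso A) s).2 (inferInstance : IsIso (Q.map s))
      exact inferInstanceAs (IsIso ((ρ ⋙ G).map (Qh.map (q.map s))))
    have h3 : IsIso (α.app (q.obj I)) := by
      haveI := TriCat.isIso_unit_of_isKInjective adjQ I
      rw [hα]
      infer_instance
    have h4 : IsIso (α.app (q.obj L) ≫ H.map (q.map s)) := by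
      rw [← α.naturality]
      exact IsIso.comp_isIso' h1 h3
    exact IsIso.of_isIso_comp_right _ (H.map (q.map s))
  -- countable sums
  haveI := TriCat.hasColimitsOfShape_discrete_nat (A := A)
  haveI := preservesColimitsOfShape_discrete F
  haveI : HasExactColimitsOfShape (Discrete ℕ) A :=
    HasExactColimitsOfShape.of_domain_equivalence A (Discrete.equivalence (Equiv.ulift.{v} (α := ℕ)))
  have hsum : ∀ T : ℕ → CochainComplex A ℤ, (∀ n, IsIso (α.app (q.obj (T n)))) → IsIso (α.app (q.obj (∐ T))) := by
    intro T hT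
    haveI h1 : PreservesColimit (Discrete.functor T) (q ⋙ G) := by
      haveI : PreservesColimitsOfShape (Discrete ℕ) Φ := HomologicalComplex.preservesColimitsOfShape_of_eval _ fun n =>
        inferInstanceAs (PreservesColimitsOfShape (Discrete ℕ) (HomologicalComplex.eval A _ n ⋙ F))
      haveI := H9Misc.BrownGroth.preservesColimit_Q (fun n => Φ.obj (T n))
      haveI : PreservesColimit (Discrete.functor T ⋙ Φ) (Q : CochainComplex B ℤ ⥤ DerivedCategory B) :=
        preservesColimit_of_iso_diagram _ (Discrete.natIso fun _ => Iso.refl _ :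
          Discrete.functor (fun n => Φ.obj (T n)) ≅ Discrete.functor T ⋙ Φ)
      exact preservesColimit_of_natIso _ (Functor.isoWhiskerLeft Φ (quotientCompQhIso B).symm ≪≫
        (Functor.associator _ _ _).symm ≪≫
        Functor.isoWhiskerRight (F.mapHomotopyCategoryFactors (ComplexShape.up ℤ)).symm _ ≪≫ Functor.associator _ _ _)
    haveI h2 : PreservesColimit (Discrete.functor T) (q ⋙ H) := by
      haveI := H9Misc.BrownGroth.preservesColimit_Q T
      haveI : PreservesColimitsOfShape (Discrete ℕ) R := ‹_›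
      haveI : PreservesColimit (Discrete.functor T) (Q ⋙ R) := inferInstance
      exact preservesColimit_of_natIso _ (Functor.isoWhiskerRight (quotientCompQhIso A).symm R ≪≫
        Functor.associator _ _ _ ≪≫ Functor.isoWhiskerLeft q (Functor.isoWhiskerLeft Qh e.symm ≪≫
          (Functor.associator _ _ _).symm))
    exact isIso_app_colimit (Functor.whiskerLeft q α) (coproductIsCoproduct T) fun ⟨n⟩ => hT n
  -- the telescope
  let S := seq K
  have hSK : ∀ n, IsIso (α.app (q.obj (S.obj n))) := fun n => by
    refine hplus _ (-(n : ℤ)) (show (st K n).IsStrictlyGE _ from inferInstance) fun i j hj => ?_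
    rcases lt_or_ge i (-(n : ℤ)) with h | h
    · exact (F.rightDerived j).map_isZero (KFlatLib.isZero_stupidTrunc_of_lt K _ i h)
    · haveI := KFlatLib.isIso_sigmaGEι_f K (-(n : ℤ)) i h
      exact (hK i j hj).of_iso ((F.rightDerived j).mapIso (asIso ((KFlatLib.sigmaGEι K (-(n : ℤ))).f i)))
  let f := 𝟙 (∐ S.obj) - DerLim.shiftMap S.obj (fun n => S.map (homOfLE (Nat.le_succ n)))
  let E := ShortComplex.mk f (Sigma.desc (fun n => colimit.ι S n)) (TriCat.telescope_comp_desc S)
  have hE : E.ShortExact := TriCat.telescope_shortExact S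
  have hFE : (E.map Φ).ShortExact := by
    refine HomologicalComplex.shortExact_of_degreewise_shortExact _ fun i => ?_
    have h0 := hE.map_of_exact (HomologicalComplex.eval A (ComplexShape.up ℤ) i)
    haveI := h0.mono_f
    have hepi : Epi ((E.map (HomologicalComplex.eval A (ComplexShape.up ℤ) i)).map F).g := by
      refine Preadditive.epi_of_cancel_zero _ fun {Z} g hg => ?_
      refine (isColimitOfPreserves (HomologicalComplex.eval A (ComplexShape.up ℤ) i ⋙ F) (colimit.isColimit S)).hom_ext fun n => ?_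
      have := congrArg (fun t => F.map ((Sigma.ι S.obj n).f i) ≫ t) hg
      simp only [comp_zero] at this
      show F.map ((colimit.ι S n).f i) ≫ g = _ ≫ 0
      rw [comp_zero, ← this]
      show _ = F.map ((Sigma.ι S.obj n).f i) ≫ F.map ((Sigma.desc fun n => colimit.ι S n).f i) ≫ g
      rw [← assoc, ← F.map_comp, ← HomologicalComplex.comp_f, Sigma.ι_desc]
    have htf := (Functor.preservesFiniteLimits_tfae F).out 3 0
    have hl := htf.1 ‹PreservesFiniteLimits F› _ h0
    exact ShortComplex.ShortExact.mk' hl.1 hl.2 hepi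
  have hcone : IsIso (α.app (q.obj (CochainComplex.mappingCone f))) := by
    let T := CochainComplex.mappingCone.triangleh f
    have hT : T ∈ distTriang (HomotopyCategory A (ComplexShape.up ℤ)) :=
      HomotopyCategory.mappingCone_triangleh_distinguished f
    let φ : G.mapTriangle.obj T ⟶ H.mapTriangle.obj T :=
      { hom₁ := α.app T.obj₁
        hom₂ := α.app T.obj₂
        hom₃ := α.app T.obj₃
        comm₁ := α.naturality T.mor₁
        comm₂ := α.naturality T.mor₂
        comm₃ := by
          show (G.map T.mor₃ ≫ (G.commShiftIso (1 : ℤ)).hom.app T.obj₁) ≫ (α.app T.obj₁)⟦(1 : ℤ)⟧' =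
            α.app T.obj₃ ≫ H.map T.mor₃ ≫ (H.commShiftIso (1 : ℤ)).hom.app T.obj₁
          rw [assoc, NatTrans.shift_app_comm, α.naturality_assoc] }
    exact isIso₃_of_isIso₁₂ φ (G.map_distinguished T hT) (H.map_distinguished T hT)
      (hsum _ hSK) (hsum _ hSK)
  let d := CochainComplex.mappingCone.descShortComplex E
  haveI hd : QuasiIso d := CochainComplex.mappingCone.quasiIso_descShortComplex hE
  have hGd : IsIso (G.map (q.map d)) := by
    haveI : QuasiIso (CochainComplex.mappingCone.descShortComplex (E.map Φ)) :=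
      CochainComplex.mappingCone.quasiIso_descShortComplex hFE
    have hfac : (CochainComplex.mappingCone.mapHomologicalComplexIso f F).hom ≫
        CochainComplex.mappingCone.descShortComplex (E.map Φ) = Φ.map d := by
      ext i
      simp [d, E, CochainComplex.mappingCone.descShortComplex, CochainComplex.mappingCone.mapHomologicalComplexIso,
        CochainComplex.mappingCone.mapHomologicalComplexXIso_eq f F i (i + 1) rfl, Φ,
        CochainComplex.mappingCone.desc_f _ _ _ _ i (i + 1) rfl]
      erw [CochainComplex.mappingCone.inl_v_snd_v_assoc, CochainComplex.mappingCone.inr_f_snd_v_assoc]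
      simp
    haveI : QuasiIso (Φ.map d) := by rw [← hfac]; infer_instance
    have : IsIso ((Φ ⋙ Q).map d) := inferInstanceAs (IsIso (Q.map (Φ.map d)))
    exact (NatIso.isIso_map_iff (Functor.isoWhiskerRight (F.mapHomotopyCategoryFactors (ComplexShape.up ℤ)) Qh ≪≫
      Functor.associator _ _ _ ≪≫ Functor.isoWhiskerLeft Φ (quotientCompQhIso B)) d).2 this
  have hHd : IsIso (H.map (q.map d)) := by
    haveI : IsIso (Qh.map (q.map d)) := (NatIso.isIso_map_iff (quotientCompQhIso A) d).2 (inferInstance : IsIso (Q.map d))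
    exact inferInstanceAs (IsIso ((ρ ⋙ G).map (Qh.map (q.map d))))
  have hcolim : IsIso (α.app (q.obj (colimit S))) := by
    haveI := hGd
    haveI : IsIso (G.map (q.map d) ≫ α.app (q.obj (colimit S))) := by
      rw [α.naturality]
      exact IsIso.comp_isIso' hcone hHd
    exact IsIso.of_isIso_comp_left (G.map (q.map d)) _
  exact (NatTrans.isIso_app_iff_of_iso α
    (q.mapIso ((colimit.isColimit S).coconePointUniqueUpToIso (isColimitSeqCocone K)))).1 hcolim

end Groth.Agent.PushAmp.AcyclicSums
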