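import Groth.Agent.PushAmp.TorBC
import Groth.Agent.PushAmp.TorTensor
import Groth.Agent.PushAmp.RelFlatRep
import Groth.Agent.KFlatLib.RestrictFlat
import Groth.Agent.KFlatLib.Scheme.PullTensorCx
import Groth.Agent.KFlatLib.Scheme.Coproducts
import Groth.Agent.KFlatLib.Scheme.StalkCx

/-!
# Derived pullback and relative tor amplitude in cartesian squares
-/

set_option autoImplicit false
set_option linter.style.haveILetI false
set_option backward.isDefEq.respectTransparency false
set_option backward.isDefEq.respectTransparency.types false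

universe u

open CategoryTheory CategoryTheory.Limits AlgebraicGeometry

attribute [local instance] HasDerivedCategory.standard

namespace Groth.Agent.PushAmp

open KFlatLib

variable {X S X' T : Scheme.{u}} {u : X ⟶ S} {u' : X' ⟶ T} {g' : X' ⟶ X} {h : T ⟶ S}

/-- The stalks over the base of a K-flat complex are K-flat at points of flatness. -/
theorem isKF_stalkCxOver (hu : Flat u) (R : CochainComplex X.Modules ℤ) (hR : DCoh.IsKFlat R) (x : X) :
    H9Misc.DRingLTensor.IsKF ((DerSch.stalkCxOver u x).obj R) := by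
  have hf : (u.stalkMap x).hom.Flat := Flat.stalkMap u x
  have h₁ := kFlat_restrictScalars (u.stalkMap x).hom hf ((kFlat_iff_stalk R).1 hR x)
  exact h₁.of_iso (HomologicalComplex.Hom.isoOfComponents (fun _ => Iso.refl _)
    (fun i j _ => (Category.id_comp _).trans (Category.comp_id _).symm))

/-- Relative tor amplitude of the derived pullback in a cartesian square with a flat leg. -/
theorem hasTorAmplitudeAt_lpull_of_flat (hc : IsPullback g' u' u h) [DCoh.HasLpull g'] (hflat : Flat u ∨ Flat h)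
    (F : CochainComplex X.Modules ℤ) (W : CochainComplex X'.Modules ℤ)
    (e : DCoh.toD X' W ≅ (DCoh.Lpull g').obj (DCoh.toD X F)) (x' : X') (a b : ℤ)
    (hF : DerSch.HasTorAmplitudeAt u a b F (g'.base x')) :
    DerSch.HasTorAmplitudeAt u' a b W x' := by
  obtain ⟨R, hR, ⟨eR⟩⟩ := exists_kFlat_rep (DCoh.toD X F)
  refine hasTorAmplitudeAt_of_iso u' ((lpullIso g' hR).symm ≪≫ (DCoh.Lpull g').mapIso eR ≪≫ e.symm)
    (hasTorAmplitudeAt_pullCx hc R x' a b (hasTorAmplitudeAt_of_iso u eR.symm hF) (hflat.imp (fun hu => isKF_stalkCxOver hu R hR _) id))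

/-- Locally finite relative tor amplitude of the derived pullback. -/
theorem locFiniteTorAmplitude_lpull_of_flat (hc : IsPullback g' u' u h) [DCoh.HasLpull g'] (hflat : Flat u ∨ Flat h)
    (F : CochainComplex X.Modules ℤ) (W : CochainComplex X'.Modules ℤ)
    (e : DCoh.toD X' W ≅ (DCoh.Lpull g').obj (DCoh.toD X F))
    (hF : DerSch.LocFiniteTorAmplitude u F) : DerSch.LocFiniteTorAmplitude u' W := fun x' => by
  obtain ⟨V, a, b, hx, hV⟩ := hF (g'.base x')
  exact ⟨g' ⁻¹ᵁ V, a, b, hx, fun y hy => hasTorAmplitudeAt_lpull_of_flat hc hflat F W e y a b (hV _ hy)⟩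

/-- Locally finite relative tor dimension is stable under base change of a flat morphism. -/
theorem locHasFiniteRelTorDim_lpull {S' : Scheme.{u}} (f : X ⟶ S) [Flat f] (g : S' ⟶ S)
    [DCoh.HasLpull (pullback.fst f g)] (K : DCoh.D X) (hK : DCoh.LocHasFiniteRelTorDim f K) :
    DCoh.LocHasFiniteRelTorDim (pullback.snd f g) ((DCoh.Lpull (pullback.fst f g)).obj K) := by
  obtain ⟨F, ⟨eF⟩⟩ : ∃ F, Nonempty (DCoh.toD X F ≅ K) := ⟨_, ⟨DerivedCategory.Q.objObjPreimageIso K⟩⟩
  obtain ⟨W, ⟨eW⟩⟩ : ∃ W, Nonempty (DCoh.toD _ W ≅ (DCoh.Lpull (pullback.fst f g)).obj K) :=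
    ⟨_, ⟨DerivedCategory.Q.objObjPreimageIso _⟩⟩
  exact (locHasFiniteRelTorDim_iff (pullback.snd f g) W eW).2
    (locFiniteTorAmplitude_lpull_of_flat (IsPullback.of_hasPullback f g) (Or.inl inferInstance) F W
      (eW ≪≫ ((DCoh.Lpull (pullback.fst f g)).mapIso eF).symm) ((locHasFiniteRelTorDim_iff f F eF).1 hK))

end Groth.Agent.PushAmp
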