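import Groth.Agent.PushAmp.ChartAll
import Groth.Agent.H9Misc.DRingPCDescent
import Mathlib.AlgebraicGeometry.Morphisms.Flat

/-!
# Flat base change of chart pseudo-coherence of the structure sheaf
-/

set_option autoImplicit false
set_option linter.style.haveILetI false
set_option backward.isDefEq.respectTransparency false
set_option backward.isDefEq.respectTransparency.types false

universe u

open CategoryTheory CategoryTheory.Limits MvPolynomial
open scoped TensorProduct

attribute [local instance] HasDerivedCategory.standard MvPolynomial.algebraMvPolynomial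

namespace Groth.Agent.PushAmp

open Groth.Agent.H9Misc Groth.Agent.H9Misc.DRingRestrict

/-- Flat base change of a pseudo-coherent module algebra. -/
theorem module_pushout {P P' B B' : Type u} [CommRing P] [CommRing P'] [CommRing B] [CommRing B']
    [Algebra P B] [Algebra P P'] [Module.Flat P P'] [Algebra P' B'] [Algebra B B'] [Algebra P B']
    [IsScalarTower P P' B'] [IsScalarTower P B B'] [Algebra.IsPushout P P' B B'] {m : ℤ}
    (h : DRing.IsPseudoCoherentModule P m B) : DRing.IsPseudoCoherentModule P' m B' := by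
  have h1 : DRing.IsPseudoCoherentModule P' m (P' ⊗[P] B) := by
    have h2 := module_baseChange (algebraMap P P') (RingHom.flat_algebraMap_iff.2 inferInstance) m
      (ModuleCat.of P B) h
    have he : (algebraMap P P').toAlgebra = ‹Algebra P P'› := Algebra.algebra_ext _ _ fun _ => rfl
    revert h2
    generalize algebraMap P P' = φ at he
    subst he
    exact fun h => h
  exact DRingPC.of_iso ((DerivedCategory.singleFunctor (ModuleCat.{u} P') 0).mapIso
    (Algebra.IsPushout.equiv P P' B B').toLinearEquiv.toModuleIso) h1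

/-- Descent of pseudo-coherence along a faithfully flat ring map. -/
theorem module_descent {P P' B B' : Type u} [CommRing P] [CommRing P'] [CommRing B] [CommRing B']
    [Algebra P B] [i : Algebra P P'] [Module.FaithfullyFlat P P'] [Algebra P' B'] [Algebra B B'] [Algebra P B']
    [IsScalarTower P P' B'] [IsScalarTower P B B'] [Algebra.IsPushout P P' B B'] {m : ℤ}
    (h : DRing.IsPseudoCoherentModule P' m B') : DRing.IsPseudoCoherentModule P m B := by
  let Mc := ModuleCat.of P B
  have h1 : DRing.IsPseudoCoherentModule P' m (P' ⊗[P] B) :=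
    DRingPC.of_iso ((DerivedCategory.singleFunctor (ModuleCat.{u} P') 0).mapIso
      (Algebra.IsPushout.equiv P P' B B').symm.toLinearEquiv.toModuleIso) h
  refine DRingPC.of_iso ((DerivedCategory.singleFunctorIsoCompQ (ModuleCat.{u} P) 0).app Mc).symm
    (DRingPCDescent.pc_descent (R' := P') ((HomologicalComplex.single _ (ComplexShape.up ℤ) 0).obj Mc) m ?_)
  have h' : DRing.IsPseudoCoherent P' m (Dual.inD P' ((ModuleCat.extendScalars.{u, u, u} (algebraMap P P')).obj Mc)) := by
    have h2 : DRing.IsPseudoCoherent P' m (Dual.inD P' (P' ⊗[P] B)) := h1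
    have he : (algebraMap P P').toAlgebra = i := Algebra.algebra_ext _ _ fun _ => rfl
    revert h2 he
    generalize algebraMap P P' = φ
    intro h2 he
    subst he
    exact h2
  exact DRingPC.of_iso ((DerivedCategory.singleFunctorIsoCompQ (ModuleCat.{u} P') 0).app _ ≪≫
    DerivedCategory.Q.mapIso ((HomologicalComplex.singleMapHomologicalComplex
      (ModuleCat.extendScalars.{u, u, u} (algebraMap P P')) (ComplexShape.up ℤ) 0).app Mc).symm) h'

/-- Flat base change of a chart. -/
theorem exists_chart_pushout {A B A' B' : Type u} [CommRing A] [CommRing B] [CommRing A'] [CommRing B']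
    [Algebra A B] [Algebra A A'] [Module.Flat A A'] [Algebra A' B'] [Algebra B B'] [Algebra A B']
    [IsScalarTower A A' B'] [IsScalarTower A B B'] [Algebra.IsPushout A A' B B'] {m : ℤ} {n : ℕ}
    (ψ : MvPolynomial (Fin n) A →+* B) (hψ1 : ψ.comp MvPolynomial.C = algebraMap A B)
    (hψ2 : Function.Surjective ψ) :
    ∃ ψ' : MvPolynomial (Fin n) A' →+* B', ψ'.comp MvPolynomial.C = algebraMap A' B' ∧
      Function.Surjective ψ' ∧
      ((letI := ψ.toAlgebra; DRing.IsPseudoCoherentModule (MvPolynomial (Fin n) A) m B) →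
        (letI := ψ'.toAlgebra; DRing.IsPseudoCoherentModule (MvPolynomial (Fin n) A') m B')) ∧
      (Module.FaithfullyFlat A A' →
        (letI := ψ'.toAlgebra; DRing.IsPseudoCoherentModule (MvPolynomial (Fin n) A') m B') →
        (letI := ψ.toAlgebra; DRing.IsPseudoCoherentModule (MvPolynomial (Fin n) A) m B)) := by
  let ψ' : MvPolynomial (Fin n) A' →+* B' :=
    eval₂Hom (algebraMap A' B') fun i => algebraMap B B' (ψ (X i))
  letI := ψ.toAlgebra
  letI := ψ'.toAlgebra
  haveI : IsScalarTower A (MvPolynomial (Fin n) A) (MvPolynomial (Fin n) A') :=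
    .of_algebraMap_eq fun a => (MvPolynomial.map_C _ a).symm
  letI : Algebra (MvPolynomial (Fin n) A) B' := ((algebraMap B B').comp ψ).toAlgebra
  haveI : IsScalarTower A (MvPolynomial (Fin n) A) B := .of_algebraMap_eq fun a => by
    exact (RingHom.congr_fun hψ1 a).symm
  haveI : IsScalarTower A' (MvPolynomial (Fin n) A') B' := .of_algebraMap_eq fun a => by
    show _ = ψ' (MvPolynomial.C a)
    simp [ψ']
  haveI : IsScalarTower (MvPolynomial (Fin n) A) B B' := .of_algebraMap_eq fun _ => rfl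
  haveI : IsScalarTower A (MvPolynomial (Fin n) A) B' := .of_algebraMap_eq fun a => by
    show _ = algebraMap B B' (ψ (MvPolynomial.C a))
    rw [← RingHom.comp_apply ψ, hψ1, ← IsScalarTower.algebraMap_apply]
  haveI : IsScalarTower (MvPolynomial (Fin n) A) (MvPolynomial (Fin n) A') B' := .of_algebraMap_eq' <| by
    refine MvPolynomial.ringHom_ext (fun a => ?_) fun i => ?_
    · show algebraMap B B' (ψ (MvPolynomial.C a)) = ψ' (MvPolynomial.map _ (MvPolynomial.C a))
      rw [← RingHom.comp_apply ψ, hψ1]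
      simp [ψ', ← IsScalarTower.algebraMap_apply]
    · show algebraMap B B' (ψ (X i)) = ψ' (MvPolynomial.map _ (X i))
      simp [ψ']
  haveI : IsScalarTower A (MvPolynomial (Fin n) A') B' := .of_algebraMap_eq fun a => by
    show _ = ψ' (MvPolynomial.C (algebraMap A A' a))
    simp [ψ', ← IsScalarTower.algebraMap_apply]
  haveI hP : Algebra.IsPushout (MvPolynomial (Fin n) A) (MvPolynomial (Fin n) A') B B' :=
    ((Algebra.IsPushout.comp_iff (R := A) (S := MvPolynomial (Fin n) A) (R' := A')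
      (S' := MvPolynomial (Fin n) A') (T := B) (T' := B')).1 ‹Algebra.IsPushout A A' B B'›.symm).symm
  haveI : Module.Flat (MvPolynomial (Fin n) A) (MvPolynomial (Fin n) A') :=
    Module.Flat.of_linearEquiv (Algebra.IsPushout.equiv A (MvPolynomial (Fin n) A) A' _).symm.toLinearEquiv
  refine ⟨ψ', RingHom.ext fun a => by simp [ψ'], ?_, fun hψ3 => module_pushout
    (P := MvPolynomial (Fin n) A) (P' := MvPolynomial (Fin n) A') (B := B) (B' := B') hψ3, fun _ hψ3 => ?_⟩
  rotate_left
  · haveI : Module.FaithfullyFlat (MvPolynomial (Fin n) A) (MvPolynomial (Fin n) A') := by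
      haveI : Algebra.IsPushout A A' (MvPolynomial (Fin n) A) (MvPolynomial (Fin n) A') :=
        Algebra.IsPushout.symm inferInstance
      exact (RingHom.faithfullyFlat_algebraMap_iff).1 (RingHom.FaithfullyFlat.isStableUnderBaseChange A A'
        (MvPolynomial (Fin n) A) (MvPolynomial (Fin n) A') ((RingHom.faithfullyFlat_algebraMap_iff).2 inferInstance))
    exact module_descent (P' := MvPolynomial (Fin n) A') (B' := B') hψ3
  intro b
  obtain ⟨x, rfl⟩ := (Algebra.IsPushout.equiv A A' B B').surjective b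
  induction x with
  | zero => exact ⟨0, by simp⟩
  | add x y hx hy =>
    obtain ⟨p, hp⟩ := hx
    obtain ⟨q, hq⟩ := hy
    exact ⟨p + q, by rw [map_add, map_add, hp, hq]⟩
  | tmul a y =>
    obtain ⟨p, rfl⟩ := hψ2 y
    refine ⟨MvPolynomial.C a * MvPolynomial.map (algebraMap A A') p, ?_⟩
    rw [Algebra.IsPushout.equiv_tmul, map_mul]
    refine congrArg₂ (· * ·) (by simp [ψ']) ?_
    exact (IsScalarTower.algebraMap_apply (MvPolynomial (Fin n) A) (MvPolynomial (Fin n) A') B' p).symm

section Geometry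

open AlgebraicGeometry

/-- The affine piece of a base change with a chart on it. -/
theorem exists_chart_baseChange {X Y X' Y' : Scheme.{u}} {f : X ⟶ Y} {f' : X' ⟶ Y'} {g : X' ⟶ X}
    {h : Y' ⟶ Y} [Flat h] (H : IsPullback g f' f h) (m : ℤ) {V : Y.Opens} (hV : IsAffineOpen V)
    {U : X.Opens} (hU : IsAffineOpen U) (e : U ≤ f ⁻¹ᵁ V) {W : Y'.Opens} (hW : IsAffineOpen W)
    (hWV : W ≤ h ⁻¹ᵁ V) {n : ℕ} (φ : MvPolynomial (Fin n) Γ(Y, V) →+* Γ(X, U))
    (hc : DerSch.IsChart f U V e φ) :
    IsAffineOpen (g ⁻¹ᵁ U ⊓ f' ⁻¹ᵁ W) ∧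
      ∃ ψ' : MvPolynomial (Fin n) Γ(Y', W) →+* Γ(X', g ⁻¹ᵁ U ⊓ f' ⁻¹ᵁ W),
        DerSch.IsChart f' (g ⁻¹ᵁ U ⊓ f' ⁻¹ᵁ W) W inf_le_right ψ' ∧
        ((letI := φ.toAlgebra; DRing.IsPseudoCoherentModule (MvPolynomial (Fin n) Γ(Y, V)) m Γ(X, U)) →
          (letI := ψ'.toAlgebra; DRing.IsPseudoCoherentModule (MvPolynomial (Fin n) Γ(Y', W)) m
            Γ(X', g ⁻¹ᵁ U ⊓ f' ⁻¹ᵁ W))) ∧
        ((h.appLE V W hWV).hom.FaithfullyFlat →
          (letI := ψ'.toAlgebra; DRing.IsPseudoCoherentModule (MvPolynomial (Fin n) Γ(Y', W)) m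
            Γ(X', g ⁻¹ᵁ U ⊓ f' ⁻¹ᵁ W)) →
          (letI := φ.toAlgebra; DRing.IsPseudoCoherentModule (MvPolynomial (Fin n) Γ(Y, V)) m Γ(X, U))) := by
  let UY := g ⁻¹ᵁ U ⊓ f' ⁻¹ᵁ W
  have hUY : IsAffineOpen UY := by
    haveI : IsAffine _ := hU
    haveI : IsAffine _ := hV
    haveI : IsAffine _ := hW
    exact .of_isIso (Scheme.Hom.isPullback_resLE H hWV e (UY := UY) rfl).isoPullback.hom
  haveI := isIso_pushoutSection_of_isAffineOpen H hWV e (UY := UY) rfl hV hW hU
  have hpo := ((isIso_pushoutSection_iff H hWV e (UY := UY) rfl).1 inferInstance).flip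
  let a := h.appLE V W hWV
  let b := f.appLE V U e
  let c := f'.appLE W UY inf_le_right
  let d := g.appLE U UY inf_le_left
  letI := a.hom.toAlgebra
  letI := b.hom.toAlgebra
  letI := c.hom.toAlgebra
  letI := d.hom.toAlgebra
  letI : Algebra Γ(Y, V) Γ(X', UY) := (a ≫ c).hom.toAlgebra
  haveI : IsScalarTower Γ(Y, V) Γ(Y', W) Γ(X', UY) := .of_algebraMap_eq' rfl
  haveI : IsScalarTower Γ(Y, V) Γ(X, U) Γ(X', UY) := .of_algebraMap_eq' congr(($hpo.w).hom)
  haveI : Module.Flat Γ(Y, V) Γ(Y', W) := h.flat_appLE hV hW hWV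
  haveI : Algebra.IsPushout Γ(Y, V) Γ(Y', W) Γ(X, U) Γ(X', UY) := CommRingCat.isPushout_iff_isPushout.1 hpo
  obtain ⟨ψ', h1, h2, h3, h4⟩ := exists_chart_pushout (A := Γ(Y, V)) (B := Γ(X, U)) (A' := Γ(Y', W))
    (B' := Γ(X', UY)) (m := m) φ hc.2 hc.1
  exact ⟨hUY, ψ', ⟨h2, h1⟩, h3, fun hff => h4 (RingHom.faithfullyFlat_algebraMap_iff.1 hff)⟩

/-- Flat base change of relative pseudo-coherence of the structure sheaf. -/
theorem nPC_baseChange {X Y X' Y' : Scheme.{u}} {f : X ⟶ Y} {f' : X' ⟶ Y'} {g : X' ⟶ X} {h : Y' ⟶ Y}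
    [Flat h] [LocallyOfFiniteType f'] (H : IsPullback g f' f h) {m : ℤ} (hf : DerSch.IsNPseudoCoherent f m) :
    DerSch.IsNPseudoCoherent f' m := by
  refine relPC_of_local _ fun z => ?_
  obtain ⟨V, U, e, n', φ, hxU, hc, hPC⟩ := exists_chart_unit f hf (g.base z)
  have hzV : f'.base z ∈ h ⁻¹ᵁ (V : Y.Opens) := by
    show h (f' z) ∈ (V : Y.Opens)
    rw [← Scheme.Hom.comp_apply, ← H.w, Scheme.Hom.comp_apply]
    exact e hxU
  obtain ⟨W, hW, hzW, hWV⟩ := exists_isAffineOpen_mem_and_subset hzV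
  obtain ⟨hUY, ψ', hc', h3, -⟩ := exists_chart_baseChange H m V.2 U.2 e hW hWV φ hc
  exact ⟨⟨W, hW⟩, ⟨_, hUY⟩, inf_le_right, ⟨hxU, hzW⟩, n', ψ', hc'.1, hc'.2,
    (chartPC_iff_cpc _ _ _ _ _).1 ((chartPC_unit_iff hUY ψ' hc'.1).2 (h3 hPC))⟩

end Geometry

end Groth.Agent.PushAmp
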