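import Groth.Agent.PushAmp.PushPCLevel
import Groth.Agent.PushAmp.ChartBC

/-!
# Charts in a tower of morphisms
-/

set_option autoImplicit false
set_option linter.style.haveILetI false
set_option backward.isDefEq.respectTransparency false
set_option backward.isDefEq.respectTransparency.types false

universe u

open CategoryTheory CategoryTheory.Limits AlgebraicGeometry TopologicalSpace

attribute [local instance] HasDerivedCategory.standard MvPolynomial.algebraMvPolynomial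

namespace Groth.Agent.PushAmp

open Groth.Agent.KFlatLib Groth.Agent.H9Misc.DRingRelPC

/-- A surjection with quotient pseudo-coherent at a level. -/
theorem pushPCAt_spec {P Q : Type u} [CommRing P] [CommRing Q] (ψ : P →+* Q) (hψ : Function.Surjective ψ)
    (m : ℤ)
    (h : letI := ψ.toAlgebra; DRing.IsPseudoCoherentModule P m Q) :
    haveI : IsClosedImmersion (Spec.map (CommRingCat.ofHom ψ)) :=
      IsClosedImmersion.spec_of_surjective (CommRingCat.ofHom ψ) hψ
    PushPCAt m (Spec.map (CommRingCat.ofHom ψ)) := by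
  letI := ψ.toAlgebra
  haveI : IsClosedImmersion (Spec.map (CommRingCat.ofHom ψ)) :=
    IsClosedImmersion.spec_of_surjective (CommRingCat.ofHom ψ) hψ
  let A := CommRingCat.of P
  let B := CommRingCat.of Q
  haveI : PreservesFiniteLimits (tilde.functor A) := Groth.Agent.QCoh.tilde_preservesFiniteLimits
  haveI : (tilde.functor A).Additive := tilde_additive A
  haveI : PreservesFiniteColimits (tilde.functor A) := Groth.Agent.QCoh.tilde_preservesFiniteColimits
  let N : ModuleCat.{u} A := (ModuleCat.restrictScalars ψ).obj (ModuleCat.of Q Q)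
  let eN : (ModuleCat.of P Q : ModuleCat.{u} A) ≅ N :=
    ({ AddEquiv.refl Q with map_smul' := fun _ _ => rfl } : Q ≃ₗ[P] N).toModuleIso
  obtain ⟨E, a, b, α, hz, hf, hi, he⟩ :=
    H9Misc.DRingPC.of_iso ((DerivedCategory.singleFunctor (ModuleCat.{u} A) 0).mapIso eN) h
  have hR : RPC (R := A) m ((DerivedCategory.singleFunctor (ModuleCat.{u} A) 0).obj N) :=
    ⟨E, α, ⟨⟨a, b, hz⟩, hf⟩, hi, he⟩
  refine (locPC_of_rpc hR).of_iso ?_
  exact ((tilde.functor A).mapDerivedCategorySingleFunctor 0).app N ≪≫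
    (DerivedCategory.singleFunctor (Spec A).Modules 0).mapIso
      (((pushTildeIso (CommRingCat.ofHom ψ)).app (ModuleCat.of Q Q)).symm ≪≫
        (Scheme.Modules.pushforward (Spec.map (CommRingCat.ofHom ψ))).mapIso (tildeSelf (R := B))) ≪≫
    (((Scheme.Modules.pushforward (Spec.map (CommRingCat.ofHom ψ))).mapDerivedCategorySingleFunctor 0).app
      (Coh.structureModule (Spec B))).symm

/-- Pseudo-coherence at a level survives adding variables. -/
theorem module_map {A B : Type u} [CommRing A] [CommRing B] (ψ : A →+* B) (m : ℤ) (k : ℕ)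
    (h : letI := ψ.toAlgebra; DRing.IsPseudoCoherentModule A m B) :
    letI := (MvPolynomial.map (σ := Fin k) ψ).toAlgebra
    DRing.IsPseudoCoherentModule (MvPolynomial (Fin k) A) m (MvPolynomial (Fin k) B) := by
  algebraize [ψ]
  haveI : IsScalarTower A (MvPolynomial (Fin k) A) (MvPolynomial (Fin k) B) :=
    .of_algebraMap_eq fun a => (MvPolynomial.map_C _ a).symm
  exact module_pushout (P := A) (P' := MvPolynomial (Fin k) A) (B := B) (B' := MvPolynomial (Fin k) B) h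

variable {X Y Z : Scheme.{u}} (f : X ⟶ Y) (g : Y ⟶ Z)

/-- A chart of a composite near a point. -/
theorem exists_tower [LocallyOfFiniteType f] [LocallyOfFiniteType g] {c : ℤ}
    (hg : DerSch.IsNPseudoCoherent g c) (x : X) :
    ∃ (W : Z.affineOpens) (V : Y.affineOpens) (U : X.affineOpens) (hV : (V : Y.Opens) ≤ g ⁻¹ᵁ (W : Z.Opens))
      (hU : (U : X.Opens) ≤ f ⁻¹ᵁ (V : Y.Opens)) (n p : ℕ)
      (ψ : MvPolynomial (Fin n) Γ(Z, (W : Z.Opens)) →+* Γ(Y, (V : Y.Opens)))
      (φ : MvPolynomial (Fin p) Γ(Y, (V : Y.Opens)) →+* Γ(X, (U : X.Opens))),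
      x ∈ (U : X.Opens) ∧ DerSch.IsChart g (V : Y.Opens) (W : Z.Opens) hV ψ ∧
      DerSch.IsChart f (U : X.Opens) (V : Y.Opens) hU φ ∧
      (letI := (MvPolynomial.map (σ := Fin p) ψ).toAlgebra
       DRing.IsPseudoCoherentModule (MvPolynomial (Fin p) (MvPolynomial (Fin n) Γ(Z, (W : Z.Opens)))) c
        (MvPolynomial (Fin p) Γ(Y, (V : Y.Opens)))) ∧
      ∀ r, φ (MvPolynomial.map ψ (MvPolynomial.C (MvPolynomial.C r))) =
        (f ≫ g).appLE (W : Z.Opens) (U : X.Opens) (fun _ hz => hV (hU hz)) r := by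
  obtain ⟨W, hW, hxW, -⟩ :=
    exists_isAffineOpen_mem_and_subset (x := g.base (f.base x)) (U := (⊤ : Z.Opens)) trivial
  obtain ⟨V, hV, hxV, hVW⟩ := exists_isAffineOpen_mem_and_subset (x := f.base x) (U := g ⁻¹ᵁ W) hxW
  obtain ⟨U, hU, hxU, hUV⟩ := exists_isAffineOpen_mem_and_subset (x := x) (U := f ⁻¹ᵁ V) hxV
  obtain ⟨n, ψ, hψ⟩ := exists_chart g hW hV hVW
  obtain ⟨p, φ, hφ⟩ := exists_chart f hV hU hUV
  refine ⟨⟨W, hW⟩, ⟨V, hV⟩, ⟨U, hU⟩, hVW, hUV, n, p, ψ, φ, hxU, hψ, hφ,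
    module_map ψ c p ((chartPC_unit_iff hV ψ hψ.1).1
      ((chartPC_iff_cpc _ _ _ _ _).2 (relPC_cpc g hg hW hV hVW ψ hψ))), fun r => ?_⟩
  rw [MvPolynomial.map_C, ← RingHom.comp_apply φ, hφ.2, ← RingHom.comp_apply ψ, hψ.2,
    ← CommRingCat.comp_apply, Scheme.Hom.appLE_comp_appLE]

/-- Relative pseudo-coherence cancels. -/
theorem relPC_cancel [LocallyOfFiniteType f] [LocallyOfFiniteType g] (a b : ℤ) {E : DCoh.D X}
    (hb : ∀ i, b < i → IsZero (DCoh.HD E i))
    (hE : DerSch.IsPseudoCoherentRel (f ≫ g) a E) (hg : DerSch.IsNPseudoCoherent g (a + 1 - b)) :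
    DerSch.IsPseudoCoherentRel f a E := by
  refine relPC_of_local f fun x => ?_
  obtain ⟨W, V, U, hV, hU, n, p, ψ, φ, hxU, hψ, hφ, hmod, hC⟩ := exists_tower f g hg x
  refine ⟨V, U, hU, hxU, p, φ, hφ.1, hφ.2, ?_⟩
  let χ := MvPolynomial.map (σ := Fin p) ψ
  have hχ : Function.Surjective χ := MvPolynomial.map_surjective ψ hψ.1
  haveI := isClosedImmersion_imm U.2 φ hφ.1
  haveI := isClosedImmersion_imm U.2 (φ.comp χ) (hφ.1.comp hχ)
  haveI : IsClosedImmersion (Spec.map (CommRingCat.ofHom χ)) :=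
    IsClosedImmersion.spec_of_surjective (CommRingCat.ofHom χ) hχ
  have h := (cpc_iff _).1 ((relPC_cpa _ hE W.2 U.2 (fun _ hz => hV (hU hz))).nested U.2 (φ.comp χ)
    (hφ.1.comp hχ) hC)
  have e : imm (U : X.Opens) φ ≫ Spec.map (CommRingCat.ofHom χ) = imm (U : X.Opens) (φ.comp χ) := by
    rw [Category.assoc, ← Spec.map_comp]; rfl
  refine (cpc_iff φ).2 (locPC_of_push_bounded (b + 1 - a).toNat _ (a + 1 - b) (pushPCAt_spec χ hχ _ hmod)
    (fun j hj => by omega) a _ (fun i hi => ?_) (h.of_iso (pushDComp _ _ _ e _).symm))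
  obtain ⟨e'⟩ := nonempty_hd_pushD (imm (U : X.Opens) φ) ((rho (U : X.Opens).ι).obj E) i
  exact (Functor.map_isZero _ (isZero_hd_rho _ (hb i (by omega)))).of_iso e'

/-- Composites of pseudo-coherent morphisms. -/
theorem nPC_comp [LocallyOfFiniteType f] [LocallyOfFiniteType g] (r s : ℤ)
    (hf : DerSch.IsNPseudoCoherent f r) (hg : DerSch.IsNPseudoCoherent g s) :
    DerSch.IsNPseudoCoherent (f ≫ g) (max r s) := by
  refine relPC_of_local _ fun x => ?_
  obtain ⟨W, V, U, hV, hU, n, p, ψ, φ, hxU, hψ, hφ, hmod, hC⟩ := exists_tower f g hg x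
  refine ⟨W, U, fun _ hz => hV (hU hz), hxU, ?_⟩
  let χ := MvPolynomial.map (σ := Fin p) ψ
  have hχ : Function.Surjective χ := MvPolynomial.map_surjective ψ hψ.1
  haveI := isClosedImmersion_imm U.2 φ hφ.1
  haveI := isClosedImmersion_imm U.2 (φ.comp χ) (hφ.1.comp hχ)
  haveI : IsClosedImmersion (Spec.map (CommRingCat.ofHom χ)) :=
    IsClosedImmersion.spec_of_surjective (CommRingCat.ofHom χ) hχ
  have h := ((cpc_iff φ).1 (relPC_cpc f hf V.2 U.2 hU φ hφ)).mono (le_max_left r s)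
  have e : imm (U : X.Opens) φ ≫ Spec.map (CommRingCat.ofHom χ) = imm (U : X.Opens) (φ.comp χ) := by
    rw [Category.assoc, ← Spec.map_comp]; rfl
  refine CPA.of_nested U.2 (φ.comp χ) (hφ.1.comp hχ) hC ((cpc_iff _).2 ((locPC_push_bounded
    (1 - max r s).toNat _ s (pushPCAt_spec χ hχ _ hmod) (fun j hj => by omega) (max r s) _ (fun i hi => ?_)
    h).of_iso (pushDComp _ _ _ e _)))
  obtain ⟨e'⟩ := nonempty_hd_pushD (imm (U : X.Opens) φ) ((rho (U : X.Opens).ι).obj (DCoh.toD X (DerSch.unitCx X))) i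
  exact (Functor.map_isZero _ (isZero_hd_rho _ ((ShortComplex.isZero_homology_of_isZero_X₂ _
    (HomologicalComplex.isZero_single_obj_X (ComplexShape.up ℤ) 0 (Coh.structureModule X) i (by omega))).of_iso
      ((DerivedCategory.homologyFunctorFactors X.Modules i).app _)))).of_iso e'

end Groth.Agent.PushAmp

namespace Groth.Agent.PushAmp

open Groth.Agent.KFlatLib

/-- Relative pseudo-coherence composes with a pseudo-coherent morphism. -/
theorem relPC_comp {X Y Z : Scheme.{u}} (f : X ⟶ Y) (g : Y ⟶ Z) [LocallyOfFiniteType f] [LocallyOfFiniteType g]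
    (hg : ∀ m, DerSch.IsNPseudoCoherent g m) (a : ℤ) {E : DCoh.D X}
    (hE : DerSch.IsPseudoCoherentRel f a E) : DerSch.IsPseudoCoherentRel (f ≫ g) a E := by
  refine relPC_of_local _ fun x => ?_
  obtain ⟨W, hW, hxW, -⟩ :=
    exists_isAffineOpen_mem_and_subset (x := g.base (f.base x)) (U := (⊤ : Z.Opens)) trivial
  obtain ⟨V, hV, hxV, hVW⟩ := exists_isAffineOpen_mem_and_subset (x := f.base x) (U := g ⁻¹ᵁ W) hxW
  obtain ⟨U, hU, hxU, hUV⟩ := exists_isAffineOpen_mem_and_subset (x := x) (U := f ⁻¹ᵁ V) hxV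
  obtain ⟨n, ψ, hψ⟩ := exists_chart g hW hV hVW
  obtain ⟨p, φ, hφ⟩ := exists_chart f hV hU hUV
  let χ := MvPolynomial.map (σ := Fin p) ψ
  have hχ : Function.Surjective χ := MvPolynomial.map_surjective ψ hψ.1
  haveI := isClosedImmersion_imm hU φ hφ.1
  haveI := isClosedImmersion_imm hU (φ.comp χ) (hφ.1.comp hχ)
  haveI : IsClosedImmersion (Spec.map (CommRingCat.ofHom χ)) :=
    IsClosedImmersion.spec_of_surjective (CommRingCat.ofHom χ) hχ
  have hs : PushPC (Spec.map (CommRingCat.ofHom χ)) := fun m =>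
    pushPCAt_spec χ hχ m (module_map ψ m p ((chartPC_unit_iff hV ψ hψ.1).1
      ((chartPC_iff_cpc _ _ _ _ _).2 (relPC_cpc g (hg m) hW hV hVW ψ hψ))))
  have h := (cpc_iff φ).1 (relPC_cpc f hE hV hU hUV φ hφ)
  have e : imm U φ ≫ Spec.map (CommRingCat.ofHom χ) = imm U (φ.comp χ) := by
    rw [Category.assoc, ← Spec.map_comp]; rfl
  have hC : ∀ r, (φ.comp χ) (MvPolynomial.C (MvPolynomial.C r)) =
      (f ≫ g).appLE W U (fun _ hz => hVW (hUV hz)) r := fun r => by
    show φ (MvPolynomial.map ψ (MvPolynomial.C (MvPolynomial.C r))) = _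
    rw [MvPolynomial.map_C, ← RingHom.comp_apply φ, hφ.2, ← RingHom.comp_apply ψ, hψ.2,
      ← CommRingCat.comp_apply, Scheme.Hom.appLE_comp_appLE]
  exact ⟨⟨W, hW⟩, ⟨U, hU⟩, fun _ hz => hVW (hUV hz), hxU, CPA.of_nested hU (φ.comp χ) (hφ.1.comp hχ) hC
    ((cpc_iff _).2 (((locPC_pushD_iff _ hs a _).1 h).of_iso (pushDComp _ _ _ e _)))⟩

end Groth.Agent.PushAmp
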