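import Groth.Agent.PushAmp.ComplFinite
import Groth.Agent.CAlgOdd.FlatCompletion

/-!
# Derived completion of a finite module tensored with a flat module
-/

set_option autoImplicit false
set_option linter.style.haveILetI false
set_option backward.isDefEq.respectTransparency false
set_option maxHeartbeats 1000000

universe u

open CategoryTheory CategoryTheory.Category CategoryTheory.Limits MonoidalCategory
open CategoryTheory.Pretriangulated
open scoped TensorProduct

attribute [local instance] HasDerivedCategory.standard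

noncomputable section

namespace Groth.Agent.PushAmp.ComplFlat

open Groth.Agent.H9Misc Groth.Agent.H9Misc.DRingNakayama Groth.Agent.H9Misc.DRingAdic

variable {A : Type u} [CommRing A] [IsNoetherianRing A] (I : Ideal A)

/-- A flat complete module tensored with a finite module is complete. -/
lemma isAdicComplete_tensor (M X : Type u) [AddCommGroup M] [Module A M] [Module.Finite A M]
    [AddCommGroup X] [Module A X] [Module.Flat A X] [IsAdicComplete I X] : IsAdicComplete I (M ⊗[A] X) := by
  classical
  have hX : CAlgOdd.FlatCompletion.LevelFlat X I := CAlgOdd.FlatCompletion.levelFlat I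
    (Module.Flat.rTensor_preserves_injective_linearMap _ (Submodule.subtype_injective I))
    (fun _ _ _ _ _ _ g _ _ hg => Module.Flat.rTensor_preserves_injective_linearMap g hg)
  obtain ⟨l, π, hπ⟩ := Module.Finite.exists_fin' A M
  obtain ⟨q, g, hg⟩ := Submodule.fg_iff_exists_fin_generating_family.1
    (IsNoetherian.noetherian (LinearMap.ker π))
  let h : (Fin q → A) →ₗ[A] (Fin l → A) := Fintype.linearCombination A g
  have hex : Function.Exact h π := LinearMap.exact_iff.2 (by rw [Fintype.range_linearCombination, hg])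
  let S : Fin l → Fin q → A := fun j i => g i j
  let e : ∀ k : ℕ, ((Fin k → A) ⊗[A] X) ≃ₗ[A] (Fin k → X) := fun k =>
    TensorProduct.comm A (Fin k → A) X ≪≫ₗ TensorProduct.piScalarRight A A X (Fin k)
  have happ : ∀ w, e l (h.rTensor X w) = CAlgOdd.FlatCompletion.app S (e q w) := by
    intro w
    induction w using TensorProduct.induction_on with
    | zero => simp
    | tmul f x =>
      ext j
      simp [e, h, S, CAlgOdd.FlatCompletion.app_apply, Fintype.linearCombination_apply, Finset.sum_smul, smul_smul, mul_comm]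
    | add a b ha hb => simp only [map_add, ha, hb]
  let p : (Fin l → X) →ₗ[A] M ⊗[A] X := π.rTensor X ∘ₗ (e l).symm.toLinearMap
  have hp : Function.Surjective p := (LinearMap.rTensor_surjective X hπ).comp (e l).symm.surjective
  have hker : ∀ y, p y = 0 → ∃ v, CAlgOdd.FlatCompletion.app S v = y := by
    intro y hy
    obtain ⟨w, hw⟩ := (rTensor_exact X hex hπ _).1 hy
    exact ⟨e q w, by rw [← happ, hw]; exact (e l).apply_symm_apply y⟩
  have hker' : ∀ v, p (CAlgOdd.FlatCompletion.app S v) = 0 := by
    intro v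
    obtain ⟨w, rfl⟩ := (e q).surjective v
    rw [← happ]
    show π.rTensor X ((e l).symm (e l (h.rTensor X w))) = 0
    rw [LinearEquiv.symm_apply_apply]
    exact (rTensor_exact X hex hπ).apply_apply_eq_zero w
  haveI : IsHausdorff I (M ⊗[A] X) := ⟨fun z hz => by
    obtain ⟨y, rfl⟩ := hp z
    obtain ⟨v, hv⟩ := CAlgOdd.FlatCompletion.exists_solution I hX S y fun n => by
      have h1 := SModEq.zero.1 (hz n)
      rw [show (I ^ n • ⊤ : Submodule A (M ⊗[A] X)) = Submodule.map p (I ^ n • ⊤) by
        rw [Submodule.map_smul'', Submodule.map_top, LinearMap.range_eq_top.2 hp]] at h1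
      obtain ⟨d, hd, hd'⟩ := h1
      obtain ⟨v, hv⟩ := hker (y - d) (by rw [map_sub, hd', sub_self])
      exact ⟨v, by rw [hv, sub_sub_cancel]; exact hd⟩
    rw [← hv, hker']⟩
  haveI : IsPrecomplete I (Fin l → X) := ⟨fun f hf => by
    have hc : ∀ k, ∃ L : X, ∀ n, f n k ≡ L [SMOD (I ^ n • ⊤ : Submodule A X)] := fun k =>
      IsPrecomplete.prec (inferInstance : IsPrecomplete I X) fun {m n} hmn =>
        SModEq.sub_mem.2 (ARPair.mem_smul_top_pi.1 (SModEq.sub_mem.1 (hf hmn)) k)
    choose L hL using hc
    exact ⟨L, fun n => SModEq.sub_mem.2 (ARPair.mem_smul_top_pi.2 fun k => SModEq.sub_mem.1 (hL k n))⟩⟩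
  haveI : IsPrecomplete I (M ⊗[A] X) := AdicCompletion.of_surjective_iff.1 fun c => by
    obtain ⟨b, rfl⟩ := AdicCompletion.map_surjective I hp c
    obtain ⟨a, rfl⟩ := (AdicCompletion.of_surjective_iff.2 (inferInstanceAs (IsPrecomplete I (Fin l → X)))) b
    exact ⟨p a, (AdicCompletion.map_of I p a).symm⟩
  exact ⟨⟩

/-- `M ⊗ N → M ⊗ N^` identifies the target with the completion of the source. -/
lemma exists_equiv_completion (M N : Type u) [AddCommGroup M] [Module A M] [Module.Finite A M]
    [AddCommGroup N] [Module A N] [Module.Flat A (AdicCompletion I N)] :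
    ∃ e : (M ⊗[A] AdicCompletion I N) ≃ₗ[A] AdicCompletion I (M ⊗[A] N),
      ∀ y, e ((AdicCompletion.of I N).lTensor M y) = AdicCompletion.of I _ y := by
  have hfg : I.FG := IsNoetherian.noetherian _
  haveI := AdicCompletion.isAdicComplete (R := A) (M := N) hfg
  haveI := AdicCompletion.isAdicComplete (R := A) (M := M ⊗[A] N) hfg
  haveI := isAdicComplete_tensor I M (AdicCompletion I N)
  let f := (AdicCompletion.of I N).lTensor M
  let Φ : M ⊗[A] AdicCompletion I N →ₗ[A] AdicCompletion I (M ⊗[A] N) :=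
    TensorProduct.lift
      { toFun := fun m => (AdicCompletion.map I (TensorProduct.mk A M N m)).restrictScalars A
        map_add' := fun a b => LinearMap.ext fun x => by ext k; obtain ⟨y, hy⟩ := Submodule.mkQ_surjective _ (x.val k); simp [← hy]
        map_smul' := fun r a => LinearMap.ext fun x => by ext k; obtain ⟨y, hy⟩ := Submodule.mkQ_surjective _ (x.val k); simp only [RingHom.id_apply, LinearMap.smul_apply, LinearMap.restrictScalars_apply, AdicCompletion.val_smul_apply]; simp [← hy, TensorProduct.smul_tmul', ← Submodule.Quotient.mk_smul] }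
  have hΦ : ∀ y, Φ (f y) = AdicCompletion.of I _ y := fun y => by
    induction y using TensorProduct.induction_on with
    | zero => simp
    | tmul m x => exact AdicCompletion.map_of I _ x
    | add a b ha hb => simp only [map_add, ha, hb]
  have hdense : ∀ n z, ∃ y, z - f y ∈ (I ^ n • ⊤ : Submodule A (M ⊗[A] AdicCompletion I N)) := by
    intro n z
    induction z using TensorProduct.induction_on with
    | zero => exact ⟨0, by simp⟩
    | tmul m x =>
      obtain ⟨x₀, hx₀⟩ := Submodule.mkQ_surjective _ (AdicCompletion.eval I N n x)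
      have hx : x - AdicCompletion.of I N x₀ ∈ (I ^ n • ⊤ : Submodule A (AdicCompletion I N)) := by
        rw [AdicCompletion.pow_smul_top_eq_ker_eval hfg, LinearMap.mem_ker, map_sub, AdicCompletion.eval_of, hx₀, sub_self]
      refine ⟨m ⊗ₜ x₀, ?_⟩
      have h1 := Submodule.mem_map_of_mem (f := TensorProduct.mk A M (AdicCompletion I N) m) hx
      rw [Submodule.map_smul'', map_sub] at h1
      exact Submodule.smul_mono le_rfl le_top h1
    | add a b ha hb =>
      obtain ⟨y, hy⟩ := ha
      obtain ⟨y', hy'⟩ := hb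
      exact ⟨y + y', by rw [map_add, add_sub_add_comm]; exact add_mem hy hy'⟩
  have hΦmem : ∀ n z, z ∈ (I ^ n • ⊤ : Submodule A (M ⊗[A] AdicCompletion I N)) →
      AdicCompletion.eval I _ n (Φ z) = 0 := fun n z hz => by
    have h1 := Submodule.mem_map_of_mem (f := Φ) hz
    rw [Submodule.map_smul''] at h1
    have h2 := Submodule.smul_mono le_rfl (le_top (a := Submodule.map Φ ⊤)) h1
    rwa [AdicCompletion.pow_smul_top_eq_ker_eval hfg, LinearMap.mem_ker] at h2
  have hinj : Function.Injective Φ := (injective_iff_map_eq_zero Φ).2 fun z hz => by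
    refine IsHausdorff.haus (inferInstance : IsHausdorff I (M ⊗[A] AdicCompletion I N)) z fun n => SModEq.zero.2 ?_
    obtain ⟨y, hy⟩ := hdense n z
    have h1 := hΦmem n _ hy
    rw [map_sub, hz, zero_sub, map_neg, neg_eq_zero, hΦ, AdicCompletion.eval_of, Submodule.mkQ_apply,
      Submodule.Quotient.mk_eq_zero] at h1
    have h2 := Submodule.mem_map_of_mem (f := f) h1
    rw [Submodule.map_smul''] at h2
    simpa using add_mem hy (Submodule.smul_mono le_rfl le_top h2)
  have hsurj : Function.Surjective Φ := fun c => by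
    choose y hy using fun n => Submodule.mkQ_surjective _ (AdicCompletion.eval I (M ⊗[A] N) n c)
    obtain ⟨z, hz⟩ := IsPrecomplete.prec (inferInstance : IsPrecomplete I (M ⊗[A] AdicCompletion I N))
      (f := fun n => f (y n)) fun {m n} hmn => SModEq.sub_mem.2 (by
        have h1 : y m - y n ∈ (I ^ m • ⊤ : Submodule A (M ⊗[A] N)) := by
          rw [← Submodule.Quotient.eq, ← Submodule.mkQ_apply, ← Submodule.mkQ_apply, hy,
            AdicCompletion.eval_apply, ← c.2 hmn]
          rw [← AdicCompletion.eval_apply, ← hy n]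
          rfl
        have h2 := Submodule.mem_map_of_mem (f := f) h1
        rw [Submodule.map_smul'', map_sub] at h2
        exact Submodule.smul_mono le_rfl le_top h2)
    refine ⟨z, AdicCompletion.ext fun n => ?_⟩
    have h1 := hΦmem n _ (SModEq.sub_mem.1 (hz n))
    rw [map_sub, map_sub, sub_eq_zero, hΦ, AdicCompletion.eval_of, hy] at h1
    exact h1.symm
  exact ⟨LinearEquiv.ofBijective Φ ⟨hinj, hsurj⟩, hΦ⟩

/-- Maps from `P ⊗ N` to derived complete objects extend uniquely to `P ⊗ N'`. -/
lemma bijective_map (P : DRing.Cx A) (hP : DRingLTensor.IsKF P) (hflat : ∀ n, Module.Flat A (P.X n))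
    {N N' : ModuleCat.{u} A} [Module.Flat A N] [Module.Flat A N'] (ν : N ⟶ N')
    (hν : IsIso (ν ▷ ModuleCat.of A (A ⧸ I)))
    (Z : Dual.D A) (hZ : DRing.IsDerivedComplete I Z) (n : ℤ) :
    Function.Bijective fun g : DerivedCategory.Q.obj ((G P).obj N') ⟶ Z⟦n⟧ =>
      DerivedCategory.Q.map ((G P).map ν) ≫ g := by
  have hfg : I.FG := IsNoetherian.noetherian _
  obtain ⟨s, hs⟩ := hfg
  let φ := (G P).map ν
  let C := CochainComplex.mappingCone φ
  have hKF : ∀ W : ModuleCat.{u} A, Module.Flat A W → DRingLTensor.IsKF ((G P).obj W) := by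
    intro W hW
    have hsgl : DRingLTensor.IsKF (TorBalance.sgl W) := by
      refine KFlatLib.kFlat_of_termwiseFlat (b := 0) (fun k => ?_) fun i hi =>
        HomologicalComplex.isZero_single_obj_X _ _ _ _ (by omega)
      rcases eq_or_ne k 0 with rfl | hk
      · exact Module.Flat.of_linearEquiv
          (HomologicalComplex.singleObjXSelf (ComplexShape.up ℤ) 0 W).toLinearEquiv
      · have hs0 : Subsingleton ((TorBalance.sgl W).X k) := ModuleCat.subsingleton_of_isZero
          (HomologicalComplex.isZero_single_obj_X (ComplexShape.up ℤ) 0 W k hk)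
        exact @Module.Flat.of_free _ _ _ _ _ (@Module.Free.of_subsingleton _ _ _ _ _ hs0)
    exact KFlatLib.KFlat.of_iso ((TorBalance.sglRightIso W).app P) (KFlatLib.kFlat_tensor hP hsgl)
  have hC : DRingLTensor.IsKF C := KFlatLib.kFlat_cone φ (hKF N inferInstance) (hKF N' inferInstance)
  have hCflat : ∀ k, Module.Flat A (C.X k) := fun k => by
    haveI := hflat k
    haveI := hflat (k + 1)
    exact (KFlatLib.ringCover A).of_iso
      (HomologicalComplex.homotopyCofiber.XIsoBiprod φ k (k + 1) rfl).symm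
      ((KFlatLib.ringCover A).biprod _ _ (inferInstanceAs (Module.Flat A (TensorProduct A (P.X (k + 1)) N)))
        (inferInstanceAs (Module.Flat A (TensorProduct A (P.X k) N'))))
  let T := tensorRight (ModuleCat.of A (A ⧸ I))
  have hac : ((G C).obj (ModuleCat.of A (A ⧸ I))).Acyclic := by
    haveI : IsIso ((T.mapHomologicalComplex (ComplexShape.up ℤ)).map φ) := by
      haveI : ∀ k, IsIso (((T.mapHomologicalComplex (ComplexShape.up ℤ)).map φ).f k) := fun k => by
        show IsIso ((P.X k ◁ ν) ▷ (ModuleCat.of A (A ⧸ I)))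
        haveI := hν
        rw [MonoidalCategory.whisker_assoc]
        infer_instance
      exact HomologicalComplex.Hom.isIso_of_components _
    have hzero : IsZero (DerivedCategory.Q.obj
        (CochainComplex.mappingCone ((T.mapHomologicalComplex (ComplexShape.up ℤ)).map φ))) :=
      (Triangle.isZero₃_iff_isIso₁ _ (DerivedCategory.mappingCone_triangle_distinguished _)).2
        (inferInstanceAs (IsIso (DerivedCategory.Q.map ((T.mapHomologicalComplex (ComplexShape.up ℤ)).map φ))))
    intro i
    refine HomologicalComplex.ExactAt.of_iso ?_ (CochainComplex.mappingCone.mapHomologicalComplexIso φ T).symm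
    exact (HomologicalComplex.exactAt_iff_isZero_homology _ i).2
      (((DerivedCategory.homologyFunctor (ModuleCat.{u} A) i).map_isZero hzero).of_iso
        ((DerivedCategory.homologyFunctorFactors (ModuleCat.{u} A) i).app _).symm)
  let eC : (G C).obj (𝟙_ (ModuleCat.{u} A)) ≅ C :=
    HomologicalComplex.Hom.isoOfComponents (fun m => ρ_ (C.X m))
      (fun i j _ => (MonoidalCategory.rightUnitor_naturality (C.d i j)).symm)
  have hl : I ≤ Ideal.ofList (s.toList ++ []) := by
    refine le_of_eq (hs.symm.trans (congrArg Ideal.span ?_))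
    ext; simp
  have ho : LOrth Z (DerivedCategory.Q.obj C) :=
    lOrth_of_complete I s.toList (fun f hf => hs ▸ Ideal.subset_span (Finset.mem_toList.1 hf))
      (fun X hX => lOrth_iso (DerivedCategory.Q.mapIso eC)
        (lOrth_GD I hC hCflat hac s.toList [] hl (𝟙_ (ModuleCat.{u} A)) X
          (fun f hf => absurd hf List.not_mem_nil) hX))
      s.toList [] _ (fun f => by simp) hZ (fun f hf => absurd hf List.not_mem_nil)
  have hT := DerivedCategory.mappingCone_triangle_distinguished φ
  refine ⟨fun g g' hg => sub_eq_zero.1 (lOrth_mor₁ _ hT ho (n := n) ?_), fun x => ?_⟩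
  · show DerivedCategory.Q.map φ ≫ (g - g') = 0
    rw [Preadditive.comp_sub, sub_eq_zero]
    exact hg
  · obtain ⟨y, hy⟩ := Triangle.yoneda_exact₂ _ (inv_rot_of_distTriang _ hT) x
      ((lOrth_shift ho (-1) n).elim _ _)
    exact ⟨y, hy.symm⟩

/-- The derived completion of a finite module tensored with a flat module. -/
theorem derivedCompletion_tensor [DRing.HasDerivedCompletion I]
    (M N : Type u) [AddCommGroup M] [Module A M] [Module.Finite A M] [AddCommGroup N] [Module A N] [Module.Flat A N] :
    (∀ i : ℤ, i ≠ 0 → Subsingleton (Dual.HD A ((DRing.derivedCompletion I).obj (Dual.inD A (M ⊗[A] N))).obj i)) ∧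
      ∃ e : Dual.HD A ((DRing.derivedCompletion I).obj (Dual.inD A (M ⊗[A] N))).obj 0 ≃ₗ[A]
          AdicCompletion I (M ⊗[A] N),
        ∀ x : M ⊗[A] N,
          e ((((DerivedCategory.singleFunctorCompHomologyFunctorIso (ModuleCat.{u} A) 0).inv.app
                (ModuleCat.of A (M ⊗[A] N))) ≫
              (DerivedCategory.homologyFunctor (ModuleCat.{u} A) 0).map
                (DRing.toDerivedCompletion I (Dual.inD A (M ⊗[A] N)))).hom x) =
            AdicCompletion.of I (M ⊗[A] N) x := by
  have hfg : I.FG := IsNoetherian.noetherian _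
  haveI : Module.Flat (A ⧸ I) (N ⧸ (I • ⊤ : Submodule A N)) :=
    Module.Flat.of_linearEquiv ((TensorProduct.quotTensorEquivQuotSMul N I).extendScalarsOfSurjective
      Ideal.Quotient.mk_surjective).symm
  haveI : Module.Flat (AdicCompletion I A) (AdicCompletion I N) := by
    refine CAlgOdd.FlatCompletion.flat_completion I hfg ?_
    have h : TensorProduct.lift ((LinearMap.lsmul A N).comp (Submodule.subtype I)) =
        (TensorProduct.lid A N).toLinearMap ∘ₗ I.subtype.rTensor N := TensorProduct.ext' fun a m => by simp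
    rw [h, LinearMap.coe_comp]
    exact (TensorProduct.lid A N).injective.comp
      (Module.Flat.rTensor_preserves_injective_linearMap _ (Submodule.subtype_injective I))
  haveI hNflat : Module.Flat A (AdicCompletion I N) := Module.Flat.trans A (AdicCompletion I A) _
  let N₀ : ModuleCat.{u} A := ModuleCat.of A N
  let N₁ : ModuleCat.{u} A := ModuleCat.of A (AdicCompletion I N)
  let ν : N₀ ⟶ N₁ := ModuleCat.ofHom (AdicCompletion.of I N)
  have hν : IsIso (ν ▷ ModuleCat.of A (A ⧸ I)) := by
    have hker : (I • ⊤ : Submodule A (AdicCompletion I N)) = LinearMap.ker (AdicCompletion.eval I N 1) := by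
      rw [← AdicCompletion.pow_smul_top_eq_ker_eval hfg, pow_one]
    refine (ConcreteCategory.isIso_iff_bijective _).2
      (bijective_rTensor_quotient I (AdicCompletion.of I N) (fun x hx => ?_) fun y => ?_)
    · rw [hker, LinearMap.mem_ker] at hx
      have := (Submodule.Quotient.mk_eq_zero _).1 hx
      simpa using this
    · obtain ⟨x, hx⟩ := Submodule.Quotient.mk_surjective _ (AdicCompletion.eval I N 1 y)
      refine ⟨x, ?_⟩
      rw [hker, LinearMap.mem_ker, map_sub, sub_eq_zero]
      exact hx.symm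
  obtain ⟨P, hP, hflat, ⟨eP⟩⟩ := DRingLTensor.exists_rep (Dual.inD A M)
  let H := DerivedCategory.homologyFunctor (ModuleCat.{u} A)
  have hPz : ∀ i, i ≠ 0 → IsZero (P.homology i) := fun i hi =>
    IsZero.of_iso ((lt_or_gt_of_ne hi).elim
        (fun h => (DerivedCategory.isGE_iff ((DerivedCategory.singleFunctor (ModuleCat.{u} A) 0).obj (ModuleCat.of A M)) 0).1
          inferInstance i h)
        (fun h => (DerivedCategory.isLE_iff ((DerivedCategory.singleFunctor (ModuleCat.{u} A) 0).obj (ModuleCat.of A M)) 0).1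
          inferInstance i h))
      (((DerivedCategory.homologyFunctorFactors (ModuleCat.{u} A) i).app P).symm ≪≫ (H i).mapIso eP)
  let eM : P.homology 0 ≅ ModuleCat.of A M :=
    ((DerivedCategory.homologyFunctorFactors (ModuleCat.{u} A) 0).app P).symm ≪≫ (H 0).mapIso eP ≪≫
      (DerivedCategory.singleFunctorCompHomologyFunctorIso (ModuleCat.{u} A) 0).app (ModuleCat.of A M)
  haveI : Module.Finite A (P.homology 0) := Module.Finite.equiv eM.toLinearEquiv.symm
  haveI := KFlatLib.preservesFiniteLimits_tensorRight N₀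
  haveI := KFlatLib.preservesFiniteLimits_tensorRight N₁
  haveI : (tensorRight N₀).PreservesHomology := (tensorRight N₀).preservesHomologyOfExact
  haveI : (tensorRight N₁).PreservesHomology := (tensorRight N₁).preservesHomologyOfExact
  let F₀ : ∀ i, (H i).obj (DerivedCategory.Q.obj ((G P).obj N₀)) ≅ P.homology i ⊗ N₀ := fun i =>
    (DerivedCategory.homologyFunctorFactors (ModuleCat.{u} A) i).app _ ≪≫ (P.sc i).mapHomologyIso (tensorRight N₀)
  let F₁ : ∀ i, (H i).obj (DerivedCategory.Q.obj ((G P).obj N₁)) ≅ P.homology i ⊗ N₁ := fun i =>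
    (DerivedCategory.homologyFunctorFactors (ModuleCat.{u} A) i).app _ ≪≫ (P.sc i).mapHomologyIso (tensorRight N₁)
  have hnat : ∀ i, (H i).map (DerivedCategory.Q.map ((G P).map ν)) ≫ (F₁ i).hom =
      (F₀ i).hom ≫ P.homology i ◁ ν := by
    intro i
    have key := NatTrans.app_homology ((tensoringRight (ModuleCat.{u} A)).map ν) (P.sc i)
    simp only [F₀, F₁, Iso.trans_hom, Iso.app_hom, assoc]
    erw [(DerivedCategory.homologyFunctorFactors (ModuleCat.{u} A) i).hom.naturality_assoc ((G P).map ν)]
    congr 1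
    show ShortComplex.homologyMap ((P.sc i).mapNatTrans ((tensoringRight (ModuleCat.{u} A)).map ν)) ≫ _ =
      _ ≫ ((tensoringRight (ModuleCat.{u} A)).map ν).app (P.sc i).homology
    rw [key]
    exact (Iso.hom_inv_id_assoc _ _).symm
  have hz₀ : ∀ i, i ≠ 0 → IsZero ((H i).obj (DerivedCategory.Q.obj ((G P).obj N₀))) := fun i hi =>
    ((tensorRight N₀).map_isZero (hPz i hi)).of_iso (F₀ i)
  have hz₁ : ∀ i, i ≠ 0 → IsZero ((H i).obj (DerivedCategory.Q.obj ((G P).obj N₁))) := fun i hi =>
    ((tensorRight N₁).map_isZero (hPz i hi)).of_iso (F₁ i)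
  let T₀ := DerivedCategory.Q.obj ((G P).obj N₀)
  haveI : T₀.IsGE 0 := (DerivedCategory.isGE_iff _ _).2 fun i hi => hz₀ i (by omega)
  haveI : T₀.IsLE 0 := (DerivedCategory.isLE_iff _ _).2 fun i hi => hz₀ i (by omega)
  obtain ⟨Y, ⟨e0⟩⟩ := DerivedCategory.exists_iso_singleFunctor_obj_of_isGE_of_isLE T₀ 0
  let X : ModuleCat.{u} A := ModuleCat.of A (M ⊗[A] N)
  let eX : Y ≅ X := ((DerivedCategory.singleFunctorCompHomologyFunctorIso (ModuleCat.{u} A) 0).app Y).symm ≪≫
    (H 0).mapIso e0.symm ≪≫ F₀ 0 ≪≫
    (LinearEquiv.rTensor N eM.toLinearEquiv).toModuleIso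
  let ε : Dual.inD A (M ⊗[A] N) ≅ T₀ :=
    (DerivedCategory.singleFunctor (ModuleCat.{u} A) 0).mapIso eX.symm ≪≫ e0.symm
  let L := DerivedCategory.Q.obj ((G P).obj N₁)
  let u : Dual.inD A (M ⊗[A] N) ⟶ L := ε.hom ≫ DerivedCategory.Q.map ((G P).map ν)
  obtain ⟨eΦ, heΦ⟩ := exists_equiv_completion I (P.homology 0) N
  have hL : DRing.IsDerivedComplete I L := by
    refine (DRingTel.isDerivedComplete_iff I L).2 fun f hf i => ?_
    rcases eq_or_ne i 0 with rfl | hi
    · haveI := AdicCompletion.isAdicComplete (R := A) (M := (P.homology 0 : Type u) ⊗[A] N) hfg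
      exact TBMod.TBm.of_equiv ((F₁ 0).toLinearEquiv ≪≫ₗ eΦ).symm (TBMod.tbm_of_isAdicComplete I hf)
    · haveI := ModuleCat.subsingleton_of_isZero (hz₁ i hi)
      haveI : IsAdicComplete I (Dual.HD A L i) := inferInstance
      exact TBMod.tbm_of_isAdicComplete I hf
  have hu : DRingCompl.Refl (DRing.IsDerivedComplete I) u := ⟨hL, fun Z hZ m => by
    have hb := bijective_map I P hP hflat ν hν Z hZ m
    have hfun : (fun g : L ⟶ Z⟦m⟧ => u ≫ g) =
        (fun g => ε.hom ≫ g) ∘ fun g => DerivedCategory.Q.map ((G P).map ν) ≫ g :=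
      funext fun g => assoc _ _ _
    rw [hfun]
    exact (Function.Bijective.comp ⟨fun g g' h => (cancel_epi ε.hom).1 h,
      fun g => ⟨ε.inv ≫ g, ε.hom_inv_id_assoc g⟩⟩ hb)⟩
  obtain ⟨ec, hec⟩ := ComplFinite.exists_iso_of_refl I (DRingCompl.refl_unit (I := I) _) hu
  refine ⟨fun i hi => ?_, ?_⟩
  · exact ModuleCat.subsingleton_of_isZero ((hz₁ i hi).of_iso ((H i).mapIso ec))
  let a : X ≅ ModuleCat.of A ((P.homology 0 : Type u) ⊗[A] N) :=
    ((DerivedCategory.singleFunctorCompHomologyFunctorIso (ModuleCat.{u} A) 0).app X).symm ≪≫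
      (H 0).mapIso ε ≪≫ F₀ 0
  refine ⟨((H 0).mapIso ec).toLinearEquiv ≪≫ₗ (F₁ 0).toLinearEquiv ≪≫ₗ eΦ ≪≫ₗ
    (AdicCompletion.congr I a.toLinearEquiv.symm).restrictScalars A, fun x => ?_⟩
  have h1 : (DerivedCategory.singleFunctorCompHomologyFunctorIso (ModuleCat.{u} A) 0).inv.app X ≫
      (H 0).map (DRing.toDerivedCompletion I (Dual.inD A (M ⊗[A] N))) ≫ (H 0).map ec.hom ≫ (F₁ 0).hom =
      a.hom ≫ P.homology 0 ◁ ν := by
    rw [← Functor.map_comp_assoc]
    erw [hec]
    simp only [u, a, Functor.map_comp, assoc, hnat, Iso.trans_hom, Iso.symm_hom, Iso.app_inv, Functor.mapIso_hom]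
  have h2 := LinearMap.congr_fun (congrArg ModuleCat.Hom.hom h1) x
  show AdicCompletion.congr I a.toLinearEquiv.symm (eΦ ((F₁ 0).hom.hom (((H 0).map ec.hom).hom _))) = _
  erw [h2]
  show AdicCompletion.congr I a.toLinearEquiv.symm (eΦ ((AdicCompletion.of I N).lTensor (P.homology 0) (a.hom.hom x))) = _
  rw [heΦ]
  refine (AdicCompletion.map_of I _ _).trans ?_
  exact congrArg _ (a.toLinearEquiv.symm_apply_apply x)

end Groth.Agent.PushAmp.ComplFlat
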