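import Groth.Agent.TriCat.DerivedProducts
import Groth.Agent.SiteCmpLib.Rlim
import Groth.Prelude.Def_DCoh2

/-!
# Countable products and right derived functors
-/

set_option autoImplicit false
set_option linter.style.haveILetI false
set_option backward.isDefEq.respectTransparency false

universe t w v v' u u'

open CategoryTheory CategoryTheory.Category CategoryTheory.Limits

noncomputable section

namespace Groth.Agent.PushAmp.DerivedProdExact

variable {A : Type u} [Category.{v} A] [Abelian A] {J : Type t} [HasLimitsOfShape (Discrete J) A]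

/-- The quotient functor to the homotopy category preserves products. -/
lemma preservesLimit_quotient (L : J → CochainComplex A ℤ) :
    PreservesLimit (Discrete.functor L) (HomotopyCategory.quotient A (ComplexShape.up ℤ)) := by
  let q := HomotopyCategory.quotient A (ComplexShape.up ℤ)
  refine preservesLimit_of_preserves_limit_cone (productIsProduct L) ((Fan.isLimitMapConeEquiv q _ _).symm ?_)
  have hlift : ∀ (s : Fan fun j => q.obj (L j)), ∃ l : s.pt ⟶ q.obj (∏ᶜ L),
      (∀ j, l ≫ q.map (Pi.π L j) = s.proj j) ∧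
        ∀ m : s.pt ⟶ q.obj (∏ᶜ L), (∀ j, m ≫ q.map (Pi.π L j) = s.proj j) → m = l := by
    rintro s
    obtain ⟨K, hK⟩ := HomotopyCategory.quotient_obj_surjective s.pt
    let e : q.obj K ≅ s.pt := eqToIso hK
    choose f hf using fun j => q.map_surjective (e.hom ≫ s.proj j)
    refine ⟨e.inv ≫ q.map (Pi.lift f), fun j => ?_, fun m hm => ?_⟩
    · rw [assoc, ← q.map_comp, Pi.lift_π, hf, e.inv_hom_id_assoc]
    · obtain ⟨g, hg⟩ := q.map_surjective (e.hom ≫ m)
      rw [Iso.eq_inv_comp, ← hg]
      refine TriCat.quotient_hom_ext_pi _ _ fun j => ?_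
      show q.map _ = q.map _
      rw [q.map_comp, hg, Pi.lift_π, hf, assoc, hm]
  exact Fan.IsLimit.mk _ (fun s => (hlift s).choose) (fun s j => (hlift s).choose_spec.1 j)
    (fun s m hm => (hlift s).choose_spec.2 m hm)

section exact

variable [HasExactLimitsOfShape (Discrete J) A]

/-- Products of quasi-isomorphisms are quasi-isomorphisms. -/
lemma quasiIso_piMap {K L : J → CochainComplex A ℤ} (s : ∀ j, K j ⟶ L j)
    (hs : ∀ j, QuasiIso (s j)) : QuasiIso (Limits.Pi.map s) := by
  refine ⟨fun i => ?_⟩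
  let X : (J → CochainComplex A ℤ) → ℤ → (Discrete J ⥤ A) := fun M n =>
    Discrete.functor fun j => (M j).X n
  let d : ∀ (M : J → CochainComplex A ℤ) (m n : ℤ), X M m ⟶ X M n := fun M m n =>
    Discrete.natTrans fun j => (M j.as).d m n
  let i₀ := (ComplexShape.up ℤ).prev i
  let i₁ := (ComplexShape.up ℤ).next i
  let S : (J → CochainComplex A ℤ) → ShortComplex (Discrete J ⥤ A) := fun M =>
    ShortComplex.mk (d M i₀ i) (d M i i₁) (by ext ⟨j⟩; exact (M j).d_comp_d _ _ _)
  let φ : S K ⟶ S L :=
    { τ₁ := Discrete.natTrans fun j => (s j.as).f i₀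
      τ₂ := Discrete.natTrans fun j => (s j.as).f i
      τ₃ := Discrete.natTrans fun j => (s j.as).f i₁
      comm₁₂ := by ext ⟨j⟩; exact (s j).comm _ _
      comm₂₃ := by ext ⟨j⟩; exact (s j).comm _ _ }
  have hφ : ShortComplex.QuasiIso φ := by
    rw [ShortComplex.quasiIso_iff]
    have : ∀ j, IsIso ((ShortComplex.homologyMap φ).app j) := by
      rintro ⟨j⟩
      let E := (evaluation (Discrete J) A).obj ⟨j⟩
      have h1 : IsIso (ShortComplex.homologyMap (E.mapShortComplex.map φ)) := by
        rw [← ShortComplex.quasiIso_iff]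
        exact ((quasiIsoAt_iff (s j) i).1 ((hs j).quasiIsoAt i))
      have h2 := ShortComplex.mapHomologyIso_hom_naturality φ E
      show IsIso (E.map (ShortComplex.homologyMap φ))
      have h3 : IsIso (((S K).mapHomologyIso E).hom ≫ E.map (ShortComplex.homologyMap φ)) := by
        rw [← h2]; exact IsIso.comp_isIso' h1 inferInstance
      exact IsIso.of_isIso_comp_left ((S K).mapHomologyIso E).hom _
    exact NatIso.isIso_of_isIso_app _
  have hc : ShortComplex.QuasiIso ((lim (J := Discrete J) (C := A)).mapShortComplex.map φ) :=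
    ShortComplex.quasiIso_map_of_preservesLeftHomology _ φ
  have iso : ∀ (M : J → CochainComplex A ℤ) (n : ℤ), IsIso (limit.lift (X M n)
      (Fan.mk _ fun j => (Pi.π M j).f n)) := fun M n =>
    inferInstanceAs (IsIso (piComparison (HomologicalComplex.eval A (ComplexShape.up ℤ) n) M))
  let eX : ∀ (M : J → CochainComplex A ℤ) (n : ℤ), (∏ᶜ M).X n ≅ limit (X M n) :=
    fun M n => @asIso _ _ _ _ _ (iso M n)
  have hX : ∀ (M : J → CochainComplex A ℤ) (n : ℤ) (j : J),
      (eX M n).hom ≫ limit.π (X M n) ⟨j⟩ = (Pi.π M j).f n := fun M n j => limit.lift_π _ _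
  have hd : ∀ (M : J → CochainComplex A ℤ) (m n : ℤ),
      (eX M m).hom ≫ limMap (d M m n) = (∏ᶜ M).d m n ≫ (eX M n).hom := fun M m n => by
    refine limit.hom_ext fun ⟨j⟩ => ?_
    rw [assoc, assoc, hX, limMap_π, reassoc_of% hX, ← HomologicalComplex.Hom.comm]
    rfl
  have hsX : ∀ n : ℤ, (eX K n).hom ≫ limMap (Discrete.natTrans fun j => (s j.as).f n : X K n ⟶ X L n) =
      (Limits.Pi.map s).f n ≫ (eX L n).hom := fun n => by
    refine limit.hom_ext fun ⟨j⟩ => ?_
    rw [assoc, assoc, hX, limMap_π, reassoc_of% hX, ← HomologicalComplex.comp_f, Limits.Pi.map_π,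
      HomologicalComplex.comp_f]
    rfl
  let e : ∀ (M : J → CochainComplex A ℤ), (∏ᶜ M).sc i ≅ lim.mapShortComplex.obj (S M) := fun M =>
    ShortComplex.isoMk (eX M i₀) (eX M i) (eX M i₁) (hd M i₀ i) (hd M i i₁)
  rw [quasiIsoAt_iff]
  have sq : (e K).hom ≫ lim.mapShortComplex.map φ =
      (HomologicalComplex.shortComplexFunctor A (ComplexShape.up ℤ) i).map (Limits.Pi.map s) ≫ (e L).hom := by
    ext1
    · exact hsX i₀
    · exact hsX i
    · exact hsX i₁
  have : ShortComplex.QuasiIso ((HomologicalComplex.shortComplexFunctor A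
      (ComplexShape.up ℤ) i).map (Limits.Pi.map s) ≫ (e L).hom) := sq ▸ inferInstance
  exact (ShortComplex.quasiIso_iff_comp_right _ (e L).hom).1 this

variable [HasDerivedCategory.{w} A]

/-- `Q` preserves exact products. -/
lemma preservesLimit_Q (K : J → CochainComplex A ℤ) :
    PreservesLimit (Discrete.functor K) (DerivedCategory.Q : CochainComplex A ℤ ⥤ DerivedCategory A) := by
  let Q : CochainComplex A ℤ ⥤ DerivedCategory A := DerivedCategory.Q
  let q := HomotopyCategory.quotient A (ComplexShape.up ℤ)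
  let Qh : HomotopyCategory A (ComplexShape.up ℤ) ⥤ DerivedCategory A := DerivedCategory.Qh
  have hlift : ∀ {T : DerivedCategory A} (k : ∀ j, T ⟶ Q.obj (K j)),
      ∃ d : T ⟶ Q.obj (∏ᶜ K), ∀ j, d ≫ Q.map (Pi.π K j) = k j := by
    intro T k
    let eT := Q.objObjPreimageIso T
    choose Z g s hs hg using fun j => DerivedCategory.left_fac (eT.hom ≫ k j)
    have hs' : ∀ j, QuasiIso (s j) := fun j => (DerivedCategory.isIso_Q_map_iff_quasiIso _ _).1 (hs j)
    have : IsIso (Q.map (Limits.Pi.map s)) := (DerivedCategory.isIso_Q_map_iff_quasiIso _ _).2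
      (quasiIso_piMap s hs')
    refine ⟨eT.inv ≫ Q.map (Pi.lift g) ≫ inv (Q.map (Limits.Pi.map s)), fun j => ?_⟩
    have : IsIso (Q.map (s j)) := hs j
    rw [← cancel_mono (Q.map (s j)), assoc, assoc, assoc, ← Q.map_comp, ← Limits.Pi.map_π s j, Q.map_comp,
      IsIso.inv_hom_id_assoc, ← Q.map_comp, Pi.lift_π]
    have h := congrArg (fun m => eT.inv ≫ m ≫ Q.map (s j)) (hg j)
    simp only [assoc, Iso.inv_hom_id_assoc] at h
    rw [h]
    erw [IsIso.inv_hom_id, comp_id]
  have huniq : ∀ {T : DerivedCategory A} (g : T ⟶ Q.obj (∏ᶜ K)), (∀ j, g ≫ Q.map (Pi.π K j) = 0) → g = 0 := by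
    intro T g hg
    let eT := Q.objObjPreimageIso T
    obtain ⟨X', r, hr, f, hf⟩ := DerivedCategory.right_fac (eT.hom ≫ g)
    have hf0 : ∀ j, Q.map (f ≫ Pi.π K j) = 0 := fun j => by
      have : IsIso (Q.map r) := hr
      have h := congrArg (fun m => m ≫ Q.map (Pi.π K j)) hf
      simp only [assoc, hg j, comp_zero] at h
      rw [Q.map_comp, ← cancel_epi (inv (Q.map r)), comp_zero]
      exact h.symm
    have ht : ∀ j, ∃ (Y' : CochainComplex A ℤ) (t : K j ⟶ Y'), QuasiIso t ∧ q.map (f ≫ Pi.π K j ≫ t) = q.map 0 := by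
      intro j
      have h : Qh.map (q.map (f ≫ Pi.π K j)) = Qh.map (q.map 0) := by
        refine ((DerivedCategory.quotientCompQhIso A).app X').cancel_iso_inv_left _ _ |>.1 ?_
        rw [← cancel_mono ((DerivedCategory.quotientCompQhIso A).app (K j)).hom, assoc, assoc]
        simp only [Iso.app_hom, Iso.app_inv]
        erw [(DerivedCategory.quotientCompQhIso A).hom.naturality (f ≫ Pi.π K j),
          (DerivedCategory.quotientCompQhIso A).hom.naturality (0 : X' ⟶ K j)]
        simp [Q, hf0 j]
      obtain ⟨Y', t, ht, hcomp⟩ := (MorphismProperty.map_eq_iff_postcomp Qh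
        (HomotopyCategory.quasiIso A (ComplexShape.up ℤ)) _ _).1 h
      obtain ⟨Y', rfl⟩ := HomotopyCategory.quotient_obj_surjective Y'
      obtain ⟨t, rfl⟩ := q.map_surjective t
      rw [HomotopyCategory.quotient_map_mem_quasiIso_iff] at ht
      refine ⟨Y', t, ht, ?_⟩
      rw [← assoc, q.map_comp, hcomp, ← q.map_comp, zero_comp]
    choose Y' t ht hcomp using ht
    have h0 : q.map (f ≫ Limits.Pi.map t) = q.map 0 := by
      refine TriCat.quotient_hom_ext_pi _ _ fun j => ?_
      rw [assoc, Limits.Pi.map_π, zero_comp]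
      exact hcomp j
    have hQ : Q.map (f ≫ Limits.Pi.map t) = 0 := by
      have h1 := congrArg (fun m => Qh.map m) h0
      rw [← cancel_epi ((DerivedCategory.quotientCompQhIso A).hom.app X'), comp_zero]
      erw [← (DerivedCategory.quotientCompQhIso A).hom.naturality]
      show Qh.map (q.map (f ≫ Limits.Pi.map t)) ≫ _ = 0
      rw [h0, q.map_zero, Functor.map_zero, zero_comp]
    have : IsIso (Q.map (Limits.Pi.map t)) := (DerivedCategory.isIso_Q_map_iff_quasiIso _ _).2
      (quasiIso_piMap t ht)
    have hQf : Q.map f = 0 := by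
      rw [← cancel_mono (Q.map (Limits.Pi.map t)), zero_comp, ← Q.map_comp]
      exact hQ
    rw [← cancel_epi eT.hom, hf, comp_zero]
    erw [hQf, comp_zero]
  refine preservesLimit_of_preserves_limit_cone (productIsProduct K) ((Fan.isLimitMapConeEquiv Q _ _).symm ?_)
  exact Fan.IsLimit.mk _ (fun s => (hlift s.proj).choose) (fun s j => (hlift s.proj).choose_spec j)
    (fun s m hm => sub_eq_zero.1 (huniq _ fun j => by
      rw [Preadditive.sub_comp, sub_eq_zero]
      exact (hm j).trans ((hlift s.proj).choose_spec j).symm))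

end exact

section derived

variable {B : Type u'} [Category.{v'} B] [Abelian B] [HasLimitsOfShape (Discrete J) B]
  [HasExactLimitsOfShape (Discrete J) B] [HasDerivedCategory.{w} B]
  (F : A ⥤ B) [F.Additive] [PreservesLimitsOfShape (Discrete J) F]

/-- The composite with localization preserves products. -/
lemma preservesLimitsOfShape_mapQh :
    PreservesLimitsOfShape (Discrete J) (F.mapHomotopyCategory (ComplexShape.up ℤ) ⋙ DerivedCategory.Qh) := by
  refine ⟨fun {Φ} => ?_⟩
  let q := HomotopyCategory.quotient A (ComplexShape.up ℤ)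
  let L : J → CochainComplex A ℤ := fun j => (Φ.obj ⟨j⟩).as
  let G := F.mapHomotopyCategory (ComplexShape.up ℤ) ⋙ DerivedCategory.Qh
  have : PreservesLimitsOfShape (Discrete J) (F.mapHomologicalComplex (ComplexShape.up ℤ)) :=
    HomologicalComplex.preservesLimitsOfShape_of_eval _ fun n =>
      inferInstanceAs (PreservesLimitsOfShape (Discrete J) (HomologicalComplex.eval A _ n ⋙ F))
  haveI := preservesLimit_quotient (A := A) L
  haveI h2 : PreservesLimit (Discrete.functor L ⋙ F.mapHomologicalComplex (ComplexShape.up ℤ))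
      (DerivedCategory.Q : CochainComplex B ℤ ⥤ DerivedCategory B) := by
    haveI := preservesLimit_Q (fun j => (F.mapHomologicalComplex (ComplexShape.up ℤ)).obj (L j))
    exact preservesLimit_of_iso_diagram _ (Discrete.natIso fun _ => Iso.refl _ :
      Discrete.functor (fun j => (F.mapHomologicalComplex (ComplexShape.up ℤ)).obj (L j)) ≅
        Discrete.functor L ⋙ F.mapHomologicalComplex (ComplexShape.up ℤ))
  let iso : F.mapHomologicalComplex (ComplexShape.up ℤ) ⋙ DerivedCategory.Q ≅ q ⋙ G :=
    Functor.isoWhiskerLeft _ (DerivedCategory.quotientCompQhIso B).symm ≪≫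
      (Functor.associator _ _ _).symm ≪≫
      Functor.isoWhiskerRight (F.mapHomotopyCategoryFactors (ComplexShape.up ℤ)).symm _ ≪≫ Functor.associator _ _ _
  haveI : PreservesLimit (Discrete.functor L) (q ⋙ G) := preservesLimit_of_natIso _ iso
  haveI : PreservesLimit (Discrete.functor L ⋙ q) G :=
    preservesLimit_of_preserves_limit_cone (isLimitOfPreserves q (productIsProduct L))
      (isLimitOfPreserves (q ⋙ G) (productIsProduct L))
  exact preservesLimit_of_iso_diagram _ (Discrete.natIso fun _ => Iso.refl _ : Discrete.functor L ⋙ q ≅ Φ)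

end derived

end Groth.Agent.PushAmp.DerivedProdExact
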