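import Groth.Agent.PushAmp.FibreStalk
import Groth.Agent.PushAmp.RelFlatRep
import Groth.Agent.PushAmp.OverBaseLoc
import Groth.Agent.PushAmp.FinitePC
import Groth.Agent.PushAmp.TildeTor
import Groth.Agent.KFlatLib.Scheme.PCQCoh
import Mathlib.AlgebraicGeometry.Morphisms.FinitePresentation

/-!
# Relative perfection of complexes on schemes, through their fibres
-/

set_option autoImplicit false
set_option linter.style.haveILetI false
set_option backward.isDefEq.respectTransparency false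
set_option backward.isDefEq.respectTransparency.types false

universe u

open CategoryTheory CategoryTheory.Limits AlgebraicGeometry Opposite

attribute [local instance] HasDerivedCategory.standard

namespace Groth.Agent.PushAmp

open Groth.Agent.KFlatLib H9Misc H9Misc.DRingLTensor

section Basic

variable {X : Scheme.{u}}

/-- Exactness of the stalks only depends on the class in the derived category. -/
theorem exactAt_stalkCx_of_iso {F G : CochainComplex X.Modules ℤ} (e : DCoh.toD X F ≅ DCoh.toD X G)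
    (x : X) (i : ℤ) (h : ((stalkCx x).obj F).ExactAt i) : ((stalkCx x).obj G).ExactAt i := by
  let T := DerSch.stalkFunctor X x
  let H := DerivedCategory.homologyFunctor (ModuleCat.{u} (X.presheaf.stalk x)) i
  rw [HomologicalComplex.exactAt_iff_isZero_homology] at h ⊢
  exact h.of_iso ((((DerivedCategory.homologyFunctorFactors _ i).app ((stalkCx x).obj F)).symm ≪≫
    H.mapIso ((T.mapDerivedCategoryFactors.app F).symm ≪≫ T.mapDerivedCategory.mapIso e ≪≫
      T.mapDerivedCategoryFactors.app G) ≪≫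
    (DerivedCategory.homologyFunctorFactors _ i).app ((stalkCx x).obj G)).symm)

/-- Exactness only depends on the class in the derived category. -/
theorem exactAt_of_toD_iso {F G : CochainComplex X.Modules ℤ} (e : DCoh.toD X F ≅ DCoh.toD X G)
    (i : ℤ) (h : F.ExactAt i) : G.ExactAt i :=
  (exact_iff_stalk _).2 fun x => exactAt_stalkCx_of_iso e x i ((exact_iff_stalk _).1 h x)

/-- Cohomological bounds on the restriction to an open are bounds on the stalks. -/
theorem exactAt_stalkCx_of_isGE (V : X.Opens) (F : CochainComplex X.Modules ℤ) {E : DCoh.D X}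
    (e : DCoh.toD X F ≅ E) {a : ℤ} (hV : ((rho V.ι).obj E).IsGE a) (x : X) (hx : x ∈ V) (i : ℤ) (hi : i < a) :
    ((stalkCx x).obj F).ExactAt i := by
  let v : (V : Scheme.{u}) := ⟨x, hx⟩
  let G := (rCx V.ι).obj F
  have hG : G.ExactAt i := by
    rw [HomologicalComplex.exactAt_iff_isZero_homology]
    exact ((DerivedCategory.isGE_iff _ a).1 hV i hi).of_iso
      (((DerivedCategory.homologyFunctorFactors _ i).app G).symm ≪≫
        (DerivedCategory.homologyFunctor _ i).mapIso (((rhoQ V.ι).app F).symm ≪≫ (rho V.ι).mapIso e))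
  have h1 := (exactAt_stalkCxOver_iff (V.ι ≫ 𝟙 X) G v i).2 ((exact_iff_stalk _).1 hG v)
  obtain ⟨τ⟩ := nonempty_stalkOver_iso V.ι (𝟙 X) v
  have h2 := h1.of_iso (HomologicalComplex.Hom.isoOfComponents
    (C₁ := (DerSch.stalkCxOver (V.ι ≫ 𝟙 X) v).obj G)
    (C₂ := (DerSch.stalkCxOver (𝟙 X) (V.ι.base v)).obj F)
    (fun n => τ.app (F.X n)) (fun p q _ => (τ.hom.naturality (F.d p q)).symm))
  exact (exactAt_stalkCxOver_iff (𝟙 X) F x i).1 h2

end Basic

section Affine

/-- The germ at a point of an affine open, through its chart. -/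
theorem germ_fromSpec_stalkMap {S : Scheme.{u}} {V : S.Opens} (hV : IsAffineOpen V) (y : Spec Γ(S, V))
    (hy : hV.fromSpec.base y ∈ V) :
    (hV.fromSpec.stalkMap y).hom.comp (S.presheaf.germ V (hV.fromSpec.base y) hy).hom = toStalkHom y := by
  refine congrArg CommRingCat.Hom.hom (?_ :
    S.presheaf.germ V (hV.fromSpec.base y) hy ≫ hV.fromSpec.stalkMap y =
      (Scheme.ΓSpecIso Γ(S, V)).inv ≫ (Spec Γ(S, V)).presheaf.germ ⊤ y trivial)
  rw [Scheme.Hom.germ_stalkMap, IsAffineOpen.fromSpec_app_self, Category.assoc, TopCat.Presheaf.germ_res]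

/-- The affine case of boundedness in the fibres. -/
theorem exists_amp_affine {S : Scheme.{u}} {V : S.Opens} (hV : IsAffineOpen V) {A : CommRingCat.{u}}
    (φ : Γ(S, V) ⟶ A) (hflat : φ.hom.Flat) (hfp : φ.hom.FinitePresentation)
    (G : CochainComplex (Spec A).Modules ℤ) (hG : DCoh.IsKFlat G) (Mc : DRing.Cx A)
    (eM : DCoh.toD (Spec A) (((tilde.functor A).mapHomologicalComplex (ComplexShape.up ℤ)).obj Mc) ≅
      DCoh.toD (Spec A) G)
    (hK : DRing.IsPseudoCoherent' A (DRing.toD Mc)) (a₀ : ℤ) (h0 : ∀ i < a₀, G.ExactAt i)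
    (hfib : ∀ z : Spec A, ∃ a : ℤ, ∀ i < a,
      ((extC' (IsLocalRing.residue (S.presheaf.stalk ((Spec.map φ ≫ hV.fromSpec).base z)))).obj
        ((DerSch.stalkCxOver (Spec.map φ ≫ hV.fromSpec) z).obj G)).ExactAt i) :
    ∃ a b : ℤ, DerSch.HasTorAmplitude (Spec.map φ ≫ hV.fromSpec) a b G := by
  let B : CommRingCat.{u} := Γ(S, V)
  let g := Spec.map φ ≫ hV.fromSpec
  let tM := ((tilde.functor A).mapHomologicalComplex (ComplexShape.up ℤ)).obj Mc
  letI : Algebra B A := φ.hom.toAlgebra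
  haveI : Module.Flat B A := hflat
  haveI : Algebra.FinitePresentation B A := hfp
  haveI : Flat (Spec.map φ) := (HasRingHomProperty.Spec_iff (P := @Flat)).2 hflat
  haveI : Flat g := inferInstance
  haveI : PreservesFiniteLimits (tilde.functor A) := Groth.Agent.QCoh.tilde_preservesFiniteLimits
  haveI : (tilde.functor A).Additive := tilde_additive A
  haveI : PreservesFiniteColimits (tilde.functor A) := Groth.Agent.QCoh.tilde_preservesFiniteColimits
  have hH : ∀ i < a₀, IsZero (Mc.homology i) := fun i hi => by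
    rw [← HomologicalComplex.exactAt_iff_isZero_homology]
    exact (ShortComplex.exact_map_iff_of_faithful (Mc.sc i) (tilde.functor A)).1
      (exactAt_of_toD_iso eM.symm i (h0 i hi))
  obtain ⟨a, b, h⟩ := exists_amp_of_bounded_fibres (R := B) Mc hK a₀ hH fun q _ => by
    let z : Spec A := (⟨q, inferInstance⟩ : PrimeSpectrum A)
    let y : Spec B := (Spec.map φ).base z
    have hy : hV.fromSpec.base y ∈ V := by
      have h : hV.fromSpec.base y ∈ Set.range hV.fromSpec.base := Set.mem_range_self y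
      rwa [hV.range_fromSpec] at h
    obtain ⟨a, ha⟩ := hfib z
    let Ay := (S.presheaf.stalk (g.base z) : Type u)
    let Bx := ((Spec A).presheaf.stalk z : Type u)
    letI iR : Algebra B Ay := (S.presheaf.germ V (g.base z) hy).hom.toAlgebra
    letI iA : Algebra A Bx := (toStalkHom z).toAlgebra
    haveI : IsLocalization.AtPrime Bx q := isLocalization_toStalkHom z
    haveI : IsLocalization.AtPrime Ay (q.comap (algebraMap B A)) := hV.isLocalization_stalk' y hy
    let σ : Ay →+* Bx := (g.stalkMap z).hom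
    have hσ : σ.comp (algebraMap B Ay) = (algebraMap A Bx).comp (algebraMap B A) := by
      show (g.stalkMap z).hom.comp (S.presheaf.germ V (g.base z) hy).hom = (toStalkHom z).comp φ.hom
      rw [← stalkMap_toStalkHom φ z, ← germ_fromSpec_stalkMap hV y hy, ← RingHom.comp_assoc]
      congr 1
      rw [Scheme.Hom.stalkMap_comp]
      rfl
    let N : DRing.Cx Bx := (stalkCx z).obj G
    let T := DerSch.stalkFunctor (Spec A) z
    let e1 : (stalkCx z).obj tM ≅ (extC' (algebraMap A Bx)).obj Mc :=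
      HomologicalComplex.Hom.isoOfComponents (fun n => (stalkTildeIso z).app (Mc.X n))
        (fun i j _ => ((stalkTildeIso z).hom.naturality (Mc.d i j)).symm)
    let eN : DRing.toD N ≅ DRing.toD ((extC' (algebraMap A Bx)).obj Mc) :=
      (T.mapDerivedCategoryFactors.app G).symm ≪≫ T.mapDerivedCategory.mapIso eM.symm ≪≫
        T.mapDerivedCategoryFactors.app tM ≪≫ DerivedCategory.Q.mapIso e1
    exact ⟨a, Ay, Bx, inferInstance, inferInstance, inferInstance, iR, iA, inferInstance, inferInstance,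
      σ, hσ, N, isKF_stalkCxOver (inferInstance : Flat g) G hG z, eN, ha⟩
  refine ⟨a, b, fun z => hasTorAmplitudeAt_of_iso _ eM ?_⟩
  exact (hasTorAmplitudeAt_comp_iff (Spec.map φ) hV.fromSpec _ z a b).2
    ((hasTorAmplitude_tilde_iff φ Mc a b).2 h z)

end Affine

section Global

variable {X S : Scheme.{u}} (f : X ⟶ S)

/-- Bounded derived pullbacks to the fibres bound the residue fibres of a K-flat representative. -/
theorem exists_bound_residue [∀ s : S, DCoh.HasLpull (f.fiberι s)] {E : DCoh.D X}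
    (R : CochainComplex X.Modules ℤ) (hR : DCoh.IsKFlat R) (eR : DCoh.toD X R ≅ E)
    (h : ∀ (s : S) (y : ↥(f.fiber s)), ∃ (W : (f.fiber s).Opens) (a : ℤ), y ∈ W ∧
      ((rho W.ι).obj ((DCoh.Lpull (f.fiberι s)).obj E)).IsGE a) (x : X) :
    ∃ a : ℤ, ∀ i < a, ((extC' (IsLocalRing.residue (S.presheaf.stalk (f.base x)))).obj
      ((DerSch.stalkCxOver f x).obj R)).ExactAt i := by
  obtain ⟨y, hy⟩ : ∃ y : ↥(f.fiber (f.base x)), (f.fiberι (f.base x)).base y = x :=
    ⟨f.asFiber x, f.fiberι_asFiber x⟩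
  obtain ⟨W, a, hyW, hW⟩ := h (f.base x) y
  refine ⟨a, fun i hi => ?_⟩
  have := exactAt_residue_of_fibre_stalk f (f.base x) y R i
    (exactAt_stalkCx_of_isGE W _
      ((lpullIso (f.fiberι (f.base x)) hR).symm ≪≫ (DCoh.Lpull (f.fiberι (f.base x))).mapIso eR) hW y hyW i hi)
  rw [hy] at this
  exact this

/-- Bounded cohomology and bounded residue fibres of a K-flat representative give locally finite tor dimension
over the base. -/
theorem locHasFiniteRelTorDim_of_residue [Flat f] [LocallyOfFinitePresentation f]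
    (E : DCoh.D X) (hE : ∀ m : ℤ, DCoh.IsPseudoCoherentD m E)
    (h₁ : ∀ x : X, ∃ (V : X.Opens) (a : ℤ), x ∈ V ∧ ((rho V.ι).obj E).IsGE a)
    (R : CochainComplex X.Modules ℤ) (hR : DCoh.IsKFlat R) (eR : DCoh.toD X R ≅ E)
    (hres : ∀ x : X, ∃ a : ℤ, ∀ i < a, ((extC' (IsLocalRing.residue (S.presheaf.stalk (f.base x)))).obj
      ((DerSch.stalkCxOver f x).obj R)).ExactAt i) :
    DCoh.LocHasFiniteRelTorDim f E := by
  refine (locHasFiniteRelTorDim_iff f R eR).2 fun x => ?_
  obtain ⟨V₁, a₀, hx1, hV₁⟩ := h₁ x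
  obtain ⟨W, hW, hxW, -⟩ := exists_isAffineOpen_mem_and_subset (x := f.base x) (U := (⊤ : S.Opens)) trivial
  obtain ⟨U, hU, hxU, hUV⟩ := exists_isAffineOpen_mem_and_subset (x := x) (U := V₁ ⊓ f ⁻¹ᵁ W) ⟨hx1, hxW⟩
  have hle : U ≤ f ⁻¹ᵁ W := fun z hz => (hUV hz).2
  let φ := f.appLE W U hle
  let j := hU.fromSpec
  have hsq : j ≫ f = Spec.map φ ≫ hW.fromSpec := (IsAffineOpen.SpecMap_appLE_fromSpec f hW hU hle).symm
  let G := (rCx j).obj R
  let eG : DCoh.toD (Spec Γ(X, U)) G ≅ (rho j).obj E := ((rhoQ j).app R).symm ≪≫ (rho j).mapIso eR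
  haveI : PreservesFiniteLimits (tilde.functor Γ(X, U)) := Groth.Agent.QCoh.tilde_preservesFiniteLimits
  have hq : DCoh.IsQCohD E := fun i => isQCoh_HD_of_pseudoCoherent (hE (i - 1)) i (by omega)
  obtain ⟨M, ⟨eMD⟩⟩ := exists_tildeD_iso (R := Γ(X, U)) (isQCohD_rho j hq)
  let Mc := DerivedCategory.Q.objPreimage M
  let eM : DCoh.toD (Spec Γ(X, U)) (((tilde.functor Γ(X, U)).mapHomologicalComplex (ComplexShape.up ℤ)).obj Mc) ≅
      DCoh.toD (Spec Γ(X, U)) G :=
    (toDTildeIso Mc).symm ≪≫ (DCoh.tildeD Γ(X, U)).mapIso (DerivedCategory.Q.objObjPreimageIso M) ≪≫ eMD ≪≫ eG.symm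
  have hK : DRing.IsPseudoCoherent' Γ(X, U) (DRing.toD Mc) := (DRingPC.pc'_iff _).2 fun m =>
    DRingPC.of_iso (DerivedCategory.Q.objObjPreimageIso M).symm ((locPC_tildeD_iff m M).1
      ((((isPseudoCoherentD_iff m E).1 (hE m)).restrict j).of_iso eMD.symm))
  have hrange : ∀ z : Spec Γ(X, U), j.base z ∈ U := fun z => by
    have h : j.base z ∈ Set.range hU.fromSpec.base := Set.mem_range_self z
    rwa [hU.range_fromSpec] at h
  have h0 : ∀ i < a₀, G.ExactAt i := fun i hi => (exact_iff_stalk _).2 fun z => by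
    have h1 := (exactAt_stalkCxOver_iff f R (j.base z) i).2
      (exactAt_stalkCx_of_isGE V₁ R eR hV₁ (j.base z) (hUV (hrange z)).1 i hi)
    obtain ⟨τ⟩ := nonempty_stalkOver_iso j f z
    exact (exactAt_stalkCxOver_iff (j ≫ f) G z i).1 (h1.of_iso (HomologicalComplex.Hom.isoOfComponents
      (C₁ := (DerSch.stalkCxOver (j ≫ f) z).obj G) (C₂ := (DerSch.stalkCxOver f (j.base z)).obj R)
      (fun n => τ.app (R.X n)) (fun p q _ => (τ.hom.naturality (R.d p q)).symm)).symm)
  have hfib : ∀ z : Spec Γ(X, U), ∃ a : ℤ, ∀ i < a,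
      ((extC' (IsLocalRing.residue (S.presheaf.stalk ((j ≫ f).base z)))).obj
        ((DerSch.stalkCxOver (j ≫ f) z).obj G)).ExactAt i := fun z => by
    obtain ⟨a, ha⟩ := hres (j.base z)
    obtain ⟨τ⟩ := nonempty_stalkOver_iso j f z
    let e : (DerSch.stalkCxOver (j ≫ f) z).obj G ≅ (DerSch.stalkCxOver f (j.base z)).obj R :=
      HomologicalComplex.Hom.isoOfComponents (fun n => τ.app (R.X n))
        (fun p q _ => (τ.hom.naturality (R.d p q)).symm)
    exact ⟨a, fun i hi => (ha i hi).of_iso ((extC' _).mapIso e).symm⟩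
  rw [hsq] at hfib
  have hflat : φ.hom.Flat := Scheme.Hom.flat_appLE f hW hU hle
  have hfp : φ.hom.FinitePresentation := HasRingHomProperty.appLE (P := @LocallyOfFinitePresentation) f
    inferInstance ⟨W, hW⟩ ⟨U, hU⟩ hle
  obtain ⟨a, b, hab⟩ := exists_amp_affine hW φ hflat hfp G (isKFlat_restrict j hR) Mc eM hK a₀ h0 hfib
  rw [← hsq] at hab
  refine ⟨U, a, b, hxU, fun x' hx' => ?_⟩
  obtain ⟨z, rfl⟩ : ∃ z, j.base z = x' := by
    have : x' ∈ Set.range hU.fromSpec.base := by rw [hU.range_fromSpec]; exact hx'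
    exact this
  exact (hasTorAmplitudeAt_restrict_iff j f R z a b).1 (hab z)

/-- Bounded cohomology and bounded fibres give locally finite tor dimension over the base. -/
theorem locHasFiniteRelTorDim_of_fibres [Flat f] [LocallyOfFinitePresentation f]
    [∀ s : S, DCoh.HasLpull (f.fiberι s)] (E : DCoh.D X) (hE : ∀ m : ℤ, DCoh.IsPseudoCoherentD m E)
    (h₁ : ∀ x : X, ∃ (V : X.Opens) (a : ℤ), x ∈ V ∧ ((rho V.ι).obj E).IsGE a)
    (h₂ : ∀ (s : S) (y : ↥(f.fiber s)), ∃ (W : (f.fiber s).Opens) (a : ℤ), y ∈ W ∧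
      ((rho W.ι).obj ((DCoh.Lpull (f.fiberι s)).obj E)).IsGE a) :
    DCoh.LocHasFiniteRelTorDim f E := by
  obtain ⟨R, hR, ⟨eR⟩⟩ := exists_kFlat_rep E
  exact locHasFiniteRelTorDim_of_residue f E hE h₁ R hR eR (exists_bound_residue f R hR eR h₂)

/-- Tor amplitude on an open bounds the cohomology there. -/
theorem isGE_of_torAmplitude (V : X.Opens) (F : CochainComplex X.Modules ℤ) {E : DCoh.D X} (e : DCoh.toD X F ≅ E)
    {a b : ℤ} (h : ∀ x ∈ V, DerSch.HasTorAmplitudeAt f a b F x) : ((rho V.ι).obj E).IsGE a := by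
  refine (DerivedCategory.isGE_iff _ a).2 fun i hi => ?_
  have hG : DerSch.HasTorAmplitude (V.ι ≫ f) a b ((rCx V.ι).obj F) := fun v =>
    (hasTorAmplitudeAt_restrict_iff V.ι f F v a b).2 (h _ v.2)
  exact ((HomologicalComplex.exactAt_iff_isZero_homology _ i).1
    (exactAt_of_hasTorAmplitude _ hG i (Or.inl hi))).of_iso
      (((DerivedCategory.homologyFunctorFactors _ i).app _).symm ≪≫
        (DerivedCategory.homologyFunctor _ i).mapIso (((rhoQ V.ι).app F).symm ≪≫ (rho V.ι).mapIso e)).symm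

/-- Locally finite tor dimension over the base bounds cohomology and fibres. -/
theorem bounded_of_locHasFiniteRelTorDim [Flat f] [∀ s : S, DCoh.HasLpull (f.fiberι s)] (E : DCoh.D X)
    (h : DCoh.LocHasFiniteRelTorDim f E) :
    (∀ x : X, ∃ (V : X.Opens) (a : ℤ), x ∈ V ∧ ((rho V.ι).obj E).IsGE a) ∧
      ∀ (s : S) (y : ↥(f.fiber s)), ∃ (W : (f.fiber s).Opens) (a : ℤ), y ∈ W ∧
        ((rho W.ι).obj ((DCoh.Lpull (f.fiberι s)).obj E)).IsGE a := by
  have hF := (locHasFiniteRelTorDim_iff f _ (repIso E)).1 h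
  refine ⟨fun x => ?_, fun s y => ?_⟩
  · obtain ⟨V, a, b, hx, hV⟩ := hF x
    exact ⟨V, a, hx, isGE_of_torAmplitude f V _ (repIso E) hV⟩
  · obtain ⟨V, a, b, hx, hV⟩ := hF ((f.fiberι s).base y)
    refine ⟨(f.fiberι s) ⁻¹ᵁ V, a, hx, isGE_of_torAmplitude (f.fiberToSpecResidueField s) _ _
      (repIso _) (b := b) fun y' hy' => ?_⟩
    haveI : DCoh.HasLpull (pullback.fst f (S.fromSpecResidueField s)) :=
      (inferInstance : DCoh.HasLpull (f.fiberι s))
    exact hasTorAmplitudeAt_lpull_of_flat (IsPullback.of_hasPullback f (S.fromSpecResidueField s))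
      (Or.inl inferInstance) _ _
      (repIso _ ≪≫ ((DCoh.Lpull (f.fiberι s)).mapIso (repIso E)).symm) y' a b (hV _ hy')

end Global

end Groth.Agent.PushAmp
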