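import Groth.Prelude.Def_DerSch
import Groth.Agent.KFlatLib.Scheme.PullCx
import Groth.Agent.KFlatLib.Scheme.StalkCx
import Groth.Agent.KFlatLib.BaseChange
import Groth.Agent.KFlatLib.SingleIso
import Groth.Agent.H9Misc.DRingTorDim
import Groth.Agent.H9Misc.DRingLTensorCx

/-! Stalks of `E ⊗ f^*P` in terms of the relative stalk complexes of `E`. -/

set_option autoImplicit false
set_option linter.style.haveILetI false
set_option backward.isDefEq.respectTransparency false

universe u

open CategoryTheory CategoryTheory.Limits AlgebraicGeometry MonoidalCategory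

attribute [local instance] HasDerivedCategory.standard

namespace Groth.Agent.PushAmp

open KFlatLib

section Ring

variable {A : Type u} [CommRing A]

/-- Tensoring a complex of tor amplitude in `[a, b]` with a resolution of a module. -/
theorem isZero_homology_tensor {L P : DRing.Cx A} {a b : ℤ}
    (hL : DRing.HasTorAmplitudeIn A a b (DRing.toD L))
    (hP : KFlat (curriedTensor (ModuleCat.{u} A)) P) (M : ModuleCat.{u} A)
    (ψ : P ⟶ (HomologicalComplex.single (ModuleCat.{u} A) (ComplexShape.up ℤ) 0).obj M) [QuasiIso ψ]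
    (i : ℤ) (hi : i < a ∨ b < i) :
    IsZero ((((curriedTensor (ModuleCat.{u} A)).map₂CochainComplex.obj L).obj P).homology i) := by
  obtain ⟨Q, hQz, hQf, ⟨eQ⟩⟩ := hL
  let T := curriedTensor (ModuleCat.{u} A)
  let Φ : DRing.Cx A ⥤ Dual.D A := T.map₂CochainComplex.flip.obj P ⋙ DerivedCategory.Q
  have hΦ : (HomologicalComplex.quasiIso (ModuleCat.{u} A) (ComplexShape.up ℤ)).IsInvertedBy Φ := by
    intro F G g (hg : QuasiIso g)
    haveI := hg
    haveI : QuasiIso ((T.map₂CochainComplex.flip.obj P).map g) := KFlat.quasiIso_map hP g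
    exact inferInstanceAs (IsIso (DerivedCategory.Q.map _))
  let eL : Φ.obj L ≅ Φ.obj Q :=
    ((Localization.fac Φ hΦ DerivedCategory.Q).app L).symm ≪≫
      (Localization.lift Φ hΦ DerivedCategory.Q).mapIso eQ.symm ≪≫
      (Localization.fac Φ hΦ DerivedCategory.Q).app Q
  let H := DerivedCategory.homologyFunctor (ModuleCat.{u} A) i
  refine IsZero.of_iso ?_ (((DerivedCategory.homologyFunctorFactors (ModuleCat.{u} A) i).app _).symm ≪≫
    H.mapIso eL ≪≫ (DerivedCategory.homologyFunctorFactors (ModuleCat.{u} A) i).app _)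
  haveI : ∀ m, Module.Flat A (Q.X m) := hQf
  haveI : CochainComplex.IsStrictlyLE Q b :=
    (CochainComplex.isStrictlyLE_iff Q b).2 fun j hj => hQz j (Or.inr hj)
  have hQ : H9Misc.DRingLTensor.IsKF Q := H9Misc.DRingTor.isKF_of_flat (fun j => hQf j) fun j hj => hQz j (Or.inr hj)
  haveI : QuasiIso ((T.map₂CochainComplex.obj Q).map ψ) :=
    quasiIso_tensorHom_id ψ hQ
  refine IsZero.of_iso ?_ (isoOfQuasiIsoAt ((T.map₂CochainComplex.obj Q).map ψ) i ≪≫
    (HomologicalComplex.homologyFunctor _ _ i).mapIso ((singleIso T M).app Q))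
  exact ShortComplex.isZero_homology_of_isZero_X₂ _ ((T.flip.obj M).map_isZero (hQz i hi))

end Ring

variable {X Y : Scheme.{u}} (f : X ⟶ Y)

/-- If `E` has tor amplitude in `[a, b]` over the base and `P` is a K-flat resolution of `G`, the
cohomology of `E ⊗ f^*P` vanishes outside `[a, b]`. -/
theorem isZero_homology_tensor_pull {E : CochainComplex X.Modules ℤ} {a b : ℤ}
    (hE : DerSch.HasTorAmplitude f a b E) {P : CochainComplex Y.Modules ℤ} (hP : DCoh.IsKFlat P)
    (G : Y.Modules) (ψ : P ⟶ (HomologicalComplex.single Y.Modules (ComplexShape.up ℤ) 0).obj G)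
    [QuasiIso ψ] (i : ℤ) (hi : i < a ∨ b < i) :
    IsZero (((DCoh.tensorCx.obj E).obj ((pullCx f).obj P)).homology i) := by
  rw [← HomologicalComplex.exactAt_iff_isZero_homology, HomologicalComplex.exactAt_iff]
  refine (exact_iff_stalk _).2 fun x => ?_
  show ((stalkCx x).obj ((DCoh.tensorCx.obj E).obj ((pullCx f).obj P))).ExactAt i
  let φ := (f.stalkMap x).hom
  let L := (stalkCx x).obj E
  let K := (stalkCx (f.base x)).obj P
  let e₁ : (((curriedTensor (ModuleCat.{u} (X.presheaf.stalk x))).map₂CochainComplex.obj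
        (((𝟭 _).mapHomologicalComplex (ComplexShape.up ℤ)).obj L)).obj
          (((ModuleCat.extendScalars φ).mapHomologicalComplex (ComplexShape.up ℤ)).obj K)) ≅
        ((𝟭 _).mapHomologicalComplex (ComplexShape.up ℤ)).obj
          (((extT φ).map₂CochainComplex.obj L).obj K) :=
    totalMapIso (Φ₁ := 𝟭 _) (Φ₂ := ModuleCat.extendScalars φ)
      (Ψ := 𝟭 _) (T := extT φ) (T' := curriedTensor (ModuleCat.{u} (X.presheaf.stalk x)))
      (Iso.refl _) L K
  let e₂ := totalMapIso (extTIso φ) L K
  refine HomologicalComplex.ExactAt.of_iso ?_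
    (((curriedTensor (ModuleCat.{u} (X.presheaf.stalk x))).map₂CochainComplex.obj L).mapIso
      (stalkPullCxIso f x P).symm ≪≫ stalkTensorCxIso x E ((pullCx f).obj P))
  refine HomologicalComplex.ExactAt.of_iso ?_ e₁.symm
  refine (ShortComplex.exact_map_iff_of_faithful _ (ModuleCat.restrictScalars φ)).1 ?_
  show (((ModuleCat.restrictScalars φ).mapHomologicalComplex (ComplexShape.up ℤ)).obj
    (((extT φ).map₂CochainComplex.obj L).obj K)).ExactAt i
  refine HomologicalComplex.ExactAt.of_iso ?_ e₂
  rw [HomologicalComplex.exactAt_iff_isZero_homology]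
  let sψ : K ⟶ (HomologicalComplex.single (ModuleCat.{u} (Y.presheaf.stalk (f.base x)))
      (ComplexShape.up ℤ) 0).obj ((DerSch.stalkFunctor Y (f.base x)).obj G) :=
    (stalkCx (f.base x)).map ψ ≫
      (HomologicalComplex.singleMapHomologicalComplex (DerSch.stalkFunctor Y (f.base x)) _ 0).hom.app G
  haveI : (DerSch.stalkFunctor Y (f.base x)).PreservesHomology := inferInstance
  haveI : QuasiIso sψ := inferInstance
  exact isZero_homology_tensor (hE x) ((kFlat_iff_stalk P).1 hP (f.base x)) _ sψ i hi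

end Groth.Agent.PushAmp
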