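import Groth.Agent.PushAmp.ExternalTensor
import Groth.Agent.PushAmp.Stalk
import Groth.Agent.PushAmp.RelPerfFibres
import Groth.Agent.PushAmp.Adjoint

/-!
# Cohomological bounds of external tensor products
-/

set_option autoImplicit false
set_option linter.style.haveILetI false
set_option backward.isDefEq.respectTransparency false
set_option backward.isDefEq.respectTransparency.types false

universe u

open CategoryTheory CategoryTheory.Limits AlgebraicGeometry MonoidalCategory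

attribute [local instance] HasDerivedCategory.standard

namespace Groth.Agent.PushAmp

open Groth.Agent.KFlatLib

section Ring

variable {A : Type u} [CommRing A]

/-- Complexes placed in two intervals have a tensor product placed in the sum. -/
theorem isZero_tensor_X {Q P : DRing.Cx A} {a b c d : ℤ} (hQ : DRing.VanishesOutside Q a b)
    [P.IsStrictlyGE c] [P.IsStrictlyLE d] (i : ℤ) (hi : i < a + c ∨ b + d < i) :
    IsZero ((((curriedTensor (ModuleCat.{u} A)).map₂CochainComplex.obj Q).obj P).X i) := by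
  rw [IsZero.iff_id_eq_zero]
  refine HomologicalComplex.mapBifunctor.hom_ext fun p q hpq => IsZero.eq_of_src ?_ _ _
  have hpq' : p + q = i := hpq
  by_cases hp : p < a ∨ b < p
  · exact Functor.map_isZero ((curriedTensor (ModuleCat.{u} A)).flip.obj (P.X q)) (hQ p hp)
  · by_cases hq : q < c
    · exact Functor.map_isZero ((curriedTensor (ModuleCat.{u} A)).obj (Q.X p))
        (P.isZero_of_isStrictlyGE c q hq)
    · exact Functor.map_isZero ((curriedTensor (ModuleCat.{u} A)).obj (Q.X p))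
        (P.isZero_of_isStrictlyLE d q (by omega))

/-- Tensoring a complex of tor amplitude in `[a, b]` with a complex with cohomology in `[c, d]`. -/
theorem isZero_homology_tensor_bounded {L P : DRing.Cx A} {a b c d : ℤ}
    (hL : DRing.HasTorAmplitudeIn A a b (DRing.toD L))
    (hP : KFlat (curriedTensor (ModuleCat.{u} A)) P) (hc : ∀ j : ℤ, j < c ∨ d < j → P.ExactAt j)
    (i : ℤ) (hi : i < a + c ∨ b + d < i) :
    IsZero ((((curriedTensor (ModuleCat.{u} A)).map₂CochainComplex.obj L).obj P).homology i) := by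
  obtain ⟨Q, hQz, hQf, ⟨eQ⟩⟩ := hL
  let T := curriedTensor (ModuleCat.{u} A)
  let Φ : DRing.Cx A ⥤ Dual.D A := T.map₂CochainComplex.flip.obj P ⋙ DerivedCategory.Q
  have hΦ : (HomologicalComplex.quasiIso (ModuleCat.{u} A) (ComplexShape.up ℤ)).IsInvertedBy Φ := by
    intro F G g (hg : QuasiIso g)
    haveI := hg
    haveI : QuasiIso ((T.map₂CochainComplex.flip.obj P).map g) := KFlat.quasiIso_map hP g
    exact inferInstanceAs (IsIso (DerivedCategory.Q.map _))
  let eL : Φ.obj L ≅ Φ.obj Q :=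
    ((Localization.fac Φ hΦ DerivedCategory.Q).app L).symm ≪≫
      (Localization.lift Φ hΦ DerivedCategory.Q).mapIso eQ.symm ≪≫
      (Localization.fac Φ hΦ DerivedCategory.Q).app Q
  let H := DerivedCategory.homologyFunctor (ModuleCat.{u} A) i
  refine IsZero.of_iso ?_ (((DerivedCategory.homologyFunctorFactors (ModuleCat.{u} A) i).app _).symm ≪≫
    H.mapIso eL ≪≫ (DerivedCategory.homologyFunctorFactors (ModuleCat.{u} A) i).app _)
  haveI : ∀ m, Module.Flat A (Q.X m) := hQf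
  have hQ : H9Misc.DRingLTensor.IsKF Q := H9Misc.DRingTor.isKF_of_flat (fun j => hQf j) fun j hj => hQz j (Or.inr hj)
  have hmap : ∀ {P₁ P₂ : DRing.Cx A} (g : P₁ ⟶ P₂) [QuasiIso g],
      QuasiIso ((T.map₂CochainComplex.obj Q).map g) := fun g => quasiIso_tensorHom_id g hQ
  haveI : P.IsGE c := (P.isGE_iff c).2 fun j hj => hc j (Or.inl hj)
  haveI : P.IsLE d := (P.isLE_iff d).2 fun j hj => hc j (Or.inr hj)
  let P₁ := P.truncGE c
  haveI : P₁.IsLE d := (P₁.isLE_iff d).2 fun j hj => by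
    rw [HomologicalComplex.exactAt_iff_isZero_homology]
    exact (P.isZero_of_isLE d j hj).of_iso (isoOfQuasiIsoAt (P.πTruncGE c) j).symm
  haveI := hmap (P.πTruncGE c)
  haveI := hmap (P₁.ιTruncLE d)
  refine IsZero.of_iso ?_ (isoOfQuasiIsoAt ((T.map₂CochainComplex.obj Q).map (P.πTruncGE c)) i ≪≫
    (isoOfQuasiIsoAt ((T.map₂CochainComplex.obj Q).map (P₁.ιTruncLE d)) i).symm)
  exact ShortComplex.isZero_homology_of_isZero_X₂ _ (isZero_tensor_X hQz i hi)

end Ring

/-- `E ⊗ f^*P` for `E` of tor amplitude in `[a, b]` over the base and `P` with cohomology in `[c, d]`. -/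
theorem exactAt_tensor_pull_bounded {X Y : Scheme.{u}} (f : X ⟶ Y) {E : CochainComplex X.Modules ℤ}
    {a b : ℤ} (hE : DerSch.HasTorAmplitude f a b E) {P : CochainComplex Y.Modules ℤ} (hP : DCoh.IsKFlat P)
    {c d : ℤ} (hc : ∀ j : ℤ, j < c ∨ d < j → P.ExactAt j) (i : ℤ) (hi : i < a + c ∨ b + d < i) :
    ((DCoh.tensorCx.obj E).obj ((pullCx f).obj P)).ExactAt i := by
  refine (exact_iff_stalk _).2 fun x => ?_
  show ((stalkCx x).obj ((DCoh.tensorCx.obj E).obj ((pullCx f).obj P))).ExactAt i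
  let φ := (f.stalkMap x).hom
  let L := (stalkCx x).obj E
  let K := (stalkCx (f.base x)).obj P
  let e₁ : (((curriedTensor (ModuleCat.{u} (X.presheaf.stalk x))).map₂CochainComplex.obj
        (((𝟭 _).mapHomologicalComplex (ComplexShape.up ℤ)).obj L)).obj
          (((ModuleCat.extendScalars φ).mapHomologicalComplex (ComplexShape.up ℤ)).obj K)) ≅
        ((𝟭 _).mapHomologicalComplex (ComplexShape.up ℤ)).obj
          (((extT φ).map₂CochainComplex.obj L).obj K) :=
    totalMapIso (Φ₁ := 𝟭 _) (Φ₂ := ModuleCat.extendScalars φ)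
      (Ψ := 𝟭 _) (T := extT φ) (T' := curriedTensor (ModuleCat.{u} (X.presheaf.stalk x)))
      (Iso.refl _) L K
  let e₂ := totalMapIso (extTIso φ) L K
  refine HomologicalComplex.ExactAt.of_iso ?_
    (((curriedTensor (ModuleCat.{u} (X.presheaf.stalk x))).map₂CochainComplex.obj L).mapIso
      (stalkPullCxIso f x P).symm ≪≫ stalkTensorCxIso x E ((pullCx f).obj P))
  refine HomologicalComplex.ExactAt.of_iso ?_ e₁.symm
  refine (ShortComplex.exact_map_iff_of_faithful _ (ModuleCat.restrictScalars φ)).1 ?_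
  show (((ModuleCat.restrictScalars φ).mapHomologicalComplex (ComplexShape.up ℤ)).obj
    (((extT φ).map₂CochainComplex.obj L).obj K)).ExactAt i
  refine HomologicalComplex.ExactAt.of_iso ?_ e₂
  rw [HomologicalComplex.exactAt_iff_isZero_homology]
  exact isZero_homology_tensor_bounded (hE x) ((kFlat_iff_stalk P).1 hP (f.base x))
    (fun j hj => (exact_iff_stalk _).1 (hc j hj) (f.base x)) i hi

/-- The structure sheaf is flat over the base of a flat morphism. -/
theorem hasTorAmplitude_unitCx_of_flat {X Y : Scheme.{u}} (q : X ⟶ Y) [Flat q] :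
    DerSch.HasTorAmplitude q 0 0 (DerSch.unitCx X) := by
  refine hasTorAmplitude_of_flatOver q
    (fun i hi => HomologicalComplex.isZero_single_obj_X _ _ _ _ (by omega)) fun i x => ?_
  show Module.Flat (Y.presheaf.stalk (q.base x)) ((DerSch.stalkOver q x).obj ((DerSch.unitCx X).X i))
  by_cases hi : i = 0
  · subst hi
    haveI : Module.Flat (Y.presheaf.stalk (q.base x)) ((DerSch.stalkOver q x).obj (Coh.structureModule X)) :=
      isFlatOver_structureModule q x
    exact Module.Flat.of_linearEquiv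
      ((DerSch.stalkOver q x).mapIso (HomologicalComplex.singleObjXSelf (ComplexShape.up ℤ) 0
        (Coh.structureModule X))).toLinearEquiv
  · haveI := ModuleCat.subsingleton_of_isZero
      (Functor.map_isZero (DerSch.stalkOver q x) (HomologicalComplex.isZero_single_obj_X
        (ComplexShape.up ℤ) 0 (Coh.structureModule X) i hi))
    exact Module.Flat.of_free

variable {S X₁ Y₁ X₂ Y₂ X : Scheme.{u}} {f₁ : X₁ ⟶ Y₁} {q₁ : Y₁ ⟶ S}
    {f₂ : X₂ ⟶ Y₂} {q₂ : Y₂ ⟶ S} {pX₁ : X ⟶ X₁} {pX₂ : X ⟶ X₂}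

/-- Cohomological bounds of an external tensor product with a flat first factor. -/
theorem externalTensor_bounds [Flat q₁] [Flat (f₁ ≫ q₁)]
    (hX : IsPullback pX₁ pX₂ (f₁ ≫ q₁) (f₂ ≫ q₂))
    (E₁ : CochainComplex X₁.Modules ℤ) (a₁ b₁ : ℤ) (h₁ : DerSch.HasTorAmplitude f₁ a₁ b₁ E₁)
    (E₂ : CochainComplex X₂.Modules ℤ) (a₂ b₂ : ℤ) [(DCoh.toD X₂ E₂).IsGE a₂] [(DCoh.toD X₂ E₂).IsLE b₂]
    [DCoh.HasLpull pX₁] [DCoh.HasLpull pX₂] (K₂ : CochainComplex X.Modules ℤ) [DCoh.HasLTensorCx K₂]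
    (eK : DCoh.toD X K₂ ≅ (DCoh.Lpull pX₂).obj (DCoh.toD X₂ E₂)) :
    ((DCoh.LTensorCx K₂).obj ((DCoh.Lpull pX₁).obj (DCoh.toD X₁ E₁))).IsGE (a₁ + a₂) ∧
      ((DCoh.LTensorCx K₂).obj ((DCoh.Lpull pX₁).obj (DCoh.toD X₁ E₁))).IsLE (b₁ + b₂) := by
  obtain ⟨R₁, hR₁, ⟨e₁⟩⟩ := exists_kFlat_rep (DCoh.toD X₁ E₁)
  obtain ⟨R₂, hR₂, ⟨e₂⟩⟩ := exists_kFlat_rep (DCoh.toD X₂ E₂)
  haveI := hasLTensorCx ((pullCx pX₂).obj R₂)
  obtain ⟨c⟩ := nonempty_LTensorCx_congr_D (P := (pullCx pX₂).obj R₂) (E := K₂)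
    ((lpullIso pX₂ hR₂).symm ≪≫ (DCoh.Lpull pX₂).mapIso e₂ ≪≫ eK.symm)
  let W := (DCoh.tensorCx.obj ((pullCx pX₁).obj R₁)).obj ((pullCx pX₂).obj R₂)
  let eW : DCoh.toD X W ≅ (DCoh.LTensorCx K₂).obj ((DCoh.Lpull pX₁).obj (DCoh.toD X₁ E₁)) :=
    (ltensorCxIso _ (isKFlat_pullback pX₁ hR₁)).symm ≪≫ c.app _ ≪≫
      (DCoh.LTensorCx K₂).mapIso ((lpullIso pX₁ hR₁).symm ≪≫ (DCoh.Lpull pX₁).mapIso e₁)
  let H := fun j : ℤ => DerivedCategory.homologyFunctor X₂.Modules j
  have hc : ∀ j : ℤ, j < a₂ ∨ b₂ < j → R₂.ExactAt j := fun j hj => by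
    refine exactAt_of_toD_iso e₂.symm j ?_
    rw [HomologicalComplex.exactAt_iff_isZero_homology]
    refine IsZero.of_iso ?_ ((DerivedCategory.homologyFunctorFactors _ j).app E₂).symm
    rcases hj with h | h
    · exact (DerivedCategory.isGE_iff (DCoh.toD X₂ E₂) a₂).1 inferInstance j h
    · exact (DerivedCategory.isLE_iff (DCoh.toD X₂ E₂) b₂).1 inferInstance j h
  have hA : DerSch.HasTorAmplitude pX₂ a₁ b₁ ((pullCx pX₁).obj R₁) := fun x => by
    have h := hasTorAmplitudeAt_comp f₁ q₁ 0 (pX₁.base x) (hasTorAmplitude_unitCx_of_flat q₁ _)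
      R₁ a₁ b₁ (hasTorAmplitudeAt_of_iso f₁ e₁.symm (h₁ _))
    rw [Nat.cast_zero, sub_zero] at h
    refine hasTorAmplitudeAt_pullCx hX R₁ x a₁ b₁ h (Or.inl ?_)
    exact isKF_stalkCxOver (inferInstance : Flat (f₁ ≫ q₁)) R₁ hR₁ (pX₁.base x)
  have hz : ∀ i : ℤ, i < a₁ + a₂ ∨ b₁ + b₂ < i →
      IsZero ((DerivedCategory.homologyFunctor X.Modules i).obj (DCoh.toD X W)) := fun i hi =>
    ((HomologicalComplex.exactAt_iff_isZero_homology _ i).1
      (exactAt_tensor_pull_bounded pX₂ hA hR₂ hc i hi)).of_iso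
      ((DerivedCategory.homologyFunctorFactors _ i).app W)
  exact ⟨(DerivedCategory.isGE_iff _ _).2 fun i hi => (hz i (Or.inl hi)).of_iso
      ((DerivedCategory.homologyFunctor X.Modules i).mapIso eW.symm),
    (DerivedCategory.isLE_iff _ _).2 fun i hi => (hz i (Or.inr hi)).of_iso
      ((DerivedCategory.homologyFunctor X.Modules i).mapIso eW.symm)⟩

end Groth.Agent.PushAmp
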