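import Groth.Agent.PushAmp.TorIndep
import Groth.Agent.PushAmp.TensorPerfect
import Groth.Agent.KFlatLib.Scheme.DualPerfect
import Groth.Agent.KFlatLib.Scheme.RGammaPush

/-!
# External tensor products
-/

set_option autoImplicit false
set_option linter.style.haveILetI false
set_option backward.isDefEq.respectTransparency false
set_option backward.isDefEq.respectTransparency.types false

universe u

open CategoryTheory CategoryTheory.Limits AlgebraicGeometry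

attribute [local instance] HasDerivedCategory.standard

namespace Groth.Agent.PushAmp

open Groth.Agent.KFlatLib

/-- The unit complex pulls back to the unit complex. -/
noncomputable def pullUnitCxIso {X Y : Scheme.{u}} (g : X ⟶ Y) :
    (pullCx g).obj (DerSch.unitCx Y) ≅ DerSch.unitCx X :=
  let φ := g.toRingCatSheafHom
  let e : (Scheme.Modules.pullback g).obj (Coh.structureModule Y) ⟶ Coh.structureModule X :=
    SheafOfModules.pullbackObjUnitToUnit φ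
  haveI : IsIso e := inferInstanceAs (IsIso (SheafOfModules.pullbackObjUnitToUnit φ))
  (HomologicalComplex.singleMapHomologicalComplex (Scheme.Modules.pullback g) (ComplexShape.up ℤ) 0).app
      (Coh.structureModule Y) ≪≫
    (HomologicalComplex.single X.Modules (ComplexShape.up ℤ) 0).mapIso (asIso e)

/-- The unit complex is K-flat. -/
theorem isKFlat_unitCx (X : Scheme.{u}) : DCoh.IsKFlat (DerSch.unitCx X) :=
  haveI : CochainComplex.IsStrictlyLE (DerSch.unitCx X) 0 := inferInstance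
  isKFlat_of_isStrictlyLE (DerSch.unitCx X) 0 (isFlat_single 0 isFlat_structureModule)

variable {S X₁ Y₁ X₂ Y₂ X Y : Scheme.{u}} {f₁ : X₁ ⟶ Y₁} {q₁ : Y₁ ⟶ S}
    {f₂ : X₂ ⟶ Y₂} {q₂ : Y₂ ⟶ S} {pX₁ : X ⟶ X₁} {pX₂ : X ⟶ X₂} {pY₁ : Y ⟶ Y₁} {pY₂ : Y ⟶ Y₂}

/-- A product of two morphisms is a composite of base changes. -/
theorem exists_fiberProductMap_factor [Flat (f₂ ≫ q₂)] (hX : IsPullback pX₁ pX₂ (f₁ ≫ q₁) (f₂ ≫ q₂))
    (hY : IsPullback pY₁ pY₂ q₁ q₂) (f : X ⟶ Y) (hf₁ : f ≫ pY₁ = pX₁ ≫ f₁) (hf₂ : f ≫ pY₂ = pX₂ ≫ f₂) :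
    ∃ (M : Scheme.{u}) (a : X ⟶ M) (m : M ⟶ Y) (m₂ : M ⟶ X₂) (m₁ : M ⟶ Y₁),
      a ≫ m = f ∧ a ≫ m₂ = pX₂ ∧ IsPullback m₂ m f₂ pY₂ ∧ Flat m₁ ∧ IsPullback pX₁ a f₁ m₁ := by
  have hb := IsPullback.of_hasPullback pY₂ f₂
  have hM : IsPullback (pullback.fst pY₂ f₂ ≫ pY₁) (pullback.snd pY₂ f₂) q₁ (f₂ ≫ q₂) := hb.paste_horiz hY
  let a := pullback.lift f pX₂ hf₂
  have hfl : Flat (pullback.fst pY₂ f₂ ≫ pY₁) :=
    MorphismProperty.of_isPullback (P := @Flat) hM.flip inferInstance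
  refine ⟨_, a, _, _, _, pullback.lift_fst _ _ _, pullback.lift_snd _ _ _, hb.flip, hfl,
    IsPullback.of_bot ?_ ?_ hM⟩
  · rwa [pullback.lift_snd]
  · rw [pullback.lift_fst_assoc, hf₁]

/-- Tor amplitude of external tensor products of K-flat complexes. -/
theorem hasTorAmplitudeAt_externalTensor [Flat q₂] [Flat (f₂ ≫ q₂)]
    (hX : IsPullback pX₁ pX₂ (f₁ ≫ q₁) (f₂ ≫ q₂))
    (hY : IsPullback pY₁ pY₂ q₁ q₂) (f : X ⟶ Y) (hf₁ : f ≫ pY₁ = pX₁ ≫ f₁) (hf₂ : f ≫ pY₂ = pX₂ ≫ f₂)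
    (R₁ : CochainComplex X₁.Modules ℤ) (R₂ : CochainComplex X₂.Modules ℤ) (hR₂ : DCoh.IsKFlat R₂)
    (x : X) {a₁ b₁ a₂ b₂ : ℤ} (h₁ : DerSch.HasTorAmplitudeAt f₁ a₁ b₁ R₁ (pX₁.base x))
    (h₂ : DerSch.HasTorAmplitudeAt f₂ a₂ b₂ R₂ (pX₂.base x)) :
    DerSch.HasTorAmplitudeAt f (a₁ + a₂) (b₁ + b₂)
      ((DCoh.tensorCx.obj ((pullCx pX₁).obj R₁)).obj ((pullCx pX₂).obj R₂)) x := by
  obtain ⟨M, a, m, m₂, m₁, hm, hm₂, hb, hfl, ha⟩ := exists_fiberProductMap_factor hX hY f hf₁ hf₂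
  subst hm hm₂
  have hA := hasTorAmplitudeAt_pullCx ha R₁ x a₁ b₁ h₁ (Or.inr hfl)
  have hB := hasTorAmplitudeAt_pullCx_torIndep hY.flip hb R₂ hR₂ (a.base x) a₂ b₂ h₂
  have h := hasTorAmplitudeAt_tensor_pull a m _ _ (isKFlat_pullback m₂ hR₂) x hA hB
  exact hasTorAmplitudeAt_of_iso (a ≫ m) (DerivedCategory.Q.mapIso
    ((DCoh.tensorCx.obj ((pullCx pX₁).obj R₁)).mapIso ((pullCxCompIso a m₂).app R₂))) h

/-- The product of morphisms of finite tor dimension. -/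
theorem hasTorDimLE_fiberProductMap [Flat q₂] [Flat (f₂ ≫ q₂)]
    (hX : IsPullback pX₁ pX₂ (f₁ ≫ q₁) (f₂ ≫ q₂))
    (hY : IsPullback pY₁ pY₂ q₁ q₂) (f : X ⟶ Y) (hf₁ : f ≫ pY₁ = pX₁ ≫ f₁) (hf₂ : f ≫ pY₂ = pX₂ ≫ f₂)
    (n₁ n₂ : ℕ) (h₁ : DerSch.HasTorDimLE f₁ n₁) (h₂ : DerSch.HasTorDimLE f₂ n₂) :
    DerSch.HasTorDimLE f (n₁ + n₂) := by
  intro x
  obtain ⟨M, a, m, m₂, m₁, hm, hm₂, hb, hfl, ha⟩ := exists_fiberProductMap_factor hX hY f hf₁ hf₂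
  subst hm
  have hA := hasTorAmplitudeAt_of_iso a (DerivedCategory.Q.mapIso (pullUnitCxIso pX₁))
    (hasTorAmplitudeAt_pullCx ha (DerSch.unitCx X₁) x _ _ (h₁ _) (Or.inr hfl))
  have hB := hasTorAmplitudeAt_of_iso m (DerivedCategory.Q.mapIso (pullUnitCxIso m₂))
    (hasTorAmplitudeAt_pullCx_torIndep hY.flip hb (DerSch.unitCx X₂) (isKFlat_unitCx X₂) (a.base x) _ _ (h₂ _))
  have h := hasTorAmplitudeAt_comp a m n₂ x hB _ _ _ hA
  rw [show -(n₁ : ℤ) - (n₂ : ℤ) = -(((n₁ + n₂ : ℕ)) : ℤ) by push_cast; ring] at h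
  exact h

end Groth.Agent.PushAmp
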