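import Groth.Agent.PushAmp.TowerTensor
import Groth.Agent.PushAmp.TorTensor
import Groth.Agent.PushAmp.RelPerfFibres
import Groth.Agent.PushAmp.ExternalTensor
import Groth.Agent.KFlatLib.Scheme.LpullLE

/-!
# Relative perfect amplitude of tensor products in a tower
-/

set_option autoImplicit false
set_option linter.style.haveILetI false
set_option backward.isDefEq.respectTransparency false
set_option backward.isDefEq.respectTransparency.types false

universe u

open CategoryTheory CategoryTheory.Limits AlgebraicGeometry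

attribute [local instance] HasDerivedCategory.standard

namespace Groth.Agent.PushAmp

open Groth.Agent.KFlatLib

variable {X Y Z : Scheme.{u}}

/-- Tor amplitude bounds the cohomology. -/
theorem exactAt_of_torAmplitude (f : X ⟶ Y) {F : CochainComplex X.Modules ℤ} {a b : ℤ}
    (h : DerSch.HasTorAmplitude f a b F) (i : ℤ) (hi : i < a ∨ b < i) : F.ExactAt i := by
  refine (exact_iff_stalk _).2 fun x => (exactAt_stalkCxOver_iff f F x i).1 ?_
  obtain ⟨Q, hQ, -, ⟨e⟩⟩ := h x
  rw [HomologicalComplex.exactAt_iff_isZero_homology]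
  let H := DerivedCategory.homologyFunctor (ModuleCat.{u} (Y.presheaf.stalk (f.base x))) i
  exact (ShortComplex.isZero_homology_of_isZero_X₂ (Q.sc i) (hQ i hi)).of_iso
    (((DerivedCategory.homologyFunctorFactors _ i).app ((DerSch.stalkCxOver f x).obj F)).symm ≪≫
      H.mapIso e.symm ≪≫ (DerivedCategory.homologyFunctorFactors _ i).app Q)

/-- Tor amplitude bounds the object. -/
theorem isLE_of_torAmplitude (f : X ⟶ Y) {F : CochainComplex X.Modules ℤ} {a b : ℤ}
    (h : DerSch.HasTorAmplitude f a b F) : (DCoh.toD X F).IsLE b :=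
  (DerivedCategory.isLE_iff _ b).2 fun i hi =>
    ((HomologicalComplex.exactAt_iff_isZero_homology _ i).1 (exactAt_of_torAmplitude f h i (Or.inr hi))).of_iso
      ((DerivedCategory.homologyFunctorFactors _ i).app F)

/-- Relative perfect amplitude of `Lf^* F ⊗ E`. -/
theorem hasPerfAmplitudeRel_ltensor_lpull (f : X ⟶ Y) (g : Y ⟶ Z) [LocallyOfFiniteType f]
    [LocallyOfFiniteType g] (a b c d : ℤ) (E : CochainComplex X.Modules ℤ)
    (hE : DerSch.HasPerfAmplitudeRel f a b E) (F : CochainComplex Y.Modules ℤ)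
    (hF : DerSch.HasPerfAmplitudeRel g c d F) [DCoh.HasLpull f] [DCoh.HasLTensorCx E]
    (K : CochainComplex X.Modules ℤ)
    (eK : DCoh.toD X K ≅ (DCoh.LTensorCx E).obj ((DCoh.Lpull f).obj (DCoh.toD Y F))) :
    DerSch.HasPerfAmplitudeRel (f ≫ g) (a + c) (b + d) K := by
  haveI := isLE_of_torAmplitude f hE.2
  haveI := isLE_of_torAmplitude g hF.2
  refine ⟨fun m => relPC_of_iso (f ≫ g) eK.symm
    (relPC_ltensor_lpull f g (m - d) b (m - b) d m (by omega) (by omega) E (hE.1 _) _ (hF.1 _)), fun x => ?_⟩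
  obtain ⟨R, hR, ⟨eR⟩⟩ := exists_kFlat_rep (DCoh.toD Y F)
  haveI := hasLTensorCx ((pullCx f).obj R)
  obtain ⟨t⟩ := nonempty_ltensor_comm E ((pullCx f).obj R)
  haveI := isIso_LTensorCx_counit_of_isKFlat_right ((pullCx f).obj R) (isKFlat_pullback f hR) E
  refine hasTorAmplitudeAt_of_iso (f ≫ g) ?_ (hasTorAmplitudeAt_tensor_pull f g E R hR x (hE.2 x)
    (hasTorAmplitudeAt_of_iso g eR.symm (hF.2 _)))
  exact (asIso (((DCoh.tensorCxQ ((pullCx f).obj R)).totalLeftDerivedCounit DerivedCategory.Q (qisX X)).app E)).symm ≪≫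
    t.symm ≪≫ (DCoh.LTensorCx E).mapIso ((lpullIso f hR).symm ≪≫ (DCoh.Lpull f).mapIso eR) ≪≫ eK.symm

/-- Relative perfect amplitude of a derived pullback along a morphism of perfect dimension. -/
theorem hasPerfAmplitudeRel_lpull (f : X ⟶ Y) (g : Y ⟶ Z) [LocallyOfFiniteType f]
    [LocallyOfFiniteType g] (m : ℕ) (hf : DerSch.HasPerfDimLE f m) [DCoh.HasLpull f] (c d : ℤ)
    (F : CochainComplex Y.Modules ℤ) (hF : DerSch.HasPerfAmplitudeRel g c d F)
    (K : CochainComplex X.Modules ℤ) (eK : DCoh.toD X K ≅ (DCoh.Lpull f).obj (DCoh.toD Y F)) :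
    DerSch.HasPerfAmplitudeRel (f ≫ g) (c - m) d K := by
  haveI := hasLTensorCx (DerSch.unitCx X)
  obtain ⟨R, hR, ⟨eR⟩⟩ := exists_kFlat_rep (DCoh.toD Y F)
  obtain ⟨u⟩ := nonempty_tensorUnitIso ((pullCx f).obj R)
  have e : DCoh.toD X K ≅ (DCoh.LTensorCx (DerSch.unitCx X)).obj ((DCoh.Lpull f).obj (DCoh.toD Y F)) :=
    eK ≪≫ ((DCoh.Lpull f).mapIso eR.symm ≪≫ lpullIso f hR) ≪≫ DerivedCategory.Q.mapIso u.symm ≪≫
      (ltensorCxIso (DerSch.unitCx X) (isKFlat_pullback f hR)).symm ≪≫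
      (DCoh.LTensorCx (DerSch.unitCx X)).mapIso ((lpullIso f hR).symm ≪≫ (DCoh.Lpull f).mapIso eR)
  have h := hasPerfAmplitudeRel_ltensor_lpull f g (-(m : ℤ)) 0 c d (DerSch.unitCx X) ⟨hf.1, hf.2⟩ F hF K e
  rw [show -(m : ℤ) + c = c - m by ring, zero_add] at h
  exact h

end Groth.Agent.PushAmp
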