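import Groth.Agent.PushAmp.RelPCTorIndep
import Groth.Agent.PushAmp.TowerPerf
import Groth.Agent.PushAmp.ExternalTensor
import Groth.Agent.PushAmp.ExternalBounds

/-!
# Relative pseudo-coherence of external tensor products
-/

set_option autoImplicit false
set_option linter.style.haveILetI false
set_option backward.isDefEq.respectTransparency false
set_option backward.isDefEq.respectTransparency.types false

universe u

open CategoryTheory CategoryTheory.Limits AlgebraicGeometry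

attribute [local instance] HasDerivedCategory.standard

namespace Groth.Agent.PushAmp

open Groth.Agent.KFlatLib

variable {S X₁ Y₁ X₂ Y₂ X Y : Scheme.{u}} {f₁ : X₁ ⟶ Y₁} {q₁ : Y₁ ⟶ S}
    {f₂ : X₂ ⟶ Y₂} {q₂ : Y₂ ⟶ S} {pX₁ : X ⟶ X₁} {pX₂ : X ⟶ X₂} {pY₁ : Y ⟶ Y₁} {pY₂ : Y ⟶ Y₂}

/-- A product of morphisms locally of finite type is locally of finite type. -/
theorem locallyOfFiniteType_fiberProductMap [Flat (f₂ ≫ q₂)] [LocallyOfFiniteType f₁] [LocallyOfFiniteType f₂]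
    (hX : IsPullback pX₁ pX₂ (f₁ ≫ q₁) (f₂ ≫ q₂))
    (hY : IsPullback pY₁ pY₂ q₁ q₂) (f : X ⟶ Y) (hf₁ : f ≫ pY₁ = pX₁ ≫ f₁) (hf₂ : f ≫ pY₂ = pX₂ ≫ f₂) :
    LocallyOfFiniteType f := by
  obtain ⟨M, a, m, m₂, m₁, hm, hm₂, hb, hfl, ha⟩ := exists_fiberProductMap_factor hX hY f hf₁ hf₂
  haveI : LocallyOfFiniteType a := MorphismProperty.of_isPullback ha inferInstance
  haveI : LocallyOfFiniteType m := MorphismProperty.of_isPullback hb inferInstance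
  subst hm
  infer_instance

/-- External tensor products of relatively pseudo-coherent objects, flat second factor. -/
theorem relPC_externalTensor [Flat q₂] [Flat (f₂ ≫ q₂)] [LocallyOfFiniteType f₁] [LocallyOfFiniteType f₂]
    (hX : IsPullback pX₁ pX₂ (f₁ ≫ q₁) (f₂ ≫ q₂))
    (hY : IsPullback pY₁ pY₂ q₁ q₂) (f : X ⟶ Y) (hf₁ : f ≫ pY₁ = pX₁ ≫ f₁) (hf₂ : f ≫ pY₂ = pX₂ ≫ f₂)
    [DCoh.HasLpull pX₁] [DCoh.HasLpull pX₂] {E₁ : DCoh.D X₁} {E₂ : DCoh.D X₂} (a₁ b₁ a₂ b₂ n : ℤ)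
    (h12 : a₁ + b₂ ≤ n) (h21 : a₂ + b₁ ≤ n)
    (hq₁ : DCoh.IsQCohD E₁) (hpc₁ : DerSch.IsPseudoCoherentRel f₁ a₁ E₁) [E₁.IsLE b₁]
    (hq₂ : DCoh.IsQCohD E₂) (hpc₂ : DerSch.IsPseudoCoherentRel f₂ a₂ E₂) [E₂.IsLE b₂]
    (K₁ K₂ : CochainComplex X.Modules ℤ) [DCoh.HasLTensorCx K₂]
    (e₁ : DCoh.toD X K₁ ≅ (DCoh.Lpull pX₁).obj E₁) (e₂ : DCoh.toD X K₂ ≅ (DCoh.Lpull pX₂).obj E₂) :
    DerSch.IsPseudoCoherentRel f n ((DCoh.LTensorCx K₂).obj (DCoh.toD X K₁)) := by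
  obtain ⟨M, a, m, m₂, m₁, hm, hm₂, hb, hfl, ha⟩ := exists_fiberProductMap_factor hX hY f hf₁ hf₂
  subst hm hm₂
  haveI := hfl
  haveI : LocallyOfFiniteType a := MorphismProperty.of_isPullback ha inferInstance
  haveI : LocallyOfFiniteType m := MorphismProperty.of_isPullback hb inferInstance
  haveI := hasLpull a
  haveI := hasLpull m₂
  haveI := hasLTensorCx K₁
  have hA : DerSch.IsPseudoCoherentRel a a₁ (DCoh.toD X K₁) :=
    relPC_of_iso a e₁.symm (relPC_lpull_baseChange ha hq₁ hpc₁)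
  haveI := isLE_lpull pX₁ E₁ b₁
  haveI : (DCoh.toD X K₁).IsLE b₁ := (DerivedCategory.isLE_iff _ b₁).2 fun i hi =>
    ((DerivedCategory.isLE_iff _ b₁).1 (isLE_lpull pX₁ E₁ b₁) i hi).of_iso
      ((DerivedCategory.homologyFunctor _ i).mapIso e₁)
  have hB := relPC_lpull_torIndep hY.flip hb hq₂ hpc₂
  haveI := isLE_lpull m₂ E₂ b₂
  have key := relPC_ltensor_lpull a m a₁ b₁ a₂ b₂ n h12 (by omega) K₁ hA _ hB
  obtain ⟨c⟩ := nonempty_lpull_comp a m₂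
  obtain ⟨t⟩ := nonempty_ltensor_comm K₁ K₂
  exact relPC_of_iso (a ≫ m) ((DCoh.LTensorCx K₁).mapIso (c.app E₂ ≪≫ e₂.symm) ≪≫ t) key

/-- A product of pseudo-coherent morphisms is pseudo-coherent. -/
theorem nPC_fiberProductMap [Flat q₂] [Flat (f₂ ≫ q₂)] [LocallyOfFiniteType f₁] [LocallyOfFiniteType f₂]
    (hX : IsPullback pX₁ pX₂ (f₁ ≫ q₁) (f₂ ≫ q₂))
    (hY : IsPullback pY₁ pY₂ q₁ q₂) (f : X ⟶ Y) (hf₁ : f ≫ pY₁ = pX₁ ≫ f₁) (hf₂ : f ≫ pY₂ = pX₂ ≫ f₂)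
    (h₁ : ∀ n : ℤ, DerSch.IsNPseudoCoherent f₁ n) (h₂ : ∀ n : ℤ, DerSch.IsNPseudoCoherent f₂ n) (n : ℤ) :
    DerSch.IsNPseudoCoherent f n := by
  obtain ⟨M, a, m, m₂, m₁, hm, hm₂, hb, hfl, ha⟩ := exists_fiberProductMap_factor hX hY f hf₁ hf₂
  subst hm
  haveI := hfl
  haveI : LocallyOfFiniteType a := MorphismProperty.of_isPullback ha inferInstance
  haveI : LocallyOfFiniteType m := MorphismProperty.of_isPullback hb inferInstance
  haveI := hasLpull m₂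
  have hm' : DerSch.IsNPseudoCoherent m n :=
    relPC_of_iso m (lpullIso m₂ (isKFlat_unitCx X₂) ≪≫ DerivedCategory.Q.mapIso (pullUnitCxIso m₂))
      (relPC_lpull_torIndep hY.flip hb (isQCohD_of_relPC f₂ h₂) (h₂ n))
  have h := nPC_comp a m n n (nPC_baseChange ha (h₁ n)) hm'
  rwa [max_self] at h

end Groth.Agent.PushAmp
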