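import Groth.Agent.PushAmp.PerfectFibres
import Groth.Agent.PushAmp.SmoothDrop

/-!
# Tor amplitude at generalisations of points with bounded residue fibre
-/

set_option autoImplicit false
set_option linter.style.haveILetI false
set_option backward.isDefEq.respectTransparency false

universe u

open CategoryTheory CategoryTheory.Limits TensorProduct

attribute [local instance] HasDerivedCategory.standard

namespace Groth.Agent.PushAmp

open H9Misc H9Misc.DRingTor H9Misc.DRingLTensor

/-- Tor amplitude at a prime of a ring passes to the smaller primes. -/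
theorem amp_of_le {P : Type u} [CommRing P] (E : DRing.Cx P) (Q Q' : Ideal P) [Q.IsPrime] [Q'.IsPrime] (hle : Q' ≤ Q)
    (a b : ℤ) (h : DRing.HasTorAmplitudeIn (Localization.AtPrime Q) a b
      (DRing.toD ((extC' (algebraMap P (Localization.AtPrime Q))).obj E))) :
    DRing.HasTorAmplitudeIn (Localization.AtPrime Q') a b
      (DRing.toD ((extC' (algebraMap P (Localization.AtPrime Q'))).obj E)) := by
  let B := Localization.AtPrime Q
  let B' := Localization.AtPrime Q'
  have hsub : Q.primeCompl ≤ Q'.primeCompl := fun x hx hx' => hx (hle hx')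
  have hu : ∀ y : Q.primeCompl, IsUnit (algebraMap P B' y) := fun y =>
    IsLocalization.map_units B' (⟨y, hsub y.2⟩ : Q'.primeCompl)
  let π : B →+* B' := IsLocalization.lift (M := Q.primeCompl) hu
  have hπ : π.comp (algebraMap P B) = algebraMap P B' := IsLocalization.lift_comp hu
  have hflat : π.Flat := flat_lift_localization Q.primeCompl π
    (RingHom.flat_algebraMap_iff.2 (IsLocalization.flat B' Q'.primeCompl)) hπ
  exact DRingTor.of_iso (DerivedCategory.Q.mapIso
    ((NatIso.mapHomologicalComplex (ModuleCat.extendScalarsComp.{u, u} (algebraMap P B) π) (ComplexShape.up ℤ)).app E).symm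
    ≪≫ eqToIso (by rw [hπ])) (amp_extend π hflat _ h)

variable {R A Ay Bx : Type u} [CommRing R] [CommRing A] [CommRing Ay] [CommRing Bx] [Algebra R Ay]
  [Algebra A Bx]

/-- Tor amplitude at the point of affine space gives tor amplitude over the base at a point of a presented algebra. -/
theorem amp_base_of_point {d : ℕ} (ψ : MvPolynomial (Fin d) R →+* A) (hψ : Function.Surjective ψ)
    (q : Ideal A) [q.IsPrime] [IsLocalization.AtPrime Bx q]
    [IsLocalization.AtPrime Ay ((q.comap ψ).comap (algebraMap R (MvPolynomial (Fin d) R)))]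
    (σ : Ay →+* Bx) (hσ : σ.comp (algebraMap R Ay) = ((algebraMap A Bx).comp ψ).comp MvPolynomial.C)
    {E : DRing.Cx (MvPolynomial (Fin d) R)} (hE : DRing.TermwiseFiniteFree E) {b : ℤ}
    (hb : DRing.VanishesAbove E b) (Mc : DRing.Cx A)
    (e : DRing.toD E ≅ DRing.toD ((DRing.restrictCx ψ).obj Mc))
    (N : DRing.Cx Bx) (hN : IsKF ((DRing.restrictCx σ).obj N))
    (eN : DRing.toD N ≅ DRing.toD ((extC' (algebraMap A Bx)).obj Mc))
    (a : ℤ) (h : DRing.HasTorAmplitudeIn (Localization.AtPrime (q.comap ψ)) a b
      (DRing.toD ((extC' (algebraMap (MvPolynomial (Fin d) R) (Localization.AtPrime (q.comap ψ)))).obj E))) :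
    DRing.HasTorAmplitudeIn Ay a b (DRing.toD ((DRing.restrictCx σ).obj N)) := by
  let P := MvPolynomial (Fin d) R
  let Q := q.comap ψ
  let B := Localization.AtPrime Q
  let p := Q.comap (algebraMap R P)
  let β := algebraMap P B
  letI := ψ.toAlgebra
  letI : Algebra P Bx := ((algebraMap A Bx).comp ψ).toAlgebra
  haveI : IsScalarTower P A Bx := IsScalarTower.of_algebraMap_eq fun _ => rfl
  have hS : Algebra.algebraMapSubmonoid A Q.primeCompl = q.primeCompl := by
    ext x
    constructor
    · rintro ⟨y, hy, rfl⟩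
      exact hy
    · intro hx
      obtain ⟨y, rfl⟩ := hψ x
      exact ⟨y, hx, rfl⟩
  haveI : IsLocalization (Algebra.algebraMapSubmonoid A Q.primeCompl) Bx := hS.symm ▸ inferInstance
  let θ : B →+* Bx := IsLocalization.map (M := Q.primeCompl) (T := q.primeCompl) Bx ψ fun y hy => hy
  have hθ : θ.comp β = (algebraMap A Bx).comp ψ := IsLocalization.map_comp _
  letI : Algebra B Bx := θ.toAlgebra
  haveI : IsScalarTower P B Bx := IsScalarTower.of_algebraMap_eq fun x => (RingHom.congr_fun hθ x).symm
  haveI : Algebra.IsPushout P A B Bx := Algebra.isPushout_of_isLocalization Q.primeCompl B A Bx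
  have hmapP : (algebraMap P B).toAlgebra = (inferInstance : Algebra P B) := Algebra.algebra_ext _ _ fun _ => rfl
  obtain ⟨ρ⟩ : Nonempty (ModuleCat.restrictScalars.{u} ψ ⋙ ModuleCat.extendScalars.{u, u, u} β ≅
      ModuleCat.extendScalars.{u, u, u} (algebraMap A Bx) ⋙ ModuleCat.restrictScalars θ) := by
    exact nonempty_extend_restrict_iso_aux' ψ β (algebraMap A Bx) θ rfl hmapP
      (Algebra.IsPushout.equiv P A B Bx).toRingEquiv
      (fun x y => Algebra.IsPushout.equiv_tmul P A B Bx x y)
  let F := ModuleCat.extendScalars.{u, u, u} β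
  haveI := ModuleCat.preservesFiniteLimits_extendScalars_of_flat
    (RingHom.flat_algebraMap_iff.2 (IsLocalization.flat B Q.primeCompl) : β.Flat)
  haveI : PreservesFiniteColimits F := by
    haveI : F.IsLeftAdjoint := (ModuleCat.extendRestrictScalarsAdj β).isLeftAdjoint
    infer_instance
  let EQ := (extC' β).obj E
  let Mx := (extC' (algebraMap A Bx)).obj Mc
  let e₁ : (extC' β).obj ((DRing.restrictCx ψ).obj Mc) ≅ (DRing.restrictCx θ).obj Mx :=
    HomologicalComplex.Hom.isoOfComponents (fun n => ρ.app (Mc.X n))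
      (fun i j _ => (ρ.hom.naturality (Mc.d i j)).symm)
  let R' := ModuleCat.restrictScalars.{u} θ
  let eQ : DRing.toD EQ ≅ DRing.toD ((DRing.restrictCx θ).obj N) :=
    (F.mapDerivedCategoryFactors.app E).symm ≪≫ F.mapDerivedCategory.mapIso e ≪≫
      F.mapDerivedCategoryFactors.app _ ≪≫ DerivedCategory.Q.mapIso e₁ ≪≫
      (R'.mapDerivedCategoryFactors.app Mx).symm ≪≫ R'.mapDerivedCategory.mapIso eN.symm ≪≫
      R'.mapDerivedCategoryFactors.app N
  have hpu : ∀ x : p.primeCompl, IsUnit (algebraMap R B x) := fun x => by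
    rw [IsScalarTower.algebraMap_apply R P B]
    exact IsLocalization.map_units B (⟨algebraMap R P x, x.2⟩ : Q.primeCompl)
  let σB : Ay →+* B := IsLocalization.lift (M := p.primeCompl) hpu
  have hσB : σB.comp (algebraMap R Ay) = algebraMap R B := IsLocalization.lift_comp hpu
  have hcomp : σ = θ.comp σB := by
    refine IsLocalization.ringHom_ext p.primeCompl ?_
    rw [RingHom.comp_assoc, hσB, hσ, ← hθ, IsScalarTower.algebraMap_eq R P B]
    rfl
  have hEQ : DRing.TermwiseFiniteFree EQ := fun i => DRingRestrict.finFree_extendScalars β _ (hE i).1 (hE i).2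
  have hbQ : DRing.VanishesAbove EQ b := fun i hi => F.map_isZero (hb i hi)
  let EA := (DRing.restrictCx σB).obj EQ
  have hσflat : σB.Flat := flat_lift_localization p.primeCompl σB
    (RingHom.Flat.comp (RingHom.flat_algebraMap_iff.2 inferInstance : (algebraMap R P).Flat)
      (RingHom.flat_algebraMap_iff.2 (IsLocalization.flat B Q.primeCompl) : β.Flat))
    (hσB.trans (IsScalarTower.algebraMap_eq R P B))
  have hflat : DRing.TermwiseFlat EA := termwiseFlat_restrict σB hσflat EQ hEQ
  let RA := ModuleCat.restrictScalars.{u} σB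
  let eA : DRing.toD EA ≅ DRing.toD ((DRing.restrictCx σ).obj N) :=
    (RA.mapDerivedCategoryFactors.app EQ).symm ≪≫ RA.mapDerivedCategory.mapIso eQ ≪≫
      RA.mapDerivedCategoryFactors.app _ ≪≫ DerivedCategory.Q.mapIso
        ((NatIso.mapHomologicalComplex (ModuleCat.restrictScalarsComp' σB θ σ hcomp) (ComplexShape.up ℤ)).app N).symm
  exact DRingTor.of_iso eA (amp_restrict σB hσflat EQ h)

end Groth.Agent.PushAmp
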