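import Groth.Agent.PushAmp.PointwisePerfect
import Groth.Agent.PushAmp.TorBC
import Mathlib.RingTheory.Localization.BaseChange

/-!
# Tor amplitude at the points of a presented algebra from bounded fibres
-/

set_option autoImplicit false
set_option linter.style.haveILetI false
set_option backward.isDefEq.respectTransparency false

universe u

open CategoryTheory CategoryTheory.Limits TensorProduct

attribute [local instance] HasDerivedCategory.standard

namespace Groth.Agent.PushAmp

open H9Misc H9Misc.DRingTor H9Misc.DRingLTensor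

/-- Restriction of free complexes along a flat map. -/
theorem termwiseFlat_restrict {A B : Type u} [CommRing A] [CommRing B] (σ : A →+* B) (hσ : σ.Flat)
    (E : DRing.Cx B) (hE : DRing.TermwiseFiniteFree E) : DRing.TermwiseFlat ((DRing.restrictCx σ).obj E) := fun n => by
  letI := σ.toAlgebra
  haveI : Module.Flat A B := hσ
  haveI := (hE n).2
  letI : Module A (E.X n) := Module.compHom _ σ
  haveI : IsScalarTower A B (E.X n) := IsScalarTower.of_algebraMap_smul fun _ _ => rfl
  exact Module.Flat.trans A B (E.X n)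

/-- A flat map through a localisation of the base. -/
theorem flat_lift_localization {R A B : Type u} [CommRing R] [CommRing A] [CommRing B] [Algebra R A]
    (S : Submonoid R) [IsLocalization S A] (σ : A →+* B) {γ : R →+* B} (hγ : γ.Flat)
    (h : σ.comp (algebraMap R A) = γ) : σ.Flat := by
  letI := σ.toAlgebra
  letI := γ.toAlgebra
  haveI : IsScalarTower R A B := IsScalarTower.of_algebraMap_eq fun r => (RingHom.congr_fun h r).symm
  haveI : Module.Flat R B := hγ
  exact (Module.flat_iff_of_isLocalization A S B).2 inferInstance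

/-- Exactness after an extension of scalars only depends on a K-flat object. -/
theorem exactAt_extC_of_iso {A B : Type u} [CommRing A] [CommRing B] (φ : A →+* B) {P Q : DRing.Cx A}
    (hP : IsKF P) (hQ : IsKF Q) (e : DRing.toD P ≅ DRing.toD Q) (i : ℤ) (h : ((extC' φ).obj P).ExactAt i) :
    ((extC' φ).obj Q).ExactAt i := by
  haveI := DRingLBase.hasLBaseChange φ
  obtain ⟨eP⟩ := DRingLBase.nonempty_lbase_iso φ hP
  obtain ⟨eQ⟩ := DRingLBase.nonempty_lbase_iso φ hQ
  let H := DerivedCategory.homologyFunctor (ModuleCat.{u} B) i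
  rw [HomologicalComplex.exactAt_iff_isZero_homology] at h ⊢
  exact h.of_iso ((H.mapIso (eP.symm ≪≫ (DRing.LBaseChange φ).mapIso e ≪≫ eQ) ≪≫
    (DerivedCategory.homologyFunctorFactors _ i).app _).symm ≪≫
    (DerivedCategory.homologyFunctorFactors _ i).app _)

/-- Base change and restriction, with given algebra structures. -/
theorem nonempty_extend_restrict_iso_aux' {Ay Bx Ay' T : Type u} [CommRing Ay] [CommRing Bx] [CommRing Ay']
    [CommRing T] [i₁ : Algebra Ay Bx] [i₂ : Algebra Ay Ay'] (σ : Ay →+* Bx) (τ : Ay →+* Ay') (l : Bx →+* T)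
    (r : Ay' →+* T) (h₁ : σ.toAlgebra = i₁) (h₂ : τ.toAlgebra = i₂) (e : Bx ⊗[Ay] Ay' ≃+* T)
    (he : ∀ b a, e (b ⊗ₜ[Ay] a) = l b * r a) :
    Nonempty (ModuleCat.restrictScalars.{u} σ ⋙ ModuleCat.extendScalars.{u, u, u} τ ≅
      ModuleCat.extendScalars.{u, u, u} l ⋙ ModuleCat.restrictScalars r) := by
  subst h₁
  subst h₂
  exact nonempty_extend_restrict_iso_aux σ τ l r e he

variable {P A : Type u} [CommRing P] [CommRing A]

/-- An extension killed by a unit. -/
theorem isZero_extend_of_unit {S : Type u} [CommRing S] (φ : P →+* S) (M : ModuleCat.{u} P) (g : P)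
    (hu : IsUnit (φ g)) (hM : ∀ m : M, g • m = 0) : IsZero ((ModuleCat.extendScalars.{u, u, u} φ).obj M) := by
  letI := φ.toAlgebra
  obtain ⟨u, hu⟩ := hu
  have key : ∀ z : S ⊗[P] M, z = 0 := fun z => by
    induction z with
    | zero => rfl
    | add x y hx hy => rw [hx, hy, add_zero]
    | tmul s m =>
      have hs : s = g • ((↑u⁻¹ : S) * s) := by
        rw [Algebra.smul_def, show algebraMap P S g = (u : S) from hu.symm, ← mul_assoc, Units.mul_inv, one_mul]
      rw [hs, TensorProduct.smul_tmul, hM m, TensorProduct.tmul_zero]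
  exact @ModuleCat.isZero_of_subsingleton _ _ _ ⟨fun x y => (key x).trans (key y).symm⟩

/-- Off the support, the localisation of a restricted complex is zero. -/
theorem amp_extend_restrict_of_not_le (ψ : P →+* A) (Q : PrimeSpectrum P) (hQ : ¬ RingHom.ker ψ ≤ Q.asIdeal)
    (Mc : DRing.Cx A) (a b : ℤ) :
    DRing.HasTorAmplitudeIn (Localization.AtPrime Q.asIdeal) a b
      (DRing.toD ((extC' (algebraMap P (Localization.AtPrime Q.asIdeal))).obj ((DRing.restrictCx ψ).obj Mc))) := by
  obtain ⟨g, hg, hgQ⟩ := SetLike.not_le_iff_exists.1 hQ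
  let S := Localization.AtPrime Q.asIdeal
  have hz : ∀ n, IsZero (((extC' (algebraMap P S)).obj ((DRing.restrictCx ψ).obj Mc)).X n) := fun n =>
    isZero_extend_of_unit (algebraMap P S) ((ModuleCat.restrictScalars ψ).obj (Mc.X n)) g
      (IsLocalization.map_units S (⟨g, hgQ⟩ : Q.asIdeal.primeCompl)) fun m => by
        show ψ g • (show Mc.X n from m) = 0
        rw [RingHom.mem_ker.1 hg, zero_smul]
  refine ⟨_, fun i _ => hz i, fun i => ?_, ⟨Iso.refl _⟩⟩
  haveI := ModuleCat.subsingleton_of_isZero (hz i)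
  infer_instance

variable {R Ay Bx : Type u} [CommRing R] [CommRing Ay] [CommRing Bx] [Algebra R Ay] [IsLocalRing Ay] [Algebra A Bx]

/-- Bounded fibre at a point of a presented algebra gives tor amplitude at the point of affine space. -/
theorem amp_of_fibre_point {d : ℕ} (ψ : MvPolynomial (Fin d) R →+* A) (hψ : Function.Surjective ψ)
    (q : Ideal A) [q.IsPrime] [IsLocalization.AtPrime Bx q]
    [IsLocalization.AtPrime Ay ((q.comap ψ).comap (algebraMap R (MvPolynomial (Fin d) R)))]
    (σ : Ay →+* Bx) (hσ : σ.comp (algebraMap R Ay) = ((algebraMap A Bx).comp ψ).comp MvPolynomial.C)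
    {E : DRing.Cx (MvPolynomial (Fin d) R)} (hE : DRing.TermwiseFiniteFree E) {b : ℤ}
    (hb : DRing.VanishesAbove E b) (Mc : DRing.Cx A)
    (e : DRing.toD E ≅ DRing.toD ((DRing.restrictCx ψ).obj Mc))
    (N : DRing.Cx Bx) (hN : IsKF ((DRing.restrictCx σ).obj N))
    (eN : DRing.toD N ≅ DRing.toD ((extC' (algebraMap A Bx)).obj Mc))
    (a : ℤ) (h : ∀ i < a, ((extC' (IsLocalRing.residue Ay)).obj ((DRing.restrictCx σ).obj N)).ExactAt i) :
    DRing.HasTorAmplitudeIn (Localization.AtPrime (q.comap ψ)) (a - d) b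
      (DRing.toD ((extC' (algebraMap (MvPolynomial (Fin d) R) (Localization.AtPrime (q.comap ψ)))).obj E)) := by
  let P := MvPolynomial (Fin d) R
  let Q := q.comap ψ
  let B := Localization.AtPrime Q
  let p := Q.comap (algebraMap R P)
  let β := algebraMap P B
  letI := ψ.toAlgebra
  letI : Algebra P Bx := ((algebraMap A Bx).comp ψ).toAlgebra
  haveI : IsScalarTower P A Bx := IsScalarTower.of_algebraMap_eq fun _ => rfl
  have hS : Algebra.algebraMapSubmonoid A Q.primeCompl = q.primeCompl := by
    ext x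
    constructor
    · rintro ⟨y, hy, rfl⟩
      exact hy
    · intro hx
      obtain ⟨y, rfl⟩ := hψ x
      exact ⟨y, hx, rfl⟩
  haveI : IsLocalization (Algebra.algebraMapSubmonoid A Q.primeCompl) Bx := hS.symm ▸ inferInstance
  let θ : B →+* Bx := IsLocalization.map (M := Q.primeCompl) (T := q.primeCompl) Bx ψ fun y hy => hy
  have hθ : θ.comp β = (algebraMap A Bx).comp ψ := IsLocalization.map_comp _
  letI : Algebra B Bx := θ.toAlgebra
  haveI : IsScalarTower P B Bx := IsScalarTower.of_algebraMap_eq fun x => (RingHom.congr_fun hθ x).symm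
  haveI : Algebra.IsPushout P A B Bx := Algebra.isPushout_of_isLocalization Q.primeCompl B A Bx
  have hmapP : (algebraMap P B).toAlgebra = (inferInstance : Algebra P B) := Algebra.algebra_ext _ _ fun _ => rfl
  obtain ⟨ρ⟩ : Nonempty (ModuleCat.restrictScalars.{u} ψ ⋙ ModuleCat.extendScalars.{u, u, u} β ≅
      ModuleCat.extendScalars.{u, u, u} (algebraMap A Bx) ⋙ ModuleCat.restrictScalars θ) := by
    exact nonempty_extend_restrict_iso_aux' ψ β (algebraMap A Bx) θ rfl hmapP
      (Algebra.IsPushout.equiv P A B Bx).toRingEquiv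
      (fun x y => Algebra.IsPushout.equiv_tmul P A B Bx x y)
  let F := ModuleCat.extendScalars.{u, u, u} β
  haveI := ModuleCat.preservesFiniteLimits_extendScalars_of_flat
    (RingHom.flat_algebraMap_iff.2 (IsLocalization.flat B Q.primeCompl) : β.Flat)
  haveI : PreservesFiniteColimits F := by
    haveI : F.IsLeftAdjoint := (ModuleCat.extendRestrictScalarsAdj β).isLeftAdjoint
    infer_instance
  let EQ := (extC' β).obj E
  let Mx := (extC' (algebraMap A Bx)).obj Mc
  let e₁ : (extC' β).obj ((DRing.restrictCx ψ).obj Mc) ≅ (DRing.restrictCx θ).obj Mx :=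
    HomologicalComplex.Hom.isoOfComponents (fun n => ρ.app (Mc.X n))
      (fun i j _ => (ρ.hom.naturality (Mc.d i j)).symm)
  let R' := ModuleCat.restrictScalars.{u} θ
  let eQ : DRing.toD EQ ≅ DRing.toD ((DRing.restrictCx θ).obj N) :=
    (F.mapDerivedCategoryFactors.app E).symm ≪≫ F.mapDerivedCategory.mapIso e ≪≫
      F.mapDerivedCategoryFactors.app _ ≪≫ DerivedCategory.Q.mapIso e₁ ≪≫
      (R'.mapDerivedCategoryFactors.app Mx).symm ≪≫ R'.mapDerivedCategory.mapIso eN.symm ≪≫
      R'.mapDerivedCategoryFactors.app N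
  have hpu : ∀ x : p.primeCompl, IsUnit (algebraMap R B x) := fun x => by
    rw [IsScalarTower.algebraMap_apply R P B]
    exact IsLocalization.map_units B (⟨algebraMap R P x, x.2⟩ : Q.primeCompl)
  let σB : Ay →+* B := IsLocalization.lift (M := p.primeCompl) hpu
  have hσB : σB.comp (algebraMap R Ay) = algebraMap R B := IsLocalization.lift_comp hpu
  have hcomp : σ = θ.comp σB := by
    refine IsLocalization.ringHom_ext p.primeCompl ?_
    rw [RingHom.comp_assoc, hσB, hσ, ← hθ, IsScalarTower.algebraMap_eq R P B]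
    rfl
  have hEQ : DRing.TermwiseFiniteFree EQ := fun i => DRingRestrict.finFree_extendScalars β _ (hE i).1 (hE i).2
  have hbQ : DRing.VanishesAbove EQ b := fun i hi => F.map_isZero (hb i hi)
  let EA := (DRing.restrictCx σB).obj EQ
  have hσflat : σB.Flat := flat_lift_localization p.primeCompl σB
    (RingHom.Flat.comp (RingHom.flat_algebraMap_iff.2 inferInstance : (algebraMap R P).Flat)
      (RingHom.flat_algebraMap_iff.2 (IsLocalization.flat B Q.primeCompl) : β.Flat))
    (hσB.trans (IsScalarTower.algebraMap_eq R P B))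
  have hflat : DRing.TermwiseFlat EA := termwiseFlat_restrict σB hσflat EQ hEQ
  let RA := ModuleCat.restrictScalars.{u} σB
  let eA : DRing.toD EA ≅ DRing.toD ((DRing.restrictCx σ).obj N) :=
    (RA.mapDerivedCategoryFactors.app EQ).symm ≪≫ RA.mapDerivedCategory.mapIso eQ ≪≫
      RA.mapDerivedCategoryFactors.app _ ≪≫ DerivedCategory.Q.mapIso
        ((NatIso.mapHomologicalComplex (ModuleCat.restrictScalarsComp' σB θ σ hcomp) (ComplexShape.up ℤ)).app N).symm
  exact amp_polyPoint (A := Ay) (⟨Q, inferInstance⟩ : PrimeSpectrum P) σB hσB hEQ hbQ a fun i hi =>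
    exactAt_extC_of_iso _ hN (isKF_of_flat hflat (fun n hn => RA.map_isZero (hbQ n hn))) eA.symm i (h i hi)

/-- Base change of a flat map on one factor. -/
theorem flat_map_id_of_flat (R A C κ : Type u) [CommRing R] [CommRing A] [CommRing C] [CommRing κ] [Algebra R A]
    [Algebra A C] [Algebra R C] [IsScalarTower R A C] [Algebra R κ] [Module.Flat A C] :
    (Algebra.TensorProduct.map (IsScalarTower.toAlgHom R A C) (AlgHom.id R κ)).toRingHom.Flat :=
  RingHom.Flat.tensorProductMap
    (show (algebraMap A C).Flat from RingHom.flat_algebraMap_iff.2 inferInstance) (RingHom.Flat.id κ)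

/-- Restriction along a composite. -/
noncomputable def restrictCxCompIso {A B C : Type u} [CommRing A] [CommRing B] [CommRing C] (f : A →+* B) (g : B →+* C)
    (h : A →+* C) (e : h = g.comp f) (K : DRing.Cx C) :
    (DRing.restrictCx h).obj K ≅ (DRing.restrictCx f).obj ((DRing.restrictCx g).obj K) :=
  (NatIso.mapHomologicalComplex (ModuleCat.restrictScalarsComp' f g h e) (ComplexShape.up ℤ)).app K

/-- A presented algebra: bounded cohomology and tor amplitude at the points give finite tor amplitude over the base. -/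
theorem exists_amp_of_points {R A : Type u} [CommRing R] [CommRing A] {d : ℕ}
    (ψ : MvPolynomial (Fin d) R →+* A)
    {E : DRing.Cx (MvPolynomial (Fin d) R)} (hE : DRing.TermwiseFiniteFree E) {b : ℤ}
    (hb : DRing.VanishesAbove E b) (Mc : DRing.Cx A)
    (e : DRing.toD E ≅ DRing.toD ((DRing.restrictCx ψ).obj Mc))
    (hψsurj : Function.Surjective ψ) (a₀ : ℤ) (hH : ∀ i < a₀, IsZero (Mc.homology i))
    (h : ∀ (q : Ideal A) [q.IsPrime], ∃ a : ℤ, DRing.HasTorAmplitudeIn (Localization.AtPrime (q.comap ψ)) a b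
      (DRing.toD ((extC' (algebraMap (MvPolynomial (Fin d) R) (Localization.AtPrime (q.comap ψ)))).obj E))) :
    ∃ a a' : ℤ, DRing.HasTorAmplitudeIn R a a' (DRing.toD ((DRing.restrictCx (ψ.comp MvPolynomial.C)).obj Mc)) := by
  let P := MvPolynomial (Fin d) R
  let M' := (DRing.restrictCx ψ).obj Mc
  have hEH : ∀ i < a₀, IsZero (E.homology i) := fun i hi => by
    obtain ⟨eH⟩ := hd_iso e i
    obtain ⟨eM⟩ := hd_iso (Iso.refl (DRing.toD M')) i
    exact (((ModuleCat.restrictScalars.{u} ψ).map_isZero (hH i hi)).of_iso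
      ((Mc.sc i).mapHomologyIso (ModuleCat.restrictScalars.{u} ψ))).of_iso (eH.symm ≪≫ eM)
  have hperf := isPerfect_of_pointwise hE hb a₀ hEH fun Q => by
    by_cases hQ : RingHom.ker ψ ≤ Q.asIdeal
    · by_cases hψ : Function.Surjective ψ
      · obtain ⟨q, hq, hqQ⟩ : ∃ q : Ideal A, q.IsPrime ∧ q.comap ψ = Q.asIdeal :=
          ⟨Q.asIdeal.map ψ, Ideal.map_isPrime_of_surjective hψ hQ, by
            rw [Ideal.comap_map_of_surjective ψ hψ]
            exact sup_eq_left.2 hQ⟩
        haveI := hq
        obtain ⟨a, ha⟩ := h q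
        refine ⟨a, ?_⟩
        have key : ∀ (J : Ideal P) [J.IsPrime], J = Q.asIdeal → DRing.HasTorAmplitudeIn (Localization.AtPrime J) a b
            (DRing.toD ((extC' (algebraMap P (Localization.AtPrime J))).obj E)) →
            DRing.HasTorAmplitudeIn (Localization.AtPrime Q.asIdeal) a b
              (DRing.toD ((extC' (algebraMap P (Localization.AtPrime Q.asIdeal))).obj E)) := by
          rintro J _ rfl hJ
          exact hJ
        exact key _ hqQ ha
      · exact absurd hψsurj hψ
    · let F := ModuleCat.extendScalars.{u, u, u} (algebraMap P (Localization.AtPrime Q.asIdeal))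
      haveI := ModuleCat.preservesFiniteLimits_extendScalars_of_flat
        (RingHom.flat_algebraMap_iff.2 (IsLocalization.flat (Localization.AtPrime Q.asIdeal) Q.asIdeal.primeCompl) :
          (algebraMap P (Localization.AtPrime Q.asIdeal)).Flat)
      haveI : PreservesFiniteColimits F := by
        haveI : F.IsLeftAdjoint := (ModuleCat.extendRestrictScalarsAdj (algebraMap P (Localization.AtPrime Q.asIdeal))).isLeftAdjoint
        infer_instance
      exact ⟨b, DRingTor.of_iso ((F.mapDerivedCategoryFactors.app M').symm ≪≫ F.mapDerivedCategory.mapIso e.symm ≪≫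
        F.mapDerivedCategoryFactors.app E) (amp_extend_restrict_of_not_le ψ Q hQ Mc b b)⟩
  obtain ⟨-, a, a', ha⟩ := (DRingPerfect.isPerfect_iff _).1 hperf
  refine ⟨a, a', DRingTor.of_iso (DerivedCategory.Q.mapIso (restrictCxCompIso MvPolynomial.C ψ _ rfl Mc)).symm
    (amp_restrict (MvPolynomial.C : R →+* P) ?_ M' (DRingTor.of_iso e ha))⟩
  exact (RingHom.flat_algebraMap_iff (R := R) (S := P)).2 inferInstance

/-- Bounded fibres localise. -/
theorem exactAt_residue_of_fibre {R A C Ay : Type u} [CommRing R] [CommRing A] [CommRing C] [CommRing Ay]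
    [IsLocalRing Ay] [Algebra R A] [Algebra A C] [Algebra R C] [IsScalarTower R A C] [Algebra R Ay] [Algebra Ay C]
    [IsScalarTower R Ay C] (S : Submonoid R) [IsLocalization S Ay] [Module.Flat A C]
    {γ : R →+* A} (hγ : γ = algebraMap R A) {σ : Ay →+* C} (hσ : σ = algebraMap Ay C)
    {κm : R →+* IsLocalRing.ResidueField Ay} (hκ : κm = algebraMap R (IsLocalRing.ResidueField Ay))
    (Mc : DRing.Cx A) (i : ℤ) (h : ((extC' κm).obj ((DRing.restrictCx γ).obj Mc)).ExactAt i) :
    ((extC' (IsLocalRing.residue Ay)).obj ((DRing.restrictCx σ).obj ((extC' (algebraMap A C)).obj Mc))).ExactAt i := by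
  subst hγ
  subst hσ
  subst hκ
  let κ := IsLocalRing.ResidueField Ay
  let T := C ⊗[R] κ
  let lA : A →+* A ⊗[R] κ := Algebra.TensorProduct.includeLeftRingHom
  let rA : κ →+* A ⊗[R] κ := (Algebra.TensorProduct.includeRight (R := R) (A := A) (B := κ)).toRingHom
  let lC : C →+* T := Algebra.TensorProduct.includeLeftRingHom
  let rC : κ →+* T := (Algebra.TensorProduct.includeRight (R := R) (A := C) (B := κ)).toRingHom
  let m : A ⊗[R] κ →+* T :=
    (Algebra.TensorProduct.map (IsScalarTower.toAlgHom R A C) (AlgHom.id R κ)).toRingHom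
  have hm : m.Flat := flat_map_id_of_flat R A C κ
  have hA : (algebraMap R A).toAlgebra = (inferInstance : Algebra R A) := Algebra.algebra_ext _ _ fun _ => rfl
  have hκR : (algebraMap R κ).toAlgebra = (inferInstance : Algebra R κ) := Algebra.algebra_ext _ _ fun _ => rfl
  have hAy : (algebraMap Ay C).toAlgebra = (inferInstance : Algebra Ay C) := Algebra.algebra_ext _ _ fun _ => rfl
  have hres : (IsLocalRing.residue Ay).toAlgebra = (inferInstance : Algebra Ay κ) :=
    Algebra.algebra_ext _ _ fun _ => rfl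
  obtain ⟨ρ₁⟩ := nonempty_extend_restrict_iso_aux' (algebraMap R A) (algebraMap R κ) lA rA
    hA hκR (RingEquiv.refl _)
    (fun x y => by simp [lA, rA])
  obtain ⟨ρ₂⟩ := nonempty_extend_restrict_iso_aux' (algebraMap Ay C) (IsLocalRing.residue Ay) lC rC
    hAy hres
    (IsLocalization.algebraTensorEquiv S Ay C κ).toRingEquiv
    (fun x y => by
      show x ⊗ₜ[R] y = (x ⊗ₜ[R] (1 : κ)) * ((1 : C) ⊗ₜ[R] y)
      rw [Algebra.TensorProduct.tmul_mul_tmul, mul_one, one_mul])
  let e₁ : (extC' (algebraMap R κ)).obj ((DRing.restrictCx (algebraMap R A)).obj Mc) ≅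
      (DRing.restrictCx rA).obj ((extC' lA).obj Mc) :=
    HomologicalComplex.Hom.isoOfComponents (fun n => ρ₁.app (Mc.X n))
      (fun i j _ => (ρ₁.hom.naturality (Mc.d i j)).symm)
  let N := (extC' (algebraMap A C)).obj Mc
  let e₂ : (extC' (IsLocalRing.residue Ay)).obj ((DRing.restrictCx (algebraMap Ay C)).obj N) ≅
      (DRing.restrictCx rC).obj ((extC' lC).obj N) :=
    HomologicalComplex.Hom.isoOfComponents (fun n => ρ₂.app (N.X n))
      (fun i j _ => (ρ₂.hom.naturality (N.d i j)).symm)
  have h1 : ((extC' lA).obj Mc).ExactAt i :=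
    (ShortComplex.exact_map_iff_of_faithful _ (ModuleCat.restrictScalars rA)).1 (h.of_iso e₁)
  haveI := ModuleCat.preservesFiniteLimits_extendScalars_of_flat hm
  haveI : PreservesFiniteColimits (ModuleCat.extendScalars.{u, u, u} m) := by
    haveI : (ModuleCat.extendScalars.{u, u, u} m).IsLeftAdjoint :=
      (ModuleCat.extendRestrictScalarsAdj m).isLeftAdjoint
    infer_instance
  have h2 : ((extC' m).obj ((extC' lA).obj Mc)).ExactAt i := h1.map (ModuleCat.extendScalars.{u, u, u} m)
  have h3 : ((extC' lC).obj N).ExactAt i := (DRingFibre.exactAt_extC_comp (algebraMap A C) lC _ rfl i).2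
    ((DRingFibre.exactAt_extC_comp lA m _ (RingHom.ext fun x => by
      show (algebraMap A C x) ⊗ₜ[R] (1 : κ) =
        Algebra.TensorProduct.map (IsScalarTower.toAlgHom R A C) (AlgHom.id R κ) (x ⊗ₜ 1)
      rw [Algebra.TensorProduct.map_tmul]
      rfl) i).1 h2)
  have h4 : ((DRing.restrictCx rC).obj ((extC' lC).obj N)).ExactAt i := h3.map (ModuleCat.restrictScalars rC)
  exact h4.of_iso e₂.symm

end Groth.Agent.PushAmp
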