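import Groth.Agent.H9Misc.DRingFibre
import Groth.Agent.H9Misc.DRingGlobalDim

/-!
# Tor amplitude over the base and global dimension of the fibres
-/

set_option autoImplicit false
set_option linter.style.haveILetI false
set_option backward.isDefEq.respectTransparency false
set_option backward.isDefEq.respectTransparency.types false

universe u

open CategoryTheory CategoryTheory.Limits TensorProduct MonoidalCategory

attribute [local instance] HasDerivedCategory.standard

namespace Groth.Agent.PushAmp

open H9Misc H9Misc.DRingLTensor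

/-- Exactness of a tensor product gives exactness of the tensored sequences. -/
theorem exact_lTensor_of_tensC {A : Type u} [CommRing A] {E : DRing.Cx A} (M : ModuleCat.{u} A) (i : ℤ)
    (h : ((tensC M).obj E).ExactAt i) :
    Function.Exact ((E.d (i - 1) i).hom.lTensor M) ((E.d i (i + 1)).hom.lTensor M) := by
  rw [HomologicalComplex.exactAt_iff' _ (i - 1) i (i + 1) (by simp) (by simp),
    ShortComplex.ShortExact.moduleCat_exact_iff_function_exact] at h
  replace h : Function.Exact ((E.d (i - 1) i).hom.rTensor M) ((E.d i (i + 1)).hom.rTensor M) := h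
  exact (Function.Exact.iff_of_ladder_linearEquiv (e₁ := TensorProduct.comm A (E.X (i - 1)) M)
    (e₂ := TensorProduct.comm A (E.X i) M) (e₃ := TensorProduct.comm A (E.X (i + 1)) M)
    (by ext; rfl) (by ext; rfl)).2 h

/-- Exactness of the tensored sequences gives exactness of the extended complex. -/
theorem exactAt_extC_of_exact {A B : Type u} [CommRing A] [CommRing B] [i3 : Algebra A B] {E : DRing.Cx A}
    (i : ℤ) (h : Function.Exact ((E.d (i - 1) i).hom.lTensor B) ((E.d i (i + 1)).hom.lTensor B)) :
    ((extC' (algebraMap A B)).obj E).ExactAt i := by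
  revert h
  have he : (algebraMap A B).toAlgebra = i3 := Algebra.algebra_ext _ _ fun _ => rfl
  generalize algebraMap A B = φ at he
  subst he
  intro h
  rw [HomologicalComplex.exactAt_iff' _ (i - 1) i (i + 1) (by simp) (by simp),
    ShortComplex.moduleCat_exact_iff]
  intro y hy
  obtain ⟨x, hx⟩ := (h y).1 hy
  exact ⟨x, hx⟩

/-- A flat algebra with fibres of global dimension at most `d`: vanishing in the closed fibres gives tor
amplitude over the algebra. -/
theorem amp_of_fibre_exact {A B : Type u} [CommRing A] [CommRing B] [Algebra A B] (d : ℕ)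
    (hgl : ∀ (m : Ideal B) [m.IsMaximal]
      (M : ModuleCat.{u} ((Ideal.comap (algebraMap A B) m).ResidueField ⊗[A] B)),
      HasProjectiveDimensionLT M (d + 1))
    {E : DRing.Cx B} (hE : DRing.TermwiseFiniteFree E) {b₀ : ℤ} (hz : DRing.VanishesAbove E b₀) {a b : ℤ}
    {K : Dual.D B} (e : DRing.toD E ≅ K)
    (hfib : ∀ (m : Ideal B) [m.IsMaximal] (n : ℤ), (n < a ∨ b < n) →
      let EA := ((ModuleCat.restrictScalars.{u} (algebraMap A B)).mapHomologicalComplex (ComplexShape.up ℤ)).obj E
      Function.Exact ((EA.d (n - 1) n).hom.lTensor (Ideal.comap (algebraMap A B) m).ResidueField)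
        ((EA.d n (n + 1)).hom.lTensor (Ideal.comap (algebraMap A B) m).ResidueField)) :
    DRing.HasTorAmplitudeIn B (a - d) b K := by
  refine DRingTor.of_iso e (DRingFibre.amp_of_fibres hE hz (a - d) b fun m hm i hi => ?_)
  letI : Field (B ⧸ m) := Ideal.Quotient.field m
  let p : PrimeSpectrum A := ⟨Ideal.comap (algebraMap A B) m, inferInstance⟩
  let κ := p.asIdeal.ResidueField
  letI := Algebra.TensorProduct.rightAlgebra (R := A) (A := κ) (B := B)
  let S := κ ⊗[A] B
  let L := (extC' (algebraMap B S)).obj E
  have hLf : DRing.TermwiseFiniteFree L := fun n => DRingRestrict.finFree_extendScalars _ _ (hE n).1 (hE n).2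
  have hLz : DRing.VanishesAbove L b₀ := fun n hn =>
    (ModuleCat.extendScalars.{u, u, u} (algebraMap B S)).map_isZero (hz n hn)
  have hL : ∀ n : ℤ, (n < a ∨ b < n) → Subsingleton (Dual.HD S (DRing.toD L) n) := fun n hn => by
    have hA := hfib m n hn
    letI : ∀ k, Module A (E.X k) := fun k => Module.compHom _ (algebraMap A B)
    haveI : ∀ k, IsScalarTower A B (E.X k) := fun k => IsScalarTower.of_algebraMap_smul fun _ _ => rfl
    replace hA : Function.Exact (((E.d (n - 1) n).hom.restrictScalars A).lTensor κ)
        (((E.d n (n + 1)).hom.restrictScalars A).lTensor κ) := hA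
    have hX : Function.Exact ((E.d (n - 1) n).hom.baseChange S) ((E.d n (n + 1)).hom.baseChange S) := by
      let g := fun k => Algebra.IsPushout.cancelBaseChange A κ B S (E.X k)
      intro y
      have hn1 : ∀ {j k : ℤ} (d : E.X j →ₗ[B] E.X k) (x : S ⊗[B] E.X j),
          g k (d.baseChange S x) = (d.restrictScalars A).lTensor κ (g j x) := fun d x => by
        obtain ⟨z, rfl⟩ := (g _).symm.surjective x
        induction z with
        | zero => simp
        | add u v hu hv => simp only [map_add, hu, hv]
        | tmul c v =>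
          rw [LinearEquiv.apply_symm_apply]
          apply (g _).symm.injective
          simp [g]
      constructor
      · intro hy
        obtain ⟨x, hx⟩ := (hA (g n y)).1 (by rw [← hn1, hy, map_zero])
        exact ⟨(g (n - 1)).symm x, (g n).injective (by rw [hn1, LinearEquiv.apply_symm_apply, hx])⟩
      · rintro ⟨x, rfl⟩
        exact (g (n + 1)).injective (by rw [hn1, hn1, map_zero]; exact (hA _).2 ⟨_, rfl⟩)
    have hLn := exactAt_extC_of_exact (B := S) n hX
    obtain ⟨eH⟩ := DRingTor.hd_iso (Iso.refl (DRing.toD L)) n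
    exact ModuleCat.subsingleton_of_isZero (M := ModuleCat.of S (Dual.HD S (DRing.toD L) n))
      (((HomologicalComplex.exactAt_iff_isZero_homology _ _).1 hLn).of_iso eH)
  obtain ⟨P, hPz, hP, ⟨eP⟩⟩ := DRingGlobalDim.exists_projective_rep_of_hd d (hgl m) hL
  have hVL : DRingTor.Van (a - d) b L :=
    (DRingTor.iff_van (DRingFibre.isKF hLf hLz) (Iso.refl _)).1 (DRingPerfect.amp_of_finProj hPz hP eP)
  let κm : κ →ₐ[A] B ⧸ m := Ideal.ResidueField.liftₐ p.asIdeal (Algebra.ofId A (B ⧸ m))
    (fun x hx => Ideal.Quotient.eq_zero_iff_mem.2 hx)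
    (fun x hx => isUnit_iff_ne_zero.2 fun h0 => hx (Ideal.mem_comap.2 ((Ideal.Quotient.eq_zero_iff_mem (I := m)).1 h0)))
  let π : S →+* B ⧸ m := (Algebra.TensorProduct.lift κm ((Ideal.Quotient.mkₐ B m).restrictScalars A)
    (fun _ _ => Commute.all _ _)).toRingHom
  letI := π.toAlgebra
  have hπ : Ideal.Quotient.mk m = π.comp (algebraMap B S) := RingHom.ext fun x => by
    show _ = Algebra.TensorProduct.lift κm ((Ideal.Quotient.mkₐ B m).restrictScalars A)
      (fun _ _ => Commute.all _ _) ((1 : κ) ⊗ₜ[A] x)
    simp
  exact (DRingFibre.exactAt_extC_comp (algebraMap B S) π _ hπ i).1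
    (exactAt_extC_of_exact (B := B ⧸ m) i (exact_lTensor_of_tensC (ModuleCat.of S (B ⧸ m)) i (hVL _ i hi)))


/-- A flat algebra with fibres of global dimension at most `d`: tor amplitude over the base gives tor
amplitude over the algebra. -/
theorem amp_of_flat_fibres {A B : Type u} [CommRing A] [CommRing B] [Algebra A B] [Module.Flat A B] (d : ℕ)
    (hgl : ∀ (m : Ideal B) [m.IsMaximal]
      (M : ModuleCat.{u} ((Ideal.comap (algebraMap A B) m).ResidueField ⊗[A] B)),
      HasProjectiveDimensionLT M (d + 1))
    {E : DRing.Cx B} (hE : DRing.TermwiseFiniteFree E) {b₀ : ℤ} (hz : DRing.VanishesAbove E b₀) {a b : ℤ}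
    {K : Dual.D B} (e : DRing.toD E ≅ K)
    (hKa : DRing.HasTorAmplitudeIn A a b ((DRing.restrictD (algebraMap A B)).obj K)) :
    DRing.HasTorAmplitudeIn B (a - d) b K := by
  refine amp_of_fibre_exact d hgl hE hz e fun m _ n hn => ?_
  let R := ModuleCat.restrictScalars.{u} (algebraMap A B)
  let EA := (R.mapHomologicalComplex (ComplexShape.up ℤ)).obj E
  have hflat : DRing.TermwiseFlat EA := fun n => by
    haveI := (hE n).2
    letI : Module A (E.X n) := Module.compHom _ (algebraMap A B)
    haveI : IsScalarTower A B (E.X n) := IsScalarTower.of_algebraMap_smul fun _ _ => rfl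
    exact Module.Flat.trans A B (E.X n)
  have hV : DRingTor.Van a b EA := (DRingTor.iff_van
    (DRingTor.isKF_of_flat hflat (fun n hn => R.map_isZero (hz n hn)))
    ((R.mapDerivedCategoryFactors.app E).symm ≪≫ (DRing.restrictD (algebraMap A B)).mapIso e)).1 hKa
  exact exact_lTensor_of_tensC (ModuleCat.of A (Ideal.comap (algebraMap A B) m).ResidueField) n (hV _ n hn)

end Groth.Agent.PushAmp
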