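import Groth.Agent.PushAmp.HTorComputes
import Groth.Agent.PushAmp.TensorPerfect
import Groth.Agent.GBC.Complexes
import Groth.Agent.MorLib.FlatBC
import Groth.Agent.KFlatLib.Scheme.Adjoint
import Groth.Agent.QCoh.Pullback
import Groth.Prelude.Def_ega3

/-!
# Base change and Künneth for complexes flat over the base
-/

set_option autoImplicit false
set_option linter.style.haveILetI false
set_option backward.isDefEq.respectTransparency false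
set_option maxHeartbeats 1000000

universe u

open CategoryTheory CategoryTheory.Limits AlgebraicGeometry MonoidalCategory

attribute [local instance] HasDerivedCategory.standard

noncomputable section

namespace Groth.Agent.PushAmp

open KFlatLib

/-- Cohomology and base change over affine bases. -/
theorem computes_baseChange {A A' : Type u} [CommRing A] [CommRing A'] (φ : A →+* A') {X X' : Scheme.{u}}
    (f : X ⟶ Spec (CommRingCat.of A)) [QuasiCompact f] [QuasiSeparated f] [HTor.HasRΓA f]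
    (f' : X' ⟶ Spec (CommRingCat.of A')) [HTor.HasRΓA f'] (g' : X' ⟶ X)
    (H : IsPullback g' f' f (Spec.map (CommRingCat.ofHom φ)))
    (P : CochainComplex X.Modules ℤ) (hq : ∀ i, Coh.IsQCoh (P.X i))
    (b : ℤ) (hb : ∀ i, b < i → IsZero (P.X i)) (hfl : ∀ i, FlatMod.IsFlatOver f (P.X i))
    (L : DRing.Cx A) (hL : DRing.TermwiseFlat L) (c : ℤ) (hc : DRing.VanishesAbove L c)
    (e : HTor.Computes f L (DCoh.toD X P)) :
    HTor.Computes f' (CohIII.bcCx φ L) (DCoh.toD X' ((pullCx g').obj P)) := by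
  let g := Spec.map (CommRingCat.ofHom φ)
  haveI := hasRpush_scheme f
  haveI := hasRpush_scheme f'
  haveI := KFlatLib.hasLpull g
  haveI : QuasiCompact f' := MorphismProperty.of_isPullback H inferInstance
  haveI : QuasiSeparated f' := MorphismProperty.of_isPullback H inferInstance
  obtain ⟨eL⟩ := e
  let T := DCoh.tildeD (CommRingCat.of A)
  let T' := DCoh.tildeD (CommRingCat.of A')
  let C := (tilde.functor (CommRingCat.of A)).mapHomologicalComplex (ComplexShape.up ℤ)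
  let C' := (tilde.functor (CommRingCat.of A')).mapHomologicalComplex (ComplexShape.up ℤ)
  obtain ⟨bP⟩ := nonempty_tildeD_RΓA f (DCoh.toD X P) ((isQCohD_Q_iff _).2 (isQCoh_homology_of_terms P hq))
  obtain ⟨bP'⟩ := nonempty_tildeD_RΓA f' (DCoh.toD X' ((pullCx g').obj P))
    ((isQCohD_Q_iff _).2 (isQCoh_homology_of_terms _ fun i => QCoh.isQCoh_pullback g' (hq i)))
  let eTL : DCoh.toD _ (C.obj L) ≅ (DCoh.Rpush f).obj (DCoh.toD X P) :=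
    ((tilde.functor (CommRingCat.of A)).mapDerivedCategoryFactors.app L).symm ≪≫ T.mapIso eL ≪≫ bP
  have hTL : DCoh.IsKFlat (C.obj L) :=
    isKFlat_tilde (R := CommRingCat.of A) L (kFlat_of_termwiseFlat hL hc)
  obtain ⟨bc⟩ := GBC.nonempty_gbc_iso H P hq hfl b hb
  let t : C'.obj (CohIII.bcCx φ L) ≅ (pullCx g).obj (C.obj L) :=
    HomologicalComplex.Hom.isoOfComponents
      (fun n => ((QCoh.tildePullbackIso (CommRingCat.ofHom φ)).symm.app (L.X n)))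
      (fun i j _ => ((QCoh.tildePullbackIso (CommRingCat.ofHom φ)).inv.naturality (L.d i j)).symm)
  exact nonempty_iso_of_tildeD_iso ((tilde.functor (CommRingCat.of A')).mapDerivedCategoryFactors.app _ ≪≫
    DerivedCategory.Q.mapIso t ≪≫ (lpullIso g hTL).symm ≪≫ (DCoh.Lpull g).mapIso eTL ≪≫ bc ≪≫ bP'.symm)

/-- The Künneth formula in `D(S)`. -/
theorem nonempty_rpush_extTensor {X₁ X₂ S : Scheme.{u}} (f₁ : X₁ ⟶ S) (f₂ : X₂ ⟶ S)
    [QuasiCompact f₁] [QuasiSeparated f₁] [QuasiCompact f₂] [QuasiSeparated f₂]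
    [DCoh.HasRpush f₁] [DCoh.HasRpush f₂] [DCoh.HasRpush (pullback.fst f₁ f₂ ≫ f₁)]
    (P₁ : CochainComplex X₁.Modules ℤ) (P₂ : CochainComplex X₂.Modules ℤ)
    (hq₁ : ∀ i, Coh.IsQCoh (P₁.X i)) (hq₂ : ∀ i, Coh.IsQCoh (P₂.X i))
    (b : ℤ) (hb : ∀ i, b < i → IsZero (P₁.X i)) (hfl : ∀ i, FlatMod.IsFlatOver f₁ (P₁.X i))
    (E₂ : CochainComplex S.Modules ℤ) (hE₂ : DCoh.toD S E₂ ≅ (DCoh.Rpush f₂).obj (DCoh.toD X₂ P₂))
    [DCoh.HasLTensorCx E₂] :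
    DCoh.IsQCohD (DCoh.toD _ (HTor.extTensorCx f₁ f₂ P₁ P₂)) ∧
      Nonempty ((DCoh.Rpush (pullback.fst f₁ f₂ ≫ f₁)).obj (DCoh.toD _ (HTor.extTensorCx f₁ f₂ P₁ P₂)) ≅
      (DCoh.LTensorCx E₂).obj ((DCoh.Rpush f₁).obj (DCoh.toD X₁ P₁))) := by
  let p₁ := pullback.fst f₁ f₂
  let p₂ := pullback.snd f₁ f₂
  have H : IsPullback p₁ p₂ f₁ f₂ := IsPullback.of_hasPullback f₁ f₂
  haveI : QuasiCompact p₂ := MorphismProperty.of_isPullback H inferInstance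
  haveI : QuasiSeparated p₂ := MorphismProperty.of_isPullback H inferInstance
  haveI := hasRpush_scheme p₂
  haveI := hasRpush_scheme (p₂ ≫ f₂)
  haveI := KFlatLib.hasLpull f₂
  haveI := KFlatLib.hasLpull p₂
  have hqd₁ : DCoh.IsQCohD (DCoh.toD X₁ P₁) := (isQCohD_Q_iff _).2 (isQCoh_homology_of_terms P₁ hq₁)
  have hqd₂ : DCoh.IsQCohD (DCoh.toD X₂ P₂) := (isQCohD_Q_iff _).2 (isQCoh_homology_of_terms P₂ hq₂)
  let N := (pullCx p₁).obj P₁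
  have hqN : DCoh.IsQCohD (DerivedCategory.Q.obj N) :=
    (isQCohD_Q_iff _).2 (isQCoh_homology_of_terms N fun i => QCoh.isQCoh_pullback p₁ (hq₁ i))
  -- the derived external product
  let R₂ := (kRes X₂).obj P₂
  have hR₂ : DCoh.IsKFlat R₂ := isKFlat_kRes _
  let γ : R₂ ⟶ P₂ := (flatCover X₂).ψ.app P₂
  haveI : QuasiIso γ := (flatCover X₂).quasiIso_ψ _
  let eR : DCoh.toD X₂ R₂ ≅ DCoh.toD X₂ P₂ :=
    @asIso _ _ _ _ (DerivedCategory.Q.map γ) (isIso_Q_map γ inferInstance)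
  let M := (pullCx p₂).obj R₂
  haveI := hasLTensorCx M
  haveI := hasLTensorCx R₂
  haveI := isIso_LTensorCx_counit_of_isKFlat_right M (isKFlat_pullback p₂ hR₂) N
  haveI := isIso_Q_map _ (quasiIso_tensor_pull p₂ N
    (fun i x => MorLib.FlatBC.isFlatOverAt_baseChange f₁ p₂ p₁ f₂ H (P₁.X i) x (hfl i (p₁ x))) b
    (fun i hi => (Scheme.Modules.pullback p₁).map_isZero (hb i hi)) γ)
  let eM : (DCoh.LTensorCx M).obj (DerivedCategory.Q.obj N) ≅ DCoh.toD _ (HTor.extTensorCx f₁ f₂ P₁ P₂) :=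
    asIso (((DCoh.tensorCxQ M).totalLeftDerivedCounit DerivedCategory.Q (qisX _)).app N) ≪≫
      asIso (DerivedCategory.Q.map ((DCoh.tensorCx.obj N).map ((pullCx p₂).map γ)))
  obtain ⟨pf⟩ := nonempty_projection_DQCoh p₂ (DerivedCategory.Q.obj N) hqN R₂ (isQCohD_of_iso eR.symm hqd₂)
    M ⟨(lpullIso p₂ hR₂).symm⟩
  obtain ⟨bc⟩ := GBC.nonempty_gbc_iso H P₁ hq₁ hfl b hb
  -- a representative of the first direct image
  let Z₁ := repK ((DCoh.Rpush f₁).obj (DCoh.toD X₁ P₁))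
  let eZ : DerivedCategory.Q.obj Z₁ ≅ (DCoh.Rpush f₁).obj (DCoh.toD X₁ P₁) := repKIso _
  have hZ : DCoh.IsKFlat Z₁ := isKFlat_repK _
  let M₁ := (pullCx f₂).obj Z₁
  haveI := hasLTensorCx M₁
  haveI := hasLTensorCx Z₁
  obtain ⟨pf₂⟩ := nonempty_projection_DQCoh f₂ (DCoh.toD X₂ P₂) hqd₂ Z₁
    (isQCohD_of_iso eZ.symm (isQCohD_rpush f₁ hqd₁)) M₁ ⟨(lpullIso f₂ hZ).symm⟩
  obtain ⟨s₁⟩ := nonempty_ltensor_comm R₂ M₁
  obtain ⟨s₂⟩ := nonempty_ltensor_comm Z₁ E₂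
  obtain ⟨rc⟩ := nonempty_rpush_comp p₂ f₂
  let w : (DCoh.Rpush (p₁ ≫ f₁)).obj (DCoh.toD _ (HTor.extTensorCx f₁ f₂ P₁ P₂)) ≅
      (DCoh.Rpush (p₂ ≫ f₂)).obj (DCoh.toD _ (HTor.extTensorCx f₁ f₂ P₁ P₂)) :=
    eqToIso (by congr 1; simp only [H.w])
  refine ⟨isQCohD_of_iso eM (isQCohD_ltensor M (isQCohD_of_iso (lpullIso p₂ hR₂)
    (isQCohD_lpull p₂ (isQCohD_of_iso eR.symm hqd₂))) hqN), ?_⟩
  exact ⟨w ≪≫ (rc.app _).symm ≪≫ (DCoh.Rpush f₂).mapIso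
      ((DCoh.Rpush p₂).mapIso eM.symm ≪≫ pf.symm ≪≫
        (DCoh.LTensorCx R₂).mapIso (bc.symm ≪≫ (DCoh.Lpull f₂).mapIso eZ.symm ≪≫ lpullIso f₂ hZ) ≪≫
        s₁ ≪≫ (DCoh.LTensorCx M₁).mapIso eR) ≪≫
    pf₂.symm ≪≫ (DCoh.LTensorCx Z₁).mapIso hE₂.symm ≪≫ s₂ ≪≫ (DCoh.LTensorCx E₂).mapIso eZ⟩

/-- Hypertor over an affine base is the hypercohomology of the external tensor product. -/
theorem computes_extTensor {A : Type u} [CommRing A] {X₁ X₂ : Scheme.{u}}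
    (f₁ : X₁ ⟶ Spec (CommRingCat.of A)) (f₂ : X₂ ⟶ Spec (CommRingCat.of A))
    [QuasiCompact f₁] [QuasiSeparated f₁] [QuasiCompact f₂] [QuasiSeparated f₂]
    [HTor.HasRΓA f₁] [HTor.HasRΓA f₂] [HTor.HasRΓA (pullback.fst f₁ f₂ ≫ f₁)]
    (P₁ : CochainComplex X₁.Modules ℤ) (P₂ : CochainComplex X₂.Modules ℤ)
    (hq₁ : ∀ i, Coh.IsQCoh (P₁.X i)) (hq₂ : ∀ i, Coh.IsQCoh (P₂.X i))
    (b : ℤ) (hb : ∀ i, b < i → IsZero (P₁.X i)) (hfl : ∀ i, FlatMod.IsFlatOver f₁ (P₁.X i))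
    (L₁ L₂ : DRing.Cx A) (hL₁ : DRing.TermwiseFlat L₁) (c : ℤ) (hc : DRing.VanishesAbove L₁ c)
    (e₁ : HTor.Computes f₁ L₁ (DCoh.toD X₁ P₁)) (e₂ : HTor.Computes f₂ L₂ (DCoh.toD X₂ P₂)) :
    HTor.Computes (pullback.fst f₁ f₂ ≫ f₁) (HTor.tensorCx L₁ L₂)
      (DCoh.toD (pullback f₁ f₂) (HTor.extTensorCx f₁ f₂ P₁ P₂)) := by
  haveI := hasRpush_scheme f₁
  haveI := hasRpush_scheme f₂
  haveI := hasRpush_scheme (pullback.fst f₁ f₂ ≫ f₁)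
  haveI : QuasiCompact (pullback.fst f₁ f₂) :=
    MorphismProperty.of_isPullback (IsPullback.of_hasPullback f₁ f₂).flip inferInstance
  haveI : QuasiSeparated (pullback.fst f₁ f₂) :=
    MorphismProperty.of_isPullback (IsPullback.of_hasPullback f₁ f₂).flip inferInstance
  obtain ⟨i₁⟩ := e₁
  obtain ⟨i₂⟩ := e₂
  let T := DCoh.tildeD (CommRingCat.of A)
  let C := (tilde.functor (CommRingCat.of A)).mapHomologicalComplex (ComplexShape.up ℤ)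
  obtain ⟨b₁⟩ := nonempty_tildeD_RΓA f₁ (DCoh.toD X₁ P₁) ((isQCohD_Q_iff _).2 (isQCoh_homology_of_terms P₁ hq₁))
  obtain ⟨b₂⟩ := nonempty_tildeD_RΓA f₂ (DCoh.toD X₂ P₂) ((isQCohD_Q_iff _).2 (isQCoh_homology_of_terms P₂ hq₂))
  let t₁ : DCoh.toD _ (C.obj L₁) ≅ (DCoh.Rpush f₁).obj (DCoh.toD X₁ P₁) :=
    ((tilde.functor (CommRingCat.of A)).mapDerivedCategoryFactors.app L₁).symm ≪≫ T.mapIso i₁ ≪≫ b₁
  let t₂ : DCoh.toD _ (C.obj L₂) ≅ (DCoh.Rpush f₂).obj (DCoh.toD X₂ P₂) :=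
    ((tilde.functor (CommRingCat.of A)).mapDerivedCategoryFactors.app L₂).symm ≪≫ T.mapIso i₂ ≪≫ b₂
  haveI := hasLTensorCx (C.obj L₂)
  obtain ⟨hqW, ⟨k⟩⟩ := nonempty_rpush_extTensor f₁ f₂ P₁ P₂ hq₁ hq₂ b hb hfl (C.obj L₂) t₂
  obtain ⟨bW⟩ := nonempty_tildeD_RΓA (pullback.fst f₁ f₂ ≫ f₁) _ hqW
  have hTL : DCoh.IsKFlat (C.obj L₁) :=
    isKFlat_tilde (R := CommRingCat.of A) L₁ (kFlat_of_termwiseFlat hL₁ hc)
  exact nonempty_iso_of_tildeD_iso ((tilde.functor (CommRingCat.of A)).mapDerivedCategoryFactors.app _ ≪≫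
    DerivedCategory.Q.mapIso (tildeTensorCxIso L₁ L₂).symm ≪≫ (ltensorCxIso (C.obj L₂) hTL).symm ≪≫
    (DCoh.LTensorCx (C.obj L₂)).mapIso t₁ ≪≫ k.symm ≪≫ bW.symm)

end Groth.Agent.PushAmp
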