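import Groth.Agent.PushAmp.HTorTensor
import Groth.Agent.KFlatLib.Scheme.RGammaA
import Groth.Agent.KFlatLib.Scheme.Tilde
import Groth.Agent.KFlatLib.Scheme.TildeTensor
import Groth.Agent.KFlatLib.Scheme.RHomTilde
import Groth.Agent.KFlatLib.Scheme.ProjFormula
import Groth.Agent.KFlatLib.Scheme.QCohDerived
import Groth.Agent.KFlatLib.Scheme.TensorAssoc
import Groth.Agent.KFlatLib.Ring.Resolution

/-!
# `RΓ(X, P ⊗_A Q) = L ⊗_A Q`
-/

set_option autoImplicit false
set_option linter.style.haveILetI false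
set_option backward.isDefEq.respectTransparency false
set_option maxHeartbeats 1000000

universe u

open CategoryTheory CategoryTheory.Limits AlgebraicGeometry MonoidalCategory

attribute [local instance] HasDerivedCategory.standard

noncomputable section

namespace Groth.Agent.PushAmp

open KFlatLib

variable {A : Type u} [CommRing A]

/-- Tilde of a tensor product of complexes. -/
def tildeTensorCxIso (L Q : DRing.Cx A) :
    (DCoh.tensorCx.obj (((tilde.functor (CommRingCat.of A)).mapHomologicalComplex (ComplexShape.up ℤ)).obj L)).obj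
        (((tilde.functor (CommRingCat.of A)).mapHomologicalComplex (ComplexShape.up ℤ)).obj Q) ≅
      ((tilde.functor (CommRingCat.of A)).mapHomologicalComplex (ComplexShape.up ℤ)).obj (HTor.tensorCx L Q) :=
  haveI : ∀ J : Type, PreservesColimitsOfShape (Discrete J) (tilde.functor (CommRingCat.of A)) := fun _ =>
    (tilde.adjunction (R := CommRingCat.of A)).leftAdjoint_preservesColimits.preservesColimitsOfShape
  totalMapIso (tildeTensorBiIso (CommRingCat.of A)) L Q

/-- Global sections of `P ⊗_A Q` for `P` bounded above and termwise flat. -/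
theorem computes_tensorA {X : Scheme.{u}} (f : X ⟶ Spec (CommRingCat.of A)) [QuasiCompact f]
    [QuasiSeparated f] [HTor.HasRΓA f] (P : CochainComplex X.Modules ℤ) (hq : ∀ i, Coh.IsQCoh (P.X i))
    (b : ℤ) (hb : ∀ i, b < i → IsZero (P.X i)) (hfl : ∀ i, FlatMod.IsFlatOver f (P.X i))
    (L : DRing.Cx A) (hL : DRing.TermwiseFlat L) (c : ℤ) (hc : DRing.VanishesAbove L c)
    (e : HTor.Computes f L (DCoh.toD X P)) (Q : DRing.Cx A) :
    HTor.Computes f (HTor.tensorCx L Q) (DCoh.toD X (HTor.tensorACx f P Q)) := by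
  haveI := hasRpush_scheme f
  haveI := KFlatLib.hasLpull f
  obtain ⟨eL⟩ := e
  let T := DCoh.tildeD (CommRingCat.of A)
  let C := (tilde.functor (CommRingCat.of A)).mapHomologicalComplex (ComplexShape.up ℤ)
  have hqP : DCoh.IsQCohD (DCoh.toD X P) := (isQCohD_Q_iff _).2 (isQCoh_homology_of_terms P hq)
  obtain ⟨bP⟩ := nonempty_tildeD_RΓA f (DCoh.toD X P) hqP
  let eTL : DCoh.toD _ (C.obj L) ≅ (DCoh.Rpush f).obj (DCoh.toD X P) :=
    ((tilde.functor (CommRingCat.of A)).mapDerivedCategoryFactors.app L).symm ≪≫ T.mapIso eL ≪≫ bP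
  let Q' := (ringCover A).P.obj Q
  let γ : Q' ⟶ Q := (ringCover A).ψ.app Q
  haveI : QuasiIso γ := (ringCover A).quasiIso_ψ _
  haveI : QuasiIso (C.map γ) := by
    haveI : (tilde.functor (CommRingCat.of A)).PreservesHomology := QCoh.tilde_preservesHomology (R := CommRingCat.of A)
    exact ⟨fun i => inferInstance⟩
  have hQ' : DCoh.IsKFlat (C.obj Q') := isKFlat_tilde (R := CommRingCat.of A) Q' (kFlat_ringRes Q)
  have hTL : DCoh.IsKFlat (C.obj L) :=
    isKFlat_tilde (R := CommRingCat.of A) L (kFlat_of_termwiseFlat hL hc)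
  let M := (pullCx f).obj (C.obj Q')
  haveI := hasLTensorCx (C.obj Q)
  haveI := hasLTensorCx (C.obj Q')
  haveI := hasLTensorCx M
  have hqT : ∀ Q : DRing.Cx A, DCoh.IsQCohD (DCoh.toD _ (C.obj Q)) := fun Q =>
    (isQCohD_Q_iff _).2 (isQCoh_homology_of_terms _ fun i =>
      (inferInstance : Coh.IsQCoh (tilde (R := CommRingCat.of A) (Q.X i))))
  obtain ⟨pf⟩ := nonempty_projection_DQCoh f (DCoh.toD X P) hqP (C.obj Q') (hqT Q') M
    ⟨(lpullIso f hQ').symm⟩
  obtain ⟨cQ⟩ := nonempty_LTensorCx_congr_D (P := C.obj Q') (E := C.obj Q)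
    (@asIso _ _ _ _ (DerivedCategory.Q.map (C.map γ)) (isIso_Q_map _ inferInstance))
  haveI := isIso_LTensorCx_counit_of_isKFlat_right M (isKFlat_pullback f hQ') P
  haveI := isIso_Q_map _ (quasiIso_tensor_pull f P hfl b hb (C.map γ))
  let W := HTor.tensorACx f P Q
  let eM : (DCoh.LTensorCx M).obj (DCoh.toD X P) ≅ DCoh.toD X W :=
    asIso (((DCoh.tensorCxQ M).totalLeftDerivedCounit DerivedCategory.Q (qisX X)).app P) ≪≫
      asIso (DerivedCategory.Q.map ((DCoh.tensorCx.obj P).map ((pullCx f).map (C.map γ))))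
  have hqW : DCoh.IsQCohD (DCoh.toD X W) :=
    isQCohD_of_iso eM (isQCohD_ltensor M (isQCohD_of_iso (lpullIso f hQ') (isQCohD_lpull f (hqT Q'))) hqP)
  obtain ⟨bW⟩ := nonempty_tildeD_RΓA f (DCoh.toD X W) hqW
  let key : T.obj (DRing.toD (HTor.tensorCx L Q)) ≅ T.obj ((HTor.RΓA f).obj (DCoh.toD X W)) :=
    (tilde.functor (CommRingCat.of A)).mapDerivedCategoryFactors.app _ ≪≫
      DerivedCategory.Q.mapIso (tildeTensorCxIso L Q).symm ≪≫ (ltensorCxIso (C.obj Q) hTL).symm ≪≫
      cQ.symm.app _ ≪≫ (DCoh.LTensorCx (C.obj Q')).mapIso eTL ≪≫ pf ≪≫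
      (DCoh.Rpush f).mapIso eM ≪≫ bW.symm
  exact nonempty_iso_of_tildeD_iso key

end Groth.Agent.PushAmp
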