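import Groth.Agent.KFlatLib.Scheme.RGammaA
import Groth.Agent.KFlatLib.Scheme.RpushBound
import Groth.Agent.KFlatLib.Scheme.QCohDerived
import Groth.Agent.KFlatLib.PsiC
import Groth.Agent.KFlatLib.Scheme.RHomTilde
import Groth.Agent.H9Misc.DRingGlobalDim

/-!
# Cohomological dimension of `RΓ` in terms of an affine cover
-/

set_option autoImplicit false
set_option linter.style.haveILetI false
set_option backward.isDefEq.respectTransparency false
set_option backward.isDefEq.respectTransparency.types false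
set_option maxHeartbeats 800000

universe u

open CategoryTheory CategoryTheory.Limits AlgebraicGeometry TopologicalSpace Opposite

attribute [local instance] HasDerivedCategory.standard

noncomputable section

namespace Groth.Agent.PushAmp

open KFlatLib QCoh

/-- Higher direct images vanish over an affine open from a uniform bound on its basic opens. -/
theorem isZero_restrict_Rpush_of_bound {X Y : Scheme.{u}} (f : X ⟶ Y) [QuasiCompact f] [QuasiSeparated f]
    [HasInjectiveResolutions X.Modules] {V₀ : Y.Opens} (hV₀ : IsAffineOpen V₀) (d : ℕ)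
    (hd : ∀ g : Γ(X, f ⁻¹ᵁ V₀), ∀ M : X.Modules, Coh.IsQCoh M → ∀ p, d ≤ p →
      Subsingleton (CohTop.HU (X := X.toPresheafedSpace.carrier) (abSheaf M) p (X.basicOpen g)))
    (M : X.Modules) (hM : Coh.IsQCoh M) (p : ℕ) (hp : d ≤ p) (hp' : 1 ≤ p) :
    IsZero ((Scheme.Modules.restrictFunctor V₀.ι).obj ((Coh.Rpush f p).obj M)) := by
  obtain ⟨q, rfl⟩ := Nat.exists_eq_add_of_le (show 1 ≤ p by omega)
  rw [Nat.add_comm]
  obtain ⟨e⟩ := nonempty_Rpush_iso f M q
  let R := Scheme.Modules.restrictFunctor V₀.ι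
  let g := (Scheme.Modules.pushforward f).map (godπ M q)
  haveI : R.IsLeftAdjoint := (Scheme.Modules.restrictAdjunction V₀.ι).isLeftAdjoint
  haveI : Epi (R.map g) := by
    haveI : (toAbFunctor V₀.toScheme).Faithful :=
      inferInstanceAs (SheafOfModules.toSheaf _).Faithful
    haveI : Epi ((toAbFunctor V₀.toScheme).map (R.map g)) := by
      refine (TopCat.Sheaf.isLocallySurjective_iff_epi _).1
        ((TopCat.Presheaf.isLocallySurjective_iff _).2 fun U t y hy => ?_)
      have hy' : y.1 ∈ V₀.ι ''ᵁ U := ⟨y, hy, rfl⟩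
      obtain ⟨b, hb, hyb⟩ := hV₀.exists_basicOpen_le (V := V₀.ι ''ᵁ U) ⟨y.1, hy'⟩ y.2
      refine ⟨V₀.ι ⁻¹ᵁ Y.basicOpen b, fun z hz => ?_, ?_, hyb⟩
      · obtain ⟨z', hz', he⟩ := hb hz
        exact Subtype.ext he ▸ hz'
      have hsub : Subsingleton (CohTop.HU (X := X.toPresheafedSpace.carrier) (abSheaf M) (q + 1)
          (f ⁻¹ᵁ (V₀.ι ''ᵁ (V₀.ι ⁻¹ᵁ Y.basicOpen b)))) := by
        rw [V₀.ι.image_preimage_eq_opensRange_inf, Scheme.Opens.opensRange_ι,
          inf_eq_right.2 (Y.basicOpen_le b), Scheme.preimage_basicOpen]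
        exact hd (f.app V₀ b) M hM (q + 1) (by omega)
      exact godπ_app_surjective hsub _
    exact (toAbFunctor V₀.toScheme).epi_of_epi_map inferInstance
  exact ((isZero_cokernel_of_epi (R.map g)).of_iso (PreservesCokernel.iso R g)).of_iso
    (R.mapIso e)

/-- `M^~` only vanishes if `M` does. -/
lemma isZero_of_tilde {R : CommRingCat.{u}} {M : ModuleCat.{u} R}
    (h : IsZero ((tilde.functor R).obj M)) : IsZero M :=
  (IsZero.iff_id_eq_zero _).2 ((tilde.functor R).map_injective (IsZero.eq_of_src h _ _))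

variable {A : Type u} [CommRing A] {X : Scheme.{u}} (f : X ⟶ Spec (CommRingCat.of A))

/-- `RΓ` of a complex of quasi-coherent modules with terms in degrees `≤ b` lives in degrees `≤ b + N`. -/
theorem subsingleton_hd_RΓA [QuasiCompact f] [IsSeparated f] [HTor.HasRΓA f] (N : ℕ)
    (U : Fin (N + 1) → X.Opens) (hU : ∀ i, IsAffineOpen (U i)) (hcov : ⨆ i, U i = ⊤)
    (P : CochainComplex X.Modules ℤ) (hq : ∀ i, Coh.IsQCoh (P.X i)) (b : ℤ) (hb : ∀ i, b < i → IsZero (P.X i))
    (i : ℤ) (hi : b + N < i) : Subsingleton (Dual.HD A ((HTor.RΓA f).obj (DCoh.toD X P)) i) := by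
  haveI : X.IsSeparated := ⟨by
    rw [← terminal.comp_from f]
    infer_instance⟩
  haveI : HasInjectiveResolutions X.Modules := hasInjectiveResolutions_modules
  haveI := hasRpush_scheme f
  have hqd : DCoh.IsQCohD (DCoh.toD X P) := (isQCohD_Q_iff _).2 (isQCoh_homology_of_terms P hq)
  haveI : P.IsStrictlyLE b := (CochainComplex.isStrictlyLE_iff _ _).2 hb
  haveI : (DCoh.toD X P).IsLE b := (DerivedCategory.isLE_Q_obj_iff _ _).2 inferInstance
  let V₀ : (Spec (CommRingCat.of A)).Opens := ⊤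
  have hd : ∀ g : Γ(X, f ⁻¹ᵁ V₀), ∀ M : X.Modules, Coh.IsQCoh M → ∀ p, N + 1 ≤ p →
      Subsingleton (CohTop.HU (X := X.toPresheafedSpace.carrier) (abSheaf M) p (X.basicOpen g)) := by
    intro g M hM p hp
    have h := subsingleton_HU_iSup hM (fun W => IsAffineOpen W) (fun _ h => h) (fun _ _ h h' => h.inf h')
      (N + 1) (fun k => U k ⊓ X.basicOpen g) (fun k => ?_) p hp
    · rwa [← iSup_inf_eq, hcov, top_inf_eq] at h
    · rw [← Scheme.basicOpen_res X g (homOfLE (show U k ≤ f ⁻¹ᵁ V₀ from le_top)).op]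
      exact (hU k).basicOpen _
  have hv : RpushVanish f V₀ (N + 1) := fun M hM p hp =>
    isZero_restrict_Rpush_of_bound f (isAffineOpen_top _) (N + 1) hd M hM p hp (by omega)
  have hz : IsZero (DCoh.HD ((DCoh.Rpush f).obj (DCoh.toD X P)) i) :=
    isZero_of_isZero_restrict _ fun y => ⟨V₀, trivial,
      isZero_restrict_hd_rpush f hqd b V₀ (N + 1) hv i (by push_cast; omega)⟩
  obtain ⟨e⟩ := nonempty_tildeD_RΓA f (DCoh.toD X P) hqd
  have h0 := hz.of_iso (((mapDCHomologyIso (tilde.functor (CommRingCat.of A)) i).app _).symm ≪≫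
    (DerivedCategory.homologyFunctor _ i).mapIso e)
  exact ModuleCat.subsingleton_of_isZero (isZero_of_tilde (R := CommRingCat.of A) h0)

/-- `RΓ` of a complex with terms in degrees `≥ a` lives in degrees `≥ a`. -/
theorem subsingleton_hd_RΓA_of_lt [QuasiCompact f] [QuasiSeparated f] [HTor.HasRΓA f]
    (P : CochainComplex X.Modules ℤ) (hq : ∀ i, Coh.IsQCoh (P.X i)) (a : ℤ) (ha : ∀ i, i < a → IsZero (P.X i))
    (i : ℤ) (hi : i < a) : Subsingleton (Dual.HD A ((HTor.RΓA f).obj (DCoh.toD X P)) i) := by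
  haveI := hasRpush_scheme f
  have hqd : DCoh.IsQCohD (DCoh.toD X P) := (isQCohD_Q_iff _).2 (isQCoh_homology_of_terms P hq)
  haveI : P.IsStrictlyGE a := (CochainComplex.isStrictlyGE_iff _ _).2 ha
  haveI : (DCoh.toD X P).IsGE a := (DerivedCategory.isGE_Q_obj_iff _ _).2 inferInstance
  obtain ⟨e⟩ := nonempty_tildeD_RΓA f (DCoh.toD X P) hqd
  have h0 := (isZero_hd_rpush_of_lt f (DCoh.toD X P) a i hi).of_iso
    (((mapDCHomologyIso (tilde.functor (CommRingCat.of A)) i).app _).symm ≪≫
      (DerivedCategory.homologyFunctor _ i).mapIso e)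
  exact ModuleCat.subsingleton_of_isZero (isZero_of_tilde (R := CommRingCat.of A) h0)

/-- Objects bounded above have free representatives bounded above. -/
theorem exists_free_rep (K : Dual.D A) (b : ℤ) (h : ∀ n, b < n → Subsingleton (Dual.HD A K n)) :
    ∃ L : DRing.Cx A, (∀ i : ℤ, Module.Free A (L.X i)) ∧ DRing.VanishesAbove L b ∧ Nonempty (DRing.toD L ≅ K) := by
  haveI : K.IsLE b := H9Misc.DRingProjAmp.isLE_of_hd h
  obtain ⟨C, hC, ⟨eC⟩⟩ := DerivedCategory.exists_iso_Q_obj_of_isLE K b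
  obtain ⟨P, α, hPb, hP, -, hα⟩ := TriCat.exists_quasiIso_left_resolution
    (fun X : ModuleCat.{u} A => Module.Free A X)
    ⟨ModuleCat.of A PUnit.{u + 1}, ModuleCat.isZero_of_subsingleton _, inferInstance⟩
    (fun X => ⟨ModuleCat.of A (X →₀ A), ModuleCat.ofHom (Finsupp.linearCombination A id),
      inferInstance, (ModuleCat.epi_iff_surjective _).2
        (Finsupp.linearCombination_id_surjective A X)⟩) C b
  exact ⟨P, hP, fun i hi => P.isZero_of_isStrictlyLE b i hi,
    ⟨asIso (DerivedCategory.Q.map α) ≪≫ eC.symm⟩⟩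

end Groth.Agent.PushAmp
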