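import Groth.Agent.PushAmp.TorTensor
import Groth.Agent.KFlatLib.ModuleFlat
import Groth.Agent.KFlatLib.SymmNat
import Groth.Prelude.Def_FlatMod2

/-!
# Tensor products with complexes termwise flat over the base
-/

set_option autoImplicit false
set_option linter.style.haveILetI false
set_option backward.isDefEq.respectTransparency false
set_option maxHeartbeats 1000000

universe u

open CategoryTheory CategoryTheory.Limits AlgebraicGeometry MonoidalCategory

attribute [local instance] HasDerivedCategory.standard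

namespace Groth.Agent.PushAmp

open KFlatLib

variable {X Y : Scheme.{u}} (f : X ⟶ Y)

/-- `E ⊗ f^*-` preserves acyclicity when `E` is bounded above and termwise flat over `Y`. -/
theorem acyclic_tensor_pull (E : CochainComplex X.Modules ℤ) (hfl : ∀ i, FlatMod.IsFlatOver f (E.X i))
    (b : ℤ) (hb : ∀ i, b < i → IsZero (E.X i)) {Q : CochainComplex Y.Modules ℤ} (hQ : Q.Acyclic) :
    ((DCoh.tensorCx.obj E).obj ((pullCx f).obj Q)).Acyclic := by
  refine (acyclic_iff_stalk _).2 fun x => ?_
  let ψ := (f.stalkMap x).hom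
  let T := curriedTensor (ModuleCat.{u} (Y.presheaf.stalk (f.base x)))
  let L₀ := (DerSch.stalkCxOver f x).obj E
  let L := (stalkCx (f.base x)).obj Q
  let K := (stalkCx x).obj E
  let e₁ : (((curriedTensor (ModuleCat.{u} (X.presheaf.stalk x))).map₂CochainComplex.obj
        (((𝟭 _).mapHomologicalComplex (ComplexShape.up ℤ)).obj K)).obj
          (((ModuleCat.extendScalars ψ).mapHomologicalComplex (ComplexShape.up ℤ)).obj L)) ≅
        ((𝟭 _).mapHomologicalComplex (ComplexShape.up ℤ)).obj
          (((extT ψ).map₂CochainComplex.obj K).obj L) :=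
    totalMapIso (Φ₁ := 𝟭 _) (Φ₂ := ModuleCat.extendScalars ψ)
      (Ψ := 𝟭 _) (T := extT ψ) (T' := curriedTensor (ModuleCat.{u} (X.presheaf.stalk x)))
      (Iso.refl _) K L
  let e₂ := totalMapIso (extTIso ψ) K L
  let eS : (stalkCx x).obj ((DCoh.tensorCx.obj E).obj ((pullCx f).obj Q)) ≅
      ((extT ψ).map₂CochainComplex.obj K).obj L :=
    (stalkTensorCxIso x E ((pullCx f).obj Q)).symm ≪≫
      ((curriedTensor (ModuleCat.{u} (X.presheaf.stalk x))).map₂CochainComplex.obj K).mapIso
        (stalkPullCxIso f x Q) ≪≫ e₁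
  let Rψ := (ModuleCat.restrictScalars.{u} ψ).mapHomologicalComplex (ComplexShape.up ℤ)
  let eW : Rψ.obj ((stalkCx x).obj ((DCoh.tensorCx.obj E).obj ((pullCx f).obj Q))) ≅
      (T.map₂CochainComplex.obj L₀).obj L :=
    Rψ.mapIso eS ≪≫ e₂.symm
  have hflat : DRing.TermwiseFlat L₀ := fun n => hfl n x
  have hvan : DRing.VanishesAbove L₀ b := fun n hn =>
    (DerSch.stalkOver f x).map_isZero (hb n hn)
  have hK : KFlat T L₀ := kFlat_of_termwiseFlat hflat hvan
  have h1 : ((T.map₂CochainComplex.obj L₀).obj L).Acyclic :=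
    KFlatLib.acyclic_of_iso ((symmIso curriedTensorFlipIso L₀).app L)
      (hK.acyclic ((acyclic_iff_stalk Q).1 hQ (f.base x)))
  have h2 := KFlatLib.acyclic_of_iso eW.symm h1
  intro i
  exact (ShortComplex.exact_map_iff_of_faithful _ (ModuleCat.restrictScalars.{u} ψ)).1 (h2 i)

/-- `E ⊗ f^*-` preserves quasi-isomorphisms when `E` is bounded above and termwise flat over `Y`. -/
theorem quasiIso_tensor_pull (E : CochainComplex X.Modules ℤ) (hfl : ∀ i, FlatMod.IsFlatOver f (E.X i))
    (b : ℤ) (hb : ∀ i, b < i → IsZero (E.X i)) {Q Q' : CochainComplex Y.Modules ℤ} (γ : Q' ⟶ Q) [QuasiIso γ] :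
    QuasiIso ((DCoh.tensorCx.obj E).map ((pullCx f).map γ)) := by
  refine KFlatLib.quasiIso_map (pullCx f ⋙ DCoh.tensorCx.obj E)
    (fun h => nonempty_homotopy₂ DCoh.tensorBi E ((Scheme.Modules.pullback f).mapHomotopy h))
    (fun S h => shortExact₂_of_splitting (T := DCoh.tensorBi) E (S.map (pullCx f)) fun n =>
      ⟨((h n).some.map (Scheme.Modules.pullback f))⟩)
    γ fun Q hQ _ => acyclic_tensor_pull f E hfl b hb hQ

end Groth.Agent.PushAmp
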