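import Groth.Agent.PushAmp.FibreGeneric
import Groth.Agent.PushAmp.FibrePerfectAlg

/-!
# Tor amplitude over the base from the residue fibres at the closed points
-/

set_option autoImplicit false
set_option linter.style.haveILetI false
set_option backward.isDefEq.respectTransparency false
set_option backward.isDefEq.respectTransparency.types false

universe u

open CategoryTheory CategoryTheory.Limits AlgebraicGeometry Opposite

attribute [local instance] HasDerivedCategory.standard

namespace Groth.Agent.PushAmp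

open Groth.Agent.KFlatLib H9Misc H9Misc.DRingLTensor

/-- On an affine chart a bound on the residue fibre at a point gives tor amplitude at all its generalisations. -/
theorem exists_amp_generization_affine {S : Scheme.{u}} {V : S.Opens} (hV : IsAffineOpen V) {A : CommRingCat.{u}}
    (φ : Γ(S, V) ⟶ A) (hflat : φ.hom.Flat) (hfp : φ.hom.FinitePresentation)
    (G : CochainComplex (Spec A).Modules ℤ) (hG : DCoh.IsKFlat G) (Mc : DRing.Cx A)
    (eM : DCoh.toD (Spec A) (((tilde.functor A).mapHomologicalComplex (ComplexShape.up ℤ)).obj Mc) ≅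
      DCoh.toD (Spec A) G)
    (hK : DRing.IsPseudoCoherent' A (DRing.toD Mc)) :
    ∃ (d : ℕ) (b : ℤ), ∀ (z z₀ : Spec A), z ⤳ z₀ → ∀ a : ℤ,
      (∀ i < a, ((extC' (IsLocalRing.residue (S.presheaf.stalk ((Spec.map φ ≫ hV.fromSpec).base z₀)))).obj
        ((DerSch.stalkCxOver (Spec.map φ ≫ hV.fromSpec) z₀).obj G)).ExactAt i) →
      DerSch.HasTorAmplitudeAt (Spec.map φ ≫ hV.fromSpec) (a - d) b G z := by
  let R : CommRingCat.{u} := Γ(S, V)
  let g := Spec.map φ ≫ hV.fromSpec
  let tM := ((tilde.functor A).mapHomologicalComplex (ComplexShape.up ℤ)).obj Mc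
  letI : Algebra R A := φ.hom.toAlgebra
  haveI : Module.Flat R A := hflat
  haveI : Algebra.FinitePresentation R A := hfp
  haveI : Flat (Spec.map φ) := (HasRingHomProperty.Spec_iff (P := @Flat)).2 hflat
  haveI : Flat g := inferInstance
  haveI : PreservesFiniteLimits (tilde.functor A) := Groth.Agent.QCoh.tilde_preservesFiniteLimits
  haveI : (tilde.functor A).Additive := tilde_additive A
  haveI : PreservesFiniteColimits (tilde.functor A) := Groth.Agent.QCoh.tilde_preservesFiniteColimits
  obtain ⟨d, f, hf, hker⟩ := Algebra.FinitePresentation.out (R := R) (A := A)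
  let P := MvPolynomial (Fin d) R
  let ψ : P →+* A := f.toRingHom
  have hψC : ψ.comp MvPolynomial.C = algebraMap R A := RingHom.ext fun r => f.commutes r
  letI : Algebra P A := ψ.toAlgebra
  haveI : IsScalarTower R P A := IsScalarTower.of_algebraMap_eq fun r => (f.commutes r).symm
  haveI : Module.FinitePresentation P A :=
    Module.finitePresentation_of_surjective (Algebra.linearMap P A) hf hker
  have hA := Groth.Agent.FlatSyz5.pc' R P A
  have hM : DRing.IsPseudoCoherent' P (DRing.toD ((DRing.restrictCx ψ).obj Mc)) :=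
    (DRingPC.pc'_iff _).2 fun m => DRingPC.of_iso
      ((ModuleCat.restrictScalars.{u} ψ).mapDerivedCategoryFactors.app Mc)
      (DRingRestrict.pc_restrict ψ hA ((DRingPC.pc'_iff _).1 hK m))
  obtain ⟨E, b, hb, hE, ⟨e⟩⟩ := hM
  refine ⟨d, b, ?_⟩
  have key : ∀ z : Spec A,
      (∀ a : ℤ, (∀ i < a, ((extC' (IsLocalRing.residue (S.presheaf.stalk (g.base z)))).obj
        ((DerSch.stalkCxOver g z).obj G)).ExactAt i) →
        DRing.HasTorAmplitudeIn (Localization.AtPrime (z.asIdeal.comap ψ)) (a - d) b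
          (DRing.toD ((extC' (algebraMap P (Localization.AtPrime (z.asIdeal.comap ψ)))).obj E))) ∧
      (∀ a : ℤ, DRing.HasTorAmplitudeIn (Localization.AtPrime (z.asIdeal.comap ψ)) a b
          (DRing.toD ((extC' (algebraMap P (Localization.AtPrime (z.asIdeal.comap ψ)))).obj E)) →
        DerSch.HasTorAmplitudeAt g a b G z) := by
    intro z
    let q : Ideal A := z.asIdeal
    let y : Spec R := (Spec.map φ).base z
    have hy : hV.fromSpec.base y ∈ V := by
      have h : hV.fromSpec.base y ∈ Set.range hV.fromSpec.base := Set.mem_range_self y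
      rwa [hV.range_fromSpec] at h
    let Ay := (S.presheaf.stalk (g.base z) : Type u)
    let Bx := ((Spec A).presheaf.stalk z : Type u)
    letI iR : Algebra R Ay := (S.presheaf.germ V (g.base z) hy).hom.toAlgebra
    letI iA : Algebra A Bx := (toStalkHom z).toAlgebra
    haveI : IsLocalization.AtPrime Bx q := isLocalization_toStalkHom z
    have hloc : IsLocalization.AtPrime Ay (q.comap (algebraMap R A)) := hV.isLocalization_stalk' y hy
    haveI : IsLocalization.AtPrime Ay ((q.comap ψ).comap (algebraMap R P)) := by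
      have e2 : (q.comap ψ).comap (algebraMap R P) = q.comap (algebraMap R A) := by
        rw [Ideal.comap_comap, ← hψC]
        rfl
      have key : ∀ (I J : Ideal R) [I.IsPrime] [J.IsPrime], I = J → IsLocalization.AtPrime Ay J → IsLocalization.AtPrime Ay I := by
        rintro I J _ _ rfl hh
        exact hh
      exact key _ _ e2 hloc
    let σ : Ay →+* Bx := (g.stalkMap z).hom
    have hσ : σ.comp (algebraMap R Ay) = (algebraMap A Bx).comp (algebraMap R A) := by
      show (g.stalkMap z).hom.comp (S.presheaf.germ V (g.base z) hy).hom = (toStalkHom z).comp φ.hom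
      rw [← stalkMap_toStalkHom φ z, ← germ_fromSpec_stalkMap hV y hy, ← RingHom.comp_assoc]
      congr 1
      rw [Scheme.Hom.stalkMap_comp]
      rfl
    have hσ' : σ.comp (algebraMap R Ay) = ((algebraMap A Bx).comp ψ).comp MvPolynomial.C := by
      rw [hσ, RingHom.comp_assoc, hψC]
    let N : DRing.Cx Bx := (stalkCx z).obj G
    let T := DerSch.stalkFunctor (Spec A) z
    let e1 : (stalkCx z).obj tM ≅ (extC' (algebraMap A Bx)).obj Mc :=
      HomologicalComplex.Hom.isoOfComponents (fun n => (stalkTildeIso z).app (Mc.X n))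
        (fun i j _ => ((stalkTildeIso z).hom.naturality (Mc.d i j)).symm)
    let eN : DRing.toD N ≅ DRing.toD ((extC' (algebraMap A Bx)).obj Mc) :=
      (T.mapDerivedCategoryFactors.app G).symm ≪≫ T.mapDerivedCategory.mapIso eM.symm ≪≫
        T.mapDerivedCategoryFactors.app tM ≪≫ DerivedCategory.Q.mapIso e1
    exact ⟨fun a ha => amp_of_fibre_point ψ hf q σ hσ' hE hb Mc e N
        (isKF_stalkCxOver (inferInstance : Flat g) G hG z) eN a ha,
      fun a ha => amp_base_of_point ψ hf q σ hσ' hE hb Mc e N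
        (isKF_stalkCxOver (inferInstance : Flat g) G hG z) eN a ha⟩
  intro z z₀ hsp a ha
  have hle : z.asIdeal ≤ z₀.asIdeal := (PrimeSpectrum.le_iff_specializes z z₀).2 hsp
  exact (key z).2 _ (amp_of_le E (z₀.asIdeal.comap ψ) (z.asIdeal.comap ψ) (Ideal.comap_mono hle) _ _ ((key z₀).1 a ha))

variable {X S : Scheme.{u}} (f : X ⟶ S)

/-- A uniform bound on the residue fibres at the closed points gives finite tor amplitude over the base. -/
theorem exists_amp_of_closed_residue [Flat f] [LocallyOfFinitePresentation f] [CompactSpace X]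
    (E : DCoh.D X) (hE : ∀ m : ℤ, DCoh.IsPseudoCoherentD m E)
    (R : CochainComplex X.Modules ℤ) (hR : DCoh.IsKFlat R) (eR : DCoh.toD X R ≅ E) (a : ℤ)
    (hres : ∀ x : X, IsClosed ({x} : Set X) → ∀ i < a,
      ((extC' (IsLocalRing.residue (S.presheaf.stalk (f.base x)))).obj
        ((DerSch.stalkCxOver f x).obj R)).ExactAt i) :
    ∃ a' b' : ℤ, DerSch.HasTorAmplitude f a' b' R := by
  have hloc : ∀ x : X, ∃ (U : X.Opens) (d : ℕ) (b : ℤ), x ∈ U ∧ ∀ x₁ x₀ : X, x₀ ∈ U → x₁ ⤳ x₀ →
      IsClosed ({x₀} : Set X) → DerSch.HasTorAmplitudeAt f (a - d) b R x₁ := by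
    intro x
    obtain ⟨W, hW, hxW, -⟩ := exists_isAffineOpen_mem_and_subset (x := f.base x) (U := (⊤ : S.Opens)) trivial
    obtain ⟨U, hU, hxU, hle⟩ := exists_isAffineOpen_mem_and_subset (x := x) (U := f ⁻¹ᵁ W) hxW
    let φ := f.appLE W U hle
    let j := hU.fromSpec
    have hsq : j ≫ f = Spec.map φ ≫ hW.fromSpec := (IsAffineOpen.SpecMap_appLE_fromSpec f hW hU hle).symm
    let G := (rCx j).obj R
    let eG : DCoh.toD (Spec Γ(X, U)) G ≅ (rho j).obj E := ((rhoQ j).app R).symm ≪≫ (rho j).mapIso eR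
    haveI : PreservesFiniteLimits (tilde.functor Γ(X, U)) := Groth.Agent.QCoh.tilde_preservesFiniteLimits
    have hq : DCoh.IsQCohD E := fun i => isQCoh_HD_of_pseudoCoherent (hE (i - 1)) i (by omega)
    obtain ⟨M, ⟨eMD⟩⟩ := exists_tildeD_iso (R := Γ(X, U)) (isQCohD_rho j hq)
    let Mc := DerivedCategory.Q.objPreimage M
    let eM : DCoh.toD (Spec Γ(X, U)) (((tilde.functor Γ(X, U)).mapHomologicalComplex (ComplexShape.up ℤ)).obj Mc) ≅
        DCoh.toD (Spec Γ(X, U)) G :=
      (toDTildeIso Mc).symm ≪≫ (DCoh.tildeD Γ(X, U)).mapIso (DerivedCategory.Q.objObjPreimageIso M) ≪≫ eMD ≪≫ eG.symm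
    have hK : DRing.IsPseudoCoherent' Γ(X, U) (DRing.toD Mc) := (DRingPC.pc'_iff _).2 fun m =>
      DRingPC.of_iso (DerivedCategory.Q.objObjPreimageIso M).symm ((locPC_tildeD_iff m M).1
        ((((isPseudoCoherentD_iff m E).1 (hE m)).restrict j).of_iso eMD.symm))
    have hflat : φ.hom.Flat := Scheme.Hom.flat_appLE f hW hU hle
    have hfp : φ.hom.FinitePresentation := HasRingHomProperty.appLE (P := @LocallyOfFinitePresentation) f
      inferInstance ⟨W, hW⟩ ⟨U, hU⟩ hle
    obtain ⟨d, b, hdb⟩ := exists_amp_generization_affine hW φ hflat hfp G (isKFlat_restrict j hR) Mc eM hK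
    rw [← hsq] at hdb
    refine ⟨U, d, b, hxU, fun x₁ x₀ hx₀ hsp hcl => ?_⟩
    have hrange : ∀ x' ∈ U, ∃ z, j.base z = x' := fun x' hx' => by
      have : x' ∈ Set.range hU.fromSpec.base := by rw [hU.range_fromSpec]; exact hx'
      exact this
    obtain ⟨z₀, rfl⟩ := hrange x₀ hx₀
    obtain ⟨z, rfl⟩ := hrange x₁ (hsp.mem_open U.2 hx₀)
    refine (hasTorAmplitudeAt_restrict_iff j f R z _ _).1
      (hdb z z₀ (j.isOpenEmbedding.isInducing.specializes_iff.1 hsp) a fun i hi => ?_)
    obtain ⟨τ⟩ := nonempty_stalkOver_iso j f z₀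
    exact (hres _ hcl i hi).of_iso ((extC' _).mapIso (HomologicalComplex.Hom.isoOfComponents
      (C₁ := (DerSch.stalkCxOver (j ≫ f) z₀).obj G) (C₂ := (DerSch.stalkCxOver f (j.base z₀)).obj R)
      (fun n => τ.app (R.X n)) (fun p q _ => (τ.hom.naturality (R.d p q)).symm))).symm
  choose U d b hU hamp using hloc
  obtain ⟨t, ht⟩ := (isCompact_univ : IsCompact (Set.univ : Set X)).elim_finite_subcover
    (fun x => (U x : Set X)) (fun x => (U x).2) (fun x _ => Set.mem_iUnion.2 ⟨x, hU x⟩)
  obtain ⟨B, hB⟩ : ∃ B : ℤ, ∀ x ∈ t, b x ≤ B := Finset.exists_le (t.image b) |>.imp fun B hB x hx =>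
    hB _ (Finset.mem_image_of_mem b hx)
  refine ⟨a - (t.sup d : ℕ), B, fun x₁ => ?_⟩
  obtain ⟨x₀, hx₀, hcl⟩ := (isClosed_closure (s := ({x₁} : Set X))).exists_closed_singleton ⟨x₁, subset_closure rfl⟩
  obtain ⟨x, hx, hxU⟩ := Set.mem_iUnion₂.1 (ht (Set.mem_univ x₀))
  have := hamp x x₁ x₀ hxU (specializes_iff_mem_closure.2 hx₀) hcl
  exact DRingTor.mono (by have := Finset.le_sup (f := d) hx; omega) (hB x hx) this

end Groth.Agent.PushAmp
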