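import Groth.Agent.PushAmp.KoszulTor
import Groth.Agent.H9Misc.DRingEvalZero
import Groth.Agent.Synt29.ExtBC

/-!
# Koszul complexes on a module killed by the entries
-/

set_option autoImplicit false
set_option linter.style.haveILetI false
set_option backward.isDefEq.respectTransparency false
set_option maxHeartbeats 1000000

universe u

open CategoryTheory CategoryTheory.Limits MonoidalCategory HomologicalComplex
open CochainComplex (mappingCone)

attribute [local instance] HasDerivedCategory.standard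

noncomputable section

namespace Groth.Agent.PushAmp

open KFlatLib H9Misc.DRingLTensor H9Misc.DRingLTensorCx Groth.Agent.TorBridge H9Misc.TorBalance

variable {A : Type u} [CommRing A]

/-- `a` kills every term. -/
def Killed (a : A) (K : DRing.Cx A) : Prop := ∀ (i : ℤ) (x : K.X i), a • x = 0

lemma Killed.coneOn {a : A} {K : DRing.Cx A} (h : Killed a K) (b : A) : Killed a (coneOn b K) := fun i x => by
  let e := (FlatCxLib.coneX (b • 𝟙 K) i ≪≫ ModuleCat.biprodIsoProd _ _).toLinearEquiv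
  refine e.injective ?_
  rw [map_smul, map_zero]
  exact Prod.ext (h _ _) (h _ _)

lemma Killed.iterCone {a : A} {K : DRing.Cx A} (h : Killed a K) : ∀ l : List A, Killed a (iterCone l K)
  | [] => h
  | b :: l => (Killed.iterCone h l).coneOn b

lemma Killed.smul_id {a : A} {K : DRing.Cx A} (h : Killed a K) : a • 𝟙 K = 0 :=
  HomologicalComplex.hom_ext _ _ fun i => ModuleCat.hom_ext (LinearMap.ext fun x => h i x)

lemma killed_sgl {a : A} {M : ModuleCat.{u} A} (h : ∀ x : M, a • x = 0) : Killed a (sgl M) := fun i x => by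
  rcases eq_or_ne i 0 with rfl | hi
  · refine (HomologicalComplex.singleObjXSelf (ComplexShape.up ℤ) 0 M).toLinearEquiv.injective ?_
    rw [map_smul, map_zero]
    exact h _
  · haveI := ModuleCat.subsingleton_of_isZero
      (HomologicalComplex.isZero_single_obj_X (ComplexShape.up ℤ) 0 M i hi)
    exact @Subsingleton.elim _ this _ _

/-- Homology of the cone of a zero map. -/
lemma nonempty_homology_cone_zero (K : DRing.Cx A) (n m : ℤ) (hnm : n + 1 = m) :
    Nonempty ((mappingCone (0 : K ⟶ K)).homology n ≅ ModuleCat.of A ((K.homology m) × (K.homology n))) := by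
  obtain ⟨e⟩ := H9Misc.DRingEvalZero.nonempty_cone_zero K K
  let H := DerivedCategory.homologyFunctor (ModuleCat.{u} A) n
  haveI : PreservesBinaryBiproducts H := preservesBinaryBiproducts_of_preservesBiproducts H
  let F := fun L : DRing.Cx A => (DerivedCategory.homologyFunctorFactors (ModuleCat.{u} A) n).app L
  exact ⟨(F _).symm ≪≫ H.mapIso e ≪≫ H.mapBiprod _ _ ≪≫ biprod.braiding _ _ ≪≫
    biprod.mapIso (H.mapIso ((DerivedCategory.Q.commShiftIso (1 : ℤ)).app K).symm ≪≫ F _ ≪≫
      (CochainComplex.ShiftSequence.shiftIso (ModuleCat.{u} A) 1 n m (by omega)).app K) (F _) ≪≫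
    ModuleCat.biprodIsoProd _ _⟩

lemma koszul_eq_iterCone (l : List A) : Koszul.koszul A l = iterCone l (sgl (ModuleCat.of A A)) := by
  rw [Synt29.koszul_eq, koszulCx_eq_iterCone]
  rfl

lemma iterCone_append : ∀ (l m : List A) (K : DRing.Cx A), iterCone (l ++ m) K = iterCone l (iterCone m K)
  | [], _, _ => rfl
  | a :: l, m, K => congrArg (coneOn a) (iterCone_append l m K)

lemma nonempty_iterCone_perm (K : DRing.Cx A) {l l' : List A} (h : l.Perm l') :
    Nonempty (iterCone l K ≅ iterCone l' K) := by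
  induction h with
  | nil => exact ⟨Iso.refl _⟩
  | cons a _ ih => exact ⟨coneOnCongr a ih.some⟩
  | swap a b l => exact ⟨coneOnSwap b a _⟩
  | trans _ _ ih ih' => exact ⟨ih.some ≪≫ ih'.some⟩

lemma koszul_homology_zero_iso (l : List A) :
    Nonempty ((Koszul.koszul A l).homology 0 ≅ ModuleCat.of A (A ⧸ Ideal.span {x | x ∈ l})) := by
  obtain ⟨t⟩ := Koszul15.nonempty_top_equiv l (ModuleCat.of A A)
  have he : (Ideal.ofList l • (⊤ : Submodule A (ModuleCat.of A A)) : Submodule A A) = Ideal.span {x | x ∈ l} := by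
    show Ideal.ofList l • (⊤ : Submodule A A) = _
    rw [smul_eq_mul, Ideal.mul_top]
  exact ⟨eqToIso (by rw [Synt29.koszul_eq]) ≪≫ t.toModuleIso ≪≫ (Submodule.quotEquivOfEq _ _ he).toModuleIso⟩

/-- A Koszul-regular sequence gives a resolution of the quotient. -/
lemma exists_quasiIso_koszul (l : List A) (h : LCI.IsKoszulRegularSeq A l) :
    ∃ π : Koszul.koszul A l ⟶ sgl (ModuleCat.of A (A ⧸ Ideal.span {x | x ∈ l})), QuasiIso π := by
  let K : DRing.Cx A := Koszul.koszul A l
  haveI : K.IsStrictlyLE 0 :=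
    (CochainComplex.isStrictlyLE_iff _ _).2 fun i hi => vanishesAbove_koszul l i (by omega)
  haveI : CochainComplex.IsGE K 0 := (CochainComplex.isGE_iff _ _).2 fun i hi => by
    rw [HomologicalComplex.exactAt_iff_isZero_homology]
    exact h i (by omega)
  obtain ⟨M, ⟨eM⟩⟩ := CochainComplex.exists_iso_single (K.truncGE 0) 0
  let π : K ⟶ sgl M := K.πTruncGE 0 ≫ eM.hom
  haveI : QuasiIso π := quasiIso_comp _ _
  obtain ⟨e⟩ := koszul_homology_zero_iso l
  let eN : M ≅ ModuleCat.of A (A ⧸ Ideal.span {x | x ∈ l}) :=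
    (HomologicalComplex.singleObjHomologySelfIso (ComplexShape.up ℤ) 0 M).symm ≪≫
      (isoOfQuasiIsoAt π 0).symm ≪≫ e
  exact ⟨π ≫ ((CochainComplex.singleFunctor (ModuleCat.{u} A) 0).mapIso eN).hom, quasiIso_comp _ _⟩

/-- `iterCone g` of the quotient by `m` computes the Koszul complex of `g ++ m`. -/
lemma nonempty_homology_iterCone_quotient (g m l : List A) (hm : LCI.IsKoszulRegularSeq A m)
    (hl : List.Perm (g ++ m) l) (n : ℤ) :
    Nonempty ((iterCone g (sgl (ModuleCat.of A (A ⧸ Ideal.span {x | x ∈ m})))).homology n ≅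
      (Koszul.koszul A l).homology n) := by
  obtain ⟨π, hπ⟩ := exists_quasiIso_koszul m hm
  haveI := hπ
  let Kg : DRing.Cx A := Koszul.koszul A g
  haveI : QuasiIso ((T.obj Kg).map π) :=
    quasiIso_tensorHom_id π (kFlat_of_termwiseFlat (termwiseFree_koszul g) (vanishesAbove_koszul g))
  obtain ⟨e1⟩ := nonempty_koszul_tensor (sgl (ModuleCat.of A (A ⧸ Ideal.span {x | x ∈ m}))) g
  obtain ⟨e2⟩ := nonempty_koszul_tensor (Koszul.koszul A m) g
  obtain ⟨e3⟩ := nonempty_iterCone_perm (sgl (ModuleCat.of A A)) hl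
  exact ⟨(HomologicalComplex.homologyFunctor _ _ n).mapIso e1.symm ≪≫
    (isoOfQuasiIsoAt ((T.obj Kg).map π) n).symm ≪≫
    (HomologicalComplex.homologyFunctor _ _ n).mapIso
      (e2 ≪≫ eqToIso (by rw [koszul_eq_iterCone, ← iterCone_append]) ≪≫ e3 ≪≫
        eqToIso (koszul_eq_iterCone l).symm)⟩

/-- Iterated cones of zero maps. -/
lemma nonempty_homology_iterCone_killed (C : DRing.Cx A) (hC : ∀ i : ℤ, i ≠ 0 → IsZero (C.homology i)) :
    ∀ l : List A, (∀ a ∈ l, Killed a C) →
      (∀ i : ℤ, 0 < i → IsZero ((iterCone l C).homology i)) ∧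
      ∀ i : ℕ, Nonempty ((iterCone l C).homology (-(i : ℤ)) ≃ₗ[A] (Fin (l.length.choose i) → C.homology 0))
  | [], _ => by
    refine ⟨fun i hi => hC i (by omega), fun i => ?_⟩
    match i with
    | 0 => exact ⟨(LinearEquiv.funUnique (Fin 1) A (C.homology 0)).symm⟩
    | i + 1 =>
      haveI : Subsingleton ((iterCone [] C).homology (-((i + 1 : ℕ) : ℤ))) :=
        ModuleCat.subsingleton_of_isZero (hC (-((i + 1 : ℕ) : ℤ)) (by omega))
      haveI : IsEmpty (Fin (([] : List A).length.choose (i + 1))) :=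
        ⟨fun x => by simpa using x.2⟩
      exact ⟨LinearEquiv.ofSubsingleton _ _⟩
  | a :: l, h => by
    obtain ⟨hpos, hneg⟩ := nonempty_homology_iterCone_killed C hC l fun b hb => h b (List.mem_cons_of_mem _ hb)
    let D := iterCone l C
    have hz : a • 𝟙 D = 0 := ((h a List.mem_cons_self).iterCone l).smul_id
    have key : ∀ n m : ℤ, n + 1 = m → Nonempty ((iterCone (a :: l) C).homology n ≃ₗ[A] (D.homology m) × (D.homology n)) :=
      fun n m hnm => by
        obtain ⟨e⟩ := nonempty_homology_cone_zero D n m hnm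
        exact ⟨(eqToIso (congrArg (fun φ : D ⟶ D => (mappingCone φ).homology n) hz) ≪≫ e).toLinearEquiv⟩
    refine ⟨fun i hi => ?_, fun i => ?_⟩
    · obtain ⟨e⟩ := key i (i + 1) rfl
      haveI := ModuleCat.subsingleton_of_isZero (hpos i hi)
      haveI := ModuleCat.subsingleton_of_isZero (hpos (i + 1) (by omega))
      haveI : Subsingleton ((iterCone (a :: l) C).homology i) := e.toEquiv.subsingleton
      exact ModuleCat.isZero_of_subsingleton _
    · match i with
      | 0 =>
        obtain ⟨e⟩ := key 0 1 rfl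
        obtain ⟨e'⟩ := hneg 0
        haveI : Unique (D.homology (1 : ℤ)) :=
          haveI := ModuleCat.subsingleton_of_isZero (hpos 1 (by omega))
          uniqueOfSubsingleton 0
        exact ⟨e ≪≫ₗ LinearEquiv.uniqueProd ≪≫ₗ e' ≪≫ₗ
          LinearEquiv.funCongrLeft A _ (finCongr (by simp [Nat.choose_zero_right]))⟩
      | i + 1 =>
        obtain ⟨e⟩ := key (-((i + 1 : ℕ) : ℤ)) (-(i : ℤ)) (by omega)
        obtain ⟨e₁⟩ := hneg i
        obtain ⟨e₂⟩ := hneg (i + 1)
        exact ⟨e ≪≫ₗ LinearEquiv.prodCongr e₁ e₂ ≪≫ₗ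
          (LinearEquiv.sumArrowLequivProdArrow _ _ A (C.homology 0)).symm ≪≫ₗ
          LinearEquiv.funCongrLeft A _ ((finCongr (Nat.choose_succ_succ l.length i)).trans finSumFinEquiv.symm)⟩

/-- `Tor` of two quotients, one of them partly killed. -/
theorem nonempty_tor_quotients (f g h : List A) (hfg : LCI.IsKoszulRegularSeq A (f ++ g))
    (hfh : LCI.IsKoszulRegularSeq A (f ++ h)) (hfgh : LCI.IsKoszulRegularSeq A (f ++ g ++ h)) (i : ℕ) :
    Nonempty (((Tor (ModuleCat.{u} A) i).obj (ModuleCat.of A (A ⧸ Ideal.span {x | x ∈ f ++ g}))).obj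
        (ModuleCat.of A (A ⧸ Ideal.span {x | x ∈ f ++ h})) ≅
      ModuleCat.of A (Fin (f.length.choose i) → A ⧸ Ideal.span {x | x ∈ f ++ g ++ h})) := by
  let M := ModuleCat.of A (A ⧸ Ideal.span {x | x ∈ f ++ h})
  let C := iterCone g (sgl M)
  have hperm : List.Perm (g ++ (f ++ h)) (f ++ g ++ h) := by
    rw [List.append_assoc]
    exact List.perm_append_comm_assoc g f h
  have hC : ∀ n : ℤ, n ≠ 0 → IsZero (C.homology n) := fun n hn => by
    obtain ⟨e⟩ := nonempty_homology_iterCone_quotient g (f ++ h) (f ++ g ++ h) hfh hperm n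
    exact (hfgh n hn).of_iso e
  have hk : ∀ a ∈ f, Killed a C := fun a ha => (killed_sgl fun x => by
    obtain ⟨b, rfl⟩ := Submodule.Quotient.mk_surjective _ x
    refine (Submodule.Quotient.mk_eq_zero _).2 (Ideal.mul_mem_right b _ (Ideal.subset_span ?_))
    exact List.mem_append_left _ ha).iterCone g
  obtain ⟨e⟩ := (nonempty_homology_iterCone_killed C hC f hk).2 i
  obtain ⟨e0⟩ := nonempty_homology_iterCone_quotient g (f ++ h) (f ++ g ++ h) hfh hperm 0
  obtain ⟨eH⟩ := koszul_homology_zero_iso (f ++ g ++ h)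
  obtain ⟨eK⟩ := koszul_homology_zero_iso (f ++ g)
  obtain ⟨eT⟩ := nonempty_tor_of_flat_res (Koszul.koszul A (f ++ g)) (termwiseFree_koszul _)
    (vanishesAbove_koszul _) hfg M i
  obtain ⟨e1⟩ := nonempty_koszul_tensor (sgl M) (f ++ g)
  exact ⟨((Tor (ModuleCat.{u} A) i).mapIso eK.symm).app M ≪≫ eT ≪≫
    (HomologicalComplex.homologyFunctor _ _ (-(i : ℤ))).mapIso (e1 ≪≫ eqToIso (iterCone_append f g (sgl M))) ≪≫
    e.toModuleIso ≪≫ (LinearEquiv.piCongrRight fun _ => (e0 ≪≫ eH).toLinearEquiv).toModuleIso⟩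

/-- The exterior powers of a free module over a quotient ring, over the base. -/
theorem nonempty_exteriorPower_quotient (Q : Ideal A) (r p : ℕ) :
    Nonempty (↥(⋀[A]^(p + 1) (Fin r → A ⧸ Q)) ≃ₗ[A] (Fin (r.choose (p + 1)) → A ⧸ Q)) := by
  classical
  let B := A ⧸ Q
  let M := Fin r → B
  have hk : Q • (⊤ : Submodule A ↥(⋀[A]^(p + 1) M)) = ⊥ := by
    refine le_bot_iff.1 (Submodule.smul_le.2 fun a ha x _ => ?_)
    have hx : (⊤ : Submodule A ↥(⋀[A]^(p + 1) M)) ≤ LinearMap.ker (LinearMap.lsmul A _ a) := by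
      rw [← exteriorPower.ιMulti_span A (p + 1) M, Submodule.span_le]
      rintro _ ⟨v, rfl⟩
      show a • exteriorPower.ιMulti A (p + 1) v = 0
      have h0 : a • v 0 = 0 := funext fun j => by
        obtain ⟨b, hb⟩ := Ideal.Quotient.mk_surjective (v 0 j)
        rw [Pi.smul_apply, ← hb]
        exact (Submodule.Quotient.mk_eq_zero Q).2 (Ideal.mul_mem_right b _ ha)
      conv_lhs => rw [← Function.update_eq_self 0 v]
      rw [← AlternatingMap.map_update_smul, h0, AlternatingMap.map_update_zero]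
    exact (Submodule.mem_bot A).2 (hx Submodule.mem_top)
  let e1 : (TensorProduct A B ↥(⋀[A]^(p + 1) M)) ≃ₗ[A] ↥(⋀[A]^(p + 1) M) :=
    TensorProduct.quotTensorEquivQuotSMul _ Q ≪≫ₗ Submodule.quotEquivOfEqBot _ hk
  let l : (TensorProduct A B M) →ₗ[B] M := LinearMap.liftBaseChange B (LinearMap.id : M →ₗ[A] M)
  have hl : Function.Bijective l := by
    have hs : ∀ z : TensorProduct A B M, ∃ x : M, z = (1 : B) ⊗ₜ[A] x := by
      intro z
      induction z using TensorProduct.induction_on with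
      | zero => exact ⟨0, (TensorProduct.tmul_zero _ _).symm⟩
      | add a b ha hb =>
        obtain ⟨x, rfl⟩ := ha
        obtain ⟨y, rfl⟩ := hb
        exact ⟨x + y, (TensorProduct.tmul_add _ _ _).symm⟩
      | tmul c x =>
        obtain ⟨a, rfl⟩ := Ideal.Quotient.mk_surjective c
        refine ⟨a • x, ?_⟩
        rw [TensorProduct.tmul_smul, TensorProduct.smul_tmul']
        congr 1
        rw [Algebra.smul_def, mul_one]
        rfl
    refine ⟨fun z w hzw => ?_, fun x => ⟨1 ⊗ₜ x, by simp [l]⟩⟩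
    obtain ⟨x, rfl⟩ := hs z
    obtain ⟨y, rfl⟩ := hs w
    simp only [l, LinearMap.liftBaseChange_tmul, LinearMap.id_apply, one_smul] at hzw
    rw [hzw]
  let el := LinearEquiv.ofBijective l hl
  let e2 := (LinearEquiv.ofBijective _ (Synt29.ExtBC.bijective_fwd (A := A) (B := B) (M := M) (p + 1))).restrictScalars A
  let b : Module.Basis (Set.powersetCard (Fin r) (p + 1)) B ↥(⋀[B]^(p + 1) (TensorProduct A B M)) :=
    ((Pi.basisFun B (Fin r)).map el.symm).exteriorPower (p + 1)
  have hcard : Nat.card (Set.powersetCard (Fin r) (p + 1)) = r.choose (p + 1) := by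
    rw [Set.powersetCard.card, Nat.card_eq_fintype_card, Fintype.card_fin]
  exact ⟨e1.symm ≪≫ₗ e2 ≪≫ₗ b.equivFun.restrictScalars A ≪≫ₗ
    LinearEquiv.funCongrLeft A B (((Finite.equivFin _).trans (finCongr hcard)).symm)⟩

end Groth.Agent.PushAmp
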