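import Groth.Agent.PushAmp.KunnethSingle
import Groth.Agent.PushAmp.TorVanish

/-!
# Bijectivity of the Künneth map
-/

set_option autoImplicit false
set_option linter.style.haveILetI false
set_option backward.isDefEq.respectTransparency false
set_option maxHeartbeats 1000000

universe u

open CategoryTheory CategoryTheory.Limits MonoidalCategory HomologicalComplex TensorProduct

noncomputable section

namespace Groth.Agent.PushAmp

open KFlatLib H9Misc.DRingLTensor H9Misc.DRingLTensorCx

variable {A : Type u} [CommRing A] {L : DRing.Cx A} {M M' : DRing.Cx A}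

/-- `L ⊗ -`. -/
abbrev leftTen (L : DRing.Cx A) : DRing.Cx A ⥤ DRing.Cx A :=
  (curriedTensor (ModuleCat.{u} A)).map₂CochainComplex.obj L

/-- Functoriality of the Künneth sum in the second variable. -/
def kunnethSumMap (L : DRing.Cx A) (φ : M ⟶ M') (n : ℤ) : HTor.KunnethSum L M n →ₗ[A] HTor.KunnethSum L M' n :=
  DirectSum.lmap fun ij => (homologyMap φ ij.1.2).hom.lTensor (L.homology ij.1.1)

lemma cyclesTensorH_natural (φ : M ⟶ M') (i j n : ℤ) (h : i + j = n) :
    (L.cycles i ◁ cyclesMap φ j) ≫ cyclesTensorH L M' i j n h =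
      cyclesTensorH L M i j n h ≫ homologyMap ((leftTen L).map φ) n := by
  have h0 : cyclesTensorX L M i j n h ≫ ((leftTen L).map φ).f n =
      (L.cycles i ◁ cyclesMap φ j) ≫ cyclesTensorX L M' i j n h := by
    change ((L.iCycles i ⊗ₘ M.iCycles j) ≫ ιMapBifunctor L M (curriedTensor (ModuleCat.{u} A)) (ComplexShape.up ℤ) i j n h) ≫
        (mapBifunctorMap (𝟙 L) φ (curriedTensor (ModuleCat.{u} A)) (ComplexShape.up ℤ)).f n =
      (L.cycles i ◁ cyclesMap φ j) ≫
        (L.iCycles i ⊗ₘ M'.iCycles j) ≫ ιMapBifunctor L M' (curriedTensor (ModuleCat.{u} A)) (ComplexShape.up ℤ) i j n h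
    rw [Category.assoc, ι_mapBifunctorMap]
    simp [MonoidalCategory.tensorHom_def]
    rw [← MonoidalCategory.whiskerLeft_comp_assoc, ← cyclesMap_i φ j, MonoidalCategory.whiskerLeft_comp_assoc,
      MonoidalCategory.whisker_exchange_assoc]
  simp only [cyclesTensorH, Category.assoc]
  erw [homologyπ_naturality]
  rw [← Category.assoc, comp_liftCycles, ← Category.assoc]
  congr 1
  refine (cancel_mono (iCycles _ n)).1 ?_
  rw [liftCycles_i, Category.assoc]
  erw [cyclesMap_i, liftCycles_i_assoc]
  exact h0.symm

lemma homologyTensor_natural (φ : M ⟶ M') (i j n : ℤ) (h : i + j = n) :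
    homologyTensor L M' i j n h ∘ₗ (homologyMap φ j).hom.lTensor (L.homology i) =
      (homologyMap ((leftTen L).map φ) n).hom ∘ₗ homologyTensor L M i j n h := by
  refine TensorProduct.ext' fun a b => ?_
  obtain ⟨z, rfl⟩ := surjective_homologyπ L i a
  obtain ⟨z', rfl⟩ := surjective_homologyπ M j b
  simp only [LinearMap.comp_apply, LinearMap.lTensor_tmul, homologyTensor_tmul]
  have h1 : (homologyMap φ j).hom (M.homologyπ j z') = M'.homologyπ j (cyclesMap φ j z') :=
    LinearMap.congr_fun (ModuleCat.hom_ext_iff.1 (homologyπ_naturality φ j)) z'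
  rw [h1, homologyTensor_tmul]
  exact (LinearMap.congr_fun (ModuleCat.hom_ext_iff.1 (cyclesTensorH_natural φ i j n h)) (z ⊗ₜ[A] z')).trans
    (congrArg (homologyMap ((leftTen L).map φ) n) (homologyTensor_tmul L M i j n h z z').symm)

lemma kunnethMap_natural (φ : M ⟶ M') (n : ℤ) (x : HTor.KunnethSum L M n) :
    kunnethMap L M' n (kunnethSumMap L φ n x) = homologyMap ((leftTen L).map φ) n (kunnethMap L M n x) := by
  classical
  refine LinearMap.congr_fun (f := kunnethMap L M' n ∘ₗ kunnethSumMap L φ n)
    (g := (homologyMap ((leftTen L).map φ) n).hom ∘ₗ kunnethMap L M n) (DirectSum.linearMap_ext A fun ij => ?_) x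
  refine LinearMap.ext fun t => ?_
  simp only [LinearMap.comp_apply, kunnethSumMap, DirectSum.lmap_lof, kunnethMap, DirectSum.toModule_lof]
  exact (LinearMap.congr_fun (homologyTensor_natural φ ij.1.1 ij.1.2 n ij.2) t).trans
    (congrArg (homologyMap ((leftTen L).map φ) n)
      (DirectSum.toModule_lof A (φ := fun ij : HTor.Antidiag n => homologyTensor L M ij.1.1 ij.1.2 n ij.2) ij t).symm)

lemma kunnethSumMap_surjective (φ : M ⟶ M') (n : ℤ) (h : ∀ j, Function.Surjective (homologyMap φ j)) :
    Function.Surjective (kunnethSumMap L φ n) := by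
  classical
  intro x
  induction x using DirectSum.induction_on with
  | zero => exact ⟨0, map_zero _⟩
  | of ij t =>
    obtain ⟨s, rfl⟩ := LinearMap.lTensor_surjective (L.homology ij.1.1) (h ij.1.2) t
    exact ⟨DirectSum.lof A _ _ ij s, DirectSum.lmap_lof (fun ij : HTor.Antidiag n => (homologyMap φ ij.1.2).hom.lTensor (L.homology ij.1.1)) ij s⟩
  | add a b ha hb =>
    obtain ⟨a, rfl⟩ := ha
    obtain ⟨b, rfl⟩ := hb
    exact ⟨a + b, map_add _ _ _⟩

lemma bijective_kunnethSumMap (φ : M ⟶ M') [QuasiIso φ] (n : ℤ) : Function.Bijective (kunnethSumMap L φ n) := by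
  have hb : ∀ j, Function.Bijective (homologyMap φ j) := fun j =>
    (isoOfQuasiIsoAt φ j).toLinearEquiv.bijective
  refine ⟨(injective_iff_map_eq_zero _).2 fun x hx => DFinsupp.ext fun ij => ?_,
    kunnethSumMap_surjective φ n fun j => (hb j).2⟩
  exact (LinearEquiv.lTensor (L.homology ij.1.1) (isoOfQuasiIsoAt φ ij.1.2).toLinearEquiv).injective
    ((DFunLike.congr_fun hx ij).trans (map_zero _).symm)

lemma bijective_kunnethMap_iff_of_quasiIso (hL : DRing.TermwiseFlat L) {b : ℤ} (hb : DRing.VanishesAbove L b)
    (φ : M ⟶ M') [QuasiIso φ] (n : ℤ) (h : Function.Bijective (kunnethMap L M' n)) :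
    Function.Bijective (kunnethMap L M n) := by
  haveI : QuasiIso ((leftTen L).map φ) := quasiIso_tensorHom_id φ (kFlat_of_termwiseFlat hL hb)
  have hF : Function.Bijective (homologyMap ((leftTen L).map φ) n) :=
    (isoOfQuasiIsoAt ((leftTen L).map φ) n).toLinearEquiv.bijective
  refine (Function.Bijective.of_comp_iff' hF _).1 ?_
  rw [show (⇑(homologyMap ((leftTen L).map φ) n) ∘ ⇑(kunnethMap L M n)) =
    ⇑(kunnethMap L M' n) ∘ ⇑(kunnethSumMap L φ n) from funext fun x => (kunnethMap_natural φ n x).symm]
  exact h.comp (bijective_kunnethSumMap φ n)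

lemma bijective_kunnethMap_single (hL : DRing.TermwiseFlat L) {b : ℤ} (hb : DRing.VanishesAbove L b)
    (hH : ∀ i : ℤ, Module.Flat A (L.homology i)) (N : ModuleCat.{u} A) (c n : ℤ) :
    Function.Bijective (kunnethMap L ((HomologicalComplex.single _ (ComplexShape.up ℤ) c).obj N) n) := by
  classical
  let M := (HomologicalComplex.single (ModuleCat.{u} A) (ComplexShape.up ℤ) c).obj N
  let i₀ : HTor.Antidiag n := ⟨(n - c, c), by simp⟩
  have hx : ∀ x : HTor.KunnethSum L M n, x = DirectSum.lof A _ _ i₀ (x i₀) := fun x => DFinsupp.ext fun ij => by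
    by_cases h : ij = i₀
    · subst h; simp [DirectSum.lof_eq_of]
    · haveI : Subsingleton (M.homology ij.1.2) := ModuleCat.subsingleton_of_isZero
        (isZero_single_obj_homology (ComplexShape.up ℤ) c N ij.1.2 (fun e => h (by
          have := ij.2
          exact Subtype.ext (Prod.ext (by simp only [i₀]; omega) e))))
      haveI : Subsingleton (TensorProduct A (L.homology ij.1.1) (M.homology ij.1.2)) :=
        subsingleton_of_forall_eq 0 fun z => TensorProduct.induction_on z rfl
          (fun a b => by rw [Subsingleton.elim b 0, tmul_zero]) (fun a b ha hb => by rw [ha, hb, add_zero])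
      exact Subsingleton.elim _ _
  have hb' := bijective_homologyTensor_single hL hb hH N c (n - c) n (by omega)
  refine ⟨fun x y h => ?_, fun y => ?_⟩
  · rw [hx x, hx y] at h ⊢
    rw [kunnethMap, DirectSum.toModule_lof, DirectSum.toModule_lof] at h
    rw [hb'.1 h]
  · obtain ⟨t, rfl⟩ := hb'.2 y
    exact ⟨DirectSum.lof A _ _ i₀ t, by simp only [kunnethMap, DirectSum.toModule_lof]; rfl⟩

theorem bijective_kunnethMap (hL : DRing.TermwiseFlat L) (bL : ℤ) (hbL : DRing.VanishesAbove L bL)
    (hH : ∀ i : ℤ, Module.Flat A (L.homology i)) (n : ℤ) : ∀ (k : ℕ) (M : DRing.Cx A),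
    M.IsStrictlyLE (n - bL - 1 + k) → Function.Bijective (kunnethMap L M n) := by
  classical
  intro k
  induction k with
  | zero =>
    intro M hM
    haveI := hM
    haveI : Subsingleton ((HTor.tensorCx L M).homology n) := ModuleCat.subsingleton_of_isZero
      (ShortComplex.isZero_homology_of_isZero_X₂ _
        (vanishesAbove_tensor hbL (fun i hi => M.isZero_of_isStrictlyLE (n - bL - 1 + (0 : ℕ)) i hi) n
          (by push_cast; omega)))
    haveI : ∀ ij : HTor.Antidiag n, Subsingleton (TensorProduct A (L.homology ij.1.1) (M.homology ij.1.2)) :=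
      fun ij => by
        by_cases h : bL < ij.1.1
        · haveI : Subsingleton (L.homology ij.1.1) := ModuleCat.subsingleton_of_isZero
            (ShortComplex.isZero_homology_of_isZero_X₂ (L.sc ij.1.1) (hbL _ h))
          exact subsingleton_of_forall_eq 0 fun z => TensorProduct.induction_on z rfl
            (fun a b => by rw [show a = 0 from Subsingleton.elim _ _, zero_tmul])
            (fun a b ha hb => by rw [ha, hb, add_zero])
        · haveI : Subsingleton (M.homology ij.1.2) := ModuleCat.subsingleton_of_isZero (ShortComplex.isZero_homology_of_isZero_X₂ (M.sc ij.1.2)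
            (M.isZero_of_isStrictlyLE (n - bL - 1 + (0 : ℕ)) ij.1.2 (by have := ij.2; push_cast; omega)))
          exact subsingleton_of_forall_eq 0 fun z => TensorProduct.induction_on z rfl
            (fun a b => by rw [show b = 0 from Subsingleton.elim _ _, tmul_zero])
            (fun a b ha hb => by rw [ha, hb, add_zero])
    exact ⟨fun x y _ => DFinsupp.ext fun ij => Subsingleton.elim _ _, fun y => ⟨0, Subsingleton.elim _ _⟩⟩
  | succ k ih =>
    intro M hM
    haveI := hM
    let e := ComplexShape.embeddingUpIntLE (n - bL - 1 + k)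
    let c : ℤ := n - bL - 1 + (k + 1 : ℕ)
    let S := HomologicalComplex.shortComplexTruncLE M e
    have hS : S.ShortExact := HomologicalComplex.shortComplexTruncLE_shortExact M e
    let X : CochainComplex (ModuleCat.{u} A) ℤ := S.X₃
    have hbot : (S.map (leftTen L)).ShortExact := shortExact₂ _ L S fun p q => by
      haveI : Module.Flat A (L.X p) := hL p
      exact ((HomologicalComplex.shortExact_iff_degreewise_shortExact S).1 hS q).map_of_exact _
    -- the cohomology of the truncation sequence is short exact
    have hg : ∀ j, Function.Surjective (homologyMap S.g j) := fun j =>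
      (ModuleCat.epi_iff_surjective _).1 inferInstance
    have hf : ∀ j, Function.Injective (homologyMap S.f j) := fun j => by
      refine (ModuleCat.mono_iff_injective _).1
        ((hS.homology_exact₁ (j - 1) j (by simp)).mono_g ?_)
      exact HomologicalComplex.shortComplexTruncLE_shortExact_δ_eq_zero M e (j - 1) j (by simp)
    have hfg : ∀ j, Function.Exact (homologyMap S.f j) (homologyMap S.g j) := fun j =>
      (ShortComplex.ShortExact.moduleCat_exact_iff_function_exact _).1 (hS.homology_exact₂ j)
    have hX : ∀ m, Function.Bijective (kunnethMap L X m) := by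
      haveI : X.IsStrictlyLE c := (CochainComplex.isStrictlyLE_iff _ _).2 fun i hi => by
        haveI : Epi (S.g.f i) := inferInstance
        exact IsZero.of_epi (S.g.f i) (M.isZero_of_isStrictlyLE c i hi)
      haveI : X.IsGE c := (CochainComplex.isGE_iff _ _).2 fun i hi => by
        obtain ⟨j, hj⟩ : ∃ j, e.f j = i := ⟨(n - bL - 1 + k - i).toNat, by
          simp [e, c, ComplexShape.embeddingUpIntLE] at *; omega⟩
        exact hj ▸ (HomologicalComplex.shortComplexTruncLE_X₃_isSupportedOutside M e).exactAt j
      obtain ⟨N, ⟨eN⟩⟩ := CochainComplex.exists_iso_single (X.truncGE c) c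
      let π : X ⟶ (HomologicalComplex.single _ (ComplexShape.up ℤ) c).obj N := X.πTruncGE c ≫ eN.hom
      exact fun m => bijective_kunnethMap_iff_of_quasiIso hL hbL π m (bijective_kunnethMap_single hL hbL hH N c m)
    have hbot_g : Function.Surjective (homologyMap ((leftTen L).map S.g) (n - 1)) := fun z => by
      obtain ⟨x, hx⟩ := (hX (n - 1)).2 z
      obtain ⟨y, rfl⟩ := kunnethSumMap_surjective S.g (n - 1) hg x
      exact ⟨kunnethMap L M (n - 1) y, (kunnethMap_natural S.g (n - 1) y).symm.trans hx⟩
    have hbot_f : Function.Injective (homologyMap ((leftTen L).map S.f) n) := by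
      refine (ModuleCat.mono_iff_injective _).1 ((hbot.homology_exact₁ (n - 1) n (by simp)).mono_g ?_)
      haveI : Epi (homologyMap (S.map (leftTen L)).g (n - 1)) := (ModuleCat.epi_iff_surjective _).2 hbot_g
      exact (cancel_epi (homologyMap (S.map (leftTen L)).g (n - 1))).1 ((hbot.comp_δ _ _ _).trans comp_zero.symm)
    have hbot_ex : Function.Exact (homologyMap ((leftTen L).map S.f) n) (homologyMap ((leftTen L).map S.g) n) :=
      (ShortComplex.ShortExact.moduleCat_exact_iff_function_exact _).1 (hbot.homology_exact₂ n)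
    have hτ := ih (HomologicalComplex.truncLE M e) inferInstance
    refine ⟨(injective_iff_map_eq_zero _).2 fun x hx => ?_, fun z => ?_⟩
    · have h1 : kunnethSumMap L S.g n x = 0 := by
        refine (hX n).1 ?_
        rw [map_zero, kunnethMap_natural]
        exact (congrArg _ hx).trans (map_zero _)
      obtain ⟨y, hy⟩ : ∃ y, kunnethSumMap L S.f n y = x := by
        have hr : ∀ ij, ∃ s, (homologyMap S.f ij.1.2).hom.lTensor (L.homology ij.1.1) s = x ij := fun ij => by
          haveI := hH ij.1.1
          exact (lTensor_exact (L.homology ij.1.1) (hfg ij.1.2) (hg ij.1.2) _).1 (DFunLike.congr_fun h1 ij)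
        choose s hs using hr
        refine ⟨DirectSum.mk (fun ij : HTor.Antidiag n => TensorProduct A (L.homology ij.1.1) (S.X₁.homology ij.1.2))
          (DFinsupp.support x) (fun ij => s ij.1), DFinsupp.ext fun ij => ?_⟩
        change (homologyMap S.f ij.1.2).hom.lTensor (L.homology ij.1.1) _ = x ij
        by_cases h : ij ∈ DFinsupp.support x
        · rw [DirectSum.mk_apply_of_mem h]; exact hs ij
        · rw [DirectSum.mk_apply_of_notMem h, map_zero, DFinsupp.notMem_support_iff.1 h]
      have h2 : kunnethMap L _ n y = 0 := by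
        refine hbot_f ?_
        rw [← kunnethMap_natural, hy]
        exact hx.trans (map_zero _).symm
      rw [← hy, hτ.1 (h2.trans (map_zero _).symm), map_zero]
    · obtain ⟨x, hx⟩ := (hX n).2 (homologyMap ((leftTen L).map S.g) n z)
      obtain ⟨x, rfl⟩ := kunnethSumMap_surjective S.g n hg x
      obtain ⟨u, hu⟩ := (hbot_ex (z - kunnethMap L M n x)).1 (by
        erw [map_sub]
        exact sub_eq_zero.2 (hx.symm.trans (kunnethMap_natural S.g n x)))
      obtain ⟨y, rfl⟩ := hτ.2 u
      refine ⟨kunnethSumMap L S.f n y + x, ?_⟩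
      rw [map_add]
      have e1 : kunnethMap L M n (kunnethSumMap L S.f n y) = z - kunnethMap L M n x :=
        (kunnethMap_natural S.f n y).trans hu
      erw [e1]
      exact sub_add_cancel _ _

end Groth.Agent.PushAmp
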