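import Groth.Agent.PushAmp.KunnethStep
import Groth.Agent.FlatCxLib.BoundedFlat

/-!
# A complex with zero differential and free terms covering the cohomology
-/

set_option autoImplicit false
set_option linter.style.haveILetI false
set_option backward.isDefEq.respectTransparency false
set_option maxHeartbeats 1000000

universe u

open CategoryTheory CategoryTheory.Limits MonoidalCategory HomologicalComplex

noncomputable section

namespace Groth.Agent.PushAmp

open KFlatLib CochainComplex

variable {A : Type u} [CommRing A] (L : DRing.Cx A)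

/-- Free modules on the nonzero classes, with zero differential. -/
def hCover : DRing.Cx A where
  X i := ModuleCat.of A ({h : L.homology i // h ≠ 0} →₀ A)
  d _ _ := 0

lemma exists_hCoverMap : ∃ φ : hCover L ⟶ L, ∀ i, Function.Surjective (homologyMap φ i) := by
  have hs : ∀ i, ∀ h : {h : L.homology i // h ≠ 0}, ∃ z : L.cycles i, L.homologyπ i z = h.1 :=
    fun i h => surjective_homologyπ L i h.1
  choose s hs using hs
  let f : ∀ i, (hCover L).X i ⟶ L.X i := fun i =>
    ModuleCat.ofHom ((L.iCycles i).hom ∘ₗ Finsupp.linearCombination A (s i))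
  let φ : hCover L ⟶ L :=
    { f := f
      comm' := fun i j _ => by
        change f i ≫ L.d i j = 0 ≫ f j
        rw [zero_comp]
        refine ModuleCat.hom_ext (LinearMap.ext fun x => ?_)
        exact LinearMap.congr_fun (ModuleCat.hom_ext_iff.1 (L.iCycles_d i j)) (Finsupp.linearCombination A (s i) x) }
  refine ⟨φ, fun i h => ?_⟩
  by_cases h0 : h = 0
  · exact ⟨0, (map_zero _).trans h0.symm⟩
  obtain ⟨z, hz⟩ : ∃ z, (hCover L).iCycles i z = (Finsupp.single ⟨h, h0⟩ 1 : {h : L.homology i // h ≠ 0} →₀ A) :=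
    (exact_iCycles_d (hCover L) i _).1 rfl
  refine ⟨(hCover L).homologyπ i z, ?_⟩
  have h1 : cyclesMap φ i z = s i ⟨h, h0⟩ := by
    refine (ModuleCat.mono_iff_injective (L.iCycles i)).1 inferInstance ?_
    refine (LinearMap.congr_fun (ModuleCat.hom_ext_iff.1 (cyclesMap_i φ i)) z).trans ?_
    show φ.f i ((hCover L).iCycles i z) = _
    rw [hz]
    exact congrArg (L.iCycles i) ((Finsupp.linearCombination_single A _ _).trans (one_smul _ _))
  exact (LinearMap.congr_fun (ModuleCat.hom_ext_iff.1 (homologyπ_naturality φ i)) z).trans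
    ((congrArg (L.homologyπ i) h1).trans (hs i _))

/-- A map from `hCover L` surjective in cohomology. -/
def hCoverMap : hCover L ⟶ L := (exists_hCoverMap L).choose

lemma surjective_hCoverMap (i : ℤ) : Function.Surjective (homologyMap (hCoverMap L) i) :=
  (exists_hCoverMap L).choose_spec i

lemma termwiseFlat_hCover : DRing.TermwiseFlat (hCover L) := fun i =>
  inferInstanceAs (Module.Flat A ({h : L.homology i // h ≠ 0} →₀ A))

lemma flat_homology_hCover (i : ℤ) : Module.Flat A ((hCover L).homology i) := by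
  haveI : IsIso ((hCover L).homologyπ i) := (hCover L).isIso_homologyπ (i - 1) i (by simp) rfl
  haveI : IsIso ((hCover L).iCycles i) := (hCover L).isIso_iCycles i (i + 1) (by simp) rfl
  haveI := termwiseFlat_hCover L i
  exact Module.Flat.of_linearEquiv
    (((asIso ((hCover L).homologyπ i)).symm ≪≫ asIso ((hCover L).iCycles i))).toLinearEquiv

lemma isZero_hCover_X (i : ℤ) (h : IsZero (L.homology i)) : IsZero ((hCover L).X i) := by
  haveI := ModuleCat.subsingleton_of_isZero h
  haveI : IsEmpty {h : L.homology i // h ≠ 0} := ⟨fun h => h.2 (Subsingleton.elim _ _)⟩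
  haveI : Subsingleton ((hCover L).X i) :=
    inferInstanceAs (Subsingleton ({h : L.homology i // h ≠ 0} →₀ A))
  exact ModuleCat.isZero_of_subsingleton _

/-- The next complex in the tower. -/
def hStep : DRing.Cx A := mappingCone (hCoverMap L)

/-- The map to the next complex. -/
def hStepMap : L ⟶ hStep L := mappingCone.inr (hCoverMap L)

/-- The shifted projection. -/
def hStepProj : hStep L ⟶ (hCover L)⟦(1 : ℤ)⟧ := (mappingCone.triangle (hCoverMap L)).mor₃

lemma hStepMap_proj : hStepMap L ≫ hStepProj L = 0 := (coneSeq (hCoverMap L)).zero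

variable {L}

lemma termwiseFlat_hStep (hL : DRing.TermwiseFlat L) : DRing.TermwiseFlat (hStep L) := fun n => by
  haveI := termwiseFlat_hCover L (n + 1)
  haveI := hL n
  haveI : Module.Flat A (ModuleCat.of A ((hCover L).X (n + 1) × L.X n)) :=
    FlatCxLib.flat_of_flat_sub_quotient LinearMap.inl_injective
      (Function.Exact.inl_snd (R := A) (M := (hCover L).X (n + 1)) (N := L.X n)) LinearMap.snd_surjective
  exact Module.Flat.of_linearEquiv
    (FlatCxLib.coneX (hCoverMap L) n ≪≫ ModuleCat.biprodIsoProd _ _).toLinearEquiv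

lemma vanishesAbove_hStep {b : ℤ} (hb : DRing.VanishesAbove L b) : DRing.VanishesAbove (hStep L) b :=
  fun i hi => IsZero.of_iso ((biprod_isZero_iff _ _).2
    ⟨isZero_hCover_X L (i + 1) (ShortComplex.isZero_homology_of_isZero_X₂ _ (hb _ (by omega))), hb i hi⟩)
    (FlatCxLib.coneX (hCoverMap L) i)

variable (L)

lemma hStepMap_homology (i : ℤ) : homologyMap (hStepMap L) i = 0 := by
  refine ModuleCat.hom_ext (LinearMap.ext fun x => ?_)
  obtain ⟨y, rfl⟩ := surjective_hCoverMap L i x
  exact (exact_homology_cone (hCoverMap L) i).apply_apply_eq_zero y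

lemma injective_homologyMap_hStepProj (i : ℤ) : Function.Injective (homologyMap (hStepProj L) i) := by
  have hex : Function.Exact (homologyMap (hStepMap L) i) (homologyMap (hStepProj L) i) :=
    (ShortComplex.ShortExact.moduleCat_exact_iff_function_exact _).1
      ((HomologicalComplex.shortExact_of_degreewise_shortExact (coneSeq (hCoverMap L))
        fun n => (coneSeqSplitting (hCoverMap L) n).shortExact).homology_exact₂ i)
  refine (injective_iff_map_eq_zero _).2 fun x hx => ?_
  obtain ⟨y, rfl⟩ := (hex x).1 hx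
  rw [hStepMap_homology]
  rfl

/-- `F → Cone(1) → F⟦1⟧`, with the sign of `cylIn`. -/
abbrev idSeq (F : DRing.Cx A) : ShortComplex (DRing.Cx A) :=
  ShortComplex.mk (-mappingCone.inr (𝟙 F)) (mappingCone.triangle (𝟙 F)).mor₃ (by
    rw [Preadditive.neg_comp, show mappingCone.inr (𝟙 F) ≫ (mappingCone.triangle (𝟙 F)).mor₃ = 0 from
      (coneSeq (𝟙 F)).zero, neg_zero])

lemma shortExact_idSeq (F : DRing.Cx A) : (idSeq F).ShortExact := by
  refine (ShortComplex.shortExact_iff_of_iso (ShortComplex.isoMk
    { hom := -𝟙 F, inv := -𝟙 F } (Iso.refl _) (Iso.refl _) ?_ ?_ : idSeq F ≅ coneSeq (𝟙 F))).2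
    (HomologicalComplex.shortExact_of_degreewise_shortExact _ fun n => (coneSeqSplitting (𝟙 F) n).shortExact)
  · simp
  · simp

/-- The syzygy sequence `0 → H^i(next) → H^i(cover⟦1⟧) → H^{i+1} → 0`. -/
theorem exists_syzygy (i : ℤ) : ∃ (q : ((hCover L)⟦(1 : ℤ)⟧).homology i ⟶ L.homology (i + 1))
    (w : homologyMap (hStepProj L) i ≫ q = 0), (ShortComplex.mk _ q w).ShortExact := by
  let φ := hCoverMap L
  have hS : (cylSeq φ).ShortExact :=
    HomologicalComplex.shortExact_of_degreewise_shortExact _ fun n => (cylSeqSplitting φ n).shortExact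
  have hK := shortExact_idSeq (hCover L)
  let ψ : cylSeq φ ⟶ idSeq (hCover L) :=
    { τ₁ := 𝟙 _
      τ₂ := biprod.snd
      τ₃ := hStepProj L
      comm₁₂ := by simp [cylIn]
      comm₂₃ := by
        apply biprod.hom_ext'
        · simp [cylOut]
          exact (hStepMap_proj L).symm
        · simp [cylOut]
          exact Eq.symm (((mappingCone.triangleMap (𝟙 (hCover L)) φ (𝟙 _) φ rfl).comm₃.symm).trans (by simp; rfl)) }
  have hij : (ComplexShape.up ℤ).Rel i (i + 1) := by simp
  have hn : hS.δ i (i + 1) hij = homologyMap (hStepProj L) i ≫ hK.δ i (i + 1) hij := by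
    have := HomologicalComplex.HomologySequence.δ_naturality ψ hS hK i (i + 1) hij
    simpa [ψ] using this
  have hKa : (mappingCone (𝟙 (hCover L))).Acyclic :=
    acyclic_of_homotopy_id_zero (mappingCone.homotopyToZeroOfId (hCover L))
  haveI : IsIso (hK.δ i (i + 1) hij) := by
    haveI : Mono (hK.δ i (i + 1) hij) :=
      (hK.homology_exact₃ i (i + 1) hij).mono_g ((hKa i).isZero_homology.eq_of_src _ _)
    haveI : Epi (hK.δ i (i + 1) hij) :=
      (hK.homology_exact₁ i (i + 1) hij).epi_f ((hKa (i + 1)).isZero_homology.eq_of_tgt _ _)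
    exact isIso_of_mono_of_epi _
  have hc : homologyMap φ (i + 1) = homologyMap (cylIn φ) (i + 1) ≫ homologyMap biprod.fst (i + 1) := by
    rw [← homologyMap_comp, cylIn, biprod.lift_fst]
  have hw : hS.δ i (i + 1) hij ≫ homologyMap φ (i + 1) = 0 := by
    rw [hc, ← Category.assoc, show hS.δ i (i + 1) hij ≫ homologyMap (cylIn φ) (i + 1) = 0 from hS.δ_comp _ _ _,
      zero_comp]
  have hmono : Mono (homologyMap (biprod.fst : cyl φ ⟶ L) (i + 1)) := by
    refine Preadditive.mono_of_cancel_zero _ fun g hg => ?_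
    have h2 : homologyMap (biprod.snd : cyl φ ⟶ _) (i + 1) = 0 := (hKa (i + 1)).isZero_homology.eq_of_tgt _ _
    rw [← Category.comp_id g, ← homologyMap_id, ← biprod.total, homologyMap_add, homologyMap_comp,
      homologyMap_comp, Preadditive.comp_add, h2, zero_comp, comp_zero, add_zero, ← Category.assoc, hg, zero_comp]
  refine ⟨hK.δ i (i + 1) hij ≫ homologyMap φ (i + 1), by rw [← Category.assoc, ← hn, hw],
    { exact := ?_, mono_f := (ModuleCat.mono_iff_injective _).2 (injective_homologyMap_hStepProj L i), epi_g := ?_ }⟩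
  · have h3 : (ShortComplex.mk (hS.δ i (i + 1) hij) (homologyMap φ (i + 1)) hw).Exact := by
      let S₁ := ShortComplex.mk (hS.δ i (i + 1) hij) (homologyMap (cylIn φ) (i + 1)) (hS.δ_comp _ _ _)
      let S₂ := ShortComplex.mk (hS.δ i (i + 1) hij) (homologyMap φ (i + 1)) hw
      let χ : S₁ ⟶ S₂ := { τ₁ := 𝟙 _, τ₂ := 𝟙 _, τ₃ := homologyMap biprod.fst (i + 1), comm₂₃ := by simp [S₁, S₂, hc] }
      haveI : Epi χ.τ₁ := inferInstanceAs (Epi (𝟙 _))
      haveI : IsIso χ.τ₂ := inferInstanceAs (IsIso (𝟙 _))
      haveI : Mono χ.τ₃ := hmono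
      exact (ShortComplex.exact_iff_of_epi_of_isIso_of_mono χ).1 (hS.homology_exact₁ i (i + 1) hij)
    refine (ShortComplex.exact_iff_of_iso ?_).2 h3
    exact ShortComplex.isoMk (Iso.refl _) (asIso (hK.δ i (i + 1) hij)) (Iso.refl _)
      ((Category.id_comp _).trans hn) (Category.comp_id _).symm
  · haveI : Epi (homologyMap φ (i + 1)) := (ModuleCat.epi_iff_surjective _).2 (surjective_hCoverMap L (i + 1))
    infer_instance

end Groth.Agent.PushAmp
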