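import Groth.Agent.PushAmp.KunnethCover
import Groth.Agent.PushAmp.TorShift

/-!
# The filtration of the Künneth spectral sequence
-/

set_option autoImplicit false
set_option linter.style.haveILetI false
set_option backward.isDefEq.respectTransparency false
set_option maxHeartbeats 1000000

universe u

open CategoryTheory CategoryTheory.Limits MonoidalCategory HomologicalComplex

noncomputable section

namespace Groth.Agent.PushAmp

open KFlatLib

variable {A : Type u} [CommRing A] (L M : DRing.Cx A)

/-- The tower of syzygy complexes. -/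
def tower : ℕ → DRing.Cx A
  | 0 => L
  | p + 1 => hStep (tower p)

/-- The maps to the tower. -/
def towerMap : ∀ p, L ⟶ tower L p
  | 0 => 𝟙 L
  | p + 1 => towerMap p ≫ hStepMap (tower L p)

lemma termwiseFlat_tower (hL : DRing.TermwiseFlat L) : ∀ p, DRing.TermwiseFlat (tower L p)
  | 0 => hL
  | p + 1 => termwiseFlat_hStep (termwiseFlat_tower hL p)

lemma vanishesAbove_tower {b : ℤ} (hb : DRing.VanishesAbove L b) : ∀ p, DRing.VanishesAbove (tower L p) b
  | 0 => hb
  | p + 1 => vanishesAbove_hStep (vanishesAbove_tower hb p)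

lemma isZero_homology_tower {b : ℤ} (hb : DRing.VanishesAbove L b) :
    ∀ (p : ℕ) (i : ℤ), b - p < i → IsZero ((tower L p).homology i)
  | 0, i, hi => ShortComplex.isZero_homology_of_isZero_X₂ _ (hb i (by simpa using hi))
  | p + 1, i, hi => by
    haveI : Mono (homologyMap (hStepProj (tower L p)) i) :=
      (ModuleCat.mono_iff_injective _).2 (injective_homologyMap_hStepProj (tower L p) i)
    exact IsZero.of_mono (homologyMap (hStepProj (tower L p)) i) (ShortComplex.isZero_homology_of_isZero_X₂ _
      (isZero_hCover_X (tower L p) (i + 1) (isZero_homology_tower hb p (i + 1) (by push_cast at hi ⊢; omega))))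

lemma termwiseFlat_shift {F : DRing.Cx A} (hF : DRing.TermwiseFlat F) : DRing.TermwiseFlat (F⟦(1 : ℤ)⟧) :=
  fun i => hF (i + 1)

lemma flat_homology_shift {F : DRing.Cx A} (hF : ∀ i, Module.Flat A (F.homology i)) (i : ℤ) :
    Module.Flat A ((F⟦(1 : ℤ)⟧).homology i) := by
  exact (Module.Flat.equiv_iff
    ((CochainComplex.ShiftSequence.shiftIso (ModuleCat.{u} A) 1 i (i + 1) (by omega)).app F).toLinearEquiv).2 (hF (i + 1))

lemma nonempty_tor_tower (W : ModuleCat.{u} A) : ∀ (p q : ℕ) (i : ℤ),
    Nonempty (((Tor (ModuleCat.{u} A) (p + (q + 1))).obj (L.homology (i + p))).obj W ≅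
      ((Tor (ModuleCat.{u} A) (q + 1)).obj ((tower L p).homology i)).obj W)
  | 0, q, i => ⟨eqToIso (by simp [tower])⟩
  | p + 1, q, i => by
    obtain ⟨e⟩ := nonempty_tor_tower W p (q + 1) (i + 1)
    obtain ⟨φ, w, hS⟩ := exists_syzygy (tower L p) i
    haveI : Module.Flat A (ShortComplex.mk _ φ w).X₂ :=
      flat_homology_shift (flat_homology_hCover (tower L p)) i
    obtain ⟨e'⟩ := nonempty_tor_shift W hS q
    exact ⟨eqToIso (by
      rw [show i + ((p + 1 : ℕ) : ℤ) = i + 1 + p by push_cast; omega, show p + 1 + (q + 1) = p + (q + 1 + 1) by omega])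
        ≪≫ e ≪≫ e'⟩

lemma nonempty_tor_ker (W : ModuleCat.{u} A) (p : ℕ) (i : ℤ) :
    Nonempty (((Tor (ModuleCat.{u} A) (p + 1)).obj (L.homology (i + (p + 1 : ℕ)))).obj W ≃ₗ[A]
      LinearMap.ker ((homologyMap (hStepProj (tower L p)) i).hom.rTensor W)) := by
  obtain ⟨e⟩ := nonempty_tor_tower L W p 0 (i + 1)
  obtain ⟨φ, w, hS⟩ := exists_syzygy (tower L p) i
  haveI : Module.Flat A (ShortComplex.mk _ φ w).X₂ := flat_homology_shift (flat_homology_hCover (tower L p)) i
  obtain ⟨e'⟩ := nonempty_tor_one W hS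
  exact ⟨((eqToIso (by rw [show i + ((p + 1 : ℕ) : ℤ) = i + 1 + p by push_cast; omega]) ≪≫ e ≪≫ e')).toLinearEquiv⟩

/-- The index change between the two sums. -/
def antidiagShift (n : ℤ) (p : ℕ) : {ij : ℤ × ℤ // ij.1 + ij.2 - p = n} ≃ HTor.Antidiag n where
  toFun x := ⟨(x.1.1 - p, x.1.2), by have := x.2; simp only; omega⟩
  invFun x := ⟨(x.1.1 + p, x.1.2), by have := x.2; simp only; omega⟩
  left_inv x := Subtype.ext (Prod.ext (by simp) rfl)
  right_inv x := Subtype.ext (Prod.ext (by simp) rfl)

lemma exists_torSum_embedding (n : ℤ) (p : ℕ) :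
    ∃ j : HTor.TorSum L M n (p + 1) →ₗ[A] HTor.KunnethSum (hStep (tower L p)) M n,
      LinearMap.range j = LinearMap.ker (kunnethSumMap₁ (hStepProj (tower L p)) M n) := by
  classical
  let π := hStepProj (tower L p)
  let K : HTor.Antidiag n → Type u := fun ij =>
    LinearMap.ker ((homologyMap π ij.1.1).hom.rTensor (M.homology ij.1.2))
  have he : ∀ ij : HTor.Antidiag n, Nonempty
      (DRing.Tor A (p + 1) (L.homology (ij.1.1 + (p + 1 : ℕ))) (M.homology ij.1.2) ≃ₗ[A] K ij) := fun ij =>
    nonempty_tor_ker L (M.homology ij.1.2) p ij.1.1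
  let e := fun ij => (he ij).some
  let e₁ : HTor.TorSum L M n (p + 1) ≃ₗ[A]
      DirectSum (HTor.Antidiag n) fun ij =>
        DRing.Tor A (p + 1) (L.homology (ij.1.1 + (p + 1 : ℕ))) (M.homology ij.1.2) :=
    DirectSum.lequivCongrLeft A (antidiagShift n (p + 1))
  let ι : (DirectSum (HTor.Antidiag n) fun ij =>
      DRing.Tor A (p + 1) (L.homology (ij.1.1 + (p + 1 : ℕ))) (M.homology ij.1.2)) →ₗ[A]
      HTor.KunnethSum (hStep (tower L p)) M n :=
    DirectSum.lmap fun ij => (LinearMap.ker ((homologyMap π ij.1.1).hom.rTensor (M.homology ij.1.2))).subtype ∘ₗ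
      (e ij).toLinearMap
  refine ⟨ι ∘ₗ e₁.toLinearMap, ?_⟩
  rw [LinearMap.range_comp_of_range_eq_top _ (LinearEquiv.range e₁)]
  refine le_antisymm ?_ fun x hx => ?_
  · rintro _ ⟨y, rfl⟩
    refine DFinsupp.ext fun ij => ?_
    exact ((e ij) (y ij)).2
  · have hx' : ∀ ij, (homologyMap π ij.1.1).hom.rTensor (M.homology ij.1.2) (x ij) = 0 := fun ij =>
      DFunLike.congr_fun (LinearMap.mem_ker.1 hx) ij
    refine ⟨DirectSum.mk _ (DFinsupp.support x) (fun ij => (e ij.1).symm ⟨x ij.1, hx' ij.1⟩), DFinsupp.ext fun ij => ?_⟩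
    change ((e ij) _).1 = x ij
    by_cases h : ij ∈ DFinsupp.support x
    · rw [DirectSum.mk_apply_of_mem h, LinearEquiv.apply_symm_apply]
    · rw [DirectSum.mk_apply_of_notMem h, map_zero, DFinsupp.notMem_support_iff.1 h]
      rfl

theorem exists_filtration (hL : DRing.TermwiseFlat L) (bL bM : ℤ) (hbL : DRing.VanishesAbove L bL)
    (hbM : DRing.VanishesAbove M bM) (n : ℤ) :
    ∃ (N : ℕ) (F : ℕ → Submodule A ((HTor.tensorCx L M).homology n)),
      F 0 = LinearMap.range (kunnethMap L M n) ∧ Monotone F ∧ F N = ⊤ ∧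
        ∀ p : ℕ, HTor.IsSubquotient A (HTor.grSucc F p) (HTor.TorSum L M n (p + 1)) := by
  classical
  let G : ∀ p, (HTor.tensorCx L M).homology n →ₗ[A] ((rightTen M).obj (tower L p)).homology n := fun p =>
    (homologyMap ((rightTen M).map (towerMap L p)) n).hom
  have hG : ∀ p x, G (p + 1) x = homologyMap ((rightTen M).map (hStepMap (tower L p))) n (G p x) := fun p x => by
    simp only [G, towerMap, Functor.map_comp, homologyMap_comp]
    rfl
  let F : ℕ → Submodule A ((HTor.tensorCx L M).homology n) := fun p => LinearMap.ker (G (p + 1))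
  have hmono : Monotone F := monotone_nat_of_le_succ fun p x hx => by
    rw [LinearMap.mem_ker] at hx ⊢
    rw [hG, hx, map_zero]
  have hbij : ∀ (K : DRing.Cx A), DRing.TermwiseFlat K → (∃ b, DRing.VanishesAbove K b) →
      (∀ i, Module.Flat A (K.homology i)) → Function.Bijective (kunnethMap K M n) := by
    rintro K hK ⟨b, hb⟩ hH
    exact bijective_kunnethMap hK b hb hH n ((bM - (n - b - 1)).toNat) M
      ((CochainComplex.isStrictlyLE_iff _ _).2 fun i hi => hbM i (by omega))
  have hcover : ∀ p, ∃ b, DRing.VanishesAbove (hCover (tower L p)) b := fun p =>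
    ⟨bL, fun i hi => isZero_hCover_X _ i (ShortComplex.isZero_homology_of_isZero_X₂ _ (vanishesAbove_tower L hbL p i hi))⟩
  let N := (bL + bM - n + 1).toNat
  refine ⟨N, F, ?_, hmono, ?_, fun p => ?_⟩
  · -- the bottom step
    ext x
    have h1 : G 1 x = homologyMap ((rightTen M).map (CochainComplex.mappingCone.inr (hCoverMap L))) n x := by
      simp only [G, towerMap, Category.id_comp]
      rfl
    refine (show x ∈ F 0 ↔ G 1 x = 0 from Iff.rfl).trans ?_
    rw [h1]
    constructor
    · intro h
      obtain ⟨u, rfl⟩ := (exact_tensor_cone (hCoverMap L) M n x).1 h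
      obtain ⟨v, rfl⟩ := (hbij _ (termwiseFlat_hCover L) (hcover 0) (flat_homology_hCover L)).2 u
      exact ⟨_, kunnethMap_natural₁ (hCoverMap L) n v⟩
    · rintro ⟨v, rfl⟩
      obtain ⟨v, rfl⟩ := kunnethSumMap₁_surjective (M := M) (hCoverMap L) n (surjective_hCoverMap L) v
      rw [kunnethMap_natural₁]
      exact (exact_tensor_cone (hCoverMap L) M n).apply_apply_eq_zero _
  · -- the filtration is finite
    refine eq_top_iff.2 fun x _ => ?_
    haveI : Subsingleton (((rightTen M).obj (tower L (N + 1))).homology n) := by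
      refine ModuleCat.subsingleton_of_isZero (isZero_homology_tensor_of_tor (tower L (N + 1)) M
        (termwiseFlat_tower L hL _) bL bM (vanishesAbove_tower L hbL _) hbM n fun q i j hij => ?_)
      refine ModuleCat.subsingleton_of_isZero ?_
      by_cases hi : bL - (N + 1 : ℕ) < i
      · let P := ProjectiveResolution.of (M.homology j)
        refine IsZero.of_iso ?_ (P.isoLeftDerivedObj (Groth.Agent.TorBridge.tenF ((tower L (N + 1)).homology i)) q)
        exact ShortComplex.isZero_homology_of_isZero_X₂ _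
          ((MonoidalCategory.tensorRight (P.complex.X q)).map_isZero (isZero_homology_tower L hbL (N + 1) i hi))
      · let P := ProjectiveResolution.of ((tower L (N + 1)).homology i)
        refine IsZero.of_iso ?_ (H9Misc.TorBalance.torSymm _ _ q ≪≫
          P.isoLeftDerivedObj (Groth.Agent.TorBridge.tenF (M.homology j)) q)
        exact ShortComplex.isZero_homology_of_isZero_X₂ _ ((MonoidalCategory.tensorRight (P.complex.X q)).map_isZero
          (ShortComplex.isZero_homology_of_isZero_X₂ (M.sc j) (hbM j (by omega))))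
    exact LinearMap.mem_ker.2 (Subsingleton.elim _ _)
  · -- the graded pieces
    obtain ⟨j, hj⟩ := exists_torSum_embedding L M n p
    let Ψ := kunnethMap (tower L (p + 1)) M n ∘ₗ j
    let ρ := G (p + 1) ∘ₗ (F (p + 1)).subtype
    have hle : LinearMap.range ρ ≤ LinearMap.range Ψ := by
      rintro _ ⟨x, rfl⟩
      have hy : homologyMap ((rightTen M).map (hStepProj (tower L p))) n (G (p + 1) x.1) = 0 := by
        rw [hG, ← ModuleCat.comp_apply, ← homologyMap_comp, ← Functor.map_comp, hStepMap_proj, Functor.map_zero,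
          homologyMap_zero]
        rfl
      -- the element comes from the Künneth sum
      have hx : homologyMap ((rightTen M).map (hStepMap (tower L (p + 1)))) n (G (p + 1) x.1) = 0 := by
        rw [← hG]; exact x.2
      obtain ⟨u, hu⟩ := (exact_tensor_cone (hCoverMap (tower L (p + 1))) M n (G (p + 1) x.1)).1 hx
      obtain ⟨v, rfl⟩ :=
        (hbij _ (termwiseFlat_hCover _) (hcover (p + 1)) (flat_homology_hCover _)).2 u
      let z := kunnethSumMap₁ (hCoverMap (tower L (p + 1))) M n v
      have hz : kunnethMap (tower L (p + 1)) M n z = G (p + 1) x.1 :=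
        (kunnethMap_natural₁ _ n v).trans hu
      have hzk : z ∈ LinearMap.ker (kunnethSumMap₁ (hStepProj (tower L p)) M n) := by
        obtain ⟨b, hb⟩ := hcover p
        refine LinearMap.mem_ker.2 ((hbij _ (termwiseFlat_shift (termwiseFlat_hCover (tower L p)))
          ⟨b, fun i hi => hb (i + 1) (by omega)⟩ (flat_homology_shift (flat_homology_hCover (tower L p)))).1 ?_)
        exact (kunnethMap_natural₁ (hStepProj (tower L p)) n z).trans
          (((congrArg _ hz).trans hy).trans (map_zero _).symm)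
      obtain ⟨t, ht⟩ := hj.ge hzk
      exact ⟨t, (congrArg _ ht).trans hz⟩
    let S' := Submodule.comap Ψ (LinearMap.range ρ)
    let θ : S' →ₗ[A] LinearMap.range ρ := (Ψ ∘ₗ S'.subtype).codRestrict _ fun t => t.2
    have hθ : Function.Surjective θ := by
      rintro ⟨y, hy⟩
      obtain ⟨t, rfl⟩ := hle hy
      exact ⟨⟨t, hy⟩, rfl⟩
    have e₁ : LinearMap.ker ρ = Submodule.comap (F (p + 1)).subtype (F p) := rfl
    have e₂ : LinearMap.ker θ = Submodule.comap S'.subtype (LinearMap.ker Ψ) := by
      ext t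
      exact ⟨fun h => congrArg Subtype.val h, fun h => Subtype.ext h⟩
    refine ⟨LinearMap.ker Ψ, S', fun t ht => ?_, ⟨?_⟩⟩
    · exact ⟨0, (map_zero _).trans (LinearMap.mem_ker.1 ht).symm⟩
    · exact ((Submodule.quotEquivOfEq _ _ e₁.symm).trans ρ.quotKerEquivRange).trans
        ((θ.quotKerEquivOfSurjective hθ).symm.trans (Submodule.quotEquivOfEq _ _ e₂))

end Groth.Agent.PushAmp
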