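import Groth.Agent.PushAmp.KunnethBij

/-!
# Naturality of the Künneth map in the first variable
-/

set_option autoImplicit false
set_option linter.style.haveILetI false
set_option backward.isDefEq.respectTransparency false
set_option maxHeartbeats 1000000

universe u

open CategoryTheory CategoryTheory.Limits MonoidalCategory HomologicalComplex TensorProduct

noncomputable section

namespace Groth.Agent.PushAmp

variable {A : Type u} [CommRing A] {L L' : DRing.Cx A} {M : DRing.Cx A}

/-- `- ⊗ M`. -/
abbrev rightTen (M : DRing.Cx A) : DRing.Cx A ⥤ DRing.Cx A :=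
  (curriedTensor (ModuleCat.{u} A)).map₂CochainComplex.flip.obj M

/-- Functoriality of the Künneth sum in the first variable. -/
def kunnethSumMap₁ (φ : L ⟶ L') (M : DRing.Cx A) (n : ℤ) : HTor.KunnethSum L M n →ₗ[A] HTor.KunnethSum L' M n :=
  DirectSum.lmap fun ij => (homologyMap φ ij.1.1).hom.rTensor (M.homology ij.1.2)

lemma cyclesTensorH_natural₁ (φ : L ⟶ L') (i j n : ℤ) (h : i + j = n) :
    (cyclesMap φ i ▷ M.cycles j) ≫ cyclesTensorH L' M i j n h =
      cyclesTensorH L M i j n h ≫ homologyMap ((rightTen M).map φ) n := by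
  have h0 : cyclesTensorX L M i j n h ≫ ((rightTen M).map φ).f n =
      (cyclesMap φ i ▷ M.cycles j) ≫ cyclesTensorX L' M i j n h := by
    change ((L.iCycles i ⊗ₘ M.iCycles j) ≫ ιMapBifunctor L M (curriedTensor (ModuleCat.{u} A)) (ComplexShape.up ℤ) i j n h) ≫
        (mapBifunctorMap φ (𝟙 M) (curriedTensor (ModuleCat.{u} A)) (ComplexShape.up ℤ)).f n =
      (cyclesMap φ i ▷ M.cycles j) ≫
        (L'.iCycles i ⊗ₘ M.iCycles j) ≫ ιMapBifunctor L' M (curriedTensor (ModuleCat.{u} A)) (ComplexShape.up ℤ) i j n h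
    rw [Category.assoc, ι_mapBifunctorMap]
    simp [MonoidalCategory.tensorHom_def']
    rw [← comp_whiskerRight_assoc, ← cyclesMap_i φ i, comp_whiskerRight_assoc,
      ← MonoidalCategory.whisker_exchange_assoc]
  simp only [cyclesTensorH, Category.assoc]
  erw [homologyπ_naturality]
  rw [← Category.assoc, comp_liftCycles, ← Category.assoc]
  congr 1
  refine (cancel_mono (iCycles _ n)).1 ?_
  rw [liftCycles_i, Category.assoc]
  erw [cyclesMap_i, liftCycles_i_assoc]
  exact h0.symm

lemma homologyTensor_natural₁ (φ : L ⟶ L') (i j n : ℤ) (h : i + j = n) :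
    homologyTensor L' M i j n h ∘ₗ (homologyMap φ i).hom.rTensor (M.homology j) =
      (homologyMap ((rightTen M).map φ) n).hom ∘ₗ homologyTensor L M i j n h := by
  refine TensorProduct.ext' fun a b => ?_
  obtain ⟨z, rfl⟩ := surjective_homologyπ L i a
  obtain ⟨z', rfl⟩ := surjective_homologyπ M j b
  simp only [LinearMap.comp_apply, LinearMap.rTensor_tmul]
  have h1 : (homologyMap φ i).hom (L.homologyπ i z) = L'.homologyπ i (cyclesMap φ i z) :=
    LinearMap.congr_fun (ModuleCat.hom_ext_iff.1 (homologyπ_naturality φ i)) z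
  rw [h1, homologyTensor_tmul]
  exact (LinearMap.congr_fun (ModuleCat.hom_ext_iff.1 (cyclesTensorH_natural₁ φ i j n h)) (z ⊗ₜ[A] z')).trans
    (congrArg (homologyMap ((rightTen M).map φ) n) (homologyTensor_tmul L M i j n h z z').symm)

lemma kunnethMap_natural₁ (φ : L ⟶ L') (n : ℤ) (x : HTor.KunnethSum L M n) :
    kunnethMap L' M n (kunnethSumMap₁ φ M n x) = homologyMap ((rightTen M).map φ) n (kunnethMap L M n x) := by
  classical
  refine LinearMap.congr_fun (f := kunnethMap L' M n ∘ₗ kunnethSumMap₁ φ M n)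
    (g := (homologyMap ((rightTen M).map φ) n).hom ∘ₗ kunnethMap L M n) (DirectSum.linearMap_ext A fun ij => ?_) x
  refine LinearMap.ext fun t => ?_
  simp only [LinearMap.comp_apply, kunnethSumMap₁, DirectSum.lmap_lof, kunnethMap, DirectSum.toModule_lof]
  exact (LinearMap.congr_fun (homologyTensor_natural₁ φ ij.1.1 ij.1.2 n ij.2) t).trans
    (congrArg (homologyMap ((rightTen M).map φ) n)
      (DirectSum.toModule_lof A (φ := fun ij : HTor.Antidiag n => homologyTensor L M ij.1.1 ij.1.2 n ij.2) ij t).symm)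

lemma kunnethSumMap₁_surjective (φ : L ⟶ L') (n : ℤ) (h : ∀ i, Function.Surjective (homologyMap φ i)) :
    Function.Surjective (kunnethSumMap₁ φ M n) := by
  classical
  intro x
  induction x using DirectSum.induction_on with
  | zero => exact ⟨0, map_zero _⟩
  | of ij t =>
    obtain ⟨s, rfl⟩ := LinearMap.rTensor_surjective (M.homology ij.1.2) (h ij.1.1) t
    exact ⟨DirectSum.lof A _ _ ij s,
      DirectSum.lmap_lof (fun ij : HTor.Antidiag n => (homologyMap φ ij.1.1).hom.rTensor (M.homology ij.1.2)) ij s⟩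
  | add a b ha hb =>
    obtain ⟨a, rfl⟩ := ha
    obtain ⟨b, rfl⟩ := hb
    exact ⟨a + b, map_add _ _ _⟩

end Groth.Agent.PushAmp
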