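import Groth.Prelude.Def_HTor
import Mathlib.Algebra.Homology.Monoidal
import Mathlib.Algebra.Homology.ShortComplex.ModuleCat
import Mathlib.LinearAlgebra.TensorProduct.RightExactness

/-!
# The Künneth map
-/

set_option autoImplicit false
set_option linter.style.haveILetI false
set_option backward.isDefEq.respectTransparency false

universe u

open CategoryTheory CategoryTheory.Limits MonoidalCategory HomologicalComplex TensorProduct

noncomputable section

namespace Groth.Agent.PushAmp

variable {A : Type u} [CommRing A] (L M : DRing.Cx A) (i j n : ℤ) (h : i + j = n)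

/-- A product of cycles, as a chain. -/
def cyclesTensorX : L.cycles i ⊗ M.cycles j ⟶ (HTor.tensorCx L M).X n :=
  (L.iCycles i ⊗ₘ M.iCycles j) ≫ ιTensorObj L M i j n h

lemma cyclesTensorX_d : cyclesTensorX L M i j n h ≫ (HTor.tensorCx L M).d n (n + 1) = 0 := by
  change ((L.iCycles i ⊗ₘ M.iCycles j) ≫ ιMapBifunctor L M (curriedTensor (ModuleCat.{u} A)) (ComplexShape.up ℤ) i j n h) ≫
    (mapBifunctor L M (curriedTensor (ModuleCat.{u} A)) (ComplexShape.up ℤ)).d n (n + 1) = 0
  rw [Category.assoc, mapBifunctor.d_eq, Preadditive.comp_add, mapBifunctor.ι_D₁, mapBifunctor.ι_D₂,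
    mapBifunctor.d₁_eq L M _ _ (show (ComplexShape.up ℤ).Rel i (i + 1) by simp) j (n + 1) (show i + 1 + j = n + 1 by omega),
    mapBifunctor.d₂_eq L M _ _ i (show (ComplexShape.up ℤ).Rel j (j + 1) by simp) (n + 1) (show i + (j + 1) = n + 1 by omega)]
  simp only [curriedTensor_map_app, curriedTensor_obj_map, Preadditive.comp_add, Linear.comp_units_smul,
    Preadditive.comp_zsmul, ← Category.assoc, tensorHom_comp_whiskerRight, tensorHom_comp_whiskerLeft,
    iCycles_d]
  simp

/-- A product of cycles, as a class. -/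
def cyclesTensorH : L.cycles i ⊗ M.cycles j ⟶ (HTor.tensorCx L M).homology n :=
  (HTor.tensorCx L M).liftCycles (cyclesTensorX L M i j n h) (n + 1) (by simp) (cyclesTensorX_d L M i j n h) ≫
    (HTor.tensorCx L M).homologyπ n

lemma cyclesTensorH_apply (z : L.cycles i) (z' : M.cycles j) (w : (HTor.tensorCx L M).cycles n)
    (hw : (HTor.tensorCx L M).iCycles n w = ιTensorObj L M i j n h
      ((L.iCycles i z ⊗ₜ[A] M.iCycles j z' : TensorProduct A (L.X i) (M.X j)))) :
    cyclesTensorH L M i j n h (z ⊗ₜ[A] z') = (HTor.tensorCx L M).homologyπ n w := by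
  change (HTor.tensorCx L M).homologyπ n _ = _
  congr 1
  refine (ModuleCat.mono_iff_injective ((HTor.tensorCx L M).iCycles n)).1 inferInstance ?_
  rw [hw]
  exact LinearMap.congr_fun (ModuleCat.hom_ext_iff.1 (liftCycles_i (HTor.tensorCx L M) (cyclesTensorX L M i j n h) (n + 1) (by simp) (cyclesTensorX_d L M i j n h))) (z ⊗ₜ[A] z')

lemma toCycles_whisker_cyclesTensorH (i₀ : ℤ) (hi : i₀ + 1 = i) :
    L.toCycles i₀ i ▷ M.cycles j ≫ cyclesTensorH L M i j n h = 0 := by
  rw [cyclesTensorH, ← Category.assoc, comp_liftCycles]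
  refine liftCycles_homologyπ_eq_zero_of_boundary _ _ _ _ (i' := n - 1)
    ((L.X i₀ ◁ M.iCycles j) ≫ ιTensorObj L M i₀ j (n - 1) (by omega)) ?_
  change _ = ((L.X i₀ ◁ M.iCycles j) ≫ ιMapBifunctor L M (curriedTensor (ModuleCat.{u} A)) (ComplexShape.up ℤ) i₀ j (n - 1)
      (show i₀ + j = n - 1 by omega)) ≫
    (mapBifunctor L M (curriedTensor (ModuleCat.{u} A)) (ComplexShape.up ℤ)).d (n - 1) n
  rw [Category.assoc, mapBifunctor.d_eq, Preadditive.comp_add, mapBifunctor.ι_D₁, mapBifunctor.ι_D₂,
    mapBifunctor.d₁_eq L M _ _ (show (ComplexShape.up ℤ).Rel i₀ i by simp [hi]) j n h,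
    mapBifunctor.d₂_eq L M _ _ i₀ (show (ComplexShape.up ℤ).Rel j (j + 1) by simp) n (show i₀ + (j + 1) = n by omega)]
  simp only [curriedTensor_map_app, curriedTensor_obj_map, Preadditive.comp_add, Linear.comp_units_smul,
    cyclesTensorX, ← Category.assoc, whiskerLeft_comp_assoc, ← MonoidalCategory.whiskerLeft_comp, iCycles_d]
  simp [tensorHom_def', MonoidalCategory.whisker_exchange]
  rw [← comp_whiskerRight_assoc, toCycles_i]

lemma cycles_whisker_toCycles_cyclesTensorH (j₀ : ℤ) (hj : j₀ + 1 = j) :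
    L.cycles i ◁ M.toCycles j₀ j ≫ cyclesTensorH L M i j n h = 0 := by
  rw [cyclesTensorH, ← Category.assoc, comp_liftCycles]
  refine liftCycles_homologyπ_eq_zero_of_boundary _ _ _ _ (i' := n - 1)
    (((i.negOnePow : ℤˣ) : ℤ) • ((L.iCycles i ▷ M.X j₀) ≫ ιTensorObj L M i j₀ (n - 1) (by omega))) ?_
  change _ = (((i.negOnePow : ℤˣ) : ℤ) • ((L.iCycles i ▷ M.X j₀) ≫ ιMapBifunctor L M (curriedTensor (ModuleCat.{u} A)) (ComplexShape.up ℤ) i j₀ (n - 1)
      (show i + j₀ = n - 1 by omega))) ≫
    (mapBifunctor L M (curriedTensor (ModuleCat.{u} A)) (ComplexShape.up ℤ)).d (n - 1) n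
  rw [Preadditive.zsmul_comp, Category.assoc, mapBifunctor.d_eq, Preadditive.comp_add, mapBifunctor.ι_D₁, mapBifunctor.ι_D₂,
    mapBifunctor.d₁_eq L M _ _ (show (ComplexShape.up ℤ).Rel i (i + 1) by simp) j₀ n (show i + 1 + j₀ = n by omega),
    mapBifunctor.d₂_eq L M _ _ i (show (ComplexShape.up ℤ).Rel j₀ j by simp [hj]) n h]
  simp only [curriedTensor_map_app, curriedTensor_obj_map, Preadditive.comp_add, Linear.comp_units_smul,
    cyclesTensorX, ← Category.assoc, ← comp_whiskerRight, iCycles_d]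
  simp [tensorHom_def, MonoidalCategory.whisker_exchange, smul_smul, Units.smul_def, ← mul_zsmul]
  rw [MonoidalCategory.whisker_exchange_assoc, ← MonoidalCategory.whiskerLeft_comp_assoc, toCycles_i]

lemma exact_toCycles_homologyπ (K : DRing.Cx A) (i : ℤ) :
    Function.Exact (K.toCycles (i - 1) i) (K.homologyπ i) :=
  (ShortComplex.ShortExact.moduleCat_exact_iff_function_exact _).1
    (ShortComplex.exact_of_g_is_cokernel (ShortComplex.mk _ _ (K.toCycles_comp_homologyπ (i - 1) i))
      (K.homologyIsCokernel (i - 1) i (by simp)))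

lemma surjective_homologyπ (K : DRing.Cx A) (i : ℤ) : Function.Surjective (K.homologyπ i) :=
  (ModuleCat.epi_iff_surjective _).1 inferInstance

/-- The product of cohomology classes. -/
def homologyTensor : TensorProduct A (L.homology i) (M.homology j) →ₗ[A] (HTor.tensorCx L M).homology n :=
  let π := TensorProduct.map (L.homologyπ i).hom (M.homologyπ j).hom
  (Submodule.liftQ (LinearMap.ker π) (cyclesTensorH L M i j n h).hom (by
    rw [TensorProduct.map_ker (exact_toCycles_homologyπ L i) (surjective_homologyπ L i)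
      (exact_toCycles_homologyπ M j) (surjective_homologyπ M j), sup_le_iff]
    refine ⟨?_, ?_⟩
    · rintro _ ⟨x, rfl⟩
      exact LinearMap.congr_fun (ModuleCat.hom_ext_iff.1
        (cycles_whisker_toCycles_cyclesTensorH L M i j n h (j - 1) (by omega))) x
    · rintro _ ⟨x, rfl⟩
      exact LinearMap.congr_fun (ModuleCat.hom_ext_iff.1
        (toCycles_whisker_cyclesTensorH L M i j n h (i - 1) (by omega))) x)) ∘ₗ
    (π.quotKerEquivOfSurjective
      (TensorProduct.map_surjective (surjective_homologyπ L i) (surjective_homologyπ M j))).symm.toLinearMap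

lemma homologyTensor_tmul (z : L.cycles i) (z' : M.cycles j) :
    homologyTensor L M i j n h (L.homologyπ i z ⊗ₜ[A] M.homologyπ j z') =
      cyclesTensorH L M i j n h (z ⊗ₜ[A] z') := by
  let π := TensorProduct.map (L.homologyπ i).hom (M.homologyπ j).hom
  have e : (π.quotKerEquivOfSurjective
      (TensorProduct.map_surjective (surjective_homologyπ L i) (surjective_homologyπ M j))).symm
      (L.homologyπ i z ⊗ₜ[A] M.homologyπ j z') = Submodule.Quotient.mk (z ⊗ₜ[A] z') := by
    rw [LinearEquiv.symm_apply_eq]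
    rfl
  simp only [homologyTensor, LinearMap.comp_apply, LinearEquiv.coe_coe, π] at e ⊢
  rw [e]
  rfl

/-- The Künneth map. -/
def kunnethMap : HTor.KunnethSum L M n →ₗ[A] (HTor.tensorCx L M).homology n :=
  DirectSum.toModule A _ _ fun ij => homologyTensor L M ij.1.1 ij.1.2 n ij.2

lemma isKunnethMap_kunnethMap : HTor.IsKunnethMap L M n (kunnethMap L M n) := fun ij z z' w hw => by
  rw [kunnethMap, DirectSum.toModule_lof, homologyTensor_tmul, cyclesTensorH_apply L M _ _ n ij.2 z z' w hw]

end Groth.Agent.PushAmp
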