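import Groth.Agent.PushAmp.KunnethMap
import Groth.Agent.FlatCxLib.Structure
import Groth.Agent.KFlatLib.SingleIso

/-!
# The Künneth map against a module in a single degree
-/

set_option autoImplicit false
set_option linter.style.haveILetI false
set_option backward.isDefEq.respectTransparency false

universe u

open CategoryTheory CategoryTheory.Limits MonoidalCategory HomologicalComplex TensorProduct

noncomputable section

namespace Groth.Agent.PushAmp

variable {A : Type u} [CommRing A] {L : DRing.Cx A}

lemma exact_d_pOpcycles (L : DRing.Cx A) (i : ℤ) :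
    Function.Exact (L.d (i - 1) i) (L.pOpcycles i) :=
  (ShortComplex.ShortExact.moduleCat_exact_iff_function_exact _).1
    (ShortComplex.exact_of_g_is_cokernel (ShortComplex.mk _ _ (L.d_pOpcycles (i - 1) i))
      (L.opcyclesIsCokernel (i - 1) i (by simp)))

lemma exact_iCycles_d (L : DRing.Cx A) (i : ℤ) : Function.Exact (L.iCycles i) (L.d i (i + 1)) :=
  (ShortComplex.ShortExact.moduleCat_exact_iff_function_exact _).1
    (ShortComplex.exact_of_f_is_kernel (ShortComplex.mk _ _ (L.iCycles_d i (i + 1)))
      (L.cyclesIsKernel i (i + 1) (by simp)))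

lemma flat_range_of_flat_opcycles (hL : DRing.TermwiseFlat L) (i : ℤ) [Module.Flat A (L.opcycles i)] :
    Module.Flat A (LinearMap.range (L.d (i - 1) i).hom) := by
  haveI : Module.Flat A (L.X i) := hL i
  refine FlatCxLib.flat_sub_of_flat (f := (LinearMap.range (L.d (i - 1) i).hom).subtype)
    (g := (L.pOpcycles i).hom) Subtype.val_injective ?_ ((ModuleCat.epi_iff_surjective _).1 inferInstance)
  rw [LinearMap.exact_iff, Submodule.range_subtype]
  exact LinearMap.exact_iff.1 (exact_d_pOpcycles L i)

lemma flat_opcycles (hL : DRing.TermwiseFlat L) {b : ℤ} (hb : DRing.VanishesAbove L b)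
    (hH : ∀ i : ℤ, Module.Flat A (L.homology i)) (i : ℤ) : Module.Flat A (L.opcycles i) := by
  suffices ∀ (k : ℕ) (i : ℤ), b < i + k → Module.Flat A (L.opcycles i) from
    this (b + 1 - i).toNat i (by omega)
  intro k
  induction k with
  | zero =>
    intro i hi
    haveI := ModuleCat.subsingleton_of_isZero (IsZero.of_epi (L.pOpcycles i) (hb i (by omega)))
    infer_instance
  | succ k ih =>
    intro i hi
    haveI := ih (i + 1) (by omega)
    haveI := flat_range_of_flat_opcycles hL (i + 1)
    haveI : Module.Flat A (LinearMap.range (L.fromOpcycles i (i + 1)).hom) := by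
      have h : LinearMap.range (L.fromOpcycles i (i + 1)).hom = LinearMap.range (L.d (i + 1 - 1) (i + 1)).hom := by
        rw [show i + 1 - 1 = i by omega, ← L.p_fromOpcycles i (i + 1), ModuleCat.hom_comp,
          LinearMap.range_comp_of_range_eq_top _ (LinearMap.range_eq_top.2
            ((ModuleCat.epi_iff_surjective _).1 inferInstance))]
      rw [h]; infer_instance
    haveI := hH i
    refine FlatCxLib.flat_of_flat_sub_quotient (f := (L.homologyι i).hom)
      (g := (L.fromOpcycles i (i + 1)).hom.rangeRestrict) ((ModuleCat.mono_iff_injective _).1 inferInstance)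
      ?_ (LinearMap.surjective_rangeRestrict _)
    rw [LinearMap.exact_iff, LinearMap.ker_rangeRestrict]
    exact LinearMap.exact_iff.1 ((ShortComplex.ShortExact.moduleCat_exact_iff_function_exact _).1
      (ShortComplex.exact_of_f_is_kernel (ShortComplex.mk _ _ (L.homologyι_comp_fromOpcycles i (i + 1)))
        (L.homologyIsKernel i (i + 1) (by simp))))

/-- Künneth against a module in a single degree. -/
theorem bijective_homologyTensor_single (hL : DRing.TermwiseFlat L) {b : ℤ} (hb : DRing.VanishesAbove L b)
    (hH : ∀ i : ℤ, Module.Flat A (L.homology i)) (N : ModuleCat.{u} A) (c i n : ℤ) (h : i + c = n) :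
    Function.Bijective (homologyTensor L ((HomologicalComplex.single _ (ComplexShape.up ℤ) c).obj N) i c n h) := by
  let M := (HomologicalComplex.single (ModuleCat.{u} A) (ComplexShape.up ℤ) c).obj N
  let T := HTor.tensorCx L M
  let S : ∀ (p m : ℤ), p + c = m → ((L.X p ⊗ N : ModuleCat.{u} A) ⟶ T.X m) := fun p m h =>
    KFlatLib.singleSummand (T := curriedTensor (ModuleCat.{u} A)) L N c p m h
  have hS : ∀ p m h, IsIso (S p m h) := fun p m h => KFlatLib.isIso_singleSummand L N c p m h
  have hinjS : ∀ p m h, Function.Injective (S p m h) := fun p m h =>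
    haveI := hS p m h
    (ModuleCat.mono_iff_injective _).1 inferInstance
  have hsurS : ∀ p m h, Function.Surjective (S p m h) := fun p m h =>
    haveI := hS p m h
    (ModuleCat.epi_iff_surjective _).1 inferInstance
  have hd : ∀ p p' m m' h h', p + 1 = p' → ∀ x, T.d m m' (S p m h x) =
      S p' m' h' ((L.d p p').hom.rTensor N x) := fun p p' m m' h h' hp x =>
    LinearMap.congr_fun (ModuleCat.hom_ext_iff.1 (KFlatLib.singleSummand_d (T := curriedTensor (ModuleCat.{u} A))
      L N c p p' m m' h h' hp)) x
  haveI := flat_opcycles hL hb hH (i + 1)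
  have hR : Module.Flat A (LinearMap.range (L.d i (i + 1)).hom) := by
    have := flat_range_of_flat_opcycles hL (i + 1)
    rwa [show i + 1 - 1 = i by omega] at this
  have huiR : CAlgX.UniversallyInjective A (LinearMap.range (L.d i (i + 1)).hom).subtype := by
    refine CAlgUI.ui_of_flat_quotient (g := (L.pOpcycles (i + 1)).hom) Subtype.val_injective ?_
      ((ModuleCat.epi_iff_surjective _).1 inferInstance)
    rw [LinearMap.exact_iff, Submodule.range_subtype]
    have := LinearMap.exact_iff.1 (exact_d_pOpcycles L (i + 1))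
    rwa [show i + 1 - 1 = i by omega] at this
  have hex : Function.Exact (L.iCycles i).hom (L.d i (i + 1)).hom.rangeRestrict := by
    rw [LinearMap.exact_iff, LinearMap.ker_rangeRestrict]
    exact LinearMap.exact_iff.1 (exact_iCycles_d L i)
  have huiZ : CAlgX.UniversallyInjective A (L.iCycles i).hom :=
    CAlgUI.ui_of_flat_quotient ((ModuleCat.mono_iff_injective _).1 inferInstance) hex
      (LinearMap.surjective_rangeRestrict _)
  -- a module in one degree is its own cohomology
  let κ : N ≅ M.cycles c := (singleObjCyclesSelfIso (ComplexShape.up ℤ) c N).symm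
  have hκ : κ.hom ≫ M.iCycles c = (singleObjXSelf (ComplexShape.up ℤ) c N).inv := by simp [κ, M]
  haveI : IsIso (M.homologyπ c) := M.isIso_homologyπ (c - 1) c (by simp) (single_obj_d _ _ _ _ _)
  let π := (L.homologyπ i).hom.rTensor N
  let σ : TensorProduct A (L.homology i) N ≃ₗ[A] TensorProduct A (L.homology i) (M.homology c) :=
    LinearEquiv.lTensor _ (κ ≪≫ asIso (M.homologyπ c)).toLinearEquiv
  let Ψ : TensorProduct A (L.cycles i) N →ₗ[A] T.homology n :=
    homologyTensor L M i c n h ∘ₗ σ.toLinearMap ∘ₗ π
  have key : ∀ (t : TensorProduct A (L.cycles i) N) (w : T.cycles n),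
      T.iCycles n w = S i n h ((L.iCycles i).hom.rTensor N t) → Ψ t = T.homologyπ n w := by
    intro t w hw
    have e : Ψ = (cyclesTensorH L M i c n h).hom ∘ₗ κ.hom.hom.lTensor (L.cycles i) :=
      TensorProduct.ext' fun z y => homologyTensor_tmul L M i c n h z (κ.hom y)
    rw [e]
    change T.homologyπ n _ = _
    congr 1
    refine (ModuleCat.mono_iff_injective (T.iCycles n)).1 inferInstance ?_
    rw [hw]
    refine (LinearMap.congr_fun (ModuleCat.hom_ext_iff.1 (liftCycles_i T (cyclesTensorX L M i c n h) (n + 1)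
      (by simp) (cyclesTensorX_d L M i c n h))) _).trans ?_
    refine LinearMap.congr_fun (g := (S i n h).hom ∘ₗ (L.iCycles i).hom.rTensor N)
      (f := (cyclesTensorX L M i c n h).hom ∘ₗ κ.hom.hom.lTensor (L.cycles i)) (TensorProduct.ext' fun z y => ?_) t
    change ιTensorObj L M i c n h ((L.iCycles i z ⊗ₜ[A] M.iCycles c (κ.hom y) : TensorProduct A (L.X i) (M.X c))) = _
    rw [show M.iCycles c (κ.hom y) = (singleObjXSelf (ComplexShape.up ℤ) c N).inv y from
      LinearMap.congr_fun (ModuleCat.hom_ext_iff.1 hκ) y]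
    rfl
  have hsurπ : Function.Surjective π := LinearMap.rTensor_surjective N (surjective_homologyπ L i)
  refine ⟨(injective_iff_map_eq_zero _).2 fun x hx => ?_, fun y => ?_⟩
  · obtain ⟨t, ht⟩ := hsurπ (σ.symm x)
    have h0 : Ψ t = 0 := by
      show homologyTensor L M i c n h (σ (π t)) = 0
      rw [ht, σ.apply_symm_apply]
      exact hx
    obtain ⟨w, hw⟩ : ∃ w : T.cycles n, T.iCycles n w = S i n h ((L.iCycles i).hom.rTensor N t) :=
      (exact_iCycles_d T n _).1 (by
        rw [hd i (i + 1) n (n + 1) h (by omega) rfl, ← LinearMap.comp_apply, ← LinearMap.rTensor_comp,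
          ← ModuleCat.hom_comp, L.iCycles_d, ModuleCat.hom_zero, LinearMap.rTensor_zero, LinearMap.zero_apply,
          map_zero])
    obtain ⟨y, hy⟩ := (exact_toCycles_homologyπ T n w).1 ((key t w hw).symm.trans h0)
    obtain ⟨y', rfl⟩ := hsurS (i - 1) (n - 1) (by omega) y
    have h1 : (L.iCycles i).hom.rTensor N ((L.toCycles (i - 1) i).hom.rTensor N y') =
        (L.iCycles i).hom.rTensor N t := by
      refine hinjS i n h ?_
      rw [← hw, ← hy, ← LinearMap.comp_apply, ← LinearMap.rTensor_comp, ← ModuleCat.hom_comp, L.toCycles_i,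
        ← hd (i - 1) i (n - 1) n (by omega) h (by omega)]
      exact (LinearMap.congr_fun (ModuleCat.hom_ext_iff.1 (T.toCycles_i (n - 1) n)) _).symm
    rw [← σ.apply_symm_apply x, ← ht, ← huiZ N h1, ← LinearMap.comp_apply π,
      ← LinearMap.rTensor_comp, ← ModuleCat.hom_comp, L.toCycles_comp_homologyπ, ModuleCat.hom_zero,
      LinearMap.rTensor_zero, LinearMap.zero_apply, map_zero]
  · obtain ⟨w, rfl⟩ := surjective_homologyπ T n y
    obtain ⟨x, hx⟩ := hsurS i n h (T.iCycles n w)
    have h1 : (L.d i (i + 1)).hom.rTensor N x = 0 := by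
      refine hinjS (i + 1) (n + 1) (by omega) ?_
      rw [← hd i (i + 1) n (n + 1) h (by omega) rfl, hx, map_zero]
      exact (exact_iCycles_d T n _).2 ⟨w, rfl⟩
    have h2 : (L.d i (i + 1)).hom.rangeRestrict.rTensor N x = 0 := by
      refine huiR N ?_
      rw [← LinearMap.comp_apply, ← LinearMap.rTensor_comp, map_zero]
      exact h1
    obtain ⟨t, rfl⟩ := (rTensor_exact N hex (LinearMap.surjective_rangeRestrict _) x).1 h2
    exact ⟨σ (π t), key t w hx.symm⟩

end Groth.Agent.PushAmp
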