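import Groth.Agent.PushAmp.StalkConv
import Groth.Agent.PushAmp.Basic
import Groth.Agent.KFlatLib.Scheme.TorQCoh

/-! The tor amplitude over a base of a derived direct image. -/

set_option autoImplicit false
set_option linter.style.haveILetI false
set_option backward.isDefEq.respectTransparency false

universe u

open CategoryTheory CategoryTheory.Limits AlgebraicGeometry MonoidalCategory

attribute [local instance] HasDerivedCategory.standard

namespace Groth.Agent.PushAmp

open KFlatLib

variable {X Y S : Scheme.{u}} (q : Y ⟶ S) (f : X ⟶ Y) [QuasiCompact f] [QuasiSeparated f]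
  [DCoh.HasRpush f]

/-- Finite tor amplitude over the base is preserved by derived direct images. -/
theorem exists_torAmplitude_rpush_over [CompactSpace Y] [QuasiSeparatedSpace S]
    (E : CochainComplex X.Modules ℤ) (hq : DCoh.IsQCohD (DCoh.toD X E)) (a b : ℤ)
    (hE : DerSch.HasTorAmplitude (f ≫ q) a b E) (F : CochainComplex Y.Modules ℤ)
    (eF : DCoh.toD Y F ≅ (DCoh.Rpush f).obj (DCoh.toD X E)) :
    ∃ b' : ℤ, DerSch.HasTorAmplitude q a b' F := by
  haveI : DCoh.HasLpull f := hasLpull f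
  haveI : DCoh.HasLpull q := hasLpull q
  obtain ⟨N, hN⟩ := exists_hd_bound f
  refine ⟨max (b + N) a, fun y => hasTorAmplitudeIn_of_tensor _ a _ fun M => ?_⟩
  let G := qcSky (q.base y) M
  let K₀ := (HomologicalComplex.single S.Modules (ComplexShape.up ℤ) 0).obj G
  haveI : CochainComplex.IsLE K₀ 0 := inferInstance
  obtain ⟨P, ψ, hψ, hPle, hP⟩ := exists_flat_rep K₀ 0
  haveI := hψ
  haveI := isIso_Q_map ψ hψ
  let sψ : (stalkCx (q.base y)).obj P ⟶
      (HomologicalComplex.single (ModuleCat.{u} (S.presheaf.stalk (q.base y))) (ComplexShape.up ℤ) 0).obj M :=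
    (stalkCx (q.base y)).map ψ ≫
      (HomologicalComplex.singleMapHomologicalComplex (DerSch.stalkFunctor S (q.base y)) _ 0).hom.app G ≫
      (HomologicalComplex.single _ _ 0).map (qcSkyStalkIso (q.base y) M).hom
  haveI : (DerSch.stalkFunctor S (q.base y)).PreservesHomology := inferInstance
  haveI : QuasiIso sψ := inferInstance
  refine ⟨_, sψ, inferInstance, (kFlat_iff_stalk P).1 hP (q.base y), fun i hi => ?_⟩
  refine isZero_homology_tensor_stalk q F P y i ?_
  let M₁ := (pullCx q).obj P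
  have hM₁ : DCoh.IsKFlat M₁ := isKFlat_pullback q hP
  haveI := hasLTensorCx M₁
  let M₂ := (pullCx f).obj M₁
  have hM₂ : DCoh.IsKFlat M₂ := isKFlat_pullback f hM₁
  haveI := hasLTensorCx M₂
  let eψ : DCoh.toD S P ≅ DCoh.toD S K₀ := asIso (DerivedCategory.Q.map ψ)
  have hK₀ : DCoh.IsQCohD (DCoh.toD S K₀) := (isQCohD_Q_iff K₀).2 fun j => by
    refine isQCoh_homology_of_terms K₀ (fun p => ?_) j
    rcases eq_or_ne p 0 with rfl | hp
    · exact isQCoh_of_iso (HomologicalComplex.singleObjXSelf (ComplexShape.up ℤ) 0 G).symm (isQCoh_qcSky _ M)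
    · exact isQCoh_of_isZero (HomologicalComplex.isZero_single_obj_X _ _ _ _ hp)
  have hM₁q : DCoh.IsQCohD (DCoh.toD Y M₁) :=
    isQCohD_of_iso (lpullIso q hP) (isQCohD_lpull q (isQCohD_of_iso eψ.symm hK₀))
  obtain ⟨e⟩ := nonempty_projection_DQCoh f (DCoh.toD X E) hq M₁ hM₁q M₂ ⟨(lpullIso f hM₁).symm⟩
  haveI := isIso_LTensorCx_counit_of_isKFlat_right M₁ hM₁ F
  haveI := isIso_LTensorCx_counit_of_isKFlat_right M₂ hM₂ E
  let H := DerivedCategory.homologyFunctor Y.Modules i
  refine IsZero.of_iso ?_ (((DerivedCategory.homologyFunctorFactors Y.Modules i).app _).symm ≪≫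
    H.mapIso ((asIso (((DCoh.tensorCxQ M₁).totalLeftDerivedCounit DerivedCategory.Q (qisX Y)).app F)).symm ≪≫
      (DCoh.LTensorCx M₁).mapIso eF ≪≫ e))
  let L := (DCoh.LTensorCx M₂).obj (DCoh.toD X E)
  let eL : L ≅ DerivedCategory.Q.obj ((DCoh.tensorCx.obj E).obj M₂) :=
    asIso (((DCoh.tensorCxQ M₂).totalLeftDerivedCounit DerivedCategory.Q (qisX X)).app E)
  have hz : ∀ j, (j < a ∨ b < j) → IsZero (DCoh.HD L j) := fun j hj =>
    (isZero_homology_tensor_pull (f ≫ q) hE hP G ψ j hj).of_iso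
      ((DerivedCategory.homologyFunctor X.Modules j).mapIso eL ≪≫
        (DerivedCategory.homologyFunctorFactors X.Modules j).app _ ≪≫
        (HomologicalComplex.homologyFunctor X.Modules _ j).mapIso
          ((DCoh.tensorCx.obj E).mapIso ((pullCxCompIso f q).app P)))
  haveI hge : L.IsGE a := (DerivedCategory.isGE_iff L a).2 fun j hj => hz j (Or.inl hj)
  have hle : L.IsLE b := (DerivedCategory.isLE_iff L b).2 fun j hj => hz j (Or.inr hj)
  have hLq : DCoh.IsQCohD L :=
    isQCohD_ltensor M₂ (isQCohD_of_iso (lpullIso f hM₁) (isQCohD_lpull f hM₁q)) hq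
  rcases hi with hi | hi
  · exact isZero_hd_rpush_of_lt f L a i hi
  · exact hN L hLq b hle i (by omega)

end Groth.Agent.PushAmp
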