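import Groth.Agent.PcExt.Basic
import Groth.Agent.H9Misc.DRingProjAmp
import Groth.Prelude.Def_DRing2
import Mathlib.CategoryTheory.Limits.ConcreteCategory.WithAlgebraicStructures

/-!
# Pseudo-coherent objects and filtered colimits of modules
-/

set_option autoImplicit false
set_option linter.style.haveILetI false
set_option backward.isDefEq.respectTransparency false
set_option maxHeartbeats 1000000

universe u

open CategoryTheory CategoryTheory.Limits CategoryTheory.Pretriangulated

attribute [local instance] HasDerivedCategory.standard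

noncomputable section

namespace Groth.Agent.PushAmp

variable {R : Type u} [CommRing R] {J : Type u} [SmallCategory J] [IsFiltered J]
  (F : J ⥤ ModuleCat.{u} R) (c : Cocone F) (hc : IsColimit c)

include hc

lemma exists_map_zero (j : J) (X : ModuleCat.{u} R) [Module.Finite R X] (f : X ⟶ F.obj j) (h : f ≫ c.ι.app j = 0) :
    ∃ (j' : J) (a : j ⟶ j'), f ≫ F.map a = 0 := by
  classical
  obtain ⟨s, hs⟩ := Module.Finite.fg_top (R := R) (M := X)
  have hg : ∀ x : X, ∃ (j' : J) (a : j ⟶ j'), (F.map a).hom (f.hom x) = 0 := fun x => by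
    have hx : (c.ι.app j).hom (f.hom x) = (c.ι.app j).hom 0 := by
      rw [map_zero]
      exact LinearMap.congr_fun (congrArg ModuleCat.Hom.hom h) x
    obtain ⟨k, a, b, hab⟩ := (Types.FilteredColimit.isColimit_eq_iff _
      (isColimitOfPreserves (forget (ModuleCat.{u} R)) hc)).1 hx
    refine ⟨k, a, ?_⟩
    exact hab.trans (map_zero (F.map b).hom)
  choose k a ha using hg
  obtain ⟨M, hM⟩ := IsFiltered.sup_objs_exists (insert j (s.image k))
  have hk : ∀ x ∈ s, Nonempty (k x ⟶ M) := fun x hx =>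
    hM (Finset.mem_insert_of_mem (Finset.mem_image_of_mem k hx))
  let t : ∀ x, x ∈ s → (k x ⟶ M) := fun x hx => (hk x hx).some
  obtain ⟨u₀⟩ := hM (Finset.mem_insert_self j _)
  -- coequalize the finitely many maps `j ⟶ M`
  obtain ⟨M', q, hq⟩ : ∃ (M' : J) (q : M ⟶ M'), ∀ x (hx : x ∈ s), (a x ≫ t x hx) ≫ q = u₀ ≫ q := by
    suffices ∀ s' : Finset X, ∃ (M' : J) (q : M ⟶ M'),
        ∀ x, x ∈ s' → ∀ hx : x ∈ s, (a x ≫ t x hx) ≫ q = u₀ ≫ q by
      obtain ⟨M', q, hq⟩ := this s
      exact ⟨M', q, fun x hx => hq x hx hx⟩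
    intro s'
    induction s' using Finset.induction_on with
    | empty => exact ⟨M, 𝟙 M, fun x hx => absurd hx (Finset.notMem_empty x)⟩
    | insert y s'' hy ih =>
      obtain ⟨M', q, hq⟩ := ih
      by_cases hys : y ∈ s
      · refine ⟨_, q ≫ IsFiltered.coeqHom ((a y ≫ t y hys) ≫ q) (u₀ ≫ q), fun x hx hxs => ?_⟩
        rcases Finset.mem_insert.1 hx with rfl | hx
        · rw [← Category.assoc, ← Category.assoc u₀]
          exact IsFiltered.coeq_condition _ _
        · rw [← Category.assoc, hq x hx hxs]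
          exact Category.assoc _ _ _
      · refine ⟨M', q, fun x hx hxs => ?_⟩
        rcases Finset.mem_insert.1 hx with rfl | hx
        · exact absurd hxs hys
        · exact hq x hx hxs
  refine ⟨M', u₀ ≫ q, ModuleCat.hom_ext (LinearMap.ext_on hs fun x hx => ?_)⟩
  show (F.map (u₀ ≫ q)).hom (f.hom x) = 0
  rw [← hq x hx, Category.assoc, F.map_comp]
  show (F.map (t x hx ≫ q)).hom ((F.map (a x)).hom (f.hom x)) = 0
  rw [ha, map_zero]

lemma exists_lift_colimit (X : ModuleCat.{u} R) [Module.Finite R X] [Module.Free R X] (f : X ⟶ c.pt) :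
    ∃ (j : J) (g : X ⟶ F.obj j), g ≫ c.ι.app j = f := by
  classical
  let b := Module.Free.chooseBasis R X
  choose k y hy using fun i => Concrete.isColimit_exists_rep F hc (f.hom (b i))
  obtain ⟨M, hM⟩ := IsFiltered.sup_objs_exists (Finset.univ.image k)
  have hk : ∀ i, Nonempty (k i ⟶ M) := fun i => hM (Finset.mem_image_of_mem k (Finset.mem_univ i))
  let t := fun i => (hk i).some
  refine ⟨M, ModuleCat.ofHom (b.constr R fun i => (F.map (t i)).hom (y i)), ModuleCat.hom_ext (b.ext fun i => ?_)⟩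
  show (c.ι.app M).hom (b.constr R (fun i => (F.map (t i)).hom (y i)) (b i)) = f.hom (b i)
  rw [Module.Basis.constr_basis, ← hy i, ← ModuleCat.comp_apply, c.w]
  rfl

/-- `Hom` out of a pseudo-coherent object commutes with filtered colimits of modules. -/
theorem pc_filtered (m : ℤ) (K : Dual.D R) (hK : DRing.IsPseudoCoherent R m K) :
    (∀ n : ℤ, n < -m → ∀ x : K ⟶ (shiftFunctor (Dual.D R) n).obj (Dual.inD R c.pt),
      ∃ (j : J) (y : K ⟶ (shiftFunctor (Dual.D R) n).obj (Dual.inD R (F.obj j))),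
        y ≫ (shiftFunctor (Dual.D R) n).map
          ((DerivedCategory.singleFunctor (ModuleCat.{u} R) 0).map (c.ι.app j)) = x) ∧
    (∀ n : ℤ, n ≤ -m → ∀ (j : J) (y : K ⟶ (shiftFunctor (Dual.D R) n).obj (Dual.inD R (F.obj j))),
      y ≫ (shiftFunctor (Dual.D R) n).map
          ((DerivedCategory.singleFunctor (ModuleCat.{u} R) 0).map (c.ι.app j)) = 0 →
      ∃ (j' : J) (f : j ⟶ j'), y ≫ (shiftFunctor (Dual.D R) n).map
          ((DerivedCategory.singleFunctor (ModuleCat.{u} R) 0).map (F.map f)) = 0) := by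
  obtain ⟨E, a, b, α, hz, hf, hi, hepi⟩ := hK
  haveI : E.IsKProjective := H9Misc.DRingProjAmp.isKProjective (fun i => by
    haveI := (hf i).2
    exact Module.Projective.of_free) fun i hi => hz i (Or.inr hi)
  obtain ⟨C, g, δ, hT⟩ := distinguished_cocone_triangle α
  let H := DerivedCategory.homologyFunctor (ModuleCat.{u} R)
  haveI hC : C.IsLE (m - 1) := (DerivedCategory.isLE_iff C (m - 1)).2 fun i hi' => by
    haveI : Mono ((H (i + 1)).map α) := @IsIso.mono_of_iso _ _ _ _ _ (hi (i + 1) (by omega))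
    haveI : Epi ((H i).map α) := by
      rcases lt_or_eq_of_le (show m ≤ i by omega) with h' | rfl
      · haveI := hi i h'
        exact inferInstance
      · exact hepi
    have hg : (H i).map g = 0 := by
      rw [← cancel_epi ((H i).map α), comp_zero, ← Functor.map_comp,
        show α ≫ g = 0 from comp_distTriang_mor_zero₁₂ _ hT, Functor.map_zero]
    have hδ := DerivedCategory.HomologySequence.δ_comp (T := Triangle.mk α g δ) hT i (i + 1) rfl
    have hδ0 : DerivedCategory.HomologySequence.δ (Triangle.mk α g δ) i (i + 1) rfl = 0 := by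
      rw [← cancel_mono ((H (i + 1)).map α), zero_comp]
      exact hδ
    exact (DerivedCategory.HomologySequence.exact₃ _ hT i (i + 1) rfl).isZero_X₂ hg hδ0
  have hGE : ∀ (n : ℤ) (X : ModuleCat.{u} R), ((shiftFunctor (Dual.D R) n).obj (Dual.inD R X)).IsGE (-n) := fun n X =>
    DerivedCategory.TStructure.t.isGE_shift _ 0 n (-n) (by omega)
  have hinj : ∀ (n : ℤ) (X : ModuleCat.{u} R), n ≤ -m →
      ∀ y : K ⟶ (shiftFunctor (Dual.D R) n).obj (Dual.inD R X), α ≫ y = 0 → y = 0 := fun n X hn y hy => by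
    obtain ⟨z, rfl⟩ := Triangle.yoneda_exact₂ _ hT y hy
    have hz0 : z = 0 := DerivedCategory.TStructure.t.zero_of_isLE_of_isGE z (m - 1) (-n) (by omega) hC (hGE n X)
    rw [hz0, comp_zero]
  have hsurj : ∀ (n : ℤ) (X : ModuleCat.{u} R), n < -m →
      ∀ x : DRing.toD E ⟶ (shiftFunctor (Dual.D R) n).obj (Dual.inD R X), ∃ y, α ≫ y = x := fun n X hn x => by
    have hT' := inv_rot_of_distTriang _ hT
    have hLE : ((Triangle.mk α g δ).invRotate.obj₁).IsLE m :=
      DerivedCategory.TStructure.t.isLE_shift C (m - 1) (-1) m (by omega)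
    have h0 : (Triangle.mk α g δ).invRotate.mor₁ ≫ x = 0 :=
      DerivedCategory.TStructure.t.zero_of_isLE_of_isGE _ m (-n) (by omega) hLE (hGE n X)
    obtain ⟨y, hy⟩ := Triangle.yoneda_exact₂ _ hT' x h0
    exact ⟨y, hy.symm⟩
  refine ⟨fun n hn x => ?_, fun n hn j y hy => ?_⟩
  · obtain ⟨f, hf0, hfe⟩ := PcExt.homOfCocycle_surjective E (q := -n) (p := n) (neg_add_cancel n) (-n - 1) (by omega) (α ≫ x)
    haveI := (hf (-n)).1
    haveI := (hf (-n)).2
    haveI := (hf (-n - 1)).1
    obtain ⟨j, f', hf'⟩ := exists_lift_colimit F c hc (E.X (-n)) f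
    obtain ⟨j', a, ha⟩ := exists_map_zero F c hc j (E.X (-n - 1)) (E.d (-n - 1) (-n) ≫ f')
      (by rw [Category.assoc, hf', hf0])
    have ha' : E.d (-n - 1) (-n) ≫ (f' ≫ F.map a) = 0 := by rw [← Category.assoc]; exact ha
    obtain ⟨y, hy⟩ := hsurj n (F.obj j') hn (PcExt.homOfCocycle E (neg_add_cancel n) (f' ≫ F.map a) (-n - 1) (by omega) ha')
    refine ⟨j', y, sub_eq_zero.1 (hinj n c.pt hn.le _ ?_)⟩
    rw [Preadditive.comp_sub, ← Category.assoc, hy]
    erw [PcExt.homOfCocycle_comp]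
    rw [← hfe, sub_eq_zero]
    exact PcExt.homOfCocycle_congr _ (by rw [Category.assoc, c.w, hf']) _ _ _ _
  · obtain ⟨f, hf0, hfe⟩ := PcExt.homOfCocycle_surjective E (q := -n) (p := n) (neg_add_cancel n) (-n - 1) (by omega) (α ≫ y)
    have h1 : PcExt.homOfCocycle E (neg_add_cancel n) (f ≫ c.ι.app j) (-n - 1) (by omega)
        (by rw [← Category.assoc, hf0, zero_comp]) = 0 := by
      rw [← PcExt.homOfCocycle_comp _ _ _ _ _ hf0, hfe, Category.assoc]
      erw [hy]
      rw [comp_zero]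
    obtain ⟨g', hg'⟩ := (PcExt.homOfCocycle_eq_zero_iff E _ _ _ _ _ (-n + 1) rfl).1 h1
    haveI := (hf (-n + 1)).1
    haveI := (hf (-n + 1)).2
    haveI := (hf (-n)).1
    obtain ⟨k, g'', hg''⟩ := exists_lift_colimit F c hc (E.X (-n + 1)) g'
    let l := IsFiltered.max j k
    obtain ⟨j', a, ha⟩ := exists_map_zero F c hc l (E.X (-n))
      (f ≫ F.map (IsFiltered.leftToMax j k) - E.d (-n) (-n + 1) ≫ g'' ≫ F.map (IsFiltered.rightToMax j k)) (by
        rw [Preadditive.sub_comp, Category.assoc, Category.assoc, Category.assoc, c.w, c.w, hg'', hg', sub_self])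
    refine ⟨j', IsFiltered.leftToMax j k ≫ a, hinj n (F.obj j') hn _ ?_⟩
    rw [← Category.assoc, ← hfe]
    erw [PcExt.homOfCocycle_comp]
    refine (PcExt.homOfCocycle_eq_zero_iff E _ _ _ _ _ (-n + 1) rfl).2
      ⟨g'' ≫ F.map (IsFiltered.rightToMax j k) ≫ F.map a, ?_⟩
    rw [Preadditive.sub_comp, sub_eq_zero] at ha
    rw [F.map_comp, ← Category.assoc f, ha]
    simp only [Category.assoc]

end Groth.Agent.PushAmp
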