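import Groth.Agent.PushAmp.PCFlatDescent
import Groth.Agent.KFlatLib.Perfect.Corollaries
import Groth.Agent.KFlatLib.Perfect.Amplitude

/-!
# Descent of perfectness along faithfully flat quasi-compact morphisms
-/

set_option autoImplicit false
set_option linter.style.haveILetI false
set_option backward.isDefEq.respectTransparency false
set_option backward.isDefEq.respectTransparency.types false

universe u

open CategoryTheory CategoryTheory.Limits AlgebraicGeometry TopologicalSpace

attribute [local instance] HasDerivedCategory.standard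

namespace Groth.Agent.PushAmp

open Groth.Agent.KFlatLib

/-- Perfect objects on quasi-compact schemes have finite tor amplitude. -/
theorem exists_torAmplitude_of_locSP {X : Scheme.{u}} [CompactSpace X] {E : DCoh.D X} (h : LocSP E) :
    ∃ a b : ℤ, a ≤ b ∧ DCoh.HasTorAmplitudeIn a b E := by
  choose U j hj hx P hP e using h
  choose a b hab using fun x => (hP x).1
  obtain ⟨t, ht⟩ := isCompact_univ.elim_finite_subcover (fun x : X => Set.range (j x).base)
    (fun x => by haveI := hj x; exact (j x).isOpenEmbedding.isOpen_range)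
    (fun x _ => Set.mem_iUnion.2 ⟨x, hx x⟩)
  obtain ⟨A, hA⟩ := (Finset.finite_toSet (t.image a)).bddBelow
  obtain ⟨B, hB⟩ := (Finset.finite_toSet (t.image b)).bddAbove
  refine ⟨A, max A B, le_max_left _ _, torAmplitude_of_local E fun x => ?_⟩
  obtain ⟨y, hyt, hxy⟩ := Set.mem_iUnion₂.1 (ht (Set.mem_univ x))
  exact ⟨U y, j y, hj y, hxy, torAmplitude_of_flatAmplitude (flatAmplitude_mono
    ⟨P y, hab y, fun i => isFlat_of_isFinLocFree ((hP y).2 i), e y⟩
    (hA (Finset.mem_coe.2 (Finset.mem_image_of_mem a hyt)))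
    ((hB (Finset.mem_coe.2 (Finset.mem_image_of_mem b hyt))).trans (le_max_right _ _)))⟩

/-- Perfectness descends along flat surjective quasi-compact morphisms. -/
theorem isPerfect_descends {X Y : Scheme.{u}} (f : X ⟶ Y) [Flat f] [Surjective f] [QuasiCompact f]
    [DCoh.HasLpull f] (E : DCoh.D Y) (h : DCoh.IsPerfect ((DCoh.Lpull f).obj E)) : DCoh.IsPerfect E := by
  obtain ⟨e⟩ := nonempty_lpull_pullD f E
  rw [isPerfect_iff] at h ⊢
  have hpc : ∀ m, LocPC m E := fun m => locPC_of_pullD f ((h.locPC m).of_iso e)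
  refine LocSP.of_local fun y => ?_
  obtain ⟨V, hV, hyV, -⟩ := exists_isAffineOpen_mem_and_subset (X := Y) (x := y) (U := ⊤) trivial
  refine ⟨_, V.ι, inferInstance, ⟨⟨y, hyV⟩, rfl⟩, ?_⟩
  let g := f ∣_ V
  haveI : Flat g := MorphismProperty.of_isPullback (P := @Flat) (isPullback_morphismRestrict f V).flip inferInstance
  haveI : Surjective g :=
    MorphismProperty.of_isPullback (P := @Surjective) (isPullback_morphismRestrict f V).flip inferInstance
  haveI : CompactSpace (f ⁻¹ᵁ V : X.Opens) :=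
    isCompact_iff_compactSpace.mp (f.isCompact_preimage hV.isCompact)
  haveI := hasLpull g
  obtain ⟨eN⟩ := nonempty_rho_pullD f (f ⁻¹ᵁ V).ι V.ι g (morphismRestrict_ι f V).symm E
  obtain ⟨eg⟩ := nonempty_lpull_pullD g ((rho V.ι).obj E)
  haveI := hasLpull (f ⁻¹ᵁ V).ι
  obtain ⟨e₁⟩ := nonempty_rho_lpull (f ⁻¹ᵁ V).ι ((DCoh.Lpull f).obj E)
  have hh : LocSP ((DCoh.Lpull g).obj ((rho V.ι).obj E)) :=
    ((isPerfect_iff _).1 (isPerfect_lpull (f ⁻¹ᵁ V).ι ((isPerfect_iff _).2 h))).of_iso
      (e₁.symm ≪≫ (rho (f ⁻¹ᵁ V).ι).mapIso e ≪≫ eN ≪≫ eg.symm)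
  obtain ⟨a, b, hab, ht⟩ := exists_torAmplitude_of_locSP hh
  exact locSP_of_flat_pc hab (flatAmplitude_of_torAmplitude hasLTensorMod hab (torAmplitude_descends g ht))
    ((hpc (a - 1)).restrict V.ι)

end Groth.Agent.PushAmp
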