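import Groth.Agent.PushAmp.Basic
import Groth.Agent.PushAmp.Restrict
import Groth.Agent.KFlatLib.Scheme.SupportPush
import Groth.Agent.KFlatLib.Scheme.Adjoint
import Groth.Agent.KFlatLib.Scheme.CohD
import Groth.Agent.KFlatLib.Perfect.Corollaries
import Groth.Agent.DQGen.RpushProperSupp
import Groth.Agent.S1001
import Groth.Agent.S1039
import Groth.Prelude.Def_ClSub2

/-! Derived direct images of relatively finite tor dimensional complexes with proper support are perfect. -/

set_option autoImplicit false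
set_option linter.style.haveILetI false
set_option backward.isDefEq.respectTransparency false

universe u

open CategoryTheory CategoryTheory.Limits AlgebraicGeometry

attribute [local instance] HasDerivedCategory.standard

namespace Groth.Agent.PushAmp

open KFlatLib

variable {X S : Scheme.{u}}

lemma isCompact_of_isProperOver [CompactSpace S] (f : X ⟶ S) {Z : Set X}
    (h : ClSub.IsProperOver f Z) : IsClosed Z ∧ IsCompact Z := by
  obtain ⟨hc, hp⟩ := h
  let I := Scheme.IdealSheafData.vanishingIdeal (X := X) ⟨Z, hc⟩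
  haveI : IsProper (I.subschemeι ≫ f) := hp
  haveI : CompactSpace I.subscheme := QuasiCompact.compactSpace_of_compactSpace (I.subschemeι ≫ f)
  have hr : Set.range I.subschemeι.base = Z := by
    refine (Scheme.IdealSheafData.range_subschemeι I).trans ?_
    exact Scheme.IdealSheafData.coe_support_vanishingIdeal _
  exact ⟨hc, hr ▸ isCompact_range I.subschemeι.continuous⟩

/-- **Main theorem**: `Rf_*` of a bounded coherent complex with proper support and finite tor dimension
over the base is perfect. -/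
theorem isPerfect_rpush [IsNoetherian S] (f : X ⟶ S) [LocallyOfFiniteType f] [DCoh.HasRpush f]
    (F : CochainComplex X.Modules ℤ) (hcoh : DCoh.IsCohD (DCoh.toD X F))
    (hbdd : ∃ a b : ℤ, ∀ i : ℤ, (i < a ∨ b < i) → IsZero (DCoh.HD (DCoh.toD X F) i))
    (hsupp : ∀ i : ℤ, ClSub.IsProperOver f (CohB1.support (DCoh.HD (DCoh.toD X F) i)))
    (htor : DerSch.HasFiniteTorAmplitude f F) :
    DCoh.IsPerfect ((DCoh.Rpush f).obj (DCoh.toD X F)) := by
  classical
  haveI : IsLocallyNoetherian X := LocallyOfFiniteType.isLocallyNoetherian f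
  let E := DCoh.toD X F
  obtain ⟨a, b, hz⟩ := hbdd
  obtain ⟨a', b₀, ht⟩ := htor
  haveI : E.IsGE a := (DerivedCategory.isGE_iff E a).2 fun i hi => hz i (Or.inl hi)
  haveI : E.IsLE b := (DerivedCategory.isLE_iff E b).2 fun i hi => hz i (Or.inr hi)
  -- the support
  let T : Set X := ⋃ i ∈ Finset.Icc a b, CohB1.support (DCoh.HD E i)
  have hT : IsClosed T := isClosed_biUnion_finset fun i _ => (isCompact_of_isProperOver f (hsupp i)).1
  have hTc : IsCompact T :=
    (Finset.Icc a b).isCompact_biUnion fun i _ => (isCompact_of_isProperOver f (hsupp i)).2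
  have hET : ∀ i, CohB1.support (DCoh.HD E i) ⊆ T := by
    intro i x hx
    by_cases hi : i ∈ Finset.Icc a b
    · exact Set.mem_biUnion hi hx
    · exfalso
      have hzero : IsZero (DCoh.HD E i) := hz i (by simp at hi; omega)
      exact hx (ModuleCat.subsingleton_of_isZero ((DerSch.stalkFunctor X x).map_isZero hzero))
  choose V hV hxV _ using fun x : X => exists_isAffineOpen_mem_and_subset (x := x) (U := ⊤) trivial
  obtain ⟨s, hs⟩ := hTc.elim_finite_subcover (fun x : X => (V x : Set X)) (fun x => (V x).2)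
    (fun x _ => Set.mem_iUnion.2 ⟨x, hxV x⟩)
  let U : X.Opens := ⨆ x ∈ s, V x
  have hTU : T ⊆ (U : Set X) := fun x hx => by
    obtain ⟨y, hy, hxy⟩ := Set.mem_iUnion₂.1 (hs hx)
    exact TopologicalSpace.Opens.mem_iSup.2 ⟨y, TopologicalSpace.Opens.mem_iSup.2 ⟨hy, hxy⟩⟩
  have hUc : IsCompact (U : Set X) := by
    have : (U : Set X) = ⋃ x ∈ s, (V x : Set X) := by simp [U]
    rw [this]
    exact s.isCompact_biUnion fun x _ => (hV x).isCompact
  haveI : CompactSpace (U : Scheme.{u}) := isCompact_iff_compactSpace.1 hUc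
  haveI : IsLocallyNoetherian (U : Scheme.{u}) := LocallyOfFiniteType.isLocallyNoetherian (U.ι ≫ f)
  haveI : QuasiCompact (U.ι ≫ f) := by
    haveI : QuasiCompact ((U.ι ≫ f) ≫ terminal.from S) := by
      rw [terminal.comp_from]
      exact (compactSpace_iff_quasiCompact _).1 inferInstance
    exact QuasiCompact.of_comp (U.ι ≫ f) (terminal.from S)
  haveI : QuasiSeparated (U.ι ≫ f) := inferInstance
  haveI := hasRpush_scheme U.ι
  haveI := hasRpush_scheme (U.ι ≫ f)
  obtain ⟨eU⟩ := nonempty_iso_rpush_restrict U T hT hTU E hET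
  obtain ⟨ec⟩ := nonempty_rpush_comp U.ι f
  let F' := (DCoh.restrictCx U).obj F
  let eR : (DCoh.restrictD U.ι).obj E ≅ DCoh.toD (U : Scheme.{u}) F' :=
    (Scheme.Modules.restrictFunctor U.ι).mapDerivedCategoryFactors.app F
  have hq : DCoh.IsQCohD (DCoh.toD (U : Scheme.{u}) F') :=
    isQCohD_of_iso eR (isQCohD_restrictD U.ι (isCohD_isQCohD hcoh))
  obtain ⟨b', hamp⟩ := exists_flatAmplitude_rpush (U.ι ≫ f) F' hq a' b₀ (hasTorAmplitude_restrict U.ι f ht)
  let e : (DCoh.Rpush (U.ι ≫ f)).obj (DCoh.toD (U : Scheme.{u}) F') ≅ (DCoh.Rpush f).obj E :=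
    (DCoh.Rpush (U.ι ≫ f)).mapIso eR.symm ≪≫ ec.symm.app _ ≪≫ (DCoh.Rpush f).mapIso eU.symm
  obtain ⟨P, hv, hflat, ⟨eP⟩⟩ := hamp
  have hamp' : DCoh.HasFlatAmplitudeIn a' (max a' b') ((DCoh.Rpush f).obj E) :=
    flatAmplitude_mono ⟨P, hv, hflat, ⟨eP ≪≫ e⟩⟩ le_rfl (le_max_right _ _)
  obtain ⟨hc, -, hb⟩ := S1001.result f E a b hcoh hsupp
  refine (isPerfect_iff _).2 (locSP_of_flat_pc (le_max_left _ _) hamp' ?_)
  exact (isPseudoCoherentD_iff _ _).1
    ((S1039.result S _ (isCohD_isQCohD hc) (a' - 1)).2 ⟨fun i _ => hc i, hb⟩)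

end Groth.Agent.PushAmp
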