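import Groth.Agent.PushAmp.RelPerfFibres
import Groth.Agent.PushAmp.RelPerf
import Groth.Agent.PushAmp.FibrewiseAmp
import Groth.Agent.KFlatLib.Perfect.Corollaries

/-!
# Perfection through residue fibres
-/

set_option autoImplicit false
set_option linter.style.haveILetI false
set_option backward.isDefEq.respectTransparency false
set_option backward.isDefEq.respectTransparency.types false

universe u

open CategoryTheory CategoryTheory.Limits AlgebraicGeometry

attribute [local instance] HasDerivedCategory.standard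

namespace Groth.Agent.PushAmp

open Groth.Agent.KFlatLib H9Misc H9Misc.DRingLTensor

/-- Tor amplitude bounds the residue fibre. -/
theorem exactAt_residue_of_amp {A : Type u} [CommRing A] [IsLocalRing A] (L : DRing.Cx A) (hL : IsKF L)
    (a b : ℤ) (h : DRing.HasTorAmplitudeIn A a b (DRing.toD L)) (i : ℤ) (hi : i < a) :
    ((extC' (IsLocalRing.residue A)).obj L).ExactAt i :=
  exactAt_extC_of_exact (A := A) (B := IsLocalRing.ResidueField A) i
    (exact_lTensor_of_tensC (ModuleCat.of A (IsLocalRing.ResidueField A)) i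
      ((DRingTor.iff_van hL (Iso.refl _)).1 h _ i (Or.inl hi)))

set_option backward.isDefEq.respectTransparency true in
set_option backward.isDefEq.respectTransparency.types true in
/-- Maps out of fields are flat. -/
theorem flat_of_field {k L : Type u} [Field k] [CommRing L] (η : k →+* L) : η.Flat := by
  letI := η.toAlgebra
  show Module.Flat k L
  infer_instance

variable {X : Scheme.{u}}

/-- Locally finite tor dimension over the scheme itself is locally finite tor dimension. -/
theorem locHasFiniteTorDim_of_id {E : DCoh.D X} (h : DCoh.LocHasFiniteRelTorDim (𝟙 X) E) :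
    DCoh.LocHasFiniteTorDim E := fun x => by
  obtain ⟨V, a, b, hx, hV⟩ := (locHasFiniteRelTorDim_iff (𝟙 X) _ (repIso E)).1 h x
  refine ⟨V, a, b, hx, fun F' ⟨e'⟩ => (hasFlatAmplitudeIn_iff _ a b).2 fun v => ?_⟩
  have h1 := (hasTorAmplitudeAt_restrict_iff V.ι (𝟙 X) F' v a b).2
    (hasTorAmplitudeAt_of_iso _ (repIso E ≪≫ e'.symm) (hV _ v.2))
  rw [show V.ι ≫ 𝟙 X = 𝟙 (V : Scheme.{u}) ≫ V.ι by simp] at h1
  exact (hasTorAmplitudeAt_comp_iff (𝟙 (V : Scheme.{u})) V.ι _ v a b).1 h1

/-- Pseudo-coherent, locally bounded below, with bounded residue fibres: perfect. -/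
theorem isPerfect_of_residue (E : DCoh.D X) (hE : ∀ m : ℤ, DCoh.IsPseudoCoherentD m E)
    (h₁ : ∀ x : X, ∃ (V : X.Opens) (a : ℤ), x ∈ V ∧ ((rho V.ι).obj E).IsGE a)
    (R : CochainComplex X.Modules ℤ) (hR : DCoh.IsKFlat R) (eR : DCoh.toD X R ≅ E)
    (hres : ∀ x : X, ∃ a : ℤ, ∀ i < a, ((extC' (IsLocalRing.residue (X.presheaf.stalk ((𝟙 X : X ⟶ X).base x)))).obj
      ((DerSch.stalkCxOver (𝟙 X) x).obj R)).ExactAt i) :
    DCoh.IsPerfect E :=
  (isPerfect_iff E).2 (locSP_of_locPC_finTor (fun m => (isPseudoCoherentD_iff m E).1 (hE m))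
    (locHasFiniteTorDim_of_id (locHasFiniteRelTorDim_of_residue (𝟙 X) E hE h₁ R hR eR hres)))

/-- A perfect pullback bounds the residue fibres. -/
theorem exists_bound_residue_of_isPerfect_lpull {Y : Scheme.{u}} (g : Y ⟶ X) [DCoh.HasLpull g] {E : DCoh.D X}
    (R : CochainComplex X.Modules ℤ) (hR : DCoh.IsKFlat R) (eR : DCoh.toD X R ≅ E)
    (h : DCoh.IsPerfect ((DCoh.Lpull g).obj E)) (y : Y) :
    ∃ a : ℤ, ∀ i < a, ((extC' (IsLocalRing.residue (X.presheaf.stalk ((𝟙 X : X ⟶ X).base (g.base y))))).obj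
      ((DerSch.stalkCxOver (𝟙 X) (g.base y)).obj R)).ExactAt i := by
  let G := (pullCx g).obj R
  obtain ⟨V, a, b, hy, hV⟩ := (locHasFiniteRelTorDim_iff (𝟙 Y) G
    ((lpullIso g hR).symm ≪≫ (DCoh.Lpull g).mapIso eR)).1 (locHasFiniteRelTorDim_of_isPerfect (𝟙 Y) h) y
  refine ⟨a, fun i hi => ?_⟩
  let L := (DerSch.stalkCxOver (𝟙 Y) y).obj G
  have h1 : ((extC' (IsLocalRing.residue (Y.presheaf.stalk y))).obj L).ExactAt i :=
    exactAt_residue_of_amp (A := Y.presheaf.stalk y) L (isKF_stalkCxOver inferInstance G (isKFlat_pullback g hR) y)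
      a b (hV y hy) i hi
  let τ := (g.stalkMap y).hom
  let K := (stalkCx (g.base y)).obj R
  have eY : ((𝟙 Y : Y ⟶ Y).stalkMap y).hom = RingHom.id _ := by rw [Scheme.Hom.stalkMap_id]; rfl
  have eX : ((𝟙 X : X ⟶ X).stalkMap (g.base y)).hom = RingHom.id _ := by rw [Scheme.Hom.stalkMap_id]; rfl
  let eY' : L ≅ (stalkCx y).obj G := HomologicalComplex.Hom.isoOfComponents
    (fun n => (ModuleCat.restrictScalarsId' _ eY).app ((DerSch.stalkFunctor Y y).obj (G.X n)))
    (fun p q _ => ((ModuleCat.restrictScalarsId' _ eY).hom.naturality ((DerSch.stalkFunctor Y y).map (G.d p q))).symm)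
  let eL : L ≅ (extC' τ).obj K := eY' ≪≫ stalkPullCxIso g y R
  let eK : (DerSch.stalkCxOver (𝟙 X) (g.base y)).obj R ≅ K := HomologicalComplex.Hom.isoOfComponents
    (fun n => (ModuleCat.restrictScalarsId' _ eX).app ((DerSch.stalkFunctor X (g.base y)).obj (R.X n)))
    (fun p q _ => ((ModuleCat.restrictScalarsId' _ eX).hom.naturality
      ((DerSch.stalkFunctor X (g.base y)).map (R.d p q))).symm)
  have h2 : ((extC' (IsLocalRing.residue (Y.presheaf.stalk y))).obj ((extC' τ).obj K)).ExactAt i :=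
    h1.of_iso ((extC' _).mapIso eL)
  haveI : IsLocalHom τ := inferInstance
  let η := IsLocalRing.ResidueField.map τ
  have h3 : ((extC' (IsLocalRing.residue (X.presheaf.stalk (g.base y)))).obj K).ExactAt i :=
    exactAt_of_extC_local η (flat_of_field η) _ i
      ((DRingFibre.exactAt_extC_comp (IsLocalRing.residue (X.presheaf.stalk (g.base y))) η _ rfl i).2
        ((DRingFibre.exactAt_extC_comp τ (IsLocalRing.residue (Y.presheaf.stalk y)) _ rfl i).1 h2))
  exact h3.of_iso ((extC' _).mapIso eK).symm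

/-- The criterion of perfection by fibres. -/
theorem isPerfect_of_fibres {S : Scheme.{u}} (f : X ⟶ S) [Flat f] [LocallyOfFinitePresentation f]
    [∀ s : S, DCoh.HasLpull (f.fiberι s)] (E : DCoh.D X) (hE : ∀ m : ℤ, DCoh.IsPseudoCoherentD m E)
    (hT : DCoh.LocHasFiniteRelTorDim f E) (h : ∀ s : S, DCoh.IsPerfect ((DCoh.Lpull (f.fiberι s)).obj E)) :
    DCoh.IsPerfect E := by
  obtain ⟨R, hR, ⟨eR⟩⟩ := exists_kFlat_rep E
  refine isPerfect_of_residue E hE (bounded_of_locHasFiniteRelTorDim f E hT).1 R hR eR fun x => ?_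
  obtain ⟨y, hy⟩ : ∃ y : ↥(f.fiber (f.base x)), (f.fiberι (f.base x)).base y = x :=
    ⟨f.asFiber x, f.fiberι_asFiber x⟩
  have := exists_bound_residue_of_isPerfect_lpull _ R hR eR (h (f.base x)) y
  rw [hy] at this
  exact this

/-- Finite tor dimension of all modules over the local rings. -/
theorem isPerfect_of_finiteTorDim
    (hX : ∀ (x : X) (M : Type u) [AddCommGroup M] [Module (X.presheaf.stalk x) M],
      DRing.HasFiniteTorDim (X.presheaf.stalk x) M)
    (F : CochainComplex X.Modules ℤ) (c d : ℤ) [(DCoh.toD X F).IsGE c] [(DCoh.toD X F).IsLE d]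
    (hE : ∀ m : ℤ, DCoh.IsPseudoCoherentD m (DCoh.toD X F)) : DCoh.IsPerfect (DCoh.toD X F) := by
  classical
  obtain ⟨R, hR, ⟨eR⟩⟩ := exists_kFlat_rep (DCoh.toD X F)
  refine isPerfect_of_residue _ hE (fun x => ⟨⊤, c, trivial, (DerivedCategory.isGE_iff _ c).2 fun i hi => ?_⟩)
    R hR eR fun x => ?_
  · exact ((Scheme.Modules.restrictFunctor (⊤ : X.Opens).ι).map_isZero
      ((DerivedCategory.isGE_iff _ c).1 inferInstance i hi)).of_iso (restrictHDIso _ _ i)
  let A := X.presheaf.stalk ((𝟙 X : X ⟶ X).base x)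
  let L : DRing.Cx A := (DerSch.stalkCxOver (𝟙 X) x).obj R
  have hz : ∀ i, (i < c ∨ d < i) → IsZero (L.homology i) := fun i hi => by
    rw [← HomologicalComplex.exactAt_iff_isZero_homology]
    refine (exactAt_stalkCxOver_iff (𝟙 X) R x i).2 ((exact_iff_stalk (R.sc i)).1 ?_ x)
    change R.ExactAt i
    rw [HomologicalComplex.exactAt_iff_isZero_homology]
    refine IsZero.of_iso ?_ (((DerivedCategory.homologyFunctorFactors _ i).app R).symm ≪≫
      (DerivedCategory.homologyFunctor _ i).mapIso eR)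
    rcases hi with hi | hi
    · exact (DerivedCategory.isGE_iff _ c).1 inferInstance i hi
    · exact (DerivedCategory.isLE_iff _ d).1 inferInstance i hi
  choose n hn using fun i => hX x (L.homology i)
  let N := (Finset.Icc c d).sup n
  refine ⟨c - (N : ℤ), fun i hi => exactAt_residue_of_amp L (isKF_stalkCxOver inferInstance R hR x) (c - N) d ?_ i hi⟩
  refine DRingTor.toD_of_homology _ c d le_rfl L hz fun j => ?_
  by_cases hj : j ∈ Finset.Icc c d
  · have hN : n j ≤ N := Finset.le_sup (f := n) hj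
    simp only [Finset.mem_Icc] at hj
    exact DRingTor.mono (by omega) (by omega) ((DRingTor.torDimLE_iff (n j) (L.homology j)).1 (hn j))
  · simp only [Finset.mem_Icc] at hj
    exact DRingTor.of_isZero (Functor.map_isZero _ (hz j (by omega)))

end Groth.Agent.PushAmp
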