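import Groth.Agent.S6977
import Groth.Agent.PushAmp.AmpDrop
import Groth.Agent.PushAmp.ChartBC
import Groth.Agent.PushAmp.SmoothDrop
import Groth.Agent.H9Misc.DRingRelPC

/-!
# Tor amplitude over the base from the closed fibre, through a flat local algebra with regular fibre
-/

set_option autoImplicit false
set_option linter.style.haveILetI false
set_option backward.isDefEq.respectTransparency false
set_option backward.isDefEq.respectTransparency.types false

universe u

open CategoryTheory CategoryTheory.Limits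

attribute [local instance] HasDerivedCategory.standard

namespace Groth.Agent.PushAmp

open H9Misc

/-- A localisation of a pseudo-coherent ring map is pseudo-coherent. -/
theorem pcHom_localization {P A B Aq : Type u} [CommRing P] [CommRing A] [CommRing B] [CommRing Aq]
    [Algebra P A] [Algebra P B] [Algebra A Aq] (hA : DRing.IsPseudoCoherentModule' P A) (S : Submonoid P)
    [IsLocalization S B] [IsLocalization (Algebra.algebraMapSubmonoid A S) Aq] (θ : B →+* Aq)
    (hθ : θ.comp (algebraMap P B) = (algebraMap A Aq).comp (algebraMap P A)) :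
    DRingRelPC.PCHom θ := by
  letI : Algebra B Aq := θ.toAlgebra
  letI : Algebra P Aq := ((algebraMap A Aq).comp (algebraMap P A)).toAlgebra
  haveI : IsScalarTower P A Aq := IsScalarTower.of_algebraMap_eq fun _ => rfl
  haveI : IsScalarTower P B Aq := IsScalarTower.of_algebraMap_eq' hθ.symm
  haveI : Module.Flat P B := IsLocalization.flat B S
  haveI : Algebra.IsPushout P A B Aq := Algebra.isPushout_of_isLocalization S B A Aq
  haveI : Algebra.IsPushout P B A Aq := Algebra.IsPushout.symm inferInstance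
  refine DRingRestrict.pc'_resB ((DRingPC.pc'_iff _).2 fun m => ?_)
  exact module_pushout (P := P) (P' := B) (B := A) (B' := Aq) ((DRingPC.pc'_iff _).1 hA m)

/-- Vanishing in the closed fibre gives tor amplitude over the base, through a flat local algebra with
regular closed fibre. -/
theorem amp_base_of_fibre {R Rp B Aq : Type u} [CommRing R] [CommRing Rp] [CommRing B] [CommRing Aq]
    [IsLocalRing Rp] [IsLocalRing B] [Algebra Rp B] [IsLocalHom (algebraMap Rp B)] [Module.Flat Rp B]
    (d d' : ℕ) (hd : d' ≤ d) [IsRegularLocalRing (B ⧸ (IsLocalRing.maximalIdeal Rp).map (algebraMap Rp B))]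
    (hdim : ringKrullDim (B ⧸ (IsLocalRing.maximalIdeal Rp).map (algebraMap Rp B)) = d')
    (θ : B →+* Aq) (hθ : DRingRelPC.PCHom θ) (σ : Rp →+* Aq) (hσ : σ = θ.comp (algebraMap Rp B))
    (β : R →+* B) (hβ : β.Flat) (γ : R →+* Aq) (hγ : γ = θ.comp β)
    (κ : ModuleCat.{u} Rp) (eκ : κ ≅ ModuleCat.of Rp (IsLocalRing.ResidueField Rp))
    [DRing.HasLTensor Rp κ]
    (Kq : Dual.D Aq) (hKq : DRing.IsPseudoCoherent' Aq Kq) (a b : ℤ)
    (hfib : ∀ i : ℤ, i < a ∨ b < i → Subsingleton (Dual.HD Rp
      ((DRing.LTensor Rp κ).obj ((DRing.restrictD σ).obj Kq)) i)) :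
    DRing.HasTorAmplitudeIn R (a - d) b ((DRing.restrictD γ).obj Kq) := by
  subst hσ
  subst hγ
  let K' : Dual.D B := (DRing.restrictD θ).obj Kq
  have hK' : DRing.IsPseudoCoherent' B K' := (DRingPC.pc'_iff _).2 fun m =>
    DRingRestrict.pc_restrict θ hθ ((DRingPC.pc'_iff _).1 hKq m)
  haveI : DRing.HasLBaseChange (IsLocalRing.residue Rp) := DRingLBase.hasLBaseChange _
  let eσ := (DRingRelPC.restrictDCompIso (algebraMap Rp B) θ).app Kq
  obtain ⟨Q, hQ, -, ⟨eQ⟩⟩ := DRingLTensor.exists_rep ((DRing.restrictD (θ.comp (algebraMap Rp B))).obj Kq)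
  obtain ⟨eb⟩ := DRingLBase.nonempty_lbase_iso (IsLocalRing.residue Rp) hQ
  have hB := Groth.Agent.S6977.result (A := Rp) (B := B) d' hdim a b K' hK' fun i hi => by
    have h1 := (DRingTor.exactAt_tensC_iff κ hQ eQ i).1 (hfib i hi)
    have h0 := exact_lTensor_of_tensC κ i h1
    let l : κ ≃ₗ[Rp] IsLocalRing.ResidueField Rp := eκ.toLinearEquiv
    have h3 : Function.Exact ((Q.d (i - 1) i).hom.lTensor (IsLocalRing.ResidueField Rp))
        ((Q.d i (i + 1)).hom.lTensor (IsLocalRing.ResidueField Rp)) :=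
      Function.Exact.of_ladder_linearEquiv_of_exact (e₁ := l.rTensor _) (e₂ := l.rTensor _)
        (e₃ := l.rTensor _) (TensorProduct.ext' fun _ _ => rfl) (TensorProduct.ext' fun _ _ => rfl) h0
    have h2 := exactAt_extC_of_exact (A := Rp) (B := IsLocalRing.ResidueField Rp) i h3
    exact ModuleCat.subsingleton_of_isZero (M := ModuleCat.of (IsLocalRing.ResidueField Rp)
        (Dual.HD (IsLocalRing.ResidueField Rp) ((DRing.LBaseChange (IsLocalRing.residue Rp)).obj
          ((DRing.restrictD (algebraMap Rp B)).obj K')) i))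
      (((HomologicalComplex.exactAt_iff_isZero_homology _ _).1 h2).of_iso
        ((DerivedCategory.homologyFunctor _ i).mapIso ((DRing.LBaseChange (IsLocalRing.residue Rp)).mapIso
            (eσ.symm ≪≫ eQ.symm) ≪≫ eb) ≪≫ (DerivedCategory.homologyFunctorFactors _ i).app _))
  obtain ⟨E, hz, hf, ⟨e⟩⟩ := DRingTor.mono (a' := a - d) (by omega) le_rfl hB.2
  exact DRingTor.of_iso
    ((((ModuleCat.restrictScalars.{u} β).mapDerivedCategoryFactors).app E).symm ≪≫
      (DRing.restrictD β).mapIso e ≪≫ ((DRingRelPC.restrictDCompIso β θ).app Kq).symm)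
    (amp_restrict β hβ E ⟨E, hz, hf, ⟨Iso.refl _⟩⟩)

/-- Derived base change preserves pseudo-coherence. -/
theorem pc'_lbase {A B : Type u} [CommRing A] [CommRing B] (φ : A →+* B) [DRing.HasLBaseChange φ] {K : Dual.D A}
    (hK : DRing.IsPseudoCoherent' A K) : DRing.IsPseudoCoherent' B ((DRing.LBaseChange φ).obj K) := by
  obtain ⟨E, b₀, hz, hE, ⟨e⟩⟩ := hK
  obtain ⟨eL⟩ := DRingLBase.nonempty_lbase_iso φ
    (DRingTor.isKF_of_flat (fun n => haveI := (hE n).2; inferInstance) hz)
  exact ⟨_, b₀, fun i hi => (ModuleCat.extendScalars.{u, u, u} φ).map_isZero (hz i hi),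
    fun i => DRingRestrict.finFree_extendScalars _ _ (hE i).1 (hE i).2,
    ⟨eL.symm ≪≫ (DRing.LBaseChange φ).mapIso e⟩⟩

end Groth.Agent.PushAmp
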