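import Groth.Agent.H9Misc.DRingRegular
import Groth.Agent.H9Misc.DRingFibre
import Groth.Agent.PushAmp.PolyFibre
import Groth.Agent.Codepth5.SkPoly
import Groth.Agent.Codepth5.Poly

/-!
# Perfection of pseudo-coherent complexes from pointwise finite tor amplitude
-/

set_option autoImplicit false
set_option linter.style.haveILetI false
set_option backward.isDefEq.respectTransparency false
set_option backward.isDefEq.respectTransparency.types false

universe u

open CategoryTheory CategoryTheory.Limits

attribute [local instance] HasDerivedCategory.standard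

namespace Groth.Agent.PushAmp

open H9Misc H9Misc.DRingTor H9Misc.DRingLTensor

variable {R : Type u} [CommRing R]

/-- Cokernels of maps of finite free modules are finitely presented. -/
theorem finitePresentation_opcycles {E : DRing.Cx R} (hf : DRing.TermwiseFiniteFree E) (i : ℤ) :
    Module.FinitePresentation R (E.opcycles i) := by
  haveI := (hf i).1
  haveI := (hf i).2
  haveI := (hf (i - 1)).1
  haveI : Module.FinitePresentation R (E.X i) := Module.finitePresentation_of_projective _ _
  have hs : Function.Surjective (E.pOpcycles i).hom := (ModuleCat.epi_iff_surjective (E.pOpcycles i)).1 inferInstance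
  have hex := (ShortComplex.ShortExact.moduleCat_exact_iff_function_exact _).1
    (ShortComplex.exact_of_g_is_cokernel (ShortComplex.mk (E.d (i - 1) i) (E.pOpcycles i) (E.d_pOpcycles _ _))
      (E.opcyclesIsCokernel (i - 1) i (by simp)))
  refine Module.finitePresentation_of_surjective (E.pOpcycles i).hom hs ?_
  rw [LinearMap.exact_iff.1 hex]
  rw [← Submodule.map_top]
  exact (Module.Finite.fg_top (R := R) (M := E.X (i - 1))).map _

theorem flat_tensor_of_flat_extend {S : Type u} [CommRing S] [i : Algebra R S] (M : ModuleCat.{u} R)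
    (h : Module.Flat S ((ModuleCat.extendScalars.{u, u, u} (algebraMap R S)).obj M)) :
    Module.Flat S (TensorProduct R S M) := by
  revert h
  have he : (algebraMap R S).toAlgebra = i := Algebra.algebra_ext _ _ fun _ => rfl
  generalize algebraMap R S = φ at he
  subst he
  exact id

/-- Free opcycles from local tor amplitude. -/
theorem mem_freeLocus_opcycles {E : DRing.Cx R} (hf : DRing.TermwiseFiniteFree E) {b : ℤ}
    (hb : DRing.VanishesAbove E b) (p : PrimeSpectrum R) (a : ℤ)
    (h : DRing.HasTorAmplitudeIn (Localization.AtPrime p.asIdeal) a b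
      (DRing.toD ((extC' (algebraMap R (Localization.AtPrime p.asIdeal))).obj E))) :
    p ∈ Module.freeLocus R (E.opcycles a) := by
  let φ := algebraMap R (Localization.AtPrime p.asIdeal)
  let F := ModuleCat.extendScalars.{u, u, u} φ
  haveI := ModuleCat.preservesFiniteLimits_extendScalars_of_flat
    (RingHom.flat_algebraMap_iff.2 (IsLocalization.flat (Localization.AtPrime p.asIdeal) p.asIdeal.primeCompl) : φ.Flat)
  haveI : PreservesFiniteColimits F := by
    haveI : F.IsLeftAdjoint := (ModuleCat.extendRestrictScalarsAdj φ).isLeftAdjoint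
    infer_instance
  let L := (extC' φ).obj E
  have hLf : DRing.TermwiseFiniteFree L := fun i => DRingRestrict.finFree_extendScalars φ _ (hf i).1 (hf i).2
  have hflat : ∀ n, Module.Flat (Localization.AtPrime p.asIdeal) (L.X n) := fun n => by
    haveI := (hLf n).2
    infer_instance
  have hV : Van a b L := (iff_van (DRingFibre.isKF hLf (fun i hi => F.map_isZero (hb i hi))) (Iso.refl _)).1 h
  have hop : Module.Flat (Localization.AtPrime p.asIdeal) (L.opcycles a) :=
    flat_opcycles hflat a fun M => hV M (a - 1) (Or.inl (by omega))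
  have hF : Module.Flat (Localization.AtPrime p.asIdeal) (F.obj (E.opcycles a)) := by
    haveI : Module.Flat (Localization.AtPrime p.asIdeal) ((E.sc a).map F).opcycles := hop
    exact Module.Flat.of_linearEquiv (((E.sc a).mapOpcyclesIso F).symm.toLinearEquiv)
  have hF' : Module.Flat (Localization.AtPrime p.asIdeal)
      (TensorProduct R (Localization.AtPrime p.asIdeal) (E.opcycles a)) := flat_tensor_of_flat_extend _ hF
  have hl : Module.Flat (Localization.AtPrime p.asIdeal) (LocalizedModule p.asIdeal.primeCompl (E.opcycles a)) :=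
    @Module.Flat.of_linearEquiv _ _ _ _ _ _ _ _ hF'
      (LocalizedModule.equivTensorProduct p.asIdeal.primeCompl (E.opcycles a))
  haveI := finitePresentation_opcycles hf a
  show Module.Free (Localization.AtPrime p.asIdeal) (LocalizedModule p.asIdeal.primeCompl (E.opcycles a))
  haveI := hl
  exact Module.free_of_flat_of_isLocalRing

/-- A bounded pseudo-coherent complex of finite tor amplitude at every prime is perfect. -/
theorem isPerfect_of_pointwise {E : DRing.Cx R} (hf : DRing.TermwiseFiniteFree E) {b : ℤ}
    (hb : DRing.VanishesAbove E b) (a₀ : ℤ) (hH : ∀ i < a₀, IsZero (E.homology i))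
    (h : ∀ p : PrimeSpectrum R, ∃ a : ℤ, DRing.HasTorAmplitudeIn (Localization.AtPrime p.asIdeal) a b
      (DRing.toD ((extC' (algebraMap R (Localization.AtPrime p.asIdeal))).obj E))) :
    DRing.IsPerfect R (DRing.toD E) := by
  let a₁ := min a₀ b
  haveI hfp := fun i => finitePresentation_opcycles hf i
  have hproj : ∀ i, Module.Projective R (E.X i) := fun i => have := (hf i).2; inferInstance
  let U : ℕ → Set (PrimeSpectrum R) := fun n => Module.freeLocus R (E.opcycles (a₁ - (n : ℤ)))
  have hcov : ∀ p : PrimeSpectrum R, ∃ n, p ∈ U n := fun p => by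
    obtain ⟨a, ha⟩ := h p
    refine ⟨(a₁ - a).toNat, mem_freeLocus_opcycles hf hb p _ (DRingTor.mono ?_ le_rfl ha)⟩
    omega
  have hmono : ∀ (p : PrimeSpectrum R) (n : ℕ), p ∈ U n → p ∈ U (n + 1) := fun p n hn => by
    let M := fun i => LocalizedModule p.asIdeal.primeCompl (E.opcycles i)
    have hfree : Module.Free (Localization.AtPrime p.asIdeal) (M (a₁ - n)) := hn
    haveI : Projective (ModuleCat.of (Localization.AtPrime p.asIdeal) (M (a₁ - n))) :=
      (IsProjective.iff_projective _).1 (@Module.Projective.of_free _ _ _ _ _ hfree)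
    haveI hP1 := projective_iff_hasProjectiveDimensionLT_one.1
      (inferInstance : Projective (ModuleCat.of (Localization.AtPrime p.asIdeal) (M (a₁ - n))))
    have hpd := DRingRegular.pd_step E (a₁ - (n + 1 : ℕ)) (a₁ - n) (by push_cast; ring)
      (hH _ (by push_cast; omega)) (hproj _) p 1 le_rfl
      (hasProjectiveDimensionLT_of_ge _ 1 2 (by omega))
    haveI : Module.Projective (Localization.AtPrime p.asIdeal) (M (a₁ - (n + 1 : ℕ))) :=
      (IsProjective.iff_projective _).2 (projective_iff_hasProjectiveDimensionLT_one.2 hpd)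
    haveI : Module.Flat (Localization.AtPrime p.asIdeal) (M (a₁ - (n + 1 : ℕ))) := Module.Flat.of_projective
    show Module.Free (Localization.AtPrime p.asIdeal) (M (a₁ - (n + 1 : ℕ)))
    exact Module.free_of_flat_of_isLocalRing
  have hmono' : Monotone U := monotone_nat_of_le_succ fun n p hn => hmono p n hn
  obtain ⟨n, hn⟩ : ∃ n, U n = Set.univ := by
    obtain ⟨t, ht⟩ := isCompact_univ.elim_finite_subcover U
      (fun n => Module.isOpen_freeLocus) (fun p _ => Set.mem_iUnion.2 (hcov p))
    refine ⟨t.sup id, Set.eq_univ_of_forall fun p => ?_⟩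
    obtain ⟨m, hm, hpm⟩ := Set.mem_iUnion₂.1 (ht (Set.mem_univ p))
    exact hmono' (Finset.le_sup (f := id) hm) hpm
  haveI hPn : Module.Projective R (E.opcycles (a₁ - (n : ℤ))) := Module.freeLocus_eq_univ_iff.1 hn
  obtain ⟨a, ha⟩ : ∃ a : ℤ, a = a₁ - (n : ℤ) := ⟨_, rfl⟩
  rw [← ha] at hPn
  haveI : CochainComplex.IsGE E a := (CochainComplex.isGE_iff E a).2 fun i hi =>
    (HomologicalComplex.exactAt_iff_isZero_homology _ i).2 (hH i (by omega))
  let emb := ComplexShape.embeddingUpIntGE a
  refine ⟨CochainComplex.truncGE E a, a, b, fun i hi => ?_, fun i => ?_,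
    ⟨(asIso (DerivedCategory.Q.map (CochainComplex.πTruncGE E a))).symm⟩⟩
  · rcases hi with hi | hi
    · exact CochainComplex.isZero_of_isStrictlyGE _ a i hi
    · rcases lt_or_ge i a with hia | hia
      · exact CochainComplex.isZero_of_isStrictlyGE _ a i hia
      obtain ⟨m, rfl⟩ : ∃ m : ℕ, a + m = i := ⟨(i - a).toNat, by omega⟩
      rcases Nat.eq_zero_or_pos m with rfl | hm
      · refine IsZero.of_iso ?_ (HomologicalComplex.truncGEXIsoOpcycles E emb (i := 0) rfl
          ((ComplexShape.boundaryGE_embeddingUpIntGE_iff a 0).2 rfl))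
        exact IsZero.of_epi (E.pOpcycles (a + (0 : ℕ))) (hb _ hi)
      · exact (hb _ hi).of_iso (HomologicalComplex.truncGEXIso E emb (i := m) rfl
          (fun hb => by have := (ComplexShape.boundaryGE_embeddingUpIntGE_iff a m).1 hb; omega))
  · rcases lt_or_ge i a with hia | hia
    · haveI := ModuleCat.subsingleton_of_isZero
        (CochainComplex.isZero_of_isStrictlyGE (CochainComplex.truncGE E a) a i hia)
      exact ⟨inferInstance, inferInstance⟩
    obtain ⟨m, rfl⟩ : ∃ m : ℕ, a + m = i := ⟨(i - a).toNat, by omega⟩
    rcases Nat.eq_zero_or_pos m with rfl | hm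
    · have hp : Module.Projective R (E.opcycles (a + (0 : ℕ))) := by
        rw [Nat.cast_zero, add_zero]; assumption
      haveI : Module.Projective R (E.opcycles (emb.f 0)) := hp
      haveI : Module.Finite R (E.opcycles (emb.f 0)) := inferInstance
      let t := (HomologicalComplex.truncGEXIsoOpcycles E emb (i := 0) rfl
        ((ComplexShape.boundaryGE_embeddingUpIntGE_iff a 0).2 rfl)).toLinearEquiv.symm
      exact ⟨Module.Finite.equiv t, Module.Projective.of_equiv t⟩
    · haveI : Module.Projective R (E.X (emb.f m)) := hproj (a + m)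
      haveI : Module.Finite R (E.X (emb.f m)) := (hf (a + m)).1
      let t := (HomologicalComplex.truncGEXIso E emb (i := m) rfl
        (fun hb => by have := (ComplexShape.boundaryGE_embeddingUpIntGE_iff a m).1 hb; omega)).toLinearEquiv.symm
      exact ⟨Module.Finite.equiv t, Module.Projective.of_equiv t⟩

set_option backward.isDefEq.respectTransparency true in
set_option backward.isDefEq.respectTransparency.types true in
/-- Vanishing in the closed fibre below a bound gives tor amplitude at a point of affine space. -/
theorem amp_polyPoint {R : Type u} [CommRing R] {d : ℕ} (Q : PrimeSpectrum (MvPolynomial (Fin d) R))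
    (A : Type u) [CommRing A] [Algebra R A]
    [IsLocalization.AtPrime A (Q.asIdeal.comap (algebraMap R (MvPolynomial (Fin d) R)))] [IsLocalRing A]
    (σ : A →+* Localization.AtPrime Q.asIdeal)
    (hσ : σ.comp (algebraMap R A) = algebraMap R (Localization.AtPrime Q.asIdeal))
    {E : DRing.Cx (Localization.AtPrime Q.asIdeal)} (hE : DRing.TermwiseFiniteFree E) {b : ℤ}
    (hb : DRing.VanishesAbove E b) (a : ℤ)
    (h : ∀ i < a, ((extC' (IsLocalRing.residue A)).obj ((DRing.restrictCx σ).obj E)).ExactAt i) :
    DRing.HasTorAmplitudeIn (Localization.AtPrime Q.asIdeal) (a - d) b (DRing.toD E) := by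
  let B := Localization.AtPrime Q.asIdeal
  let p := Q.asIdeal.comap (algebraMap R (MvPolynomial (Fin d) R))
  letI : Algebra A B := σ.toAlgebra
  haveI : IsScalarTower R A B := IsScalarTower.of_algebraMap_eq fun r => (RingHom.congr_fun hσ r).symm
  haveI : Module.Flat R B := by
    haveI : Module.Flat (MvPolynomial (Fin d) R) B := IsLocalization.flat _ Q.asIdeal.primeCompl
    exact Module.Flat.trans R (MvPolynomial (Fin d) R) B
  haveI : Module.Flat A B := (Module.flat_iff_of_isLocalization A p.primeCompl B).2 inferInstance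
  have hm : (IsLocalRing.maximalIdeal A).map (algebraMap A B) = p.map (algebraMap R B) := by
    rw [← IsLocalization.AtPrime.map_eq_maximalIdeal p A, Ideal.map_map]
    congr 1
  haveI : IsLocalHom (algebraMap A B) := by
    refine ((IsLocalRing.local_hom_TFAE (algebraMap A B)).out 0 2).2 ?_
    rw [hm, IsScalarTower.algebraMap_eq R (MvPolynomial (Fin d) R) B, ← Ideal.map_map,
      ← Localization.AtPrime.map_eq_maximalIdeal]
    exact Ideal.map_mono Ideal.map_comap_le
  obtain ⟨d', hd', hdim, -⟩ := Groth.Agent.Codepth5.exists_dim_fibLocRing Q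
  haveI := Groth.Agent.Codepth5.isRegularLocalRing_fibLocRing Q
  obtain ⟨hreg, hdimF⟩ : IsRegularLocalRing (B ⧸ (IsLocalRing.maximalIdeal A).map (algebraMap A B)) ∧
      ringKrullDim (B ⧸ (IsLocalRing.maximalIdeal A).map (algebraMap A B)) = d' := by
    have key : ∀ I J : Ideal B, I = J → IsRegularLocalRing (_ ⧸ I) → ringKrullDim (_ ⧸ I) = d' →
        IsRegularLocalRing (_ ⧸ J) ∧ ringKrullDim (_ ⧸ J) = d' := by
      rintro I J rfl h1 h2
      exact ⟨h1, h2⟩
    exact key _ _ hm.symm ‹_› hdim
  haveI := hreg
  haveI := DRingLBase.hasLBaseChange (IsLocalRing.residue A)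
  let EA := (DRing.restrictCx σ).obj E
  have hflat : DRing.TermwiseFlat EA := fun n => by
    haveI := (hE n).2
    letI : Module A (E.X n) := Module.compHom _ (algebraMap A B)
    haveI : IsScalarTower A B (E.X n) := IsScalarTower.of_algebraMap_smul fun _ _ => rfl
    exact Module.Flat.trans A B (E.X n)
  obtain ⟨eL⟩ := DRingLBase.nonempty_lbase_iso (IsLocalRing.residue A)
    (isKF_of_flat hflat (fun n hn => (ModuleCat.restrictScalars σ).map_isZero (hb n hn)))
  have hK : DRing.IsPseudoCoherent' B (DRing.toD E) := ⟨E, b, hb, hE, ⟨Iso.refl _⟩⟩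
  refine DRingTor.mono (by omega) le_rfl (Groth.Agent.S6977.result (A := A) (B := B) d' hdimF a b _ hK fun i hi => ?_).2
  have hx : ((extC' (IsLocalRing.residue A)).obj EA).ExactAt i := by
    rcases hi with hi | hi
    · exact h i hi
    · exact ShortComplex.exact_of_isZero_X₂ _
        ((ModuleCat.extendScalars (IsLocalRing.residue A)).map_isZero ((ModuleCat.restrictScalars σ).map_isZero (hb i hi)))
  exact ModuleCat.subsingleton_of_isZero
    (((HomologicalComplex.exactAt_iff_isZero_homology _ _).1 hx).of_iso
      ((DerivedCategory.homologyFunctor _ i).mapIso ((DRing.LBaseChange (IsLocalRing.residue A)).mapIso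
          ((ModuleCat.restrictScalars σ).mapDerivedCategoryFactors.app E) ≪≫ eL) ≪≫
        (DerivedCategory.homologyFunctorFactors _ i).app _))

end Groth.Agent.PushAmp
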