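import Groth.Agent.KFlatLib.Ghost
import Mathlib

/-!
# Powers of an ideal killing cohomology kill the tensor maps
-/

set_option autoImplicit false
set_option linter.style.haveILetI false
set_option backward.isDefEq.respectTransparency false

universe w u

open CategoryTheory CategoryTheory.Limits MonoidalCategory
open scoped TensorProduct

noncomputable section

namespace Groth.Agent.PushAmp.PowKillHom

variable {A : Type u} [CommRing A]

/-- A map sending cycles to boundaries is zero on cohomology. -/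
lemma homologyMap_eq_zero {L L' : CochainComplex (ModuleCat.{u} A) ℤ} (f : L ⟶ L') (q : ℤ)
    (h : ∀ z : L.X q, (L.d q (q + 1)).hom z = 0 → ∃ v : L'.X (q - 1), (L'.d (q - 1) q).hom v = (f.f q).hom z) :
    HomologicalComplex.homologyMap f q = 0 := by
  rw [← cancel_epi (L.homologyπ q), HomologicalComplex.homologyπ_naturality, comp_zero]
  ext c
  have hz : (L.d q (q + 1)).hom ((L.iCycles q).hom c) = 0 :=
    LinearMap.congr_fun (congrArg ModuleCat.Hom.hom (L.iCycles_d q (q + 1))) c
  obtain ⟨v, hv⟩ := h _ hz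
  have hi : Function.Injective (L'.iCycles q).hom := (ModuleCat.mono_iff_injective (L'.iCycles q)).1 inferInstance
  have hc : (HomologicalComplex.cyclesMap f q).hom c = (L'.toCycles (q - 1) q).hom v := by
    apply hi
    have h1 := LinearMap.congr_fun (congrArg ModuleCat.Hom.hom (HomologicalComplex.cyclesMap_i f q)) c
    have h2 := LinearMap.congr_fun (congrArg ModuleCat.Hom.hom (L'.toCycles_i (q - 1) q)) v
    exact h1.trans (hv.symm.trans h2.symm)
  show (L'.homologyπ q).hom ((HomologicalComplex.cyclesMap f q).hom c) = 0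
  rw [hc]
  exact LinearMap.congr_fun (congrArg ModuleCat.Hom.hom (L'.toCycles_comp_homologyπ (q - 1) q)) v

/-- Scalars killing cohomology send cycles to boundaries. -/
lemma smul_cycle_mem_range (K : CochainComplex (ModuleCat.{u} A) ℤ) (q : ℤ) (x : A)
    (hx : ∀ c : ↑(K.homology q), x • c = 0) (z : K.X q) (hz : (K.d q (q + 1)).hom z = 0) :
    x • z ∈ LinearMap.range (K.d (q - 1) q).hom := by
  let w : K.cycles q := K.cyclesMk z (q + 1) (by simp) hz
  have hw : (K.iCycles q).hom w = z := K.i_cyclesMk z (q + 1) (by simp) hz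
  have hexact := ShortComplex.exact_of_g_is_cokernel
    (ShortComplex.mk (K.toCycles (q - 1) q) (K.homologyπ q) (K.toCycles_comp_homologyπ (q - 1) q))
    (K.homologyIsCokernel (q - 1) q (by simp))
  obtain ⟨v, hv⟩ := (ShortComplex.moduleCat_exact_iff _).1 hexact (x • w) (by
    show (K.homologyπ q).hom (x • w) = 0
    rw [map_smul]; exact hx _)
  refine ⟨v, ?_⟩
  rw [← hw, ← map_smul, ← hv]
  exact (LinearMap.congr_fun (congrArg ModuleCat.Hom.hom (K.toCycles_i (q - 1) q)) v).symm

/-- Multiplication `I ⊗ M → M`. -/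
abbrev mu (I : Ideal A) (M : Type u) [AddCommGroup M] [Module A M] : I ⊗[A] M →ₗ[A] M :=
  TensorProduct.lift ((LinearMap.lsmul A M).comp (Submodule.subtype I))

lemma mu_injective (I : Ideal A) (M : Type u) [AddCommGroup M] [Module A M] [Module.Flat A M] :
    Function.Injective (mu I M) := by
  have h : mu I M = (TensorProduct.lid A M).toLinearMap ∘ₗ I.subtype.rTensor M :=
    TensorProduct.ext' fun a m => by simp [mu]
  rw [h, LinearMap.coe_comp]
  exact (TensorProduct.lid A M).injective.comp
    (Module.Flat.rTensor_preserves_injective_linearMap _ (Submodule.subtype_injective I))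

lemma mu_range (I : Ideal A) (M : Type u) [AddCommGroup M] [Module A M] :
    LinearMap.range (mu I M) = I • (⊤ : Submodule A M) := by
  refine le_antisymm ?_ (Submodule.smul_le.2 fun r hr m _ => ⟨⟨r, hr⟩ ⊗ₜ m, rfl⟩)
  rintro _ ⟨z, rfl⟩
  induction z using TensorProduct.induction_on with
  | zero => simp
  | tmul r m => exact Submodule.smul_mem_smul r.2 Submodule.mem_top
  | add a b ha hb => rw [map_add]; exact add_mem ha hb

variable (K : CochainComplex (ModuleCat.{u} A) ℤ) (J : Ideal A)

/-- The functor `I ↦ I ⊗ K` on maps. -/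
abbrev tens (I : Ideal A) : CochainComplex (ModuleCat.{u} A) ℤ :=
  (((curriedTensor (ModuleCat.{u} A)).obj (ModuleCat.of A I)).mapHomologicalComplex (ComplexShape.up ℤ)).obj K

/-- The inclusion map `I ⊗ K → I' ⊗ K`. -/
abbrev tensMap {I I' : Ideal A} (h : I ≤ I') : tens K I ⟶ tens K I' :=
  (NatTrans.mapHomologicalComplex ((curriedTensor (ModuleCat.{u} A)).map
    (ModuleCat.ofHom (Submodule.inclusion h))) (ComplexShape.up ℤ)).app K

lemma mu_d (I : Ideal A) (i j : ℤ) (z : (tens K I).X i) :
    mu I (K.X j) (((tens K I).d i j).hom z) = (K.d i j).hom (mu I (K.X i) z) := by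
  induction z using TensorProduct.induction_on with
  | zero => simp
  | tmul r m => exact (map_smul (K.d i j).hom (r : A) m).symm
  | add a b ha hb => simp only [map_add]; exact congrArg₂ (· + ·) ha hb

lemma mu_map {I I' : Ideal A} (h : I ≤ I') (i : ℤ) (z : (tens K I).X i) :
    mu I' (K.X i) (((tensMap K h).f i).hom z) = mu I (K.X i) z := by
  induction z using TensorProduct.induction_on with
  | zero => simp
  | tmul r m => rfl
  | add a b ha hb => simp only [map_add]; exact congrArg₂ (· + ·) ha hb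

/-- The uniform Artin–Rees bound in one degree. -/
lemma exists_bound [IsNoetherianRing A] (q : ℤ) (hfin : ∀ q, Module.Finite A (K.X q)) (hflat : ∀ q, Module.Flat A (K.X q))
    (hJ : ∀ q : ℤ, ∀ x ∈ J, ∀ c : ↑(K.homology q), x • c = 0) :
    ∃ c : ℕ, ∀ (s t : ℕ) (h : J ^ s ≤ J ^ t), t + c ≤ s →
      HomologicalComplex.homologyMap (tensMap K h) q = 0 := by
  haveI := hfin q
  let Z : Submodule A (K.X q) := LinearMap.ker (K.d q (q + 1)).hom
  obtain ⟨k, hk⟩ := Ideal.exists_pow_inf_eq_pow_smul J Z
  refine ⟨k + 1, fun s t h hst => homologyMap_eq_zero _ q fun z hz => ?_⟩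
  haveI := hflat q
  have h1 : mu (J ^ s) (K.X q) z ∈ (J ^ s • ⊤ ⊓ Z : Submodule A (K.X q)) := by
    refine ⟨(mu_range (J ^ s) (K.X q)).le ⟨z, rfl⟩, ?_⟩
    show (K.d q (q + 1)).hom (mu (J ^ s) (K.X q) z) = 0
    rw [← mu_d, hz, map_zero]
  have h2 : mu (J ^ s) (K.X q) z ∈ J ^ t • LinearMap.range (K.d (q - 1) q).hom := by
    rw [hk s (by omega)] at h1
    have h3 : mu (J ^ s) (K.X q) z ∈ J ^ (s - k) • Z := Submodule.smul_mono le_rfl inf_le_right h1
    have h4 : J ^ (s - k) • Z ≤ J ^ t • (J • Z) := by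
      rw [← Submodule.mul_smul, ← pow_succ]
      exact Submodule.smul_mono_left (Ideal.pow_le_pow_right (by omega))
    exact Submodule.smul_mono le_rfl (Submodule.smul_le.2 fun x hx w hw =>
      smul_cycle_mem_range K q x (hJ q x hx) w hw) (h4 h3)
  rw [← Submodule.map_top, ← Submodule.map_smul'', ← mu_range] at h2
  obtain ⟨_, ⟨v, rfl⟩, hv⟩ := h2
  refine ⟨v, mu_injective (J ^ t) (K.X q) ?_⟩
  rw [mu_d, mu_map]
  exact hv

/-- The index functor. -/
def chain (e : ℕ → ℕ) (he : Antitone e) : ℕ ⥤ CochainComplex (ModuleCat.{u} A) ℤ where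
  obj i := tens K (J ^ e i)
  map f := tensMap K (Ideal.pow_le_pow_right (he f.le))
  map_id i := by
    ext q : 2
    apply TensorProduct.ext'
    intro r m
    rfl
  map_comp f g := by
    ext q : 2
    apply TensorProduct.ext'
    intro r m
    rfl

theorem exists_pow_map_eq_zero [IsNoetherianRing A] [HasDerivedCategory.{w} (ModuleCat.{u} A)] (a b : ℤ)
    (hK : ∀ q : ℤ, q < a ∨ b < q → Limits.IsZero (K.X q))
    (hfin : ∀ q : ℤ, Module.Finite A (K.X q)) (hproj : ∀ q : ℤ, Module.Projective A (K.X q))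
    (hJ : ∀ q : ℤ, ∀ x ∈ J, ∀ c : ↑(K.homology q), x • c = 0) :
    ∃ n : ℕ, ∀ (m : ℕ) (h : J ^ (n + m) ≤ J ^ m), DerivedCategory.Q.map (tensMap K h) = 0 := by
  classical
  have hflat : ∀ q, Module.Flat A (K.X q) := fun q => by haveI := hproj q; infer_instance
  choose c hc using fun q => exists_bound K J q hfin hflat hJ
  let C : ℕ := (Finset.Icc a b).sup c
  let N : ℕ := (b - a).toNat
  refine ⟨(N + 1) * C, fun m h => ?_⟩
  let e : ℕ → ℕ := fun i => (N + 1 - i) * C + m
  have he : Antitone e := fun i j hij => Nat.add_le_add_right (Nat.mul_le_mul_right _ (by omega)) m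
  have hzero : ∀ (i : ℕ) (q : ℤ), q < a ∨ b < q → IsZero ((tens K (J ^ e i)).X q) := fun i q hq =>
    Functor.map_isZero ((curriedTensor (ModuleCat.{u} A)).obj (ModuleCat.of A ↥(J ^ e i))) (hK q hq)
  have hzH : ∀ (i : ℕ) (q : ℤ), q < a ∨ b < q →
      IsZero ((DerivedCategory.homologyFunctor (ModuleCat.{u} A) q).obj (DerivedCategory.Q.obj (tens K (J ^ e i)))) := by
    intro i q hq
    refine IsZero.of_iso ?_ ((DerivedCategory.homologyFunctorFactors (ModuleCat.{u} A) q).app _)
    exact (HomologicalComplex.exactAt_iff_isZero_homology (tens K (J ^ e i)) q).1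
      (ShortComplex.exact_of_isZero_X₂ _ (hzero i q hq))
  have key := KFlatLib.comp_eq_zero N a (chain K J e he ⋙ DerivedCategory.Q)
    (fun i _ => (DerivedCategory.isGE_iff _ _).2 fun q hq => hzH i q (Or.inl hq))
    (fun i _ => (DerivedCategory.isLE_iff _ _).2 fun q hq => hzH i q (Or.inr (by omega)))
    (fun i hi q => by
      by_cases hq : q < a ∨ b < q
      · exact (hzH i q hq).eq_of_src _ _
      rw [← cancel_epi ((DerivedCategory.homologyFunctorFactors (ModuleCat.{u} A) q).inv.app _), comp_zero]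
      erw [← (DerivedCategory.homologyFunctorFactors (ModuleCat.{u} A) q).inv.naturality]
      have hmem : q ∈ Finset.Icc a b := Finset.mem_Icc.2 (by omega)
      have h0 : HomologicalComplex.homologyMap
          (tensMap K (Ideal.pow_le_pow_right (he (Nat.le_succ i)) : J ^ e i ≤ J ^ e (i + 1))) q = 0 := by
        refine hc q _ _ _ ?_
        have h1 : c q ≤ C := Finset.le_sup hmem
        have h2 : N + 1 - i = (N + 1 - (i + 1)) + 1 := by omega
        show (N + 1 - (i + 1)) * C + m + c q ≤ (N + 1 - i) * C + m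
        rw [h2, add_mul, one_mul]
        omega
      show HomologicalComplex.homologyMap
        (tensMap K (Ideal.pow_le_pow_right (he (Nat.le_succ i)) : J ^ e i ≤ J ^ e (i + 1))) q ≫ _ = 0
      rw [h0, zero_comp])
  have key' : DerivedCategory.Q.map (tensMap K (Ideal.pow_le_pow_right (he (Nat.zero_le (N + 1))))) = 0 := key
  have hgen : ∀ (s s' : ℕ) (hh : J ^ s ≤ J ^ s'), s = (N + 1) * C + m → s' = m →
      DerivedCategory.Q.map (tensMap K hh) = 0 → DerivedCategory.Q.map (tensMap K h) = 0 := by
    rintro _ _ hh rfl rfl h0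
    exact h0
  exact hgen _ _ _ (by simp [e]) (by simp [e]) key'

end Groth.Agent.PushAmp.PowKillHom
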