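import Groth.Agent.PushAmp.PushPC

/-!
# Pseudo-coherence along closed immersions with structure sheaf pseudo-coherent at one level
-/

set_option autoImplicit false
set_option linter.style.haveILetI false
set_option backward.isDefEq.respectTransparency false
set_option backward.isDefEq.respectTransparency.types false

universe u

open CategoryTheory CategoryTheory.Limits AlgebraicGeometry TopologicalSpace
  CategoryTheory.Pretriangulated

attribute [local instance] HasDerivedCategory.standard

namespace Groth.Agent.PushAmp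

open Groth.Agent.KFlatLib

variable {Z W : Scheme.{u}}

/-- The direct image of the structure sheaf is `c`-pseudo-coherent. -/
def PushPCAt (c : ℤ) (s : Z ⟶ W) [IsClosedImmersion s] : Prop :=
  LocPC c ((pushD s).obj (DCoh.inD Z (Coh.structureModule Z)))

lemma PushPCAt.restrict {c : ℤ} {s : Z ⟶ W} [IsClosedImmersion s] (h : PushPCAt c s) (O : W.Opens) :
    PushPCAt c (s ∣_ O) :=
  (LocPC.restrict h O.ι).of_iso (pushDRho s O _ ≪≫ (pushD (s ∣_ O)).mapIso
    (rhoInDIso _ _ ≪≫ (DerivedCategory.singleFunctor _ 0).mapIso (restrictStructureIso (s ⁻¹ᵁ O).ι)))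

lemma PushPCAt.free {c : ℤ} {s : Z ⟶ W} [IsClosedImmersion s] (h : PushPCAt c s) : ∀ (n : ℕ),
    LocPC c ((pushD s).obj (DCoh.inD Z (FlatMod.freeMod Z n))) := by
  intro n
  induction n with
  | zero =>
    refine locPC_of_isZero_above fun i _ => Functor.map_isZero _ (Functor.map_isZero _
      (Functor.map_isZero _ ?_))
    exact (IsZero.iff_id_eq_zero _).2 (Sigma.hom_ext _ _ fun i => i.elim0)
  | succ n ih =>
    let F := DerivedCategory.singleFunctor Z.Modules 0
    let e1 : FlatMod.freeMod Z 1 ≅ Coh.structureModule Z :=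
      coproductUniqueIso (fun _ : Fin 1 => Coh.structureModule Z)
    haveI := preservesBinaryBiproducts_of_preservesBinaryCoproducts (F ⋙ pushD s)
    let A := (pushD s).obj (DCoh.inD Z (FlatMod.freeMod Z n))
    let B := (pushD s).obj (DCoh.inD Z (FlatMod.freeMod Z 1))
    have hB : LocPC c B := LocPC.of_iso ((pushD s).mapIso (F.mapIso e1.symm)) h
    let eAB : A ⊞ B ≅ (pushD s).obj (DCoh.inD Z (FlatMod.freeMod Z (n + 1))) :=
      ((F ⋙ pushD s).mapBiprod _ _).symm ≪≫ (F ⋙ pushD s).mapIso (biprodFreeIso n 1)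
    exact ((locPC_two_of_three c _ (binaryBiproductTriangle_distinguished A B)).2.1 ih hB).of_iso eAB

/-- Descending pseudo-coherence from the direct image, for bounded objects. -/
theorem locPC_of_push_bounded : ∀ (k : ℕ) {Z W : Scheme.{u}} (s : Z ⟶ W) [IsClosedImmersion s] (c : ℤ),
    PushPCAt c s → (∀ j : ℕ, j < k → c + j ≤ 1) →
    ∀ (m : ℤ) (M : DCoh.D Z), (∀ i, m + k ≤ i → IsZero (DCoh.HD M i)) →
    LocPC m ((pushD s).obj M) → LocPC m M := by
  intro k
  induction k with
  | zero =>
    intro Z W s _ c _ _ m M hz _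
    exact locPC_of_isZero_above fun i hi => hz i (by omega)
  | succ k ih =>
    intro Z W s _ c hs hc m M hz hM
    let b : ℤ := m + k
    have hzb : ∀ i, b < i → IsZero (DCoh.HD M i) := fun i hi => hz i (by omega)
    have core : CohB1.IsFT (DCoh.HD M b) → ∀ z : Z, ∃ O : W.Opens, s.base z ∈ O ∧
        (LocPC m ((pushD (s ∣_ O)).obj ((rho (s ⁻¹ᵁ O).ι).obj M)) →
          LocPC m ((rho (s ⁻¹ᵁ O).ι).obj M)) := by
      intro hFT z
      obtain ⟨U, n, φ, hzU, hφ⟩ := exists_free_top hzb hFT z
      obtain ⟨O, rfl⟩ := exists_open_preimage s U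
      refine ⟨O, hzU, ?_⟩
      let N := (rho (s ⁻¹ᵁ O).ι).obj M
      let A := (DCoh.inD (s ⁻¹ᵁ O : Scheme.{u}) (FlatMod.freeMod _ n))⟦-b⟧
      obtain ⟨M', u, δ, hT⟩ := distinguished_cocone_triangle φ
      let H := DerivedCategory.homologyFunctor (s ⁻¹ᵁ O : Scheme.{u}).Modules
      have hzA : ∀ i, i ≠ b → IsZero ((H i).obj A) := fun i hi =>
        ((ShortComplex.isZero_homology_of_isZero_X₂ _
          (HomologicalComplex.isZero_single_obj_X (ComplexShape.up ℤ) b _ i hi)).of_iso
          ((DerivedCategory.homologyFunctorFactors _ i).app _)).of_iso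
          ((H i).mapIso ((((DerivedCategory.singleFunctors _).shiftIso (-b) b 0 (by omega)).app _) ≪≫
            singleQ b _))
      have hz' : ∀ i, m + k ≤ i → IsZero ((H i).obj M') := fun i hi => by
        haveI : Epi ((H i).map u) :=
          (DerivedCategory.HomologySequence.exact₃ _ hT i (i + 1) rfl).epi_f
            ((hzA (i + 1) (by omega)).eq_of_tgt _ _)
        refine IsZero.of_epi_eq_zero ((H i).map u) ?_
        rcases eq_or_lt_of_le hi with h | h
        · obtain rfl : b = i := h
          haveI := hφ.2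
          refine (cancel_epi ((H b).map φ)).1 ?_
          rw [← Functor.map_comp]
          exact ((congrArg (H b).map (comp_distTriang_mor_zero₁₂ _ hT)).trans
            (Functor.map_zero _ _ _)).trans comp_zero.symm
        · exact (isZero_hd_rho _ (hz i (by omega))).eq_of_src _ _
      have hA : ∀ m' : ℤ, LocPC m' A := fun m' => by
        have := (locPC_free (X := (s ⁻¹ᵁ O : Scheme.{u})) n (m' - b)).shift (-b)
        rwa [show m' - b - -b = m' by omega] at this
      have hpA : LocPC (m + 1) ((pushD (s ∣_ O)).obj A) := by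
        have hcb := hc k (by omega)
        exact ((((hs.restrict O).free n).shift (-b)).of_iso
          (((pushD (s ∣_ O)).commShiftIso (-b)).app _).symm).mono (by omega)
      have hM' := ih (s ∣_ O) c (hs.restrict O) (fun j hj => hc j (by omega)) m M' hz'
      have hT' := (pushD (s ∣_ O)).map_distinguished _ hT
      intro hN
      exact (locPC_two_of_three m _ hT).2.1 (hA m)
        (hM' ((locPC_two_of_three m _ hT').1 hpA hN))
    have hzp : ∀ i, b < i → IsZero (DCoh.HD ((pushD s).obj M) i) := fun i hi => by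
      obtain ⟨e⟩ := nonempty_hd_pushD s M i
      exact (Functor.map_isZero _ (hzb i hi)).of_iso e
    obtain ⟨eb⟩ := nonempty_hd_pushD s M b
    have hFT : CohB1.IsFT (DCoh.HD M b) :=
      isFT_of_push_closed (s := s) _ (isFT_of_iso' eb (isFT_top (hM.mono (by omega)) hzp))
    refine LocPC.of_local fun z => ?_
    obtain ⟨O, hzO, himp⟩ := core hFT z
    exact ⟨_, (s ⁻¹ᵁ O).ι, inferInstance, ⟨⟨z, hzO⟩, rfl⟩,
      himp ((hM.restrict O.ι).of_iso (pushDRho s O M))⟩

/-- Pseudo-coherence of the direct image, for bounded objects. -/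
theorem locPC_push_bounded : ∀ (k : ℕ) {Z W : Scheme.{u}} (s : Z ⟶ W) [IsClosedImmersion s] (c : ℤ),
    PushPCAt c s → (∀ j : ℕ, j < k → c + j ≤ 0) →
    ∀ (m : ℤ) (M : DCoh.D Z), (∀ i, m + k ≤ i → IsZero (DCoh.HD M i)) →
    LocPC m M → LocPC m ((pushD s).obj M) := by
  intro k
  induction k with
  | zero =>
    intro Z W s _ c _ _ m M hz _
    refine locPC_of_isZero_above fun i hi => ?_
    obtain ⟨e⟩ := nonempty_hd_pushD s M i
    exact (Functor.map_isZero _ (hz i (by omega))).of_iso e
  | succ k ih =>
    intro Z W s _ c hs hc m M hz hM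
    let b : ℤ := m + k
    have hzb : ∀ i, b < i → IsZero (DCoh.HD M i) := fun i hi => hz i (by omega)
    have core : CohB1.IsFT (DCoh.HD M b) → ∀ z : Z, ∃ O : W.Opens, s.base z ∈ O ∧
        (LocPC m ((rho (s ⁻¹ᵁ O).ι).obj M) →
          LocPC m ((pushD (s ∣_ O)).obj ((rho (s ⁻¹ᵁ O).ι).obj M))) := by
      intro hFT z
      obtain ⟨U, n, φ, hzU, hφ⟩ := exists_free_top hzb hFT z
      obtain ⟨O, rfl⟩ := exists_open_preimage s U
      refine ⟨O, hzU, ?_⟩
      let N := (rho (s ⁻¹ᵁ O).ι).obj M
      let A := (DCoh.inD (s ⁻¹ᵁ O : Scheme.{u}) (FlatMod.freeMod _ n))⟦-b⟧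
      obtain ⟨M', u, δ, hT⟩ := distinguished_cocone_triangle φ
      let H := DerivedCategory.homologyFunctor (s ⁻¹ᵁ O : Scheme.{u}).Modules
      have hzA : ∀ i, i ≠ b → IsZero ((H i).obj A) := fun i hi =>
        ((ShortComplex.isZero_homology_of_isZero_X₂ _
          (HomologicalComplex.isZero_single_obj_X (ComplexShape.up ℤ) b _ i hi)).of_iso
          ((DerivedCategory.homologyFunctorFactors _ i).app _)).of_iso
          ((H i).mapIso ((((DerivedCategory.singleFunctors _).shiftIso (-b) b 0 (by omega)).app _) ≪≫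
            singleQ b _))
      have hz' : ∀ i, m + k ≤ i → IsZero ((H i).obj M') := fun i hi => by
        haveI : Epi ((H i).map u) :=
          (DerivedCategory.HomologySequence.exact₃ _ hT i (i + 1) rfl).epi_f
            ((hzA (i + 1) (by omega)).eq_of_tgt _ _)
        refine IsZero.of_epi_eq_zero ((H i).map u) ?_
        rcases eq_or_lt_of_le hi with h | h
        · obtain rfl : b = i := h
          haveI := hφ.2
          refine (cancel_epi ((H b).map φ)).1 ?_
          rw [← Functor.map_comp]
          exact ((congrArg (H b).map (comp_distTriang_mor_zero₁₂ _ hT)).trans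
            (Functor.map_zero _ _ _)).trans comp_zero.symm
        · exact (isZero_hd_rho _ (hz i (by omega))).eq_of_src _ _
      have hA : ∀ m' : ℤ, LocPC m' A := fun m' => by
        have := (locPC_free (X := (s ⁻¹ᵁ O : Scheme.{u})) n (m' - b)).shift (-b)
        rwa [show m' - b - -b = m' by omega] at this
      have hpA : LocPC m ((pushD (s ∣_ O)).obj A) := by
        have hcb := hc k (by omega)
        exact ((((hs.restrict O).free n).shift (-b)).of_iso
          (((pushD (s ∣_ O)).commShiftIso (-b)).app _).symm).mono (by omega)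
      have hM' := ih (s ∣_ O) c (hs.restrict O) (fun j hj => hc j (by omega)) m M' hz'
      have hT' := (pushD (s ∣_ O)).map_distinguished _ hT
      intro hN
      exact (locPC_two_of_three m _ hT').2.1 hpA
        (hM' ((locPC_two_of_three m _ hT).1 (hA (m + 1)) hN))
    refine locPC_push_of_local fun z => ?_
    obtain ⟨O, hzO, himp⟩ := core (isFT_top (hM.mono (by omega)) hzb) z
    exact ⟨O, hzO, himp (hM.restrict _)⟩

end Groth.Agent.PushAmp
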