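import Groth.Agent.PushAmp.PushPCLevel
import Groth.Agent.PushAmp.TensorPerfect
import Groth.Agent.KFlatLib.Scheme.DualPerfect

/-!
# Pseudo-coherence of direct images of tensor products along closed immersions
-/

set_option autoImplicit false
set_option linter.style.haveILetI false
set_option backward.isDefEq.respectTransparency false
set_option backward.isDefEq.respectTransparency.types false

universe u

open CategoryTheory CategoryTheory.Limits AlgebraicGeometry TopologicalSpace
  CategoryTheory.Pretriangulated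

attribute [local instance] HasDerivedCategory.standard

namespace Groth.Agent.PushAmp

open Groth.Agent.KFlatLib

variable {Z W : Scheme.{u}}

/-- The tensor products of a complex with modules placed in degree `b`. -/
noncomputable def tensorSingle (G : CochainComplex Z.Modules ℤ) (b : ℤ) : Z.Modules ⥤ DCoh.D Z :=
  HomologicalComplex.single Z.Modules (ComplexShape.up ℤ) b ⋙ DCoh.tensorCx.obj G ⋙ DerivedCategory.Q

/-- `G ⊗ O[b]` is a shift. -/
noncomputable def tensorSingleUnitIso (G : CochainComplex Z.Modules ℤ) (b : ℤ) :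
    (tensorSingle G b).obj (Coh.structureModule Z) ≅ (DCoh.toD Z G)⟦-b⟧ :=
  DerivedCategory.Q.mapIso ((Inner.tensorUnitShiftIso (DCoh.tensorBi (X := Z)) (Coh.structureModule Z)
    (tensorStructureIso Z) b).app G) ≪≫ (DerivedCategory.Q.commShiftIso (-b)).app G

/-- Direct images of tensor products with finite free modules in one degree. -/
theorem locPC_push_tensorSingle_free (s : Z ⟶ W) [IsClosedImmersion s] (G : CochainComplex Z.Modules ℤ)
    (c b : ℤ) (hG : LocPC c ((pushD s).obj (DCoh.toD Z G))) : ∀ (n : ℕ),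
    LocPC (c + b) ((pushD s).obj ((tensorSingle G b).obj (FlatMod.freeMod Z n))) := by
  haveI : (tensorSingle G b).Additive := by
    haveI : (DCoh.tensorCx.obj G).Additive := inferInstance
    unfold tensorSingle
    infer_instance
  intro n
  induction n with
  | zero =>
    refine locPC_of_isZero_above fun i _ => Functor.map_isZero _ (Functor.map_isZero _
      (Functor.map_isZero _ ?_))
    exact (IsZero.iff_id_eq_zero _).2 (Sigma.hom_ext _ _ fun i => i.elim0)
  | succ n ih =>
    let F := tensorSingle G b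
    let e1 : FlatMod.freeMod Z 1 ≅ Coh.structureModule Z :=
      coproductUniqueIso (fun _ : Fin 1 => Coh.structureModule Z)
    haveI := preservesBinaryBiproducts_of_preservesBinaryCoproducts (F ⋙ pushD s)
    let A := (pushD s).obj (F.obj (FlatMod.freeMod Z n))
    let B := (pushD s).obj (F.obj (FlatMod.freeMod Z 1))
    have hB : LocPC (c + b) B := by
      have h := (hG.shift (-b)).of_iso (((pushD s).commShiftIso (-b)).app (DCoh.toD Z G)).symm
      rw [show c - -b = c + b by omega] at h
      exact h.of_iso ((pushD s).mapIso ((tensorSingleUnitIso G b).symm ≪≫ F.mapIso e1.symm))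
    let eAB : A ⊞ B ≅ (pushD s).obj (F.obj (FlatMod.freeMod Z (n + 1))) :=
      ((F ⋙ pushD s).mapBiprod _ _).symm ≪≫ (F ⋙ pushD s).mapIso (biprodFreeIso n 1)
    exact ((locPC_two_of_three (c + b) _ (binaryBiproductTriangle_distinguished A B)).2.1 ih hB).of_iso eAB

/-- The tensor product of a finite free module in one degree. -/
theorem nonempty_ltensor_single_free (G : CochainComplex Z.Modules ℤ) [DCoh.HasLTensorCx G]
    (hG : DCoh.IsKFlat G) (n : ℕ) (b : ℤ) :
    Nonempty ((DCoh.LTensorCx G).obj (DCoh.toD Z ((HomologicalComplex.single Z.Modules (ComplexShape.up ℤ) b).obj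
      (FlatMod.freeMod Z n))) ≅ (tensorSingle G b).obj (FlatMod.freeMod Z n)) := by
  let S := (HomologicalComplex.single Z.Modules (ComplexShape.up ℤ) b).obj (FlatMod.freeMod Z n)
  haveI := isIso_LTensorCx_counit_of_isKFlat_right G hG S
  exact ⟨asIso (((DCoh.tensorCxQ G).totalLeftDerivedCounit DerivedCategory.Q (qisX Z)).app S) ≪≫
    DerivedCategory.Q.mapIso (braidCx S G)⟩

/-- The induction on the cohomological length. -/
theorem locPC_push_ltensor_bounded : ∀ (k : ℕ) {Z W : Scheme.{u}} (s : Z ⟶ W) [IsClosedImmersion s]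
    (G : CochainComplex Z.Modules ℤ) [DCoh.HasLTensorCx G], DCoh.IsKFlat G →
    ∀ (c d : ℤ), LocPC c ((pushD s).obj (DCoh.toD Z G)) → (DCoh.toD Z G).IsLE d →
    ∀ (a m : ℤ), a + d ≤ m → (∀ j : ℕ, j < k → a + j + c ≤ m) →
    ∀ (M : DCoh.D Z), (∀ i, a + k ≤ i → IsZero (DCoh.HD M i)) → LocPC a M →
    LocPC m ((pushD s).obj ((DCoh.LTensorCx G).obj M)) := by
  intro k
  induction k with
  | zero =>
    intro Z W s _ G _ hG c d _ hd a m had _ M hz _
    haveI := hd
    haveI : M.IsLE (a - 1) := (DerivedCategory.isLE_iff M _).2 fun i hi => hz i (by omega)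
    refine locPC_of_isZero_above fun i hi => ?_
    obtain ⟨e⟩ := nonempty_hd_pushD s ((DCoh.LTensorCx G).obj M) i
    exact (Functor.map_isZero _ (isZero_hd_ltensor G d M (a - 1) i (by omega))).of_iso e
  | succ k ih =>
    intro Z W s _ G _ hG c d hc hd a m had hm M hz hM
    let b : ℤ := a + k
    have hzb : ∀ i, b < i → IsZero (DCoh.HD M i) := fun i hi => hz i (by omega)
    refine locPC_push_of_local fun z => ?_
    obtain ⟨U, n, φ, hzU, hφ⟩ := exists_free_top hzb (isFT_top (hM.mono (by omega)) hzb) z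
    obtain ⟨O, rfl⟩ := exists_open_preimage s U
    refine ⟨O, hzU, ?_⟩
    let G' := (rCx (s ⁻¹ᵁ O).ι).obj G
    haveI := hasLTensorCx G'
    have hG' : DCoh.IsKFlat G' := isKFlat_restrict (s ⁻¹ᵁ O).ι hG
    let eG : DCoh.toD _ G' ≅ (rho (s ⁻¹ᵁ O).ι).obj (DCoh.toD Z G) := ((rhoQ (s ⁻¹ᵁ O).ι).app G).symm
    obtain ⟨eN⟩ := nonempty_rho_ltensor (s ⁻¹ᵁ O).ι G M G' eG
    have hc' : LocPC c ((pushD (s ∣_ O)).obj (DCoh.toD _ G')) :=
      (hc.restrict O.ι).of_iso (pushDRho s O _ ≪≫ (pushD (s ∣_ O)).mapIso eG.symm)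
    have hd' : (DCoh.toD _ G').IsLE d := (DerivedCategory.isLE_iff _ d).2 fun i hi =>
      (isZero_hd_rho (s ⁻¹ᵁ O).ι ((DerivedCategory.isLE_iff _ d).1 hd i hi)).of_iso
        ((DerivedCategory.homologyFunctor _ i).mapIso eG)
    let N := (rho (s ⁻¹ᵁ O).ι).obj M
    let A := (DCoh.inD (s ⁻¹ᵁ O : Scheme.{u}) (FlatMod.freeMod _ n))⟦-b⟧
    let S := fun j : ℤ =>
      (HomologicalComplex.single (s ⁻¹ᵁ O : Scheme.{u}).Modules (ComplexShape.up ℤ) j).obj (FlatMod.freeMod _ n)
    let eA : A ≅ DCoh.toD _ (S b) :=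
      (((DerivedCategory.singleFunctors _).shiftIso (-b) b 0 (by omega)).app _) ≪≫ singleQ b _
    let eA1 : A⟦(1 : ℤ)⟧ ≅ DCoh.toD _ (S (b - 1)) :=
      ((shiftFunctorAdd' (DCoh.D _) (-b) (1 : ℤ) (-b + 1) rfl).app _).symm ≪≫
        (((DerivedCategory.singleFunctors _).shiftIso (-b + 1) (b - 1) 0 (by omega)).app _) ≪≫ singleQ (b - 1) _
    obtain ⟨M', v, δ, hT⟩ := distinguished_cocone_triangle φ
    let H := DerivedCategory.homologyFunctor (s ⁻¹ᵁ O : Scheme.{u}).Modules
    have hzA : ∀ i, i ≠ b → IsZero ((H i).obj A) := fun i hi =>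
      ((ShortComplex.isZero_homology_of_isZero_X₂ _
        (HomologicalComplex.isZero_single_obj_X (ComplexShape.up ℤ) b _ i hi)).of_iso
        ((DerivedCategory.homologyFunctorFactors _ i).app _)).of_iso ((H i).mapIso eA)
    have hz' : ∀ i, a + k ≤ i → IsZero ((H i).obj M') := fun i hi => by
      haveI : Epi ((H i).map v) :=
        (DerivedCategory.HomologySequence.exact₃ _ hT i (i + 1) rfl).epi_f
          ((hzA (i + 1) (by omega)).eq_of_tgt _ _)
      refine IsZero.of_epi_eq_zero ((H i).map v) ?_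
      rcases eq_or_lt_of_le hi with h | h
      · obtain rfl : b = i := h
        haveI := hφ.2
        refine (cancel_epi ((H b).map φ)).1 ?_
        rw [← Functor.map_comp]
        exact ((congrArg (H b).map (comp_distTriang_mor_zero₁₂ _ hT)).trans
          (Functor.map_zero _ _ _)).trans comp_zero.symm
      · exact (isZero_hd_rho _ (hz i (by omega))).eq_of_src _ _
    have hA : LocPC (a + 1) A := by
      have := (locPC_free (X := (s ⁻¹ᵁ O : Scheme.{u})) n (a + 1 - b)).shift (-b)
      rwa [show a + 1 - b - -b = a + 1 by omega] at this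
    have hM'pc : LocPC a M' := (locPC_two_of_three a _ hT).1 hA (hM.restrict _)
    have hrec := ih (s ∣_ O) G' hG' c d hc' hd' a m had (fun j hj => hm j (by omega)) M' hz' hM'pc
    obtain ⟨T', hT', ⟨e₁⟩, ⟨e₂⟩, ⟨e₃⟩⟩ := exists_ltensor_triangle G' _ hT
    obtain ⟨es⟩ := nonempty_ltensor_single_free G' hG' n (b - 1)
    have h3 : LocPC (m - 1) ((pushD (s ∣_ O)).obj T'.obj₃) := by
      have hcb := hm k (by omega)
      exact ((locPC_push_tensorSingle_free (s ∣_ O) G' c (b - 1) hc' n).mono (by omega)).of_iso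
        ((pushD (s ∣_ O)).mapIso (es.symm ≪≫ (DCoh.LTensorCx G').mapIso eA1.symm ≪≫ e₃.symm))
    have h2 : LocPC m ((pushD (s ∣_ O)).obj T'.obj₂) :=
      hrec.of_iso ((pushD (s ∣_ O)).mapIso e₂.symm)
    have hT'' := (pushD (s ∣_ O)).map_distinguished _ hT'
    have h1 := (locPC_two_of_three (m - 1) _ hT'').2.2 ((sub_add_cancel m 1).symm ▸ h2) h3
    rw [show m - 1 + 1 = m by omega] at h1
    exact h1.of_iso ((pushD (s ∣_ O)).mapIso (e₁ ≪≫ eN.symm))

/-- Direct images along closed immersions of tensor products. -/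
theorem locPC_push_ltensor (s : Z ⟶ W) [IsClosedImmersion s] (G : CochainComplex Z.Modules ℤ)
    [DCoh.HasLTensorCx G] (hG : DCoh.IsKFlat G) (c d : ℤ) (hc : LocPC c ((pushD s).obj (DCoh.toD Z G)))
    [(DCoh.toD Z G).IsLE d] (a b m : ℤ) (had : a + d ≤ m) (hbc : b + c ≤ m)
    (M : DCoh.D Z) [M.IsLE b] (hM : LocPC a M) :
    LocPC m ((pushD s).obj ((DCoh.LTensorCx G).obj M)) :=
  locPC_push_ltensor_bounded (b + 1 - a).toNat s G hG c d hc inferInstance a m had
    (fun j hj => by omega) M (fun i hi => (DerivedCategory.isLE_iff M b).1 inferInstance i (by omega)) hM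

end Groth.Agent.PushAmp
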