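import Groth.Agent.PushAmp.ChartAll
import Groth.Agent.FlatSyz5.PC
import Groth.Agent.QCoh.FlatOver
import Mathlib.RingTheory.Smooth.StandardSmooth

/-!
# Flat relatively finitely presented terms give relative pseudo-coherence
-/

set_option autoImplicit false
set_option linter.style.haveILetI false
set_option backward.isDefEq.respectTransparency false
set_option backward.isDefEq.respectTransparency.types false

universe u

open CategoryTheory CategoryTheory.Limits AlgebraicGeometry TopologicalSpace
  CategoryTheory.Pretriangulated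

attribute [local instance] HasDerivedCategory.standard

namespace Groth.Agent.PushAmp

open Groth.Agent.KFlatLib

/-- Pseudo-coherence from the terms. -/
theorem locPC_of_terms {W : Scheme.{u}} (n : ℤ) : ∀ (k : ℕ) (F : CochainComplex W.Modules ℤ),
    (∀ i : ℤ, n + k ≤ i → IsZero (F.X i)) →
    (∀ i : ℤ, n ≤ i → LocPC (n - i) ((DerivedCategory.singleFunctor W.Modules 0).obj (F.X i))) →
    LocPC n (DerivedCategory.Q.obj F)
  | 0, F, hb, _ => locPC_of_isZero_above fun i hi =>
      (ShortComplex.isZero_homology_of_isZero_X₂ (F.sc i) (hb i (by omega))).of_iso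
        ((DerivedCategory.homologyFunctorFactors W.Modules i).app F)
  | k + 1, F, hb, hfp => by
    let b := n + (k : ℤ)
    let S := (HomologicalComplex.single W.Modules (ComplexShape.up ℤ) b).obj (F.X b)
    let s : S ⟶ F := HomologicalComplex.mkHomFromSingle (𝟙 (F.X b)) fun i hi => by
      have hi' : b + 1 = i := hi
      exact (hb i (by omega)).eq_of_tgt _ _
    haveI hsm : ∀ i, Mono (s.f i) := fun i => by
      by_cases hi : i = b
      · subst hi
        simp only [s, HomologicalComplex.mkHomFromSingle_f]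
        infer_instance
      · exact ⟨fun u v _ => (HomologicalComplex.isZero_single_obj_X (ComplexShape.up ℤ) b (F.X b) i hi).eq_of_tgt u v⟩
    haveI : Mono s := HomologicalComplex.mono_of_mono_f s hsm
    let T := ShortComplex.mk s (cokernel.π s) (cokernel.condition s)
    have hT : T.ShortExact := { exact := ShortComplex.exact_of_g_is_cokernel _ (cokernelIsCokernel s) }
    have heq : ∀ i, ((T.map (HomologicalComplex.eval W.Modules (ComplexShape.up ℤ) i))).ShortExact :=
      fun i => hT.map_of_exact (HomologicalComplex.eval W.Modules (ComplexShape.up ℤ) i)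
    have hq : ∀ i, i ≠ b → IsIso ((cokernel.π s).f i) := fun i hi =>
      (heq i).isIso_g_iff.mpr (HomologicalComplex.isZero_single_obj_X (ComplexShape.up ℤ) b (F.X b) i hi)
    have hqb : IsZero ((cokernel s).X b) := by
      have he : IsIso (s.f b) := by
        simp only [s, HomologicalComplex.mkHomFromSingle_f]
        infer_instance
      exact (heq b).isIso_f_iff.mp he
    have h₁ : LocPC n (DerivedCategory.Q.obj S) := by
      have h := (hfp b (by omega)).shift (-b)
      rw [show n - b - -b = n by omega] at h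
      exact h.of_iso (((DerivedCategory.singleFunctors W.Modules).shiftIso (-b) b 0 (by omega)).app (F.X b) ≪≫
        singleQ b (F.X b))
    have h₃ : LocPC n (DerivedCategory.Q.obj (cokernel s)) := by
      refine locPC_of_terms n k (cokernel s) (fun i hi => ?_) fun i hi => ?_
      · by_cases hib : i = b
        · exact hib ▸ hqb
        · haveI := hq i hib
          exact (hb i (by omega)).of_iso (asIso ((cokernel.π s).f i)).symm
      · by_cases hib : i = b
        · subst hib
          exact locPC_of_isZero_above fun j _ =>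
            Functor.map_isZero _ (Functor.map_isZero _ hqb)
        · haveI := hq i hib
          exact (hfp i hi).of_iso
            ((DerivedCategory.singleFunctor W.Modules 0).mapIso (asIso ((cokernel.π s).f i)))
    exact (locPC_two_of_three n _ (DerivedCategory.triangleOfSES_distinguished hT)).2.1 h₁ h₃

variable {X Y : Scheme.{u}}

/-- The pushed module on a chart is the tilde of the sections. -/
theorem nonempty_push_chart_module {U : X.Opens} (hU : IsAffineOpen U) {P : Type u} [CommRing P]
    (φ : P →+* Γ(X, U)) {F : X.Modules} (hF : Coh.IsQCoh F) :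
    letI : Module P Γ(F, U) := Module.compHom _ φ
    Nonempty ((Scheme.Modules.pushforward (imm U φ)).obj
        ((Scheme.Modules.restrictFunctor U.ι).obj F) ≅
      (tilde.functor (CommRingCat.of P)).obj (ModuleCat.of P Γ(F, U))) := by
  letI : Module P Γ(F, U) := Module.compHom _ φ
  haveI : IsIso U.toSpecΓ := by rw [← hU.isoSpec_hom]; infer_instance
  let N := (Scheme.Modules.pushforward U.toSpecΓ).obj ((Scheme.Modules.restrictFunctor U.ι).obj F)
  have hN : Coh.IsQCoh N := QCoh.isQCoh_pushforward _ (QCoh.isQCoh_restrict _ hF)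
  haveI : IsIso N.fromTildeΓ := (isQuasicoherent_iff_isIso_fromTildeΓ N).1 hN
  let L : ModuleCat.{u} Γ(X, U) := (moduleSpecΓFunctor (R := Γ(X, U))).obj N
  have h1 : U.ι ''ᵁ (⊤ : U.toScheme.Opens) ≤ U := U.ι_image_le ⊤
  have h2 : U ≤ U.ι ''ᵁ (⊤ : U.toScheme.Opens) := U.ι_image_top.ge
  let e : Γ(F, U) ≃ₗ[P] (ModuleCat.restrictScalars (CommRingCat.ofHom φ).hom).obj L :=
    { toFun := fun z => AModX.res F h1 z
      invFun := fun z => AModX.res F h2 (show Γ(F, U.ι ''ᵁ (⊤ : U.toScheme.Opens)) from z)
      left_inv := fun z => (AModX.res_res h1 h2 _).trans (AModX.res_self _)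
      right_inv := fun z => (AModX.res_res h2 h1 _).trans (AModX.res_self _)
      map_add' := fun a b => map_add _ _ _
      map_smul' := fun p z => by
        show AModX.res F h1 (φ p • z) = _
        rw [AModX.res_smul]
        refine congrArg (fun c : Γ(X, U.ι ''ᵁ (⊤ : U.toScheme.Opens)) => c • AModX.res F h1 z) ?_
        symm
        simp [Scheme.Opens.ι_appIso, AModX.resR]
        show U.toSpecΓ.appTop ((Scheme.ΓSpecIso Γ(X, U)).inv (φ p)) = _
        rw [Scheme.Opens.toSpecΓ_appTop]
        simp only [CommRingCat.comp_apply]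
        erw [Iso.inv_hom_id_apply (Scheme.ΓSpecIso Γ(X, U))]
        rfl }
  exact ⟨((Scheme.Modules.pushforwardComp U.toSpecΓ (Spec.map (CommRingCat.ofHom φ))).app _).symm ≪≫
    (Scheme.Modules.pushforward (Spec.map (CommRingCat.ofHom φ))).mapIso (asIso N.fromTildeΓ).symm ≪≫
    (pushTildeIso (CommRingCat.ofHom φ)).app L ≪≫
    (tilde.functor (CommRingCat.of P)).mapIso e.symm.toModuleIso⟩

/-- The test for a quasi-coherent module on a chart. -/
theorem cpc_single_iff {m : ℤ} {U : X.Opens} (hU : IsAffineOpen U) {P : Type u} [CommRing P]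
    (φ : P →+* Γ(X, U)) (hφ : Function.Surjective φ) {F : X.Modules} (hF : Coh.IsQCoh F) :
    CPC m ((DerivedCategory.singleFunctor X.Modules 0).obj F) U φ ↔
      (letI : Module P Γ(F, U) := Module.compHom _ φ; DRing.IsPseudoCoherentModule P m Γ(F, U)) := by
  letI : Module P Γ(F, U) := Module.compHom _ φ
  haveI := isClosedImmersion_imm hU φ hφ
  let R := CommRingCat.of P
  haveI : PreservesFiniteLimits (tilde.functor R) := Groth.Agent.QCoh.tilde_preservesFiniteLimits
  haveI : (tilde.functor R).Additive := tilde_additive R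
  haveI : PreservesFiniteColimits (tilde.functor R) := Groth.Agent.QCoh.tilde_preservesFiniteColimits
  let M : ModuleCat.{u} R := ModuleCat.of P Γ(F, U)
  obtain ⟨eM⟩ := nonempty_push_chart_module hU φ hF
  let κ : (pushD (imm U φ)).obj ((rho U.ι).obj ((DerivedCategory.singleFunctor X.Modules 0).obj F)) ≅
      (DCoh.tildeD R).obj ((DerivedCategory.singleFunctor (ModuleCat.{u} R) 0).obj M) :=
    (pushD (imm U φ)).mapIso (((Scheme.Modules.restrictFunctor U.ι).mapDerivedCategorySingleFunctor 0).app F) ≪≫
      ((Scheme.Modules.pushforward (imm U φ)).mapDerivedCategorySingleFunctor 0).app _ ≪≫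
      (DerivedCategory.singleFunctor (Spec R).Modules 0).mapIso eM ≪≫
      singleQ 0 _ ≪≫ DerivedCategory.Q.mapIso
        ((HomologicalComplex.singleMapHomologicalComplex (tilde.functor R) (ComplexShape.up ℤ) 0).app M).symm ≪≫
      (toDTildeIso ((HomologicalComplex.single (ModuleCat.{u} R) (ComplexShape.up ℤ) 0).obj M)).symm ≪≫
      (DCoh.tildeD R).mapIso (singleQ 0 M).symm
  have hRPC : RPC (R := R) m ((DerivedCategory.singleFunctor (ModuleCat.{u} R) 0).obj M) ↔
      DRing.IsPseudoCoherentModule P m Γ(F, U) := by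
    constructor
    · rintro ⟨E, α, ⟨⟨a, b, hz⟩, hf⟩, hα⟩
      exact ⟨E, a, b, α, hz, hf, hα.1, hα.2⟩
    · rintro ⟨E, a, b, α, hz, hf, hi, he⟩
      exact ⟨E, α, ⟨⟨a, b, hz⟩, hf⟩, hi, he⟩
  rw [cpc_iff, ← hRPC, ← pseudoCoherentD_tildeD_iff, isPseudoCoherentD_iff]
  exact ⟨fun h => h.of_iso κ, fun h => h.of_iso κ.symm⟩

variable (f : X ⟶ Y)

/-- Relatively finitely presented modules are quasi-coherent. -/
theorem isQCoh_of_relPC_single {F : X.Modules}
    (h : DerSch.IsPseudoCoherentRel f (-1) ((DerivedCategory.singleFunctor X.Modules 0).obj F)) : Coh.IsQCoh F :=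
  isQCoh_of_iso ((DerivedCategory.singleFunctorCompHomologyFunctorIso X.Modules 0).app F)
    (isQCoh_hd_of_relPC f h 0 (by omega))

/-- A flat relatively finitely presented module is pseudo-coherent on every chart. -/
theorem cpc_flat_single {F : X.Modules} (hfl : FlatMod.IsFlatOver f F)
    (hfp : DerSch.IsPseudoCoherentRel f (-1) ((DerivedCategory.singleFunctor X.Modules 0).obj F))
    {V : Y.Opens} (hV : IsAffineOpen V) {U : X.Opens} (hU : IsAffineOpen U) (h : U ≤ f ⁻¹ᵁ V) {n : ℕ}
    (φ : MvPolynomial (Fin n) Γ(Y, V) →+* Γ(X, U)) (hφ : DerSch.IsChart f U V h φ) (m : ℤ) :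
    CPC m ((DerivedCategory.singleFunctor X.Modules 0).obj F) U φ := by
  have hF := isQCoh_of_relPC_single f hfp
  let A := Γ(Y, V)
  let P := MvPolynomial (Fin n) A
  letI : Module P Γ(F, U) := Module.compHom _ φ
  letI : Module A Γ(F, U) := Module.compHom _ (f.appLE V U h).hom
  haveI : IsScalarTower A P Γ(F, U) := IsScalarTower.of_algebraMap_smul fun a z => by
    show φ (MvPolynomial.C a) • z = (f.appLE V U h).hom a • z
    rw [← RingHom.comp_apply, hφ.2]
  haveI : Module.Flat A Γ(F, U) := (QCoh.flat_appLE_iff f hF hU hV h).2 fun x _ => hfl x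
  have hpc := (cpc_single_iff hU φ hφ.1 hF).1 (relPC_cpc f hfp hV hU h φ hφ)
  haveI := Groth.Agent.H9Misc.DRingPC.finitePresentation_of_pc hpc
  refine (cpc_single_iff hU φ hφ.1 hF).2 ?_
  exact (Groth.Agent.H9Misc.DRingPC.pc'_iff _).1 (FlatSyz5.pc' A P Γ(F, U)) m

/-- A bounded above complex of flat relatively finitely presented modules is relatively pseudo-coherent. -/
theorem relPCAll_of_flat_terms [LocallyOfFiniteType f] (E : CochainComplex X.Modules ℤ) (b : ℤ)
    (hb : ∀ i : ℤ, b < i → IsZero (E.X i)) (hfl : ∀ i, FlatMod.IsFlatOver f (E.X i))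
    (hfp : ∀ i, DerSch.IsPseudoCoherentRel f (-1) ((DerivedCategory.singleFunctor X.Modules 0).obj (E.X i))) :
    DerSch.IsPseudoCoherentRelAll f (DCoh.toD X E) := fun m => by
  refine relPC_of_cpc f fun {V} hV {U} hU h {n} φ hφ => ?_
  haveI := isClosedImmersion_imm hU φ hφ.1
  refine (cpc_iff φ).2 (LocPC.of_iso ((pushD (imm U φ)).mapIso ((rhoQ U.ι).app E) ≪≫
    (pushDQ (imm U φ)).app _).symm ?_)
  refine locPC_of_terms m (b + 1 - m).toNat _ (fun i hi => ?_) fun i _ => ?_
  · exact (Scheme.Modules.pushforward (imm U φ)).map_isZero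
      ((Scheme.Modules.restrictFunctor U.ι).map_isZero (hb i (by omega)))
  · exact ((cpc_iff φ).1 (cpc_flat_single f (hfl i) (hfp i) hV hU h φ hφ (m - i))).of_iso
      ((pushD (imm U φ)).mapIso (((Scheme.Modules.restrictFunctor U.ι).mapDerivedCategorySingleFunctor 0).app (E.X i)) ≪≫
        ((Scheme.Modules.pushforward (imm U φ)).mapDerivedCategorySingleFunctor 0).app _)

end Groth.Agent.PushAmp
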