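import Groth.Agent.PushAmp.PushTensor
import Groth.Agent.PushAmp.ClosedBaseChange
import Groth.Agent.PushAmp.ChartTower
import Groth.Agent.KFlatLib.Scheme.ProjClosed
import Groth.Agent.PPSheaf.FlatPr

/-!
# Relative pseudo-coherence of tensor products in a tower
-/

set_option autoImplicit false
set_option linter.style.haveILetI false
set_option backward.isDefEq.respectTransparency false
set_option backward.isDefEq.respectTransparency.types false

universe u

open CategoryTheory CategoryTheory.Limits AlgebraicGeometry TopologicalSpace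

attribute [local instance] HasDerivedCategory.standard MvPolynomial.algebraMvPolynomial

namespace Groth.Agent.PushAmp

open Groth.Agent.KFlatLib Groth.Agent.H9Misc.DRingRelPC

/-- Flat termwise pullback keeps pseudo-coherence. -/
theorem locPC_pullCx_of_flat {T' S' : Scheme.{u}} (q : T' ⟶ S') [Flat q] (P : CochainComplex S'.Modules ℤ)
    {c : ℤ} (h : LocPC c (DCoh.toD S' P)) : LocPC c (DCoh.toD T' ((pullCx q).obj P)) := by
  haveI := Groth.Agent.PPSheaf.preservesFiniteLimits_pullback q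
  haveI := KFlatLib.hasLpull q
  let F := Scheme.Modules.pullback q
  obtain ⟨R, hR, ⟨eR⟩⟩ := exists_kFlat_rep (DCoh.toD S' P)
  exact ((isPseudoCoherentD_iff c _).1 (isPseudoCoherentD_lpull q ((isPseudoCoherentD_iff c _).2 h))).of_iso
    ((DCoh.Lpull q).mapIso eR.symm ≪≫ lpullIso q hR ≪≫ (F.mapDerivedCategoryFactors.app R).symm ≪≫
      F.mapDerivedCategory.mapIso eR ≪≫ F.mapDerivedCategoryFactors.app P)

/-- Flat termwise pullback keeps upper bounds. -/
theorem isLE_pullCx_of_flat {T Y : Scheme.{u}} (π : T ⟶ Y) [Flat π] (R : CochainComplex Y.Modules ℤ)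
    (d : ℤ) [(DCoh.toD Y R).IsLE d] : (DCoh.toD T ((pullCx π).obj R)).IsLE d := by
  haveI := Groth.Agent.PPSheaf.preservesFiniteLimits_pullback π
  refine (DerivedCategory.isLE_iff _ d).2 fun i hi => ?_
  have h : IsZero (R.homology i) := ((DerivedCategory.isLE_iff _ d).1 ‹(DCoh.toD Y R).IsLE d› i hi).of_iso
    ((DerivedCategory.homologyFunctorFactors _ i).app R).symm
  exact (Functor.map_isZero (Scheme.Modules.pullback π) h).of_iso
    ((DerivedCategory.homologyFunctorFactors _ i).app _ ≪≫ (R.sc i).mapHomologyIso _)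

/-- The projection formula along a closed immersion, on representatives. -/
theorem nonempty_pushD_ltensor {U T : Scheme.{u}} (i : U ⟶ T) [IsClosedImmersion i]
    (G : CochainComplex T.Modules ℤ) (hG : DCoh.IsKFlat G) [DCoh.HasLTensorCx G]
    [DCoh.HasLTensorCx ((pullCx i).obj G)] (L : CochainComplex U.Modules ℤ) :
    Nonempty ((pushD i).obj ((DCoh.LTensorCx ((pullCx i).obj G)).obj (DCoh.toD U L)) ≅
      (DCoh.LTensorCx G).obj ((pushD i).obj (DCoh.toD U L))) := by
  obtain ⟨ψ⟩ := nonempty_projCxIso i L G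
  haveI := isIso_LTensorCx_counit_of_isKFlat_right G hG ((mapCx (Scheme.Modules.pushforward i)).obj L)
  haveI := isIso_LTensorCx_counit_of_isKFlat_right ((pullCx i).obj G) (isKFlat_pullback i hG) L
  exact ⟨(pushD i).mapIso (asIso (((DCoh.tensorCxQ ((pullCx i).obj G)).totalLeftDerivedCounit
      DerivedCategory.Q (qisX U)).app L)) ≪≫ (pushDQ i).app _ ≪≫ DerivedCategory.Q.mapIso ψ.symm ≪≫
    (asIso (((DCoh.tensorCxQ G).totalLeftDerivedCounit DerivedCategory.Q (qisX T)).app _)).symm ≪≫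
    (DCoh.LTensorCx G).mapIso ((pushDQ i).app L).symm⟩

/-- Adding variables is a base change. -/
theorem isPullback_spec_map {P B : Type u} [CommRing P] [CommRing B] (ψ : P →+* B) (p : ℕ) :
    IsPullback (Spec.map (CommRingCat.ofHom (MvPolynomial.C (σ := Fin p) (R := B))))
      (Spec.map (CommRingCat.ofHom (MvPolynomial.map (σ := Fin p) ψ)))
      (Spec.map (CommRingCat.ofHom ψ))
      (Spec.map (CommRingCat.ofHom (MvPolynomial.C (σ := Fin p) (R := P)))) := by
  letI := ψ.toAlgebra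
  haveI : IsScalarTower P (MvPolynomial (Fin p) P) (MvPolynomial (Fin p) B) :=
    .of_algebraMap_eq fun a => (MvPolynomial.map_C _ a).symm
  haveI : Algebra.IsPushout P B (MvPolynomial (Fin p) P) (MvPolynomial (Fin p) B) := inferInstance
  exact isPullback_SpecMap_of_isPushout _ _ _ _
    (CommRingCat.isPushout_iff_isPushout.2 (inferInstance :
      Algebra.IsPushout P B (MvPolynomial (Fin p) P) (MvPolynomial (Fin p) B)))

/-- Relative pseudo-coherence of `Lf^* F ⊗ E` in a tower. -/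
theorem relPC_ltensor_lpull {X Y Z : Scheme.{u}} (f : X ⟶ Y) (g : Y ⟶ Z) [LocallyOfFiniteType f]
    [LocallyOfFiniteType g] (a b c d m : ℤ) (had : a + d ≤ m) (hbc : b + c ≤ m)
    (E : CochainComplex X.Modules ℤ) (hE : DerSch.IsPseudoCoherentRel f a (DCoh.toD X E))
    [(DCoh.toD X E).IsLE b] (F : DCoh.D Y) (hF : DerSch.IsPseudoCoherentRel g c F) [F.IsLE d]
    [DCoh.HasLpull f] [DCoh.HasLTensorCx E] :
    DerSch.IsPseudoCoherentRel (f ≫ g) m ((DCoh.LTensorCx E).obj ((DCoh.Lpull f).obj F)) := by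
  refine relPC_of_local _ fun x => ?_
  obtain ⟨W, hW, hxW, -⟩ :=
    exists_isAffineOpen_mem_and_subset (x := g.base (f.base x)) (U := (⊤ : Z.Opens)) trivial
  obtain ⟨V, hV, hxV, hVW⟩ := exists_isAffineOpen_mem_and_subset (x := f.base x) (U := g ⁻¹ᵁ W) hxW
  obtain ⟨U, hU, hxU, hUV⟩ := exists_isAffineOpen_mem_and_subset (x := x) (U := f ⁻¹ᵁ V) hxV
  obtain ⟨n, ψ, hψ⟩ := exists_chart g hW hV hVW
  obtain ⟨p, φ, hφ⟩ := exists_chart f hV hU hUV
  let χ := MvPolynomial.map (σ := Fin p) ψ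
  have hχ : Function.Surjective χ := MvPolynomial.map_surjective ψ hψ.1
  haveI := isClosedImmersion_imm hU φ hφ.1
  haveI := isClosedImmersion_imm hU (φ.comp χ) (hφ.1.comp hχ)
  haveI := isClosedImmersion_imm hV ψ hψ.1
  haveI : IsClosedImmersion (Spec.map (CommRingCat.ofHom χ)) :=
    IsClosedImmersion.spec_of_surjective (CommRingCat.ofHom χ) hχ
  let P := MvPolynomial (Fin n) Γ(Z, W)
  let q := Spec.map (CommRingCat.ofHom (MvPolynomial.C (σ := Fin p) (R := P)))
  let q0 := Spec.map (CommRingCat.ofHom (MvPolynomial.C (σ := Fin p) (R := Γ(Y, V))))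
  let s := Spec.map (CommRingCat.ofHom χ)
  let q' := q0 ≫ hV.isoSpec.inv
  haveI : Flat q := (HasRingHomProperty.Spec_iff (P := @Flat)).2
    (RingHom.flat_algebraMap_iff.2 (inferInstance : Module.Flat P (MvPolynomial (Fin p) P)))
  haveI : Flat q0 := (HasRingHomProperty.Spec_iff (P := @Flat)).2
    (RingHom.flat_algebraMap_iff.2 (inferInstance : Module.Flat Γ(Y, V) (MvPolynomial (Fin p) Γ(Y, V))))
  haveI : Flat q' := inferInstance
  have htS : V.toSpecΓ = hV.isoSpec.hom := (hV.isoSpec_hom).symm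
  have sq : IsPullback q' s (imm V ψ) q := by
    refine (isPullback_spec_map ψ p).of_iso (Iso.refl _) hV.isoSpec.symm (Iso.refl _) (Iso.refl _)
      (by simp [q', q0]) (by simp [s, χ]) ?_ (by simp [q, P])
    simp [imm, htS]
  let π := q' ≫ V.ι
  haveI : Flat π := inferInstance
  let R := repK F
  have hR : DCoh.IsKFlat R := isKFlat_repK F
  let eR : DCoh.toD Y R ≅ F := repKIso F
  let G := (pullCx π).obj R
  have hG : DCoh.IsKFlat G := isKFlat_pullback π hR
  haveI : (DCoh.toD Y R).IsLE d := (DerivedCategory.isLE_iff _ d).2 fun i hi =>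
    ((DerivedCategory.isLE_iff F d).1 inferInstance i hi).of_iso
      ((DerivedCategory.homologyFunctor _ i).mapIso eR)
  haveI : (DCoh.toD _ G).IsLE d := isLE_pullCx_of_flat π R d
  let RV := (pullCx V.ι).obj R
  let eRV : DCoh.toD _ RV ≅ (rho V.ι).obj F :=
    DerivedCategory.Q.mapIso ((restrictPullCxIso V.ι).app R).symm ≪≫ ((rhoQ V.ι).app R).symm ≪≫
      (rho V.ι).mapIso eR
  have h0 : LocPC c (DCoh.toD _ ((DerSch.pushCx (imm V ψ)).obj RV)) :=
    ((cpc_iff ψ).1 (relPC_cpc g hF hW hV hVW ψ hψ)).of_iso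
      ((pushD (imm V ψ)).mapIso eRV.symm ≪≫ (pushDQ (imm V ψ)).app RV)
  obtain ⟨bc⟩ := nonempty_pullback_push_closed (imm V ψ) q q' s sq
  let eG : (pullCx q).obj ((DerSch.pushCx (imm V ψ)).obj RV) ≅ (DerSch.pushCx s).obj G :=
    HomologicalComplex.Hom.isoOfComponents (C₁ := (pullCx q).obj ((DerSch.pushCx (imm V ψ)).obj RV))
        (C₂ := (DerSch.pushCx s).obj ((pullCx q').obj RV)) (fun k => bc.app (RV.X k))
        (fun k l _ => (bc.hom.naturality (RV.d k l)).symm) ≪≫
      (DerSch.pushCx s).mapIso ((pullCxCompIso q' V.ι).app R)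
  have hc : LocPC c ((pushD s).obj (DCoh.toD _ G)) :=
    (locPC_pullCx_of_flat q _ h0).of_iso (DerivedCategory.Q.mapIso eG ≪≫ ((pushDQ s).app G).symm)
  let i := imm U φ
  let L := (rCx U.ι).obj E
  haveI := hasLTensorCx L
  haveI := hasLTensorCx G
  haveI := hasLTensorCx ((pullCx i).obj G)
  let eL : DCoh.toD _ L ≅ (rho U.ι).obj (DCoh.toD X E) := ((rhoQ U.ι).app E).symm
  let M := (pushD i).obj (DCoh.toD _ L)
  have hM : LocPC a M :=
    ((cpc_iff φ).1 (relPC_cpc f hE hV hU hUV φ hφ)).of_iso ((pushD i).mapIso eL.symm)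
  haveI : M.IsLE b := (DerivedCategory.isLE_iff M b).2 fun k hk => by
    obtain ⟨e'⟩ := nonempty_hd_pushD i (DCoh.toD _ L) k
    exact (Functor.map_isZero _ ((isZero_hd_rho U.ι
      ((DerivedCategory.isLE_iff (DCoh.toD X E) b).1 inferInstance k hk)).of_iso
        ((DerivedCategory.homologyFunctor _ k).mapIso eL))).of_iso e'
  have key : LocPC m ((pushD s).obj ((DCoh.LTensorCx G).obj M)) :=
    locPC_push_ltensor s G hG c d hc a b m had hbc M hM
  have hi : i ≫ π = U.ι ≫ f := by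
    have h1 : CommRingCat.ofHom (MvPolynomial.C (σ := Fin p) (R := Γ(Y, V))) ≫ CommRingCat.ofHom φ =
        f.appLE V U hUV := CommRingCat.hom_ext hφ.2
    show (U.toSpecΓ ≫ Spec.map (CommRingCat.ofHom φ)) ≫ (q0 ≫ hV.isoSpec.inv) ≫ V.ι = _
    rw [Category.assoc q0, IsAffineOpen.isoSpec_inv_ι, Category.assoc, ← Category.assoc (Spec.map _) q0,
      ← Spec.map_comp, h1, IsAffineOpen.SpecMap_appLE_fromSpec f hV hU hUV, ← Category.assoc,
      ← hU.isoSpec_hom, ← IsAffineOpen.isoSpec_inv_ι, Iso.hom_inv_id_assoc]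
  let k1 : (rho U.ι).obj ((DCoh.Lpull f).obj F) ≅ DCoh.toD _ ((pullCx i).obj G) :=
    (rho U.ι).mapIso ((DCoh.Lpull f).mapIso eR.symm ≪≫ lpullIso f hR) ≪≫ (rhoQ U.ι).app _ ≪≫
      DerivedCategory.Q.mapIso ((restrictPullCxIso U.ι).app _ ≪≫ (pullCxCompIso U.ι f).app R ≪≫
        eqToIso (by rw [hi]) ≪≫ ((pullCxCompIso i π).app R).symm)
  obtain ⟨t1⟩ := nonempty_rho_ltensor U.ι E ((DCoh.Lpull f).obj F) L eL
  obtain ⟨t2⟩ := nonempty_ltensor_comm L ((pullCx i).obj G)
  obtain ⟨t3⟩ := nonempty_pushD_ltensor i G hG L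
  let k2 : (pushD i).obj ((rho U.ι).obj ((DCoh.LTensorCx E).obj ((DCoh.Lpull f).obj F))) ≅
      (DCoh.LTensorCx G).obj M :=
    (pushD i).mapIso (t1 ≪≫ (DCoh.LTensorCx L).mapIso k1 ≪≫ t2) ≪≫ t3
  have e : i ≫ s = imm U (φ.comp χ) := by
    rw [Category.assoc, ← Spec.map_comp]; rfl
  have hC : ∀ r, (φ.comp χ) (MvPolynomial.C (MvPolynomial.C r)) =
      (f ≫ g).appLE W U (fun _ hz => hVW (hUV hz)) r := fun r => by
    show φ (MvPolynomial.map ψ (MvPolynomial.C (MvPolynomial.C r))) = _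
    rw [MvPolynomial.map_C, ← RingHom.comp_apply φ, hφ.2, ← RingHom.comp_apply ψ, hψ.2,
      ← CommRingCat.comp_apply, Scheme.Hom.appLE_comp_appLE]
  exact ⟨⟨W, hW⟩, ⟨U, hU⟩, fun _ hz => hVW (hUV hz), hxU,
    CPA.of_nested hU (φ.comp χ) (hφ.1.comp hχ) hC ((cpc_iff _).2
      ((key.of_iso ((pushD s).mapIso k2.symm)).of_iso (pushDComp i s _ e _)))⟩

end Groth.Agent.PushAmp
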