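import Groth.Agent.PushAmp.RelPCBaseChangeAll
import Groth.Agent.PushAmp.RelPCFinite
import Groth.Agent.KFlatLib.Scheme.QCohDerived
import Groth.Agent.S12089
import Groth.Agent.S12088
import Groth.Agent.S7198

/-!
# Descent of relative pseudo-coherence along flat morphisms of finite presentation
-/

set_option autoImplicit false
set_option linter.style.haveILetI false
set_option backward.isDefEq.respectTransparency false
set_option backward.isDefEq.respectTransparency.types false

universe u v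

open CategoryTheory CategoryTheory.Limits AlgebraicGeometry TopologicalSpace Pretriangulated

attribute [local instance] HasDerivedCategory.standard

namespace Groth.Agent.PushAmp

open Groth.Agent.KFlatLib Groth.Agent.H9Misc

/-- Retracts of pseudo-coherent objects. -/
theorem pc_of_retract {A : Type u} [CommRing A] {m : ℤ} {K L : Dual.D A} (h : Retract K L)
    (hL : DRing.IsPseudoCoherent A m L) : DRing.IsPseudoCoherent A m K := by
  obtain ⟨C, g, δ, hT⟩ := distinguished_cocone_triangle h.i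
  have hz : δ = 0 := by
    haveI : Mono h.i := (SplitMono.mk h.r h.retract).mono
    rw [← cancel_mono (h.i⟦(1 : ℤ)⟧'), zero_comp]
    exact comp_distTriang_mor_zero₃₁ _ hT
  obtain ⟨e, -⟩ := exists_iso_binaryBiproduct_of_distTriang _ hT hz
  exact (DRingPC.summand (DRingPC.of_iso e hL)).1

/-- A faithfully flat finite projective algebra has a unital functional. -/
theorem exists_functional (B W : Type u) [CommRing B] [CommRing W] [Algebra B W] [Module.Finite B W]
    [Module.Projective B W] [Module.FaithfullyFlat B W] : ∃ σ : W →ₗ[B] B, σ 1 = 1 := by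
  obtain ⟨n, π, hπ⟩ := Module.Finite.exists_fin' B W
  obtain ⟨s, hs⟩ := Module.projective_lifting_property π LinearMap.id hπ
  let I : Ideal B := LinearMap.range (LinearMap.applyₗ (R := B) (M₂ := B) (1 : W))
  suffices hI : I = ⊤ by
    obtain ⟨σ, hσ⟩ := (hI ▸ Submodule.mem_top : (1 : B) ∈ I)
    exact ⟨σ, hσ⟩
  by_contra hI
  obtain ⟨p, hp, hIp⟩ := Ideal.exists_le_maximal I hI
  refine hp.ne_top ?_
  rw [← Ideal.comap_map_eq_self_of_faithfullyFlat (B := W) p]
  refine (Ideal.eq_top_iff_one _).2 ?_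
  show algebraMap B W 1 ∈ p.map (algebraMap B W)
  rw [map_one, show (1 : W) = π (∑ k, Pi.single k (s 1 k)) by
    rw [Finset.univ_sum_single]; exact (LinearMap.congr_fun hs 1).symm, map_sum]
  refine Ideal.sum_mem _ fun k _ => ?_
  rw [show (Pi.single k (s 1 k) : Fin n → B) = s 1 k • Pi.single k 1 by
    rw [← Pi.single_smul', smul_eq_mul, mul_one], map_smul, Algebra.smul_def]
  exact Ideal.mul_mem_right _ _ (Ideal.mem_map_of_mem _ (hIp ⟨(LinearMap.proj k).comp s, rfl⟩))

/-- A complex is a retract of its base change along an algebra with a unital functional. -/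
theorem nonempty_retract_extend {B W : Type u} [CommRing B] [CommRing W] (d : B →+* W)
    (σ : letI := d.toAlgebra; W →ₗ[B] B) (hσ : σ 1 = 1) (Mc : DRing.Cx B) :
    Nonempty (Retract Mc ((DRing.restrictCx d).obj
      (((ModuleCat.extendScalars.{u, u, u} d).mapHomologicalComplex (ComplexShape.up ℤ)).obj Mc))) := by
  letI := d.toAlgebra
  let η := (ModuleCat.extendRestrictScalarsAdj d).unit
  let r (M : ModuleCat.{u} B) : (ModuleCat.restrictScalars d).obj ((ModuleCat.extendScalars.{u, u, u} d).obj M) ⟶ M :=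
    ModuleCat.ofHom (X := (ModuleCat.restrictScalars d).obj ((ModuleCat.extendScalars.{u, u, u} d).obj M))
      { toFun := fun x => (TensorProduct.lid B M) (σ.rTensor M (show TensorProduct B W M from x))
        map_add' := fun x y => by simp
        map_smul' := fun b x => by
          change (TensorProduct.lid B M) (σ.rTensor M (d b • (show TensorProduct B W M from x))) = _
          rw [show d b = algebraMap B W b from rfl, algebraMap_smul, map_smul, map_smul]
          rfl }
  have hr : ∀ M, η.app M ≫ r M = 𝟙 M := fun M => by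
    ext x
    show (TensorProduct.lid B M) (σ.rTensor M ((1 : W) ⊗ₜ[B] x)) = x
    simp [hσ]
  have hn : ∀ {M N : ModuleCat.{u} B} (φ : M ⟶ N),
      (ModuleCat.restrictScalars d).map ((ModuleCat.extendScalars.{u, u, u} d).map φ) ≫ r N = r M ≫ φ := fun {M N} φ => by
    ext x
    induction (show TensorProduct B W M from x) using TensorProduct.induction_on with
    | zero => exact (map_zero _).trans (map_zero _).symm
    | tmul w m =>
      show (TensorProduct.lid B N) (σ.rTensor N (w ⊗ₜ[B] φ.hom m)) = φ.hom ((TensorProduct.lid B M) (σ.rTensor M (w ⊗ₜ[B] m)))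
      simp
    | add a b ha hb => exact ((map_add _ a b).trans (congrArg₂ (· + ·) ha hb)).trans (map_add _ a b).symm
  exact ⟨{ i := { f := fun k => η.app (Mc.X k), comm' := fun a b _ => (η.naturality (Mc.d a b)).symm }
           r := { f := fun k => r (Mc.X k), comm' := fun a b _ => (hn (Mc.d a b)).symm }
           retract := HomologicalComplex.hom_ext _ _ fun k => hr (Mc.X k) }⟩

variable {X X' S : Scheme.{u}}

/-- Descent along a finite locally free surjection. -/
theorem relPC_descent_finite (π : X' ⟶ X) [IsFinite π] [Flat π] [LocallyOfFinitePresentation π] [Surjective π]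
    (p : X ⟶ S) [LocallyOfFiniteType p] [DCoh.HasLpull π] {m : ℤ} {E : DCoh.D X} (hq : DCoh.IsQCohD E)
    (h : DerSch.IsPseudoCoherentRel (π ≫ p) m ((DCoh.Lpull π).obj E)) :
    DerSch.IsPseudoCoherentRel p m E := by
  haveI := KFlatLib.hasRpush_scheme π
  have h' := (relPC_rpush_finite_iff (π ≫ p) p π rfl m _ (isQCohD_lpull π hq)).1 h
  refine relPC_of_cpc p fun {V} hV {U} hU hle {n} φ hφ => ?_
  obtain ⟨M₀, ⟨e₀⟩⟩ := exists_module_rep hq hU
  obtain ⟨Mc, hMc, -, ⟨eMc⟩⟩ := DRingLTensor.exists_rep (DRing.toD M₀)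
  have eM : DCoh.toD (Spec Γ(X, U))
      (((tilde.functor Γ(X, U)).mapHomologicalComplex (ComplexShape.up ℤ)).obj Mc) ≅
      (rho hU.isoSpec.inv).obj ((rho U.ι).obj E) := by
    haveI : PreservesFiniteLimits (tilde.functor Γ(X, U)) := Groth.Agent.QCoh.tilde_preservesFiniteLimits
    haveI : (tilde.functor Γ(X, U)).Additive := tilde_additive _
    haveI : PreservesFiniteColimits (tilde.functor Γ(X, U)) := Groth.Agent.QCoh.tilde_preservesFiniteColimits
    exact (toDTildeIso Mc).symm ≪≫ (DCoh.tildeD _).mapIso eMc ≪≫ toDTildeIso M₀ ≪≫ e₀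
  obtain ⟨eM'⟩ := nonempty_module_rep_lpull π E hU (hU.preimage π) le_rfl Mc hMc eM
  obtain ⟨eN⟩ := nonempty_rpush_module_rep π hU _ eM'
  have h'' := (cpc_module_iff hU φ hφ.1 _ eN).1 (relPC_cpc p h' hV hU hle φ hφ)
  refine (cpc_module_iff hU φ hφ.1 Mc eM).2 ?_
  let d := π.appLE U (π ⁻¹ᵁ U) le_rfl
  letI := d.hom.toAlgebra
  haveI : Module.Finite Γ(X, U) Γ(X', π ⁻¹ᵁ U) := by
    have := π.finite_app U hU
    rw [Scheme.Hom.app_eq_appLE] at this
    exact this
  haveI : Module.Flat Γ(X, U) Γ(X', π ⁻¹ᵁ U) := π.flat_appLE hU (hU.preimage π) le_rfl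
  haveI : Algebra.FinitePresentation Γ(X, U) Γ(X', π ⁻¹ᵁ U) := π.finitePresentation_appLE hU (hU.preimage π) le_rfl
  haveI : Module.FinitePresentation Γ(X, U) Γ(X', π ⁻¹ᵁ U) := Module.FinitePresentation.of_finite_of_finitePresentation _ _
  haveI : Module.Projective Γ(X, U) Γ(X', π ⁻¹ᵁ U) := Module.Flat.projective_of_finitePresentation
  haveI : Module.FaithfullyFlat Γ(X, U) Γ(X', π ⁻¹ᵁ U) := by
    haveI : IsAffine U.toScheme := hU
    haveI : IsAffine (π ⁻¹ᵁ U).toScheme := hU.preimage π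
    have hsj : Surjective (π.resLE U (π ⁻¹ᵁ U) le_rfl) := by
      rw [Scheme.Hom.resLE_eq_morphismRestrict]
      exact MorphismProperty.of_isPullback (P := @Surjective) (isPullback_morphismRestrict π U).flip inferInstance
    have hfl : Flat (π.resLE U (π ⁻¹ᵁ U) le_rfl) := by
      dsimp only [Scheme.Hom.resLE]
      infer_instance
    haveI : (RingHom.toMorphismProperty RingHom.FaithfullyFlat).RespectsIso :=
      RingHom.toMorphismProperty_respectsIso_iff.1 RingHom.FaithfullyFlat.respectsIso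
    exact (MorphismProperty.arrow_mk_iso_iff (RingHom.toMorphismProperty RingHom.FaithfullyFlat)
      (AlgebraicGeometry.arrowResLEAppIso π U (π ⁻¹ᵁ U) le_rfl)).1
      ((Flat.flat_and_surjective_iff_faithfullyFlat_of_isAffine _).1 ⟨hfl, hsj⟩)
  obtain ⟨σ, hσ⟩ := exists_functional Γ(X, U) Γ(X', π ⁻¹ᵁ U)
  obtain ⟨ρ⟩ := nonempty_retract_extend d.hom σ hσ Mc
  exact pc_of_retract ((ρ.map (DRing.restrictCx φ)).map DerivedCategory.Q) h''

/-- Descent along a family of flat morphisms locally of finite presentation. -/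
theorem relPC_descent (p : X ⟶ S) [LocallyOfFiniteType p] {ι : Type u} (Xi : ι → Scheme.{u})
    (g : ∀ i, Xi i ⟶ X) [∀ i, Flat (g i)] [∀ i, LocallyOfFinitePresentation (g i)]
    (hcov : ∀ x : X, ∃ (i : ι) (y : Xi i), (g i).base y = x) [∀ i, DCoh.HasLpull (g i)] {m : ℤ} {E : DCoh.D X}
    (hq : DCoh.IsQCohD E) (h : ∀ i, DerSch.IsPseudoCoherentRel (g i ≫ p) m ((DCoh.Lpull (g i)).obj E)) :
    DerSch.IsPseudoCoherentRel p m E := by
  refine relPC_of_local p fun x => ?_
  obtain ⟨U, W, π, hxU, ⟨hπ1, hπ2, hπ3⟩, hπs, hW⟩ :=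
    Groth.Agent.S7198.result (S := X) { I₀ := ι, X := Xi, f := g } inferInstance inferInstance hcov x
  haveI := hπ1; haveI := hπ2; haveI := hπ3; haveI := hπs
  haveI := hasLpull π
  haveI := hasLpull (π ≫ U.ι)
  haveI := hasLpull U.ι
  suffices hEU : DerSch.IsPseudoCoherentRel (π ≫ U.ι ≫ p) m ((DCoh.Lpull π).obj ((rho U.ι).obj E)) from
    exists_cpa_of_restrict U.ι p (relPC_descent_finite π (U.ι ≫ p) (isQCohD_rho U.ι hq) hEU) ⟨x, hxU⟩
  refine relPC_of_local _ fun w => ?_
  obtain ⟨W', T, ρ, i, r, hwW, ⟨hρ1, hρ2, hρ3⟩, hρs, hr⟩ := hW w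
  haveI := hρ1; haveI := hρ2; haveI := hρ3; haveI := hρs
  haveI := hasLpull ρ
  haveI := hasLpull r
  haveI := hasLpull W'.ι
  let a : (W' : Scheme.{u}) ⟶ X := W'.ι ≫ π ≫ U.ι
  haveI := hasLpull a
  haveI := hasLpull (r ≫ g i)
  haveI := hasLpull (ρ ≫ a)
  haveI := hasLpull (W'.ι ≫ π)
  haveI := hasLpull ((W'.ι ≫ π) ≫ U.ι)
  replace hr : r ≫ g i = ρ ≫ a := hr
  haveI : LocallyOfFiniteType (r ≫ g i) := by rw [hr]; infer_instance
  haveI : LocallyOfFiniteType r := locallyOfFiniteType_of_comp r (g i)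
  have hr' : ∀ n, DerSch.IsNPseudoCoherent r n := fun n => by
    have h1 := npc_of_flat (ρ ≫ a) n
    rw [← hr] at h1
    exact (Groth.Agent.S12088.result r (g i) (npc_of_flat (g i)) n _).2 h1
  have h2 := Groth.Agent.S12089.result r (g i ≫ p) hr' m _ (h i)
  obtain ⟨c₁⟩ := nonempty_lpull_comp r (g i)
  obtain ⟨c₂⟩ := nonempty_lpull_comp ρ a
  have h3 : DerSch.IsPseudoCoherentRel (ρ ≫ a ≫ p) m ((DCoh.Lpull ρ).obj ((DCoh.Lpull a).obj E)) := by
    rw [← Category.assoc, ← hr, Category.assoc]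
    exact relPC_of_iso _ (c₁.app E ≪≫ eqToIso (by congr 1; simp only [hr]) ≪≫ (c₂.app E).symm) h2
  have h4 := relPC_descent_finite ρ (a ≫ p) (isQCohD_lpull a hq) h3
  obtain ⟨c₃⟩ := nonempty_lpull_comp W'.ι π
  obtain ⟨c₄⟩ := nonempty_lpull_comp (W'.ι ≫ π) U.ι
  obtain ⟨e₁⟩ := nonempty_rho_lpull U.ι E
  obtain ⟨e₂⟩ := nonempty_rho_lpull W'.ι ((DCoh.Lpull π).obj ((rho U.ι).obj E))
  have h5 : DerSch.IsPseudoCoherentRel (W'.ι ≫ π ≫ U.ι ≫ p) m
      ((rho W'.ι).obj ((DCoh.Lpull π).obj ((rho U.ι).obj E))) := by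
    simp only [a, Category.assoc] at h4
    exact relPC_of_iso _ (eqToIso (by congr 1) ≪≫ (c₄.app E).symm ≪≫
      (DCoh.Lpull (W'.ι ≫ π)).mapIso e₁.symm ≪≫ (c₃.app _).symm ≪≫ e₂.symm) h4
  exact exists_cpa_of_restrict W'.ι (π ≫ U.ι ≫ p) h5 ⟨w, hwW⟩

end Groth.Agent.PushAmp
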