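import Groth.Agent.PushAmp.RelPCBaseChangeAll
import Groth.Agent.H9Misc.DRingPCDescent

/-!
# Descent of pseudo-coherence along faithfully flat quasi-compact morphisms
-/

set_option autoImplicit false
set_option linter.style.haveILetI false
set_option backward.isDefEq.respectTransparency false
set_option backward.isDefEq.respectTransparency.types false

universe u

open CategoryTheory CategoryTheory.Limits TensorProduct
open MvPolynomial

attribute [local instance] HasDerivedCategory.standard MvPolynomial.algebraMvPolynomial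

namespace Groth.Agent.PushAmp

open Groth.Agent.H9Misc

/-- Pseudo-coherence descends along a faithfully flat base change, in modules. -/
theorem pc_descent_of_pushout {P B P' B' : Type u} [CommRing P] [CommRing B] [CommRing P'] [CommRing B']
    (φ : P →+* B) (θ : P →+* P') (hθ : θ.FaithfullyFlat) (d : B →+* B') (ψ' : P' →+* B') :
    letI := φ.toAlgebra
    letI := θ.toAlgebra
    ∀ (e : B ⊗[P] P' ≃+* B'), (∀ b a, e (b ⊗ₜ[P] a) = d b * ψ' a) → ∀ (Mc : DRing.Cx B) {m : ℤ},
      DRing.IsPseudoCoherent P' m (DRing.toD ((DRing.restrictCx ψ').obj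
        (((ModuleCat.extendScalars.{u, u, u} d).mapHomologicalComplex (ComplexShape.up ℤ)).obj Mc))) →
      DRing.IsPseudoCoherent P m (DRing.toD ((DRing.restrictCx φ).obj Mc)) := by
  letI := φ.toAlgebra
  letI := θ.toAlgebra
  intro e he Mc m h
  haveI : Module.FaithfullyFlat P P' := RingHom.faithfullyFlat_algebraMap_iff.1 hθ
  obtain ⟨ρ⟩ := nonempty_extend_restrict_iso_aux φ θ d ψ' e he
  let e₁ : ((ModuleCat.extendScalars.{u, u, u} θ).mapHomologicalComplex (ComplexShape.up ℤ)).obj ((DRing.restrictCx φ).obj Mc) ≅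
      (DRing.restrictCx ψ').obj (((ModuleCat.extendScalars.{u, u, u} d).mapHomologicalComplex (ComplexShape.up ℤ)).obj Mc) :=
    HomologicalComplex.Hom.isoOfComponents (fun n => ρ.app (Mc.X n))
      (fun i j _ => (ρ.hom.naturality (Mc.d i j)).symm)
  exact DRingPCDescent.pc_descent (R' := P') _ m (DRingPC.of_iso (DerivedCategory.Q.mapIso e₁.symm) h)

/-- Descent along a faithfully flat base change of a chart, for complexes. -/
theorem exists_chart_pushout_cx_descent {A B A' B' : Type u} [CommRing A] [CommRing B] [CommRing A'] [CommRing B']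
    [Algebra A B] [Algebra A A'] [Module.FaithfullyFlat A A'] [Algebra A' B'] [Algebra B B'] [Algebra A B']
    [IsScalarTower A A' B'] [IsScalarTower A B B'] [Algebra.IsPushout A A' B B'] {m : ℤ} {n : ℕ}
    (ψ : MvPolynomial (Fin n) A →+* B) (hψ1 : ψ.comp MvPolynomial.C = algebraMap A B)
    (hψ2 : Function.Surjective ψ) :
    ∃ ψ' : MvPolynomial (Fin n) A' →+* B', ψ'.comp MvPolynomial.C = algebraMap A' B' ∧
      Function.Surjective ψ' ∧
      ∀ Mc : DRing.Cx B, DRing.IsPseudoCoherent (MvPolynomial (Fin n) A') m (DRing.toD ((DRing.restrictCx ψ').obj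
          (((ModuleCat.extendScalars.{u, u, u} (algebraMap B B')).mapHomologicalComplex (ComplexShape.up ℤ)).obj Mc))) →
        DRing.IsPseudoCoherent (MvPolynomial (Fin n) A) m (DRing.toD ((DRing.restrictCx ψ).obj Mc)) := by
  let ψ' : MvPolynomial (Fin n) A' →+* B' :=
    eval₂Hom (algebraMap A' B') fun i => algebraMap B B' (ψ (X i))
  letI := ψ.toAlgebra
  letI := ψ'.toAlgebra
  haveI : IsScalarTower A (MvPolynomial (Fin n) A) (MvPolynomial (Fin n) A') :=
    .of_algebraMap_eq fun a => (MvPolynomial.map_C _ a).symm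
  letI : Algebra (MvPolynomial (Fin n) A) B' := ((algebraMap B B').comp ψ).toAlgebra
  haveI : IsScalarTower A (MvPolynomial (Fin n) A) B := .of_algebraMap_eq fun a => by
    exact (RingHom.congr_fun hψ1 a).symm
  haveI : IsScalarTower A' (MvPolynomial (Fin n) A') B' := .of_algebraMap_eq fun a => by
    show _ = ψ' (MvPolynomial.C a)
    simp [ψ']
  haveI : IsScalarTower (MvPolynomial (Fin n) A) B B' := .of_algebraMap_eq fun _ => rfl
  haveI : IsScalarTower A (MvPolynomial (Fin n) A) B' := .of_algebraMap_eq fun a => by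
    show _ = algebraMap B B' (ψ (MvPolynomial.C a))
    rw [← RingHom.comp_apply ψ, hψ1, ← IsScalarTower.algebraMap_apply]
  haveI : IsScalarTower (MvPolynomial (Fin n) A) (MvPolynomial (Fin n) A') B' := .of_algebraMap_eq' <| by
    refine MvPolynomial.ringHom_ext (fun a => ?_) fun i => ?_
    · show algebraMap B B' (ψ (MvPolynomial.C a)) = ψ' (MvPolynomial.map _ (MvPolynomial.C a))
      rw [← RingHom.comp_apply ψ, hψ1]
      simp [ψ', ← IsScalarTower.algebraMap_apply]
    · show algebraMap B B' (ψ (X i)) = ψ' (MvPolynomial.map _ (X i))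
      simp [ψ']
  haveI : IsScalarTower A (MvPolynomial (Fin n) A') B' := .of_algebraMap_eq fun a => by
    show _ = ψ' (MvPolynomial.C (algebraMap A A' a))
    simp [ψ', ← IsScalarTower.algebraMap_apply]
  haveI hP : Algebra.IsPushout (MvPolynomial (Fin n) A) (MvPolynomial (Fin n) A') B B' :=
    ((Algebra.IsPushout.comp_iff (R := A) (S := MvPolynomial (Fin n) A) (R' := A')
      (S' := MvPolynomial (Fin n) A') (T := B) (T' := B')).1 ‹Algebra.IsPushout A A' B B'›.symm).symm
  haveI : Module.FaithfullyFlat (MvPolynomial (Fin n) A) (MvPolynomial (Fin n) A') := by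
    haveI : Algebra.IsPushout A A' (MvPolynomial (Fin n) A) (MvPolynomial (Fin n) A') :=
      Algebra.IsPushout.symm inferInstance
    exact (RingHom.faithfullyFlat_algebraMap_iff).1 (RingHom.FaithfullyFlat.isStableUnderBaseChange A A'
      (MvPolynomial (Fin n) A) (MvPolynomial (Fin n) A') ((RingHom.faithfullyFlat_algebraMap_iff).2 inferInstance))
  haveI := hP.symm
  refine ⟨ψ', RingHom.ext fun a => by simp [ψ'], ?_, fun Mc h => ?_⟩
  rotate_left
  · exact pc_descent_of_pushout ψ (algebraMap (MvPolynomial (Fin n) A) (MvPolynomial (Fin n) A'))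
      (RingHom.faithfullyFlat_algebraMap_iff.2 inferInstance) (algebraMap B B') ψ'
      (Algebra.IsPushout.equiv (MvPolynomial (Fin n) A) B (MvPolynomial (Fin n) A') B').toRingEquiv
      (fun b a => Algebra.IsPushout.equiv_tmul (MvPolynomial (Fin n) A) B (MvPolynomial (Fin n) A') B' b a) Mc h
  intro b
  obtain ⟨x, rfl⟩ := (Algebra.IsPushout.equiv A A' B B').surjective b
  induction x with
  | zero => exact ⟨0, by simp⟩
  | add x y hx hy =>
    obtain ⟨p, hp⟩ := hx
    obtain ⟨q, hq⟩ := hy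
    exact ⟨p + q, by rw [map_add, map_add, hp, hq]⟩
  | tmul a y =>
    obtain ⟨p, rfl⟩ := hψ2 y
    refine ⟨MvPolynomial.C a * MvPolynomial.map (algebraMap A A') p, ?_⟩
    rw [Algebra.IsPushout.equiv_tmul, map_mul]
    refine congrArg₂ (· * ·) (by simp [ψ']) ?_
    exact (IsScalarTower.algebraMap_apply (MvPolynomial (Fin n) A) (MvPolynomial (Fin n) A') B' p).symm

section Geometry

open AlgebraicGeometry TopologicalSpace Groth.Agent.KFlatLib

/-- The affine piece of a base change with a chart on it, for objects. -/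
theorem cpc_of_baseChange {X Y X' Y' : Scheme.{u}} {f : X ⟶ Y} {f' : X' ⟶ Y'} {g : X' ⟶ X} {h : Y' ⟶ Y}
    (H : IsPullback g f' f h) [LocallyOfFiniteType f'] [DCoh.HasLpull g] {m : ℤ} {E : DCoh.D X}
    (hq : DCoh.IsQCohD E) (hE : DerSch.IsPseudoCoherentRel f' m ((DCoh.Lpull g).obj E))
    {V : Y.Opens} (hV : IsAffineOpen V) {U : X.Opens} (hU : IsAffineOpen U) (e : U ≤ f ⁻¹ᵁ V)
    {W : Y'.Opens} (hW : IsAffineOpen W) (hWV : W ≤ h ⁻¹ᵁ V) (hff : (h.appLE V W hWV).hom.FaithfullyFlat)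
    {n : ℕ} (φ : MvPolynomial (Fin n) Γ(Y, V) →+* Γ(X, U)) (hφ : DerSch.IsChart f U V e φ) :
    CPC m E U φ := by
  let UY := g ⁻¹ᵁ U ⊓ f' ⁻¹ᵁ W
  have hUY : IsAffineOpen UY := by
    haveI : IsAffine _ := hU
    haveI : IsAffine _ := hV
    haveI : IsAffine _ := hW
    exact .of_isIso (Scheme.Hom.isPullback_resLE H hWV e (UY := UY) rfl).isoPullback.hom
  haveI := isIso_pushoutSection_of_isAffineOpen H hWV e (UY := UY) rfl hV hW hU
  have hpo := ((isIso_pushoutSection_iff H hWV e (UY := UY) rfl).1 inferInstance).flip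
  let a := h.appLE V W hWV
  let b := f.appLE V U e
  let c := f'.appLE W UY inf_le_right
  let d := g.appLE U UY inf_le_left
  letI := a.hom.toAlgebra
  letI := b.hom.toAlgebra
  letI := c.hom.toAlgebra
  letI := d.hom.toAlgebra
  letI : Algebra Γ(Y, V) Γ(X', UY) := (a ≫ c).hom.toAlgebra
  haveI : IsScalarTower Γ(Y, V) Γ(Y', W) Γ(X', UY) := .of_algebraMap_eq' rfl
  haveI : IsScalarTower Γ(Y, V) Γ(X, U) Γ(X', UY) := .of_algebraMap_eq' congr(($hpo.w).hom)
  haveI : Module.FaithfullyFlat Γ(Y, V) Γ(Y', W) := RingHom.faithfullyFlat_algebraMap_iff.1 hff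
  haveI : Algebra.IsPushout Γ(Y, V) Γ(Y', W) Γ(X, U) Γ(X', UY) := CommRingCat.isPushout_iff_isPushout.1 hpo
  obtain ⟨ψ', hC', hs', hpc⟩ := exists_chart_pushout_cx_descent (A := Γ(Y, V)) (B := Γ(X, U))
    (A' := Γ(Y', W)) (B' := Γ(X', UY)) (m := m) φ hφ.2 hφ.1
  obtain ⟨M₀, ⟨e₀⟩⟩ := exists_module_rep hq hU
  obtain ⟨Mc, hMc, -, ⟨eMc⟩⟩ := DRingLTensor.exists_rep (DRing.toD M₀)
  have eM : DCoh.toD (Spec Γ(X, U))
      (((tilde.functor Γ(X, U)).mapHomologicalComplex (ComplexShape.up ℤ)).obj Mc) ≅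
      (rho hU.isoSpec.inv).obj ((rho U.ι).obj E) := by
    haveI : PreservesFiniteLimits (tilde.functor Γ(X, U)) := Groth.Agent.QCoh.tilde_preservesFiniteLimits
    haveI : (tilde.functor Γ(X, U)).Additive := tilde_additive _
    haveI : PreservesFiniteColimits (tilde.functor Γ(X, U)) := Groth.Agent.QCoh.tilde_preservesFiniteColimits
    exact (toDTildeIso Mc).symm ≪≫ (DCoh.tildeD _).mapIso eMc ≪≫ toDTildeIso M₀ ≪≫ e₀
  obtain ⟨eM'⟩ := nonempty_module_rep_lpull g E hU hUY inf_le_left Mc hMc eM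
  exact (cpc_module_iff hU φ hφ.1 Mc eM).2 (hpc Mc ((cpc_module_iff hUY ψ' hs' _ eM').1
    (relPC_cpc f' hE hW hUY inf_le_right ψ' ⟨hs', hC'⟩)))

/-- An affine faithfully flat cover of an affine open under a flat surjective quasi-compact morphism. -/
theorem exists_affine_cover {Y Y' : Scheme.{u}} (h : Y' ⟶ Y) [Flat h] [Surjective h] [QuasiCompact h]
    {V : Y.Opens} (hV : IsAffineOpen V) :
    ∃ (T : Scheme.{u}) (p : T ⟶ Y') (_ : IsAffine T) (_ : Flat p) (hq : (⊤ : T.Opens) ≤ (p ≫ h) ⁻¹ᵁ V),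
      ((p ≫ h).appLE V ⊤ hq).hom.FaithfullyFlat := by
  haveI : CompactSpace (h ⁻¹ᵁ V : Y'.Opens) :=
    isCompact_iff_compactSpace.mp (h.isCompact_preimage hV.isCompact)
  obtain ⟨T, p, hsurj, hp, hT⟩ :=
    ((h ⁻¹ᵁ V : Y'.Opens) : Scheme.{u}).exists_hom_isAffine_of_isZariskiLocalAtSource @IsLocalIso
  haveI := hsurj
  haveI := hp
  haveI : Flat p := IsLocalIso.le_of_isZariskiLocalAtSource @Flat _ _ p hp
  let p' : T ⟶ Y' := p ≫ (h ⁻¹ᵁ V).ι
  let q : T ⟶ Y := p' ≫ h
  haveI : Flat q := inferInstance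
  have hq : (⊤ : T.Opens) ≤ q ⁻¹ᵁ V := fun t _ => (p.base t).2
  refine ⟨T, p', hT, inferInstance, hq, ?_⟩
  have hWT : IsAffineOpen (⊤ : T.Opens) := isAffineOpen_top T
  haveI : IsAffine V.toScheme := hV
  haveI : IsAffine (⊤ : T.Opens).toScheme := hWT
  have hsj : Surjective (q.resLE V ⊤ hq) := by
    refine ⟨fun v => ?_⟩
    obtain ⟨y, hy⟩ := h.surjective v.1
    have hy' : y ∈ h ⁻¹ᵁ V := show h y ∈ V from hy ▸ v.2
    obtain ⟨t, ht⟩ := p.surjective ⟨y, hy'⟩
    refine ⟨⟨t, trivial⟩, (Scheme.Opens.ι V).isOpenEmbedding.injective ?_⟩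
    show ((q.resLE V ⊤ hq) ≫ V.ι) ⟨t, trivial⟩ = v.1
    rw [Scheme.Hom.resLE_comp_ι, ← hy]
    show h ((h ⁻¹ᵁ V).ι (p t)) = h y
    rw [ht]
    rfl
  have hfl : Flat (q.resLE V ⊤ hq) := by
    dsimp only [Scheme.Hom.resLE]
    infer_instance
  haveI : (RingHom.toMorphismProperty RingHom.FaithfullyFlat).RespectsIso :=
    RingHom.toMorphismProperty_respectsIso_iff.1 RingHom.FaithfullyFlat.respectsIso
  exact (MorphismProperty.arrow_mk_iso_iff (RingHom.toMorphismProperty RingHom.FaithfullyFlat)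
    (AlgebraicGeometry.arrowResLEAppIso q V ⊤ hq)).1
    ((Flat.flat_and_surjective_iff_faithfullyFlat_of_isAffine _).1 ⟨hfl, hsj⟩)

/-- Relative pseudo-coherence descends along flat surjective quasi-compact base change. -/
theorem relPC_descent_fpqc {X Y Y' : Scheme.{u}} (f : X ⟶ Y) [LocallyOfFiniteType f] (h : Y' ⟶ Y)
    [Flat h] [Surjective h] [QuasiCompact h] [DCoh.HasLpull (pullback.fst f h)] {m : ℤ} {E : DCoh.D X}
    (hq : DCoh.IsQCohD E)
    (hE : DerSch.IsPseudoCoherentRel (pullback.snd f h) m ((DCoh.Lpull (pullback.fst f h)).obj E)) :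
    DerSch.IsPseudoCoherentRel f m E := by
  refine relPC_of_local f fun z => ?_
  obtain ⟨V, hV, hzV, -⟩ :=
    exists_isAffineOpen_mem_and_subset (x := f.base z) (U := (⊤ : Y.Opens)) trivial
  obtain ⟨U, hU, hzU, hUV⟩ := exists_isAffineOpen_mem_and_subset (x := z) (U := f ⁻¹ᵁ V) hzV
  obtain ⟨T, p, hT, hp, hle, hff⟩ := exists_affine_cover h hV
  haveI := hp
  obtain ⟨k, φ, hφ⟩ := exists_chart f hV hU hUV
  let g₁ := pullback.fst (pullback.snd f h) p
  haveI := hasLpull g₁
  haveI := hasLpull (g₁ ≫ pullback.fst f h)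
  have h₁ := relPC_lpull_baseChange_all (IsPullback.of_hasPullback (pullback.snd f h) p) hE
  obtain ⟨c⟩ := nonempty_lpull_comp g₁ (pullback.fst f h)
  exact ⟨⟨V, hV⟩, ⟨U, hU⟩, hUV, hzU, k, φ, hφ.1, hφ.2,
    cpc_of_baseChange ((IsPullback.of_hasPullback (pullback.snd f h) p).paste_horiz (IsPullback.of_hasPullback f h))
      hq (relPC_of_iso _ (c.app E) h₁) hV hU hUV (isAffineOpen_top T) hle hff φ hφ⟩

end Geometry

end Groth.Agent.PushAmp
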