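import Groth.Agent.PushAmp.TorBC
import Groth.Agent.PushAmp.TorTensor
import Groth.Agent.PushAmp.BCBase

/-!
# Relative tor amplitude under tor-independent base change
-/

set_option autoImplicit false
set_option linter.style.haveILetI false
set_option backward.isDefEq.respectTransparency false
set_option backward.isDefEq.respectTransparency.types false

universe u

open CategoryTheory CategoryTheory.Limits AlgebraicGeometry TensorProduct

attribute [local instance] HasDerivedCategory.standard

namespace Groth.Agent.PushAmp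

open Groth.Agent.KFlatLib H9Misc H9Misc.DRingLTensor

section Ring

variable {R Ay B₁ Ay' : Type u} [CommRing R] [CommRing Ay] [CommRing B₁] [CommRing Ay']

/-- Tor amplitude after an extension of scalars coming from a tor-independent base. -/
theorem amp_extend_torIndep (ρ : R →+* Ay) (hρ : ρ.Flat) (β : R →+* B₁) :
    letI := ρ.toAlgebra
    letI := β.toAlgebra
    ∀ (χ : Ay ⊗[R] B₁ →+* Ay'), χ.Flat → ∀ (L : DRing.Cx Ay), IsKF ((DRing.restrictCx ρ).obj L) → ∀ (a b : ℤ),
    DRing.HasTorAmplitudeIn Ay a b (DRing.toD L) →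
    DRing.HasTorAmplitudeIn Ay' a b (DRing.toD
      ((extC' (χ.comp (Algebra.TensorProduct.includeLeftRingHom (R := R) (A := Ay) (B := B₁)))).obj L)) := by
  letI := ρ.toAlgebra
  letI := β.toAlgebra
  intro χ hχ L hL a b h
  let l := Algebra.TensorProduct.includeLeftRingHom (R := R) (A := Ay) (B := B₁)
  let r := (Algebra.TensorProduct.includeRight (R := R) (A := Ay) (B := B₁)).toRingHom
  obtain ⟨η⟩ := nonempty_extend_restrict_iso ρ β
  have key : ∀ (P Q : DRing.Cx Ay) (t : P ⟶ Q) [QuasiIso t], IsKF ((DRing.restrictCx ρ).obj P) →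
      IsKF ((DRing.restrictCx ρ).obj Q) → QuasiIso ((extC' l).map t) := by
    intro P Q t _ hP hQ
    haveI : QuasiIso ((DRing.restrictCx ρ).map t) :=
      (HomologicalComplex.quasiIso_map_iff_of_preservesHomology t (ModuleCat.restrictScalars ρ)).2 inferInstance
    haveI : QuasiIso ((extC' β).map ((DRing.restrictCx ρ).map t)) := quasiIso_extendScalars β _ hP hQ
    let e : ∀ P : DRing.Cx Ay, (extC' β).obj ((DRing.restrictCx ρ).obj P) ≅ (DRing.restrictCx r).obj ((extC' l).obj P) :=
      fun P => HomologicalComplex.Hom.isoOfComponents (fun n => η.app (P.X n))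
        (fun i j _ => (η.hom.naturality (P.d i j)).symm)
    have heq : (DRing.restrictCx r).map ((extC' l).map t) =
        (e P).inv ≫ (extC' β).map ((DRing.restrictCx ρ).map t) ≫ (e Q).hom := by
      rw [Iso.eq_inv_comp]
      exact HomologicalComplex.hom_ext _ _ fun n => (η.hom.naturality (t.f n)).symm
    have hq : QuasiIso ((DRing.restrictCx r).map ((extC' l).map t)) := by
      rw [heq]
      infer_instance
    exact (HomologicalComplex.quasiIso_map_iff_of_preservesHomology _ (ModuleCat.restrictScalars r)).1 hq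
  obtain ⟨E, hz, hf, ⟨e⟩⟩ := h
  obtain ⟨Z, s, hs, g, hg⟩ := DerivedCategory.right_fac e.hom
  haveI : IsIso (DerivedCategory.Q.map s) := hs
  haveI : IsIso (DerivedCategory.Q.map g) := by
    have h : DerivedCategory.Q.map g = DerivedCategory.Q.map s ≫ e.hom := by
      rw [hg, IsIso.hom_inv_id_assoc]
    rw [h]
    infer_instance
  haveI : QuasiIso s := (DerivedCategory.isIso_Q_map_iff_quasiIso _ _).1 inferInstance
  haveI : QuasiIso g := (DerivedCategory.isIso_Q_map_iff_quasiIso _ _).1 inferInstance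
  haveI := (ringCover Ay).quasiIso_ψ Z
  have hres : ∀ {K : DRing.Cx Ay}, IsKF K → IsKF ((DRing.restrictCx ρ).obj K) := fun hK =>
    kFlat_restrictScalars ρ hρ hK
  have hP := hres (kFlat_ringRes Z)
  haveI := key _ _ ((ringCover Ay).ψ.app Z ≫ s) hP
    (hres (DRingTor.isKF_of_flat hf fun i hi => hz i (Or.inr hi)))
  haveI := key _ _ ((ringCover Ay).ψ.app Z ≫ g) hP hL
  have h0 : DRing.HasTorAmplitudeIn (Ay ⊗[R] B₁) a b (DRing.toD ((extC' l).obj L)) :=
    ⟨(extC' l).obj E, fun i hi => (ModuleCat.extendScalars.{u, u, u} l).map_isZero (hz i hi),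
      fun i => haveI := hf i; DRingLBase.flat_extendScalars l (E.X i),
      ⟨(asIso (DerivedCategory.Q.map ((extC' l).map ((ringCover Ay).ψ.app Z ≫ s)))).symm ≪≫
        asIso (DerivedCategory.Q.map ((extC' l).map ((ringCover Ay).ψ.app Z ≫ g)))⟩⟩
  exact DRingTor.of_iso (DerivedCategory.Q.mapIso
    ((NatIso.mapHomologicalComplex (ModuleCat.extendScalarsComp.{u, u} l χ) (ComplexShape.up ℤ)).app L)).symm
    (amp_extend χ hχ _ h0)

variable {Bx B' : Type u} [CommRing Bx] [CommRing B'] (σ : Ay →+* Bx) (τ : Ay →+* Ay')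

/-- Tor amplitude after base change and localisation, given the amplitude of the extension. -/
theorem amp_baseChange_of_amp :
    letI := σ.toAlgebra
    letI := τ.toAlgebra
    ∀ (φ : Bx ⊗[Ay] Ay' →+* B'), φ.Flat → ∀ (K : DRing.Cx Bx) (a b : ℤ),
    DRing.HasTorAmplitudeIn Ay' a b (DRing.toD ((extC' τ).obj ((DRing.restrictCx σ).obj K))) →
    DRing.HasTorAmplitudeIn Ay' a b (DRing.toD
      ((DRing.restrictCx (φ.comp (Algebra.TensorProduct.includeRight (R := Ay) (A := Bx) (B := Ay')).toRingHom)).obj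
        ((extC' (φ.comp (Algebra.TensorProduct.includeLeftRingHom (R := Ay) (A := Bx) (B := Ay')))).obj K))) := by
  letI := σ.toAlgebra
  letI := τ.toAlgebra
  intro φ hφ K a b h1
  let l := Algebra.TensorProduct.includeLeftRingHom (R := Ay) (A := Bx) (B := Ay')
  let r := (Algebra.TensorProduct.includeRight (R := Ay) (A := Bx) (B := Ay')).toRingHom
  obtain ⟨ρ⟩ := nonempty_extend_restrict_iso σ τ
  let K₁ := (extC' l).obj K
  let e₁ : (extC' τ).obj ((DRing.restrictCx σ).obj K) ≅ (DRing.restrictCx r).obj K₁ :=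
    HomologicalComplex.Hom.isoOfComponents (fun n => ρ.app (K.X n))
      (fun i j _ => (ρ.hom.naturality (K.d i j)).symm)
  have h2 := amp_extend_over r φ hφ K₁ a b (DRingTor.of_iso (DerivedCategory.Q.mapIso e₁) h1)
  exact DRingTor.of_iso (DerivedCategory.Q.mapIso ((DRing.restrictCx (φ.comp r)).mapIso
    ((NatIso.mapHomologicalComplex (ModuleCat.extendScalarsComp.{u, u} l φ) (ComplexShape.up ℤ)).app K)).symm) h2

end Ring

variable {X S X' T : Scheme.{u}} {u : X ⟶ S} {u' : X' ⟶ T} {g' : X' ⟶ X} {h : T ⟶ S}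

/-- The local rings of a fibre product over a base, seen from a congruent point. -/
theorem exists_flat_base_factor {Y₁ B : Scheme.{u}} {q : S ⟶ B} {q₁ : Y₁ ⟶ B} {k : T ⟶ Y₁}
    (hY : IsPullback h k q q₁) (t : T) (y : S) (e : y = h.base t) :
    letI := (q.stalkMap y).hom.toAlgebra
    ∃ (β : B.presheaf.stalk (q.base y) ⟶ Y₁.presheaf.stalk (k.base t)),
      letI := β.hom.toAlgebra
      ∃ χ : (S.presheaf.stalk y : Type u) ⊗[(B.presheaf.stalk (q.base y) : Type u)]
          (Y₁.presheaf.stalk (k.base t) : Type u) →+* T.presheaf.stalk t,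
        χ.Flat ∧ χ.comp Algebra.TensorProduct.includeLeftRingHom =
          ((S.presheaf.stalkCongr (.of_eq e)).hom ≫ h.stalkMap t).hom := by
  subst e
  letI := (q.stalkMap (h.base t)).hom.toAlgebra
  refine ⟨baseStalkMap hY t, ?_⟩
  obtain ⟨φ, hφ, h₁, -⟩ := flat_stalk_pullback hY t
  refine ⟨φ, hφ, h₁.trans ?_⟩
  simp

/-- Stalkwise relative tor amplitude of the termwise pullback in a tor-independent cartesian square. -/
theorem hasTorAmplitudeAt_pullCx_torIndep {Y₁ B : Scheme.{u}} {q : S ⟶ B} {q₁ : Y₁ ⟶ B} {k : T ⟶ Y₁}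
    (hY : IsPullback h k q q₁) [Flat q] [Flat (u ≫ q)]
    (hc : IsPullback g' u' u h) (R : CochainComplex X.Modules ℤ) (hR : DCoh.IsKFlat R) (x' : X')
    (a b : ℤ) (hRa : DerSch.HasTorAmplitudeAt u a b R (g'.base x')) :
    DerSch.HasTorAmplitudeAt u' a b ((pullCx g').obj R) x' := by
  let x := g'.base x'
  letI := (u.stalkMap x).hom.toAlgebra
  letI := (baseStalkMap hc x').hom.toAlgebra
  letI := (u.stalkMap x ≫ g'.stalkMap x').hom.toAlgebra
  obtain ⟨φ, hφ, h₁, h₂⟩ := flat_stalk_pullback hc x'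
  let ρ := (q.stalkMap (u.base x)).hom
  let σ := (u.stalkMap x).hom
  obtain ⟨β, χ, hχ, hχe⟩ := exists_flat_base_factor hY (u'.base x') (u.base x)
    (congr($(hc.w).base x'))
  have hL : IsKF ((DRing.restrictCx ρ).obj ((DerSch.stalkCxOver u x).obj R)) := by
    have hf : (σ.comp ρ).Flat := by
      have h := Flat.stalkMap (u ≫ q) x
      rw [Scheme.Hom.stalkMap_comp] at h
      exact h
    exact (kFlat_restrictScalars (σ.comp ρ) hf ((kFlat_iff_stalk R).1 hR x)).of_iso
      ((NatIso.mapHomologicalComplex (ModuleCat.restrictScalarsComp' ρ σ _ rfl) (ComplexShape.up ℤ)).app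
        ((stalkCx x).obj R))
  have hamp := amp_extend_torIndep ρ (Flat.stalkMap q (u.base x)) β.hom χ hχ _ hL a b hRa
  rw [hχe] at hamp
  have key := amp_baseChange_of_amp (u.stalkMap x).hom (baseStalkMap hc x').hom φ hφ ((stalkCx x).obj R) a b hamp
  rw [h₁, h₂] at key
  exact DRingTor.of_iso (DerivedCategory.Q.mapIso
    ((DRing.restrictCx (u'.stalkMap x').hom).mapIso (stalkPullCxIso g' x' R))).symm key

end Groth.Agent.PushAmp
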