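import Groth.Agent.PushAmp.RelPCBaseChange
import Groth.Agent.PushAmp.FibrePerfect
import Groth.Agent.PushAmp.TorIndep
import Groth.Agent.KFlatLib.Scheme.TildePC

/-!
# Tor-independent base change of relative pseudo-coherence
-/

set_option autoImplicit false
set_option linter.style.haveILetI false
set_option backward.isDefEq.respectTransparency false
set_option backward.isDefEq.respectTransparency.types false

universe u

open CategoryTheory CategoryTheory.Limits AlgebraicGeometry TopologicalSpace TensorProduct MvPolynomial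

attribute [local instance] HasDerivedCategory.standard MvPolynomial.algebraMvPolynomial

namespace Groth.Agent.PushAmp

open Groth.Agent.H9Misc

/-- Pseudo-coherence is preserved by derived base change. -/
theorem pc_lbase {P P' : CommRingCat.{u}} (θ : P ⟶ P') {m : ℤ} {K : Dual.D P}
    [DRing.HasLBaseChange θ.hom] (h : DRing.IsPseudoCoherent P m K) :
    DRing.IsPseudoCoherent P' m ((DRing.LBaseChange θ.hom).obj K) := by
  haveI := KFlatLib.hasLpull (Spec.map (CommRingCat.ofHom θ.hom))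
  obtain ⟨eT⟩ := KFlatLib.nonempty_tildeD_lpull_iso θ.hom
  refine (locPC_tildeD_iff m _).1 (((KFlatLib.isPseudoCoherentD_iff m _).1
    (KFlatLib.isPseudoCoherentD_lpull (Spec.map (CommRingCat.ofHom θ.hom))
      ((KFlatLib.isPseudoCoherentD_iff m _).2 ((locPC_tildeD_iff m K).2 h)))).of_iso ?_)
  exact (eT.app K).symm

/-- Pseudo-coherence after tor-independent base change, in modules. -/
theorem pc_restrict_extend_torIndep {R R₁ P B P' B' : Type u} [CommRing R] [CommRing R₁] [CommRing P] [CommRing B]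
    [CommRing P'] [CommRing B'] [i₁ : Algebra P B] [i₂ : Algebra P P'] [j₁ : Algebra R P] [j₂ : Algebra R R₁]
    (φ : P →+* B) (θ : P →+* P') (d : B →+* B') (ψ' : P' →+* B') (ρ : R →+* P) (hρ : ρ.Flat)
    (β : R →+* R₁) (r : R₁ →+* P')
    (e : B ⊗[P] P' ≃+* B') (he : ∀ b a, e (b ⊗ₜ[P] a) = d b * ψ' a)
    (e' : P ⊗[R] R₁ ≃+* P') (h₁ : ρ.toAlgebra = j₁) (h₂ : β.toAlgebra = j₂)
    (he' : ∀ b a, e' (b ⊗ₜ[R] a) = θ b * r a)
    (Mc : DRing.Cx B) (hMc : DRingLTensor.IsKF ((DRing.restrictCx ρ).obj ((DRing.restrictCx φ).obj Mc))) {m : ℤ}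
    (h : DRing.IsPseudoCoherent P m (DRing.toD ((DRing.restrictCx φ).obj Mc)))
    (h₃ : φ.toAlgebra = i₁ := by rfl) (h₄ : θ.toAlgebra = i₂ := by rfl) :
    DRing.IsPseudoCoherent P' m (DRing.toD ((DRing.restrictCx ψ').obj
        (((ModuleCat.extendScalars.{u, u, u} d).mapHomologicalComplex (ComplexShape.up ℤ)).obj Mc))) := by
  haveI := DRingLBase.hasLBaseChange θ
  obtain ⟨σ⟩ := nonempty_extend_restrict_iso_aux' φ θ d ψ' h₃ h₄ e he
  obtain ⟨η⟩ := nonempty_extend_restrict_iso_aux' ρ β θ r h₁ h₂ e' he'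
  let K := (DRing.restrictCx φ).obj Mc
  let Q := (KFlatLib.ringCover P).P.obj K
  haveI := (KFlatLib.ringCover P).quasiIso_ψ K
  let t : Q ⟶ K := (KFlatLib.ringCover P).ψ.app K
  have hQ : DRingLTensor.IsKF Q := KFlatLib.kFlat_ringRes K
  have hQ' : DRingLTensor.IsKF ((DRing.restrictCx ρ).obj Q) := KFlatLib.kFlat_restrictScalars ρ hρ hQ
  have hq : QuasiIso ((DRingLTensor.extC' θ).map t) := by
    haveI : QuasiIso ((DRing.restrictCx ρ).map t) :=
      (HomologicalComplex.quasiIso_map_iff_of_preservesHomology t (ModuleCat.restrictScalars ρ)).2 inferInstance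
    haveI : QuasiIso ((DRingLTensor.extC' β).map ((DRing.restrictCx ρ).map t)) :=
      KFlatLib.quasiIso_extendScalars β _ hQ' hMc
    let u : ∀ L : DRing.Cx P, (DRingLTensor.extC' β).obj ((DRing.restrictCx ρ).obj L) ≅
        (DRing.restrictCx r).obj ((DRingLTensor.extC' θ).obj L) :=
      fun L => HomologicalComplex.Hom.isoOfComponents (fun k => η.app (L.X k))
        (fun i j _ => (η.hom.naturality (L.d i j)).symm)
    have heq : (DRing.restrictCx r).map ((DRingLTensor.extC' θ).map t) =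
        (u Q).inv ≫ (DRingLTensor.extC' β).map ((DRing.restrictCx ρ).map t) ≫ (u K).hom := by
      rw [Iso.eq_inv_comp]
      exact HomologicalComplex.hom_ext _ _ fun k => (η.hom.naturality (t.f k)).symm
    have hr : QuasiIso ((DRing.restrictCx r).map ((DRingLTensor.extC' θ).map t)) := by
      rw [heq]
      infer_instance
    exact (HomologicalComplex.quasiIso_map_iff_of_preservesHomology _ (ModuleCat.restrictScalars r)).1 hr
  haveI := hq
  haveI : IsIso (DerivedCategory.Q.map t) := (DerivedCategory.isIso_Q_map_iff_quasiIso _ _).2 inferInstance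
  haveI : IsIso (DerivedCategory.Q.map ((DRingLTensor.extC' θ).map t)) :=
    (DerivedCategory.isIso_Q_map_iff_quasiIso _ _).2 inferInstance
  obtain ⟨eL⟩ := DRingLBase.nonempty_lbase_iso θ hQ
  have h' : DRing.IsPseudoCoherent P' m ((DRing.LBaseChange θ).obj (DRing.toD Q)) :=
    pc_lbase (P := CommRingCat.of P) (P' := CommRingCat.of P') (CommRingCat.ofHom θ)
      (DRingPC.of_iso (asIso (DerivedCategory.Q.map t)).symm h)
  let e₁ : (DRingLTensor.extC' θ).obj K ≅
      (DRing.restrictCx ψ').obj (((ModuleCat.extendScalars.{u, u, u} d).mapHomologicalComplex (ComplexShape.up ℤ)).obj Mc) :=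
    HomologicalComplex.Hom.isoOfComponents (fun k => σ.app (Mc.X k))
      (fun i j _ => (σ.hom.naturality (Mc.d i j)).symm)
  exact DRingPC.of_iso (eL ≪≫ asIso (DerivedCategory.Q.map ((DRingLTensor.extC' θ).map t)) ≪≫
    DerivedCategory.Q.mapIso e₁) h'

/-- Tor-independent base change of a chart, for complexes. -/
theorem exists_chart_pushout_cx_torIndep {R R₁ A B A' B' : Type u} [CommRing R] [CommRing R₁] [CommRing A] [CommRing B] [CommRing A'] [CommRing B']
    [Algebra R R₁] [Algebra R A] [Algebra R₁ A'] [Algebra R A'] [Module.Flat R A]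
    [Algebra A B] [Algebra A A'] [IsScalarTower R R₁ A'] [IsScalarTower R A A'] [Algebra.IsPushout R R₁ A A']
    [Algebra A' B'] [Algebra B B'] [Algebra A B']
    [IsScalarTower A A' B'] [IsScalarTower A B B'] [Algebra.IsPushout A A' B B'] {m : ℤ} {n : ℕ}
    (ψ : MvPolynomial (Fin n) A →+* B) (hψ1 : ψ.comp MvPolynomial.C = algebraMap A B)
    (hψ2 : Function.Surjective ψ) :
    ∃ ψ' : MvPolynomial (Fin n) A' →+* B', ψ'.comp MvPolynomial.C = algebraMap A' B' ∧
      Function.Surjective ψ' ∧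
      ∀ Mc : DRing.Cx B, DRingLTensor.IsKF ((DRing.restrictCx ((algebraMap A B).comp (algebraMap R A))).obj Mc) →
        DRing.IsPseudoCoherent (MvPolynomial (Fin n) A) m (DRing.toD ((DRing.restrictCx ψ).obj Mc)) →
        DRing.IsPseudoCoherent (MvPolynomial (Fin n) A') m (DRing.toD ((DRing.restrictCx ψ').obj
          (((ModuleCat.extendScalars.{u, u, u} (algebraMap B B')).mapHomologicalComplex (ComplexShape.up ℤ)).obj Mc))) := by
  let ψ' : MvPolynomial (Fin n) A' →+* B' :=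
    eval₂Hom (algebraMap A' B') fun i => algebraMap B B' (ψ (X i))
  letI := ψ.toAlgebra
  letI := ψ'.toAlgebra
  haveI : IsScalarTower A (MvPolynomial (Fin n) A) (MvPolynomial (Fin n) A') :=
    .of_algebraMap_eq fun a => (MvPolynomial.map_C _ a).symm
  letI : Algebra (MvPolynomial (Fin n) A) B' := ((algebraMap B B').comp ψ).toAlgebra
  haveI : IsScalarTower A (MvPolynomial (Fin n) A) B := .of_algebraMap_eq fun a => by
    exact (RingHom.congr_fun hψ1 a).symm
  haveI : IsScalarTower A' (MvPolynomial (Fin n) A') B' := .of_algebraMap_eq fun a => by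
    show _ = ψ' (MvPolynomial.C a)
    simp [ψ']
  haveI : IsScalarTower (MvPolynomial (Fin n) A) B B' := .of_algebraMap_eq fun _ => rfl
  haveI : IsScalarTower A (MvPolynomial (Fin n) A) B' := .of_algebraMap_eq fun a => by
    show _ = algebraMap B B' (ψ (MvPolynomial.C a))
    rw [← RingHom.comp_apply ψ, hψ1, ← IsScalarTower.algebraMap_apply]
  haveI : IsScalarTower (MvPolynomial (Fin n) A) (MvPolynomial (Fin n) A') B' := .of_algebraMap_eq' <| by
    refine MvPolynomial.ringHom_ext (fun a => ?_) fun i => ?_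
    · show algebraMap B B' (ψ (MvPolynomial.C a)) = ψ' (MvPolynomial.map _ (MvPolynomial.C a))
      rw [← RingHom.comp_apply ψ, hψ1]
      simp [ψ', ← IsScalarTower.algebraMap_apply]
    · show algebraMap B B' (ψ (X i)) = ψ' (MvPolynomial.map _ (X i))
      simp [ψ']
  haveI : IsScalarTower A (MvPolynomial (Fin n) A') B' := .of_algebraMap_eq fun a => by
    show _ = ψ' (MvPolynomial.C (algebraMap A A' a))
    simp [ψ', ← IsScalarTower.algebraMap_apply]
  haveI hP : Algebra.IsPushout (MvPolynomial (Fin n) A) (MvPolynomial (Fin n) A') B B' :=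
    ((Algebra.IsPushout.comp_iff (R := A) (S := MvPolynomial (Fin n) A) (R' := A')
      (S' := MvPolynomial (Fin n) A') (T := B) (T' := B')).1 ‹Algebra.IsPushout A A' B B'›.symm).symm
  haveI := hP.symm
  refine ⟨ψ', RingHom.ext fun a => by simp [ψ'], ?_, fun Mc hMc h => ?_⟩
  rotate_left
  · haveI : IsScalarTower R (MvPolynomial (Fin n) A) (MvPolynomial (Fin n) A') := .of_algebraMap_eq fun r => by
      rw [IsScalarTower.algebraMap_apply R A' (MvPolynomial (Fin n) A'), IsScalarTower.algebraMap_apply R A A',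
        ← IsScalarTower.algebraMap_apply A A' (MvPolynomial (Fin n) A'),
        IsScalarTower.algebraMap_apply A (MvPolynomial (Fin n) A) (MvPolynomial (Fin n) A')]
      rfl
    haveI : Algebra.IsPushout A A' (MvPolynomial (Fin n) A) (MvPolynomial (Fin n) A') := inferInstance
    haveI : Algebra.IsPushout R A R₁ A' := Algebra.IsPushout.symm inferInstance
    haveI : Algebra.IsPushout A (MvPolynomial (Fin n) A) A' (MvPolynomial (Fin n) A') := Algebra.IsPushout.symm inferInstance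
    haveI : Algebra.IsPushout R (MvPolynomial (Fin n) A) R₁ (MvPolynomial (Fin n) A') :=
      (Algebra.IsPushout.comp_iff (R := R) (S := A) (R' := R₁) (S' := A') (T := MvPolynomial (Fin n) A)
        (T' := MvPolynomial (Fin n) A')).2 inferInstance
    haveI : Module.Flat R (MvPolynomial (Fin n) A) := Module.Flat.trans R A (MvPolynomial (Fin n) A)
    have hKF : DRingLTensor.IsKF ((DRing.restrictCx (algebraMap R (MvPolynomial (Fin n) A))).obj
        ((DRing.restrictCx ψ).obj Mc)) := by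
      refine hMc.of_iso ?_
      exact (NatIso.mapHomologicalComplex (ModuleCat.restrictScalarsComp' (R₁ := R)
        (algebraMap R (MvPolynomial (Fin n) A)) ψ ((algebraMap A B).comp (algebraMap R A)) (by
          rw [← hψ1]; rfl)) (ComplexShape.up ℤ)).app Mc
    exact pc_restrict_extend_torIndep ψ (algebraMap (MvPolynomial (Fin n) A) (MvPolynomial (Fin n) A'))
      (algebraMap B B') ψ' (algebraMap R (MvPolynomial (Fin n) A))
      (RingHom.flat_algebraMap_iff.2 inferInstance) (algebraMap R R₁) (algebraMap R₁ (MvPolynomial (Fin n) A'))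
      (Algebra.IsPushout.equiv (MvPolynomial (Fin n) A) B (MvPolynomial (Fin n) A') B').toRingEquiv
      (fun b a => Algebra.IsPushout.equiv_tmul (MvPolynomial (Fin n) A) B (MvPolynomial (Fin n) A') B' b a)
      (Algebra.IsPushout.equiv R (MvPolynomial (Fin n) A) R₁ (MvPolynomial (Fin n) A')).toRingEquiv
      (Algebra.algebra_ext _ _ fun _ => rfl) (Algebra.algebra_ext _ _ fun _ => rfl)
      (fun b a => Algebra.IsPushout.equiv_tmul R (MvPolynomial (Fin n) A) R₁ (MvPolynomial (Fin n) A') b a)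
      Mc hKF h
  intro b
  obtain ⟨x, rfl⟩ := (Algebra.IsPushout.equiv A A' B B').surjective b
  induction x with
  | zero => exact ⟨0, by simp⟩
  | add x y hx hy =>
    obtain ⟨p, hp⟩ := hx
    obtain ⟨q, hq⟩ := hy
    exact ⟨p + q, by rw [map_add, map_add, hp, hq]⟩
  | tmul a y =>
    obtain ⟨p, rfl⟩ := hψ2 y
    refine ⟨MvPolynomial.C a * MvPolynomial.map (algebraMap A A') p, ?_⟩
    rw [Algebra.IsPushout.equiv_tmul, map_mul]
    refine congrArg₂ (· * ·) (by simp [ψ']) ?_
    exact (IsScalarTower.algebraMap_apply (MvPolynomial (Fin n) A) (MvPolynomial (Fin n) A') B' p).symm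

section Geometry

open Groth.Agent.KFlatLib

/-- Tor-independent base change of relative pseudo-coherence. -/
theorem relPC_lpull_torIndep {X Y X' Y' Y₁ S : Scheme.{u}} {f : X ⟶ Y} {f' : X' ⟶ Y'} {g : X' ⟶ X} {h : Y' ⟶ Y}
    {q : Y ⟶ S} {q₁ : Y₁ ⟶ S} {k : Y' ⟶ Y₁} (hY : IsPullback h k q q₁) [Flat q] [Flat (f ≫ q)]
    [LocallyOfFiniteType f'] (H : IsPullback g f' f h) [DCoh.HasLpull g] {m : ℤ} {E : DCoh.D X}
    (hq : DCoh.IsQCohD E) (hE : DerSch.IsPseudoCoherentRel f m E) :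
    DerSch.IsPseudoCoherentRel f' m ((DCoh.Lpull g).obj E) := by
  refine relPC_of_local _ fun z => ?_
  haveI := hE.1
  obtain ⟨S₀, hS₀, hzS, -⟩ :=
    exists_isAffineOpen_mem_and_subset (x := q.base (f.base (g.base z))) (U := (⊤ : S.Opens)) trivial
  obtain ⟨V, hV, hxV, hVS⟩ := exists_isAffineOpen_mem_and_subset (x := f.base (g.base z)) (U := q ⁻¹ᵁ S₀) hzS
  obtain ⟨U, hU, hxU, e⟩ := exists_isAffineOpen_mem_and_subset (x := g.base z) (U := f ⁻¹ᵁ V) hxV
  have hzV : f'.base z ∈ h ⁻¹ᵁ V := by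
    show h (f' z) ∈ V
    rw [← Scheme.Hom.comp_apply, ← H.w, Scheme.Hom.comp_apply]
    exact hxV
  have hzS₁ : k.base (f'.base z) ∈ q₁ ⁻¹ᵁ S₀ := by
    show q₁ (k (f' z)) ∈ S₀
    rw [← Scheme.Hom.comp_apply k, ← hY.w, Scheme.Hom.comp_apply]
    exact hVS hzV
  obtain ⟨V₁, hV₁, hzV₁, hV₁S⟩ := exists_isAffineOpen_mem_and_subset (x := k.base (f'.base z)) (U := q₁ ⁻¹ᵁ S₀) hzS₁
  let W := h ⁻¹ᵁ V ⊓ k ⁻¹ᵁ V₁
  have hzW : f'.base z ∈ W := ⟨hzV, hzV₁⟩
  have hWV : W ≤ h ⁻¹ᵁ V := inf_le_left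
  have hW : IsAffineOpen W := by
    haveI : IsAffine _ := hS₀
    haveI : IsAffine _ := hV
    haveI : IsAffine _ := hV₁
    exact .of_isIso (Scheme.Hom.isPullback_resLE hY hV₁S hVS (UY := W) rfl).isoPullback.hom
  haveI := isIso_pushoutSection_of_isAffineOpen hY hV₁S hVS (UY := W) rfl hS₀ hV₁ hV
  have hpoY := ((isIso_pushoutSection_iff hY hV₁S hVS (UY := W) rfl).1 inferInstance).flip
  obtain ⟨n, ψ, hψ, hψC⟩ := exists_chart f hV hU e
  have hPC := relPC_cpc f hE hV hU e ψ ⟨hψ, hψC⟩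
  let a0 := q₁.appLE S₀ V₁ hV₁S
  let b0 := q.appLE S₀ V hVS
  let c0 := k.appLE V₁ W inf_le_right
  let d0 := h.appLE V W inf_le_left
  letI := a0.hom.toAlgebra
  letI := b0.hom.toAlgebra
  letI := c0.hom.toAlgebra
  letI : Algebra Γ(S, S₀) Γ(Y', W) := (a0 ≫ c0).hom.toAlgebra
  haveI : IsScalarTower Γ(S, S₀) Γ(Y₁, V₁) Γ(Y', W) := .of_algebraMap_eq' rfl
  haveI : Module.Flat Γ(S, S₀) Γ(Y, V) := q.flat_appLE hS₀ hV hVS
  let UY := g ⁻¹ᵁ U ⊓ f' ⁻¹ᵁ W
  have hUY : IsAffineOpen UY := by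
    haveI : IsAffine _ := hU
    haveI : IsAffine _ := hV
    haveI : IsAffine _ := hW
    exact .of_isIso (Scheme.Hom.isPullback_resLE H hWV e (UY := UY) rfl).isoPullback.hom
  haveI := isIso_pushoutSection_of_isAffineOpen H hWV e (UY := UY) rfl hV hW hU
  have hpo := ((isIso_pushoutSection_iff H hWV e (UY := UY) rfl).1 inferInstance).flip
  let a := h.appLE V W hWV
  let b := f.appLE V U e
  let c := f'.appLE W UY inf_le_right
  let d := g.appLE U UY inf_le_left
  letI := a.hom.toAlgebra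
  letI := b.hom.toAlgebra
  letI := c.hom.toAlgebra
  letI := d.hom.toAlgebra
  letI : Algebra Γ(Y, V) Γ(X', UY) := (a ≫ c).hom.toAlgebra
  haveI : IsScalarTower Γ(Y, V) Γ(Y', W) Γ(X', UY) := .of_algebraMap_eq' rfl
  haveI : IsScalarTower Γ(Y, V) Γ(X, U) Γ(X', UY) := .of_algebraMap_eq' congr(($hpo.w).hom)
  haveI : IsScalarTower Γ(S, S₀) Γ(Y, V) Γ(Y', W) := .of_algebraMap_eq' congr(($hpoY.w).hom)
  haveI : Algebra.IsPushout Γ(S, S₀) Γ(Y₁, V₁) Γ(Y, V) Γ(Y', W) := CommRingCat.isPushout_iff_isPushout.1 hpoY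
  haveI : Algebra.IsPushout Γ(Y, V) Γ(Y', W) Γ(X, U) Γ(X', UY) :=
    CommRingCat.isPushout_iff_isPushout.1 hpo
  obtain ⟨ψ', hC', hs', hpc⟩ := exists_chart_pushout_cx_torIndep (R := Γ(S, S₀)) (R₁ := Γ(Y₁, V₁)) (A := Γ(Y, V)) (B := Γ(X, U))
    (A' := Γ(Y', W)) (B' := Γ(X', UY)) (m := m) ψ hψC hψ
  obtain ⟨M₀, ⟨e₀⟩⟩ := exists_module_rep hq hU
  obtain ⟨Mc, hMc, -, ⟨eMc⟩⟩ := DRingLTensor.exists_rep (DRing.toD M₀)
  have eM : DCoh.toD (Spec Γ(X, U))
      (((tilde.functor Γ(X, U)).mapHomologicalComplex (ComplexShape.up ℤ)).obj Mc) ≅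
      (rho hU.isoSpec.inv).obj ((rho U.ι).obj E) := by
    haveI : PreservesFiniteLimits (tilde.functor Γ(X, U)) := Groth.Agent.QCoh.tilde_preservesFiniteLimits
    haveI : (tilde.functor Γ(X, U)).Additive := tilde_additive _
    haveI : PreservesFiniteColimits (tilde.functor Γ(X, U)) := Groth.Agent.QCoh.tilde_preservesFiniteColimits
    exact (toDTildeIso Mc).symm ≪≫ (DCoh.tildeD _).mapIso eMc ≪≫ toDTildeIso M₀ ≪≫ e₀
  obtain ⟨eM'⟩ := nonempty_module_rep_lpull g E hU hUY inf_le_left Mc hMc eM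
  have hflat : ((algebraMap Γ(Y, V) Γ(X, U)).comp (algebraMap Γ(S, S₀) Γ(Y, V))).Flat := by
    show (b0 ≫ b).hom.Flat
    rw [show b0 ≫ b = (f ≫ q).appLE S₀ U (fun _ hx => hVS (e hx)) from Scheme.Hom.appLE_comp_appLE f q S₀ V U hVS e]
    exact Scheme.Hom.flat_appLE (f ≫ q) hS₀ hU _
  exact ⟨⟨W, hW⟩, ⟨_, hUY⟩, inf_le_right, ⟨hxU, hzW⟩, n, ψ', hs', hC',
    (cpc_module_iff hUY ψ' hs' _ eM').2 (hpc Mc (KFlatLib.kFlat_restrictScalars _ hflat hMc)
      ((cpc_module_iff hU ψ hψ Mc eM).1 hPC))⟩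

end Geometry

end Groth.Agent.PushAmp
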