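import Groth.Agent.PushAmp.RelPerfFibres
import Groth.Prelude.Def_DualSh

/-!
# Relative perfection on affine opens
-/

set_option autoImplicit false
set_option linter.style.haveILetI false
set_option backward.isDefEq.respectTransparency false
set_option backward.isDefEq.respectTransparency.types false

universe u

open CategoryTheory CategoryTheory.Limits AlgebraicGeometry

attribute [local instance] HasDerivedCategory.standard

namespace Groth.Agent.PushAmp

open Groth.Agent.KFlatLib H9Misc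

variable {X S : Scheme.{u}} (f : X ⟶ S)

/-- The transported restriction is the restriction along the chart. -/
noncomputable def rhoFromSpecIso {U : X.Opens} (hU : IsAffineOpen U) (E : DCoh.D X) :
    (rho hU.isoSpec.inv).obj ((rho U.ι).obj E) ≅ (rho hU.fromSpec).obj E :=
  rhoComp hU.isoSpec.inv U.ι hU.fromSpec rfl E

/-- Relative perfection gives algebraic perfection on affine opens. -/
theorem isRelPerfect_of_relPerf [Flat f] {E : DCoh.D X} (hpc : ∀ m : ℤ, DCoh.IsPseudoCoherentD m E)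
    (htor : DCoh.LocHasFiniteRelTorDim f E) {U : X.Opens} (hU : IsAffineOpen U) {V : S.Opens} (hV : IsAffineOpen V)
    (hUV : U ≤ f ⁻¹ᵁ V) [PreservesFiniteLimits (tilde.functor Γ(X, U))] (M : DerivedCategory (ModuleCat.{u} Γ(X, U)))
    (e : (rho hU.fromSpec).obj E ≅ (DCoh.tildeD Γ(X, U)).obj M) :
    @Dual2.IsRelPerfect Γ(S, V) Γ(X, U) _ _ (f.appLE V U hUV).hom.toAlgebra M := by
  let j := hU.fromSpec
  let φ := f.appLE V U hUV
  refine ⟨(DRingPC.pc'_iff _).2 fun m => (locPC_tildeD_iff m M).1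
    ((((isPseudoCoherentD_iff m E).1 (hpc m)).restrict j).of_iso e), ?_⟩
  let F := DerivedCategory.Q.objPreimage E
  let G := (rCx j).obj F
  let eG : DCoh.toD (Spec Γ(X, U)) G ≅ (DCoh.tildeD Γ(X, U)).obj M :=
    ((rhoQ j).app F).symm ≪≫ (rho j).mapIso (repIso E) ≪≫ e
  have hloc : DerSch.LocFiniteTorAmplitude (Spec.map φ) G := fun z => by
    obtain ⟨W, a, b, hz, hW⟩ := (locHasFiniteRelTorDim_iff f F (repIso E)).1 htor (j.base z)
    refine ⟨j ⁻¹ᵁ W, a, b, hz, fun z' hz' => ?_⟩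
    have h := (hasTorAmplitudeAt_restrict_iff j f F z' a b).2 (hW _ hz')
    rw [show j ≫ f = Spec.map φ ≫ hV.fromSpec from (IsAffineOpen.SpecMap_appLE_fromSpec f hV hU hUV).symm] at h
    exact (hasTorAmplitudeAt_comp_iff (Spec.map φ) hV.fromSpec G z' a b).1 h
  obtain ⟨a, b, h⟩ := hasFiniteTorAmplitude_of_loc (Spec.map φ) hloc
  exact ⟨a, b, (hasTorAmplitude_tildeD_iff φ M G eG a b).1 h⟩

/-- Algebraic perfection on affine opens covering the space gives relative perfection. -/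
theorem relPerf_of_affine [Flat f] {E : DCoh.D X} (hq : DCoh.IsQCohD E)
    [∀ R : CommRingCat.{u}, PreservesFiniteLimits (tilde.functor R)]
    (h : ∀ x : X, ∃ (U : X.Opens) (hU : IsAffineOpen U) (V : S.Opens) (_ : IsAffineOpen V) (hUV : U ≤ f ⁻¹ᵁ V),
      x ∈ U ∧ ∀ M : DerivedCategory (ModuleCat.{u} Γ(X, U)),
        Nonempty ((rho hU.fromSpec).obj E ≅ (DCoh.tildeD Γ(X, U)).obj M) →
          @Dual2.IsRelPerfect Γ(S, V) Γ(X, U) _ _ (f.appLE V U hUV).hom.toAlgebra M) :
    (∀ m : ℤ, DCoh.IsPseudoCoherentD m E) ∧ DCoh.LocHasFiniteRelTorDim f E := by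
  refine ⟨fun m => (isPseudoCoherentD_iff m E).2 (LocPC.of_local fun x => ?_),
    (locHasFiniteRelTorDim_iff f _ (repIso E)).2 fun x => ?_⟩
  · obtain ⟨U, hU, V, hV, hUV, hx, hM⟩ := h x
    obtain ⟨M, ⟨e⟩⟩ := exists_tildeD_iso (R := Γ(X, U)) (isQCohD_rho hU.fromSpec hq)
    obtain ⟨hpc, -⟩ := hM M ⟨e.symm⟩
    exact ⟨_, hU.fromSpec, inferInstance, by rw [hU.range_fromSpec]; exact hx,
      ((locPC_tildeD_iff m M).2 ((DRingPC.pc'_iff _).1 hpc m)).of_iso e⟩
  · obtain ⟨U, hU, V, hV, hUV, hx, hM⟩ := h x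
    obtain ⟨M, ⟨e⟩⟩ := exists_tildeD_iso (R := Γ(X, U)) (isQCohD_rho hU.fromSpec hq)
    obtain ⟨-, a, b, hab⟩ := hM M ⟨e.symm⟩
    let φ := f.appLE V U hUV
    let F := DerivedCategory.Q.objPreimage E
    let G := (rCx hU.fromSpec).obj F
    refine ⟨U, a, b, hx, fun x' hx' => ?_⟩
    obtain ⟨z, rfl⟩ : ∃ z, hU.fromSpec.base z = x' := by
      have : x' ∈ Set.range hU.fromSpec.base := by rw [hU.range_fromSpec]; exact hx'
      exact this
    refine (hasTorAmplitudeAt_restrict_iff hU.fromSpec f F z a b).1 ?_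
    rw [show hU.fromSpec ≫ f = Spec.map φ ≫ hV.fromSpec from (IsAffineOpen.SpecMap_appLE_fromSpec f hV hU hUV).symm]
    exact (hasTorAmplitudeAt_comp_iff (Spec.map φ) hV.fromSpec G z a b).2
      ((hasTorAmplitude_tildeD_iff φ M G (((rhoQ hU.fromSpec).app F).symm ≪≫
        (rho hU.fromSpec).mapIso (repIso E) ≪≫ e.symm) a b).2 hab z)

end Groth.Agent.PushAmp
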