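import Groth.Agent.PushAmp.RelPerfAffine
import Groth.Agent.PushAmp.RelFlatPC
import Groth.Agent.PushAmp.RelPCMisc
import Groth.Agent.PushAmp.ChartPush
import Groth.Agent.H6RelPerf.Basic
import Groth.Agent.QCoh.SpecFT
import Groth.Agent.FibDepth.Local
import Groth.Agent.S2394

/-!
# Relatively perfect objects as bounded complexes of flat modules of finite presentation
-/

set_option autoImplicit false
set_option linter.style.haveILetI false
set_option backward.isDefEq.respectTransparency false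
set_option backward.isDefEq.respectTransparency.types false

universe u

open CategoryTheory CategoryTheory.Limits AlgebraicGeometry

attribute [local instance] HasDerivedCategory.standard

namespace Groth.Agent.PushAmp

open Groth.Agent.KFlatLib H9Misc

variable {X Y S : Scheme.{u}}

/-- Flatness over the base after composing with an open immersion of the base. -/
theorem isFlatOverAt_comp (g : X ⟶ S) (j : S ⟶ Y) [IsOpenImmersion j] (M : X.Modules) (u : X)
    (h : FlatMod.IsFlatOverAt g M u) : FlatMod.IsFlatOverAt (g ≫ j) M u := by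
  let σ := (j.stalkMap (g.base u)).hom
  have hσ : Function.Bijective σ :=
    haveI : IsIso (j.stalkMap (g.base u)) := inferInstance
    ConcreteCategory.bijective_of_isIso (j.stalkMap (g.base u))
  refine TwistFlat.flat_of_compHom (FlatMod.moduleStalkOver g M u)
    (FlatMod.moduleStalkOver (g ≫ j) M u) σ hσ (fun r m => ?_) h
  show ((g ≫ j).stalkMap u).hom r • m = (g.stalkMap u).hom (σ r) • m
  rw [Scheme.Hom.stalkMap_comp]
  rfl

/-- A bounded above complex of flat modules of finite presentation is pseudo-coherent. -/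
theorem locPC_of_fp_flat (g : X ⟶ S) [Flat g] [LocallyOfFinitePresentation g] (E : CochainComplex X.Modules ℤ)
    (b : ℤ) (hb : ∀ i : ℤ, b < i → IsZero (E.X i)) (hfl : ∀ i, FlatMod.IsFlatOver g (E.X i))
    (hfp : ∀ i, CohB1.IsFP (E.X i)) (m : ℤ) : LocPC m (DCoh.toD X E) :=
  (locPC_iff_relPC g (npc_of_flat g) m _).2 (relPCAll_of_flat_terms g E b hb hfl
    (fun i => (locPC_iff_relPC g (npc_of_flat g) (-1) _).1 (locPC_of_isFP _ (hfp i))) m)

/-- A relatively perfect object is locally a bounded complex of flat modules of finite presentation. -/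
theorem exists_fp_flat_rep (f : X ⟶ S) [Flat f] [LocallyOfFinitePresentation f] {E : DCoh.D X}
    (hpc : ∀ m : ℤ, DCoh.IsPseudoCoherentD m E) (htor : DCoh.LocHasFiniteRelTorDim f E) (x : X) :
    ∃ V : X.Opens, x ∈ V ∧
      ∃ (G : CochainComplex (V : Scheme.{u}).Modules ℤ) (a b : ℤ), DCoh.VanishesOutside G a b ∧
        (∀ i : ℤ, CohB1.IsFP (G.X i) ∧ FlatMod.IsFlatOver (V.ι ≫ f) (G.X i)) ∧
        Nonempty (DerivedCategory.Q.obj G ≅ (rho V.ι).obj E) := by
  obtain ⟨W, hW, hxW, -⟩ := exists_isAffineOpen_mem_and_subset (x := f.base x) (U := (⊤ : S.Opens)) trivial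
  obtain ⟨U, hU, hxU, hle⟩ := exists_isAffineOpen_mem_and_subset (x := x) (U := f ⁻¹ᵁ W) hxW
  let A := Γ(X, U)
  let R := Γ(S, W)
  let φ := f.appLE W U hle
  let j := hU.fromSpec
  let θ := hU.isoSpec.hom
  haveI : PreservesFiniteLimits (tilde.functor A) := Groth.Agent.QCoh.tilde_preservesFiniteLimits
  have hq : DCoh.IsQCohD E := fun i => isQCoh_HD_of_pseudoCoherent (hpc (i - 1)) i (by omega)
  obtain ⟨M, ⟨eM⟩⟩ := exists_tildeD_iso (R := A) (isQCohD_rho j hq)
  letI := φ.hom.toAlgebra
  have hM := isRelPerfect_of_relPerf f hpc htor hU hW hle M eM.symm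
  haveI : Module.Flat R A := Scheme.Hom.flat_appLE f hW hU hle
  obtain ⟨Mc, a, b, hz, hM', ⟨eMc⟩⟩ := H6RelPerf.exists_rep hM
  let Tc := ((tilde.functor A).mapHomologicalComplex (ComplexShape.up ℤ)).obj Mc
  refine ⟨U, hxU, (rCx θ).obj Tc, a, b, fun i hi => ?_, fun i => ⟨?_, fun u => ?_⟩, ⟨?_⟩⟩
  · exact (Scheme.Modules.restrictFunctor θ).map_isZero ((tilde.functor A).map_isZero (hz i hi))
  · exact (SheafOfModules.isFinitePresentation (R := (U : Scheme.{u}).ringCatSheaf)).prop_of_iso
      ((Scheme.Modules.restrictFunctorIsoPullback θ).app _).symm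
      (ModStLib.isFP_pullback θ ((QCoh.isFP_tilde_iff (R := A) (Mc.X i)).2 (hM' i).1))
  · let g := Spec.map φ ≫ hW.fromSpec
    have hg : U.ι ≫ f = θ ≫ g := by
      show U.ι ≫ f = hU.isoSpec.hom ≫ Spec.map φ ≫ hW.fromSpec
      rw [IsAffineOpen.SpecMap_appLE_fromSpec f hW hU hle, IsAffineOpen.fromSpec, Category.assoc,
        Iso.hom_inv_id_assoc]
    letI : Module R (Mc.X i) := Module.compHom _ φ.hom
    haveI : IsScalarTower R A (Mc.X i) := IsScalarTower.of_algebraMap_smul fun _ _ => rfl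
    haveI : Module.Flat R (Mc.X i) := (hM' i).2
    have h1 : FlatMod.IsFlatOver (Spec.map φ) (tilde (Mc.X i)) :=
      (Groth.Agent.S2394.result R A (Mc.X i)).2 inferInstance
    have h2 : FlatMod.IsFlatOverAt g (tilde (Mc.X i)) (θ.base u) := isFlatOverAt_comp _ _ _ _ (h1 _)
    rw [hg]
    obtain ⟨e⟩ := nonempty_stalkOver_iso θ g u
    change Module.Flat _ ((DerSch.stalkOver (θ ≫ g) u).obj ((Scheme.Modules.restrictFunctor θ).obj (tilde (Mc.X i))))
    haveI : Module.Flat _ ((DerSch.stalkOver g (θ.base u)).obj (tilde (Mc.X i))) := h2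
    exact @Module.Flat.of_linearEquiv _ _ _ _ _ _ _ _ this (e.app (tilde (Mc.X i))).toLinearEquiv
  · exact ((rhoQ θ).app Tc).symm ≪≫ (rho θ).mapIso ((toDTildeIso Mc).symm ≪≫
      (DCoh.tildeD A).mapIso eMc ≪≫ eM) ≪≫ rhoComp θ j U.ι
        (by show hU.isoSpec.hom ≫ hU.fromSpec = U.ι; rw [IsAffineOpen.fromSpec, Iso.hom_inv_id_assoc]) E

end Groth.Agent.PushAmp
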