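import Groth.Agent.PushAmp.SmoothDrop
import Groth.Agent.PushAmp.ExternalBounds

/-!
# Tor amplitude over a smooth intermediate scheme
-/

set_option autoImplicit false
set_option linter.style.haveILetI false
set_option backward.isDefEq.respectTransparency false
set_option backward.isDefEq.respectTransparency.types false

universe u

open CategoryTheory CategoryTheory.Limits AlgebraicGeometry TopologicalSpace

attribute [local instance] HasDerivedCategory.standard

namespace Groth.Agent.PushAmp

open H9Misc Groth.Agent.KFlatLib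

variable {Y S : Scheme.{u}}

/-- Tor amplitude over the base gives tor amplitude over a smooth intermediate scheme. -/
theorem torAmpAt_drop_of_smooth {X : Scheme.{u}} (f : X ⟶ Y) (g : Y ⟶ S) (n : ℕ) [SmoothOfRelativeDimension n g]
    {a b : ℤ} (G : CochainComplex X.Modules ℤ) (x : X) (hG : DerSch.HasTorAmplitudeAt (f ≫ g) a b G x) :
    DerSch.HasTorAmplitudeAt f (a - n) b G x := by
  let y : Y := f.base x
  obtain ⟨U, hU, V, hV, hy, e, hf⟩ :=
    SmoothOfRelativeDimension.exists_isStandardSmoothOfRelativeDimension (n := n) (f := g) y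
  letI : Algebra Γ(Y, V) (Y.presheaf.stalk y) := (Y.presheaf.germ V y hy).hom.toAlgebra
  haveI := hV.isLocalization_stalk ⟨y, hy⟩
  have hdrop := drops_standardSmooth (B := Y.presheaf.stalk y) (g.appLE U V e).hom hf
    (hV.primeIdealOf ⟨y, hy⟩).asIdeal.primeCompl
  let η : Γ(S, U) →+* S.presheaf.stalk (g.base y) := (S.presheaf.germ U (g.base y) (e hy)).hom
  have hη : η.Flat := by
    letI := η.toAlgebra
    haveI := hU.isLocalization_stalk ⟨g.base y, e hy⟩
    exact IsLocalization.flat (S.presheaf.stalk (g.base y)) (hU.primeIdealOf ⟨g.base y, e hy⟩).asIdeal.primeCompl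
  have hc : (algebraMap Γ(Y, V) (Y.presheaf.stalk y)).comp (g.appLE U V e).hom = (g.stalkMap y).hom.comp η := by
    refine congrArg CommRingCat.Hom.hom (?_ : g.appLE U V e ≫ Y.presheaf.germ V y hy =
      S.presheaf.germ U (g.base y) (e hy) ≫ g.stalkMap y)
    rw [Scheme.Hom.germ_stalkMap, Scheme.Hom.appLE, Category.assoc, TopCat.Presheaf.germ_res]
  rw [hc] at hdrop
  let L : DRing.Cx (Y.presheaf.stalk y) := (DerSch.stalkCxOver f x).obj G
  let σ := (g.stalkMap y).hom
  have hs : ((f ≫ g).stalkMap x).hom = (f.stalkMap x).hom.comp σ := by rw [Scheme.Hom.stalkMap_comp]; rfl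
  let e₀ : (DerSch.stalkCxOver (f ≫ g) x).obj G ≅ (DRing.restrictCx σ).obj L :=
    HomologicalComplex.Hom.isoOfComponents
      (fun k => (ModuleCat.restrictScalarsComp'.{u} σ (f.stalkMap x).hom _ hs).app ((DerSch.stalkFunctor X x).obj (G.X k)))
      (fun i j _ => ((ModuleCat.restrictScalarsComp'.{u} σ (f.stalkMap x).hom _ hs).hom.naturality
        ((DerSch.stalkFunctor X x).map (G.d i j))).symm)
  let ρ := ModuleCat.restrictScalarsComp'.{u} η σ (σ.comp η) rfl
  have h1 := amp_restrict η hη _ (DRingTor.of_iso (DerivedCategory.Q.mapIso e₀) hG)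
  exact hdrop L a b (DRingTor.of_iso (DerivedCategory.Q.mapIso
      ((NatIso.mapHomologicalComplex ρ (ComplexShape.up ℤ)).app L)).symm h1)

end Groth.Agent.PushAmp
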