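import Groth.Agent.TriCat.Resolve
import Mathlib.Algebra.Homology.HomotopyCategory.MappingCocone
import Mathlib.Algebra.Homology.DerivedCategory.Basic
import Mathlib.Algebra.Homology.Embedding.CochainComplex

/-!
# Special inverse systems of right resolutions of the truncations
-/

set_option autoImplicit false
set_option linter.style.haveILetI false
set_option backward.isDefEq.respectTransparency false
set_option maxHeartbeats 1000000

universe v u

open CategoryTheory CategoryTheory.Category CategoryTheory.Limits CategoryTheory.Pretriangulated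

noncomputable section

namespace Groth.Agent.PushAmp.SpecialTower

open CochainComplex CochainComplex.HomComplex

variable {A : Type u} [Category.{v} A] [Abelian A]

/-- A lift through the mapping cocone of `q ↦ cone q → E`. -/
lemma exists_step {X Q E : CochainComplex A ℤ} (q : X ⟶ Q) (e : mappingCone q ⟶ E) [QuasiIso e]
    (he : ∀ i, Mono (e.f i)) :
    ∃ π : X ⟶ mappingCocone (mappingCone.inr q ≫ e),
      π ≫ mappingCocone.fst _ = q ∧ QuasiIso π ∧ ∀ i, Mono (π.f i) := by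
  letI := HasDerivedCategory.standard A
  let δ : Q ⟶ E := mappingCone.inr q ≫ e
  let Γ : mappingCone (mappingCone.inr q) ⟶ mappingCone δ :=
    mappingCone.map (mappingCone.inr q) δ (𝟙 Q) e (by simp [δ])
  haveI hΓ : QuasiIso Γ := by
    rw [← DerivedCategory.isIso_Q_map_iff_quasiIso]
    let T := DerivedCategory.Q.mapTriangle.map
      (mappingCone.triangleMap (mappingCone.inr q) δ (𝟙 Q) e (by simp [δ]))
    exact isIso₃_of_isIso₁₂ T (DerivedCategory.mappingCone_triangle_distinguished _)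
      (DerivedCategory.mappingCone_triangle_distinguished _)
      (inferInstanceAs (IsIso (DerivedCategory.Q.map (𝟙 Q))))
      (inferInstanceAs (IsIso (DerivedCategory.Q.map e)))
  let R := (mappingCone.rotateHomotopyEquiv q).hom
  haveI hR : QuasiIso R := (mappingCone.rotateHomotopyEquiv q).quasiIso_hom
  let j : X ≅ (X⟦(1 : ℤ)⟧)⟦(-1 : ℤ)⟧ :=
    ((shiftFunctorCompIsoId (CochainComplex A ℤ) (1 : ℤ) (-1) (by omega)).app X).symm
  let π : X ⟶ mappingCocone δ := j.hom ≫ (R ≫ Γ)⟦(-1 : ℤ)⟧'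
  haveI hπ : QuasiIso π := by
    haveI : QuasiIso (R ≫ Γ) := inferInstance
    haveI : QuasiIso ((R ≫ Γ)⟦(-1 : ℤ)⟧') := (CochainComplex.quasiIso_shift_iff (R ≫ Γ) (-1)).2 inferInstance
    exact inferInstanceAs (QuasiIso (j.hom ≫ (R ≫ Γ)⟦(-1 : ℤ)⟧'))
  refine ⟨π, ?_, hπ, fun p => ?_⟩
  · ext p
    obtain ⟨m, hm⟩ : ∃ m, p + -1 = m := ⟨_, rfl⟩
    simp [π, j, R, Γ, δ, mappingCocone.fst, mappingCone.rotateHomotopyEquiv, mappingCone.map,
      shiftFunctorCompIsoId, shiftFunctorAdd'_hom_app_f', shiftFunctorZero_inv_app_f,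
      Cochain.leftShift_v (n := 1) _ (-1) 0 _ p p _ (p + -1) (by omega),
      mappingCone.lift_f _ _ _ _ (p + -1) p (by omega),
      mappingCone.desc_f _ _ _ _ (p + -1) p (by omega),
      (Cochain.ofHom q).leftShift_v 1 1 (zero_add 1) (p + -1) p (by omega) p (by omega),
      (mappingCone.inl q).leftShift_v 1 0 (neg_add_cancel 1) (p + -1) (p + -1) (add_zero _) p (by omega)]
    erw [id_comp, mappingCone.inl_v_fst_v, mappingCone.inr_f_fst_v]
    simp
  · obtain ⟨m, hm⟩ : ∃ m, p + -1 = m := ⟨_, rfl⟩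
    have key : π.f p ≫ (mappingCocone.snd δ).v p (p + -1) (by omega) =
        -((mappingCone.inl q).v p (p + -1) (by omega) ≫ e.f (p + -1)) := by
      simp [π, j, R, Γ, δ, mappingCocone.snd, mappingCone.rotateHomotopyEquiv, mappingCone.map,
        shiftFunctorCompIsoId, shiftFunctorAdd'_hom_app_f', shiftFunctorZero_inv_app_f,
        Cochain.leftShift_v (n := 0) _ (-1) (-1) _ p (p + -1) _ (p + -1) (by omega),
        mappingCone.lift_f _ _ _ _ (p + -1) p (by omega),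
        mappingCone.desc_f _ _ _ _ (p + -1) p (by omega),
        (Cochain.ofHom q).leftShift_v 1 1 (zero_add 1) (p + -1) p (by omega) p (by omega),
        (mappingCone.inl q).leftShift_v 1 0 (neg_add_cancel 1) (p + -1) (p + -1) (add_zero _) p (by omega)]
      erw [id_comp, mappingCone.inl_v_snd_v, mappingCone.inr_f_snd_v]
      simp [Int.negOnePow_even 2 ⟨1, rfl⟩]
    haveI : Mono ((mappingCone.inl q).v p (p + -1) (by omega)) :=
      SplitMono.mono { retraction := (mappingCone.fst q).1.v (p + -1) p (by omega) }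
    haveI := he (p + -1)
    haveI : Mono (π.f p ≫ (mappingCocone.snd δ).v p (p + -1) (by omega)) := by rw [key]; infer_instance
    exact mono_of_mono _ ((mappingCocone.snd δ).v p (p + -1) _)

lemma isStrictlyGE_mappingCone {K L : CochainComplex A ℤ} (φ : K ⟶ L) (a : ℤ) [K.IsStrictlyGE (a + 1)]
    [L.IsStrictlyGE a] : (mappingCone φ).IsStrictlyGE a := by
  rw [isStrictlyGE_iff]
  intro i hi
  exact ((biprod_isZero_iff _ _).2 ⟨K.isZero_of_isStrictlyGE (a + 1) (i + 1) (by omega),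
    L.isZero_of_isStrictlyGE a i hi⟩).of_iso (HomologicalComplex.homotopyCofiber.XIsoBiprod φ i (i + 1) rfl)

variable (I : ObjectProperty A) [I.IsClosedUnderIsomorphisms]
  (hI0 : ∃ Z : A, IsZero Z ∧ I Z) (hIprod : ∀ X Y : A, I X → I Y → I (X ⊞ Y))
  (hI : ∀ X : A, ∃ (Y : A) (ι : X ⟶ Y), I Y ∧ Mono ι)

include hI0 hIprod hI in
/-- One step of the tower. -/
lemma exists_next {X Q : CochainComplex A ℤ} (q : X ⟶ Q) (a : ℤ) [X.IsStrictlyGE a] [Q.IsStrictlyGE a]
    (hQ : ∀ i, I (Q.X i)) :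
    ∃ (Q' : CochainComplex A ℤ) (p : Q' ⟶ Q) (π : X ⟶ Q'), π ≫ p = q ∧ QuasiIso π ∧
      (∀ i, Mono (π.f i)) ∧ (∃ a' : ℤ, Q'.IsStrictlyGE a') ∧ (∀ i, I (Q'.X i)) ∧
      ∀ i, (∃ s : Q.X i ⟶ Q'.X i, s ≫ p.f i = 𝟙 _) ∧ I (kernel (p.f i)) := by
  haveI : (mappingCone q).IsStrictlyGE (a - 1) := by
    haveI : X.IsStrictlyGE (a - 1 + 1) := by rwa [sub_add_cancel]
    haveI : Q.IsStrictlyGE (a - 1) := isStrictlyGE_of_ge Q (a - 1) a (by omega)
    exact isStrictlyGE_mappingCone q _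
  obtain ⟨E, e, hE, hEI, he, heq⟩ := TriCat.exists_quasiIso_resolution (A := A) I hI0 hI (mappingCone q) (a - 1)
  haveI := hE
  haveI := heq
  let δ : Q ⟶ E := mappingCone.inr q ≫ e
  obtain ⟨π, hπq, hπ, hπm⟩ := exists_step q e he
  let eX : ∀ i, (mappingCocone δ).X i ≅ Q.X i ⊞ E.X (i + -1) := fun i =>
    { hom := biprod.lift ((mappingCocone.fst δ).f i) ((mappingCocone.snd δ).v i (i + -1) rfl)
      inv := biprod.desc ((mappingCocone.inl δ).v i i (add_zero i)) ((mappingCocone.inr δ).1.v (i + -1) i (by omega))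
      hom_inv_id := by rw [biprod.lift_desc]; exact mappingCocone.id_X δ i _ rfl
      inv_hom_id := by ext <;> simp }
  refine ⟨mappingCocone δ, mappingCocone.fst δ, π, hπq, hπ, hπm, ⟨a - 1, ?_⟩,
    fun i => I.prop_of_iso (eX i).symm (hIprod _ _ (hQ i) (hEI _)),
    fun i => ⟨⟨(mappingCocone.inl δ).v i i (add_zero i), mappingCocone.inl_v_fst_f δ i⟩, ?_⟩⟩
  · rw [isStrictlyGE_iff]
    intro i hi
    exact ((biprod_isZero_iff _ _).2 ⟨Q.isZero_of_isStrictlyGE a i (by omega),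
      E.isZero_of_isStrictlyGE (a - 1) (i + -1) (by omega)⟩).of_iso (eX i)
  · have hker : IsLimit (KernelFork.ofι ((mappingCocone.inr δ).1.v (i + -1) i (by omega))
        (mappingCocone.inr_v_fst_f δ (i + -1) i (by omega))) :=
      KernelFork.IsLimit.ofι _ _ (fun g _ => g ≫ (mappingCocone.snd δ).v i (i + -1) rfl)
        (fun g hg => by
          have h := congrArg (fun t => g ≫ t) (mappingCocone.id_X δ i _ rfl)
          rw [Preadditive.comp_add, reassoc_of% hg, zero_comp, zero_add] at h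
          rw [assoc]
          exact h.trans (comp_id g))
        (fun g hg m hm => by rw [← hm, assoc, mappingCocone.inr_v_snd_v, comp_id])
    exact I.prop_of_iso (hker.conePointUniqueUpToIso (limit.isLimit _)) (hEI (i + -1))

/-- The induced map between truncations. -/
def truncMap (K : CochainComplex A ℤ) (a b : ℤ) (h : a ≤ b) : K.truncGE a ⟶ K.truncGE b :=
  haveI : (K.truncGE b).IsStrictlyGE a := isStrictlyGE_of_ge _ a b h
  truncGEMap (K.πTruncGE b) a ≫ inv ((K.truncGE b).πTruncGE a)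

lemma π_truncMap (K : CochainComplex A ℤ) (a b : ℤ) (h : a ≤ b) :
    K.πTruncGE a ≫ truncMap K a b h = K.πTruncGE b := by
  haveI : (K.truncGE b).IsStrictlyGE a := isStrictlyGE_of_ge _ a b h
  simp [truncMap]

include hI0 hIprod hI in
theorem exists_special_system (K : CochainComplex A ℤ) :
    ∃ (Q : ℕ → CochainComplex A ℤ) (p : ∀ n, Q (n + 1) ⟶ Q n) (π : ∀ n : ℕ, K.truncGE (-(n : ℤ)) ⟶ Q n),
      (∀ n, QuasiIso (π n) ∧ ∀ i, Mono ((π n).f i)) ∧
      (∀ n, ∃ a : ℤ, (Q n).IsStrictlyGE a) ∧ (∀ n i, I ((Q n).X i)) ∧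
      (∀ n i, (∃ s : (Q n).X i ⟶ (Q (n + 1)).X i, s ≫ (p n).f i = 𝟙 _) ∧ I (kernel ((p n).f i))) ∧
      (∀ n : ℕ, K.πTruncGE (-((n + 1 : ℕ) : ℤ)) ≫ π (n + 1) ≫ p n = K.πTruncGE (-(n : ℤ)) ≫ π n) := by
  classical
  let St : ℕ → Type _ := fun n => {t : (Q : CochainComplex A ℤ) × (K.truncGE (-(n : ℤ)) ⟶ Q) //
    QuasiIso t.2 ∧ (∀ i, Mono (t.2.f i)) ∧ (∃ a : ℤ, t.1.IsStrictlyGE a) ∧ ∀ i, I (t.1.X i)}
  have h0 : Nonempty (St 0) := by
    obtain ⟨Q, f, hQ, hQI, hf, hfq⟩ := TriCat.exists_quasiIso_resolution (A := A) I hI0 hI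
      (K.truncGE (-((0 : ℕ) : ℤ))) (-((0 : ℕ) : ℤ))
    exact ⟨⟨⟨Q, f⟩, hfq, hf, ⟨_, hQ⟩, hQI⟩⟩
  have hstep : ∀ (n : ℕ) (t : St n), ∃ (t' : St (n + 1)) (p : t'.1.1 ⟶ t.1.1),
      (K.πTruncGE (-((n + 1 : ℕ) : ℤ)) ≫ t'.1.2 ≫ p = K.πTruncGE (-(n : ℤ)) ≫ t.1.2) ∧
      ∀ i, (∃ s : t.1.1.X i ⟶ t'.1.1.X i, s ≫ p.f i = 𝟙 _) ∧ I (kernel (p.f i)) := by
    intro n ⟨⟨Q, f⟩, hfq, hf, ⟨a, ha⟩, hQI⟩
    let q : K.truncGE (-((n + 1 : ℕ) : ℤ)) ⟶ Q := truncMap K _ _ (by push_cast; omega) ≫ f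
    let m : ℤ := min a (-((n + 1 : ℕ) : ℤ))
    haveI : Q.IsStrictlyGE m := isStrictlyGE_of_ge Q m a (min_le_left _ _)
    haveI : (K.truncGE (-((n + 1 : ℕ) : ℤ))).IsStrictlyGE m :=
      isStrictlyGE_of_ge _ m (-((n + 1 : ℕ) : ℤ)) (min_le_right _ _)
    obtain ⟨Q', p, π, hπ, hπq, hπm, hb, hI', hp⟩ := exists_next I hI0 hIprod hI q m hQI
    refine ⟨⟨⟨Q', π⟩, hπq, hπm, hb, hI'⟩, p, ?_, hp⟩
    show _ ≫ π ≫ p = _ ≫ f
    rw [hπ, ← assoc, π_truncMap]
  choose next pn hcomm hsplit using hstep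
  let st : ∀ n, St n := fun n => Nat.rec h0.some (fun k t => next k t) n
  exact ⟨fun n => (st n).1.1, fun n => pn n (st n), fun n => (st n).1.2,
    fun n => ⟨(st n).2.1, (st n).2.2.1⟩, fun n => (st n).2.2.2.1, fun n i => (st n).2.2.2.2 i,
    fun n i => hsplit n (st n) i, fun n => hcomm n (st n)⟩

end Groth.Agent.PushAmp.SpecialTower
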