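import Groth.Agent.H9Misc.DRingPC
import Groth.Agent.H9Misc.DRingPerfAmp
import Groth.Agent.H9Misc.DRingPerfect
import Groth.Agent.H9Misc.DRingSplit
import Groth.Agent.H9Misc.DRingLBase
import Groth.Agent.PcExt.Basic
import Groth.Agent.S7004
import Mathlib.LinearAlgebra.Charpoly.Basic

/-!
# Splitting a pseudo-coherent complex near a prime where a fibre cohomology vanishes
-/

set_option autoImplicit false
set_option linter.style.haveILetI false
set_option backward.isDefEq.respectTransparency false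
set_option maxHeartbeats 1000000

universe u

open CategoryTheory CategoryTheory.Limits HomologicalComplex
open scoped TensorProduct Polynomial

attribute [local instance] HasDerivedCategory.standard

noncomputable section

namespace Groth.Agent.PushAmp.SplitNear

open H9Misc

variable {R : Type u} [CommRing R]

/-- Lifting linear maps from a fibre, up to a scalar. -/
lemma exists_lift (p : Ideal R) [p.IsPrime] {X Y : Type u} [AddCommGroup X] [Module R X] [AddCommGroup Y] [Module R Y]
    [Module.Free R X] [Module.Finite R X] [Module.Free R Y] [Module.Finite R Y]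
    (z : p.ResidueField ⊗[R] X →ₗ[p.ResidueField] p.ResidueField ⊗[R] Y) :
    ∃ s : R, s ∉ p ∧ ∃ v : X →ₗ[R] Y, v.baseChange p.ResidueField = algebraMap R p.ResidueField s • z := by
  classical
  let bX := Module.Free.chooseBasis R X
  let bY := Module.Free.chooseBasis R Y
  let c : _ × _ → p.ResidueField := fun jk => (bY.baseChange p.ResidueField).repr (z ((1 : p.ResidueField) ⊗ₜ[R] bX jk.1)) jk.2
  obtain ⟨⟨t, ht⟩, hc⟩ := IsLocalization.exist_integer_multiples_of_finite (nonZeroDivisors (R ⧸ p)) c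
  obtain ⟨s, rfl⟩ := Ideal.Quotient.mk_surjective t
  choose a' ha' using fun jk => hc jk
  choose a ha using fun jk => Ideal.Quotient.mk_surjective (a' jk)
  have hs : s ∉ p := fun h => nonZeroDivisors.ne_zero ht (Ideal.Quotient.eq_zero_iff_mem.2 h)
  refine ⟨s, hs, bX.constr R fun j => ∑ k, a (j, k) • bY k, ?_⟩
  refine (bX.baseChange p.ResidueField).ext fun j => ?_
  have hcoef : ∀ k, algebraMap R p.ResidueField (a (j, k)) = algebraMap R p.ResidueField s * c (j, k) := fun k => by
    rw [IsScalarTower.algebraMap_apply R (R ⧸ p) p.ResidueField, IsScalarTower.algebraMap_apply R (R ⧸ p) p.ResidueField]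
    show algebraMap (R ⧸ p) p.ResidueField (Ideal.Quotient.mk p (a (j, k))) = algebraMap (R ⧸ p) p.ResidueField (Ideal.Quotient.mk p s) * _
    rw [ha]
    refine (ha' (j, k)).trans ?_
    rw [Algebra.smul_def]
  simp only [Module.Basis.baseChange_apply, LinearMap.baseChange_tmul, Module.Basis.constr_basis,
    LinearMap.smul_apply, TensorProduct.tmul_sum, TensorProduct.tmul_smul]
  conv_rhs => rw [← (bY.baseChange p.ResidueField).sum_repr (z ((1 : p.ResidueField) ⊗ₜ[R] bX j)), Finset.smul_sum]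
  refine Finset.sum_congr rfl fun k _ => ?_
  simp only [Module.Basis.baseChange_apply, smul_smul]
  exact (algebraMap_smul p.ResidueField (a (j, k)) _).symm.trans (congrArg (· • _) (hcoef k))

/-- Over a field, exactness in the middle gives a contraction. -/
lemma exists_contraction {k : Type u} [Field k] {X Y Z : Type u} [AddCommGroup X] [Module k X] [AddCommGroup Y]
    [Module k Y] [AddCommGroup Z] [Module k Z] (d₀ : X →ₗ[k] Y) (d₁ : Y →ₗ[k] Z)
    (h : LinearMap.ker d₁ ≤ LinearMap.range d₀) :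
    ∃ (h₀ : Y →ₗ[k] X) (h₁ : Z →ₗ[k] Y), d₀ ∘ₗ h₀ + h₁ ∘ₗ d₁ = LinearMap.id := by
  obtain ⟨t, ht⟩ := d₁.rangeRestrict.exists_rightInverse_of_surjective d₁.range_rangeRestrict
  obtain ⟨h₁, hh₁⟩ := LinearMap.exists_extend t
  have hmem : ∀ y, (LinearMap.id - h₁ ∘ₗ d₁ : Y →ₗ[k] Y) y ∈ LinearMap.range d₀ := fun y => h (by
    have e1 : h₁ (d₁ y) = t (d₁.rangeRestrict y) := LinearMap.congr_fun hh₁ (d₁.rangeRestrict y)
    have e2 : d₁ (t (d₁.rangeRestrict y)) = d₁ y :=
      congrArg Subtype.val (LinearMap.congr_fun ht (d₁.rangeRestrict y))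
    rw [LinearMap.mem_ker, LinearMap.sub_apply, map_sub, LinearMap.id_apply, LinearMap.comp_apply, e1, e2, sub_self])
  obtain ⟨s, hs⟩ := d₀.rangeRestrict.exists_rightInverse_of_surjective d₀.range_rangeRestrict
  refine ⟨s ∘ₗ (LinearMap.id - h₁ ∘ₗ d₁).codRestrict (LinearMap.range d₀) hmem, h₁, LinearMap.ext fun y => ?_⟩
  let w := (LinearMap.id - h₁ ∘ₗ d₁).codRestrict (LinearMap.range d₀) hmem y
  have e3 : d₀ (s w) = y - h₁ (d₁ y) := congrArg Subtype.val (LinearMap.congr_fun hs w)
  show d₀ (s w) + h₁ (d₁ y) = y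
  rw [e3, sub_add_cancel]

/-- An endomorphism with unit determinant is inverted by a polynomial in it. -/
lemma exists_inv_aeval {M : Type u} [AddCommGroup M] [Module R M] [Module.Free R M] [Module.Finite R M]
    (φ : M →ₗ[R] M) (h : IsUnit (LinearMap.det φ)) :
    ∃ q : R[X], (Polynomial.aeval φ q) * φ = 1 ∧ φ * (Polynomial.aeval φ q) = 1 := by
  rcases subsingleton_or_nontrivial R with hR | hR
  · haveI := Module.subsingleton R M
    exact ⟨0, Subsingleton.elim _ _, Subsingleton.elim _ _⟩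
  have hc : IsUnit (φ.charpoly.coeff 0) := by
    rw [LinearMap.det_eq_sign_charpoly_coeff] at h
    exact isUnit_of_mul_isUnit_right h
  obtain ⟨v, hv⟩ := hc
  refine ⟨-Polynomial.C (↑v⁻¹ : R) * φ.charpoly.divX, ?_, ?_⟩
  all_goals
    have h0 : Polynomial.aeval φ (φ.charpoly.divX * Polynomial.X + Polynomial.C (φ.charpoly.coeff 0)) = 0 := by
      rw [Polynomial.divX_mul_X_add]
      exact φ.aeval_self_charpoly
    rw [map_add, Polynomial.aeval_C, ← eq_neg_iff_add_eq_zero] at h0
    have hX : Polynomial.aeval φ (Polynomial.X : R[X]) = φ := Polynomial.aeval_X φ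
    have hl : ∀ r : R[X], Polynomial.aeval φ r * φ = Polynomial.aeval φ (r * Polynomial.X) := fun r => by
      rw [map_mul, hX]
    have hr : ∀ r : R[X], φ * Polynomial.aeval φ r = Polynomial.aeval φ (Polynomial.X * r) := fun r => by
      rw [map_mul, hX]
    simp only [hl, hr]
  · rw [mul_assoc, map_mul, h0, map_neg, Polynomial.aeval_C, neg_mul_neg, ← map_mul, ← hv, Units.inv_mul, map_one]
  · rw [show Polynomial.X * (-Polynomial.C (↑v⁻¹ : R) * φ.charpoly.divX) =
        -Polynomial.C (↑v⁻¹ : R) * (φ.charpoly.divX * Polynomial.X) by ring,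
      map_mul, h0, map_neg, Polynomial.aeval_C, neg_mul_neg, ← map_mul, ← hv, Units.inv_mul, map_one]

/-- Splitting from a near contraction. -/
lemma split_of_contraction {X Y Z : Type u} [AddCommGroup X] [Module R X] [AddCommGroup Y] [Module R Y]
    [AddCommGroup Z] [Module R Z] [Module.Free R Y] [Module.Finite R Y]
    (d₀ : X →ₗ[R] Y) (d₁ : Y →ₗ[R] Z) (hd : d₁ ∘ₗ d₀ = 0) (h₀ : Y →ₗ[R] X) (h₁ : Z →ₗ[R] Y)
    (hu : IsUnit (LinearMap.det (d₀ ∘ₗ h₀ + h₁ ∘ₗ d₁))) :
    LinearMap.ker d₁ ≤ LinearMap.range d₀ ∧ ∃ H : Z →ₗ[R] Y, d₁ ∘ₗ H ∘ₗ d₁ = d₁ := by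
  let φ : Y →ₗ[R] Y := d₀ ∘ₗ h₀ + h₁ ∘ₗ d₁
  obtain ⟨q, hq₁, hq₂⟩ := exists_inv_aeval φ hu
  have hd' : ∀ x, d₁ (d₀ x) = 0 := LinearMap.congr_fun hd
  have hφZ : ∀ y, d₁ y = 0 → d₁ (φ y) = 0 := fun y hy => by
    show d₁ (d₀ (h₀ y) + h₁ (d₁ y)) = 0
    rw [hy, map_zero, add_zero, hd']
  have hqZ : ∀ (r : R[X]) y, d₁ y = 0 → d₁ (Polynomial.aeval φ r y) = 0 := by
    intro r
    induction r using Polynomial.induction_on with
    | C a => intro y hy; rw [Polynomial.aeval_C, Module.algebraMap_end_apply, map_smul, hy, smul_zero]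
    | add r r' hr hr' => intro y hy; rw [map_add, LinearMap.add_apply, map_add, hr y hy, hr' y hy, add_zero]
    | monomial n a hn =>
      intro y hy
      rw [pow_succ, ← mul_assoc, map_mul, Polynomial.aeval_X, Module.End.mul_apply]
      exact hn _ (hφZ y hy)
  refine ⟨fun y hy => ⟨h₀ (Polynomial.aeval φ q y), ?_⟩, Polynomial.aeval φ q ∘ₗ h₁, LinearMap.ext fun y => ?_⟩
  · have := LinearMap.congr_fun hq₂ y
    rw [Module.End.mul_apply] at this
    change d₀ _ + h₁ (d₁ _) = y at this
    rwa [hqZ q y hy, map_zero, add_zero] at this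
  · have e1 : h₁ (d₁ y) = φ y - d₀ (h₀ y) := by simp [φ]
    show d₁ (Polynomial.aeval φ q (h₁ (d₁ y))) = d₁ y
    rw [e1, map_sub, map_sub, hqZ q _ (hd' _), sub_zero, ← Module.End.mul_apply, hq₁, Module.End.one_apply]

/-- Base change of maps, compared with extension of scalars. -/
lemma extendScalars_iff {T : Type u} [CommRing T] [alg : Algebra R T] {X Y Z : ModuleCat.{u} R} (f : X ⟶ Y) (g : Y ⟶ Z) :
    let G := ModuleCat.extendScalars.{u, u, u} (algebraMap R T)
    ((LinearMap.ker (G.map g).hom ≤ LinearMap.range (G.map f).hom) ↔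
      LinearMap.ker (g.hom.baseChange T) ≤ LinearMap.range (f.hom.baseChange T)) ∧
    ((∃ H : G.obj Z →ₗ[T] G.obj Y, (G.map g).hom ∘ₗ H ∘ₗ (G.map g).hom = (G.map g).hom) ↔
      ∃ H : T ⊗[R] Z →ₗ[T] T ⊗[R] Y, g.hom.baseChange T ∘ₗ H ∘ₗ g.hom.baseChange T = g.hom.baseChange T) := by
  generalize hψ : algebraMap R T = ψ
  obtain rfl : alg = ψ.toAlgebra := Algebra.algebra_ext _ _ fun r => by rw [← hψ]; rfl
  exact ⟨Iff.rfl, Iff.rfl⟩

lemma free_extendScalars {T : Type u} [CommRing T] (φ : R →+* T) (M : ModuleCat.{u} R) [Module.Free R M] :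
    Module.Free T ((ModuleCat.extendScalars.{u, u, u} φ).obj M) := by
  letI := φ.toAlgebra
  exact inferInstanceAs (Module.Free T (T ⊗[R] M))

/-- Vanishing of a fibre cohomology splits the complex near the prime. -/
lemma exists_away_split (p : Ideal R) [p.IsPrime] (P : DRing.Cx R) (hP : DRing.TermwiseFiniteFree P) (i : ℤ)
    (h : IsZero ((((ModuleCat.extendScalars.{u, u, u} (algebraMap R p.ResidueField)).mapHomologicalComplex
      (ComplexShape.up ℤ)).obj P).homology i)) :
    ∃ g : R, g ∉ p ∧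
      let Pg := ((ModuleCat.extendScalars.{u, u, u} (algebraMap R (Localization.Away g))).mapHomologicalComplex
        (ComplexShape.up ℤ)).obj P
      LinearMap.ker (Pg.d i (i + 1)).hom ≤ LinearMap.range (Pg.d (i - 1) i).hom ∧
        ∃ H : Pg.X (i + 1) →ₗ[Localization.Away g] Pg.X i,
          (Pg.d i (i + 1)).hom ∘ₗ H ∘ₗ (Pg.d i (i + 1)).hom = (Pg.d i (i + 1)).hom := by
  let κ := p.ResidueField
  let d₀ := (P.d (i - 1) i).hom
  let d₁ := (P.d i (i + 1)).hom
  haveI := fun j => (hP j).1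
  haveI := fun j => (hP j).2
  let Pk := ((ModuleCat.extendScalars.{u, u, u} (algebraMap R κ)).mapHomologicalComplex (ComplexShape.up ℤ)).obj P
  have hk : LinearMap.ker (Pk.d i (i + 1)).hom ≤ LinearMap.range (Pk.d (i - 1) i).hom := by
    have hex : (Pk.sc' (i - 1) i (i + 1)).Exact := by
      rw [← Pk.exactAt_iff' (i - 1) i (i + 1) (by simp) (by simp), exactAt_iff_isZero_homology]
      exact h
    exact fun x hx => ((ShortComplex.ShortExact.moduleCat_exact_iff_function_exact _).1 hex x).1 hx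
  have hk' : LinearMap.ker (d₁.baseChange κ) ≤ LinearMap.range (d₀.baseChange κ) :=
    (extendScalars_iff (P.d (i - 1) i) (P.d i (i + 1))).1.1 hk
  obtain ⟨z₀, z₁, hz⟩ := exists_contraction _ _ hk'
  obtain ⟨s₀, hs₀, v₀, hv₀⟩ := exists_lift p z₀
  obtain ⟨s₁, hs₁, v₁, hv₁⟩ := exists_lift p z₁
  let φ : P.X i →ₗ[R] P.X i := d₀ ∘ₗ (s₁ • v₀) + (s₀ • v₁) ∘ₗ d₁
  have hφ : φ.baseChange κ = algebraMap R κ (s₁ * s₀) • LinearMap.id := by
    have e : φ.baseChange κ = algebraMap R κ (s₁ * s₀) • (d₀.baseChange κ ∘ₗ z₀ + z₁ ∘ₗ d₁.baseChange κ) := by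
      simp only [φ, LinearMap.baseChange_add, LinearMap.baseChange_comp, LinearMap.baseChange_smul]
      rw [show v₀.baseChange κ = _ from hv₀, show v₁.baseChange κ = _ from hv₁]
      simp only [LinearMap.comp_smul, LinearMap.smul_comp, smul_add, map_mul, ← smul_smul, algebraMap_smul]
      rw [smul_comm s₀ s₁]
    rw [e, hz]
  let g := LinearMap.det φ
  have hg : g ∉ p := fun hmem => by
    have h0 : algebraMap R κ g = 0 := Ideal.algebraMap_residueField_eq_zero.2 hmem
    rw [← LinearMap.det_baseChange, hφ, LinearMap.det_smul, LinearMap.det_id, mul_one] at h0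
    exact (Ideal.IsPrime.mul_notMem inferInstance hs₁ hs₀) (Ideal.algebraMap_residueField_eq_zero.1 (eq_zero_of_pow_eq_zero h0))
  refine ⟨g, hg, ?_⟩
  let Rg := Localization.Away g
  have hu : IsUnit (LinearMap.det (d₀.baseChange Rg ∘ₗ (s₁ • v₀).baseChange Rg +
      (s₀ • v₁).baseChange Rg ∘ₗ d₁.baseChange Rg)) := by
    rw [← LinearMap.baseChange_comp, ← LinearMap.baseChange_comp, ← LinearMap.baseChange_add,
      LinearMap.det_baseChange]
    exact IsLocalization.Away.algebraMap_isUnit g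
  have hd : d₁.baseChange Rg ∘ₗ d₀.baseChange Rg = 0 := by
    rw [← LinearMap.baseChange_comp, ← ModuleCat.hom_comp, P.d_comp_d, ModuleCat.hom_zero, LinearMap.baseChange_zero]
  obtain ⟨hker, hH⟩ := split_of_contraction (d₀.baseChange Rg) (d₁.baseChange Rg) hd ((s₁ • v₀).baseChange Rg)
    ((s₀ • v₁).baseChange Rg) hu
  exact ⟨(extendScalars_iff (P.d (i - 1) i) (P.d i (i + 1))).1.2 hker,
    (extendScalars_iff (P.d (i - 1) i) (P.d i (i + 1))).2.2 hH⟩

/-- Splitting near a prime. -/
theorem exists_away_truncations (p : Ideal R) [p.IsPrime] [DRing.HasLBaseChange (algebraMap R p.ResidueField)] (i : ℤ)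
    (K : DRing.Cx R) (hK : DRing.IsPseudoCoherent' R (DRing.toD K))
    (hi : Subsingleton (Dual.HD p.ResidueField ((DRing.LBaseChange (algebraMap R p.ResidueField)).obj (DRing.toD K)) i)) :
    ∃ f : R, f ∉ p ∧
      let Kf := DRing.toD (((ModuleCat.extendScalars (algebraMap R (Localization.Away f))).mapHomologicalComplex
        (ComplexShape.up ℤ)).obj K)
      let t := (DerivedCategory.TStructure.t : Triangulated.TStructure (Dual.D (Localization.Away f)))
      let Kge := (t.truncGE (i + 1)).obj Kf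
      let Klt := (t.truncLT i).obj Kf
      DRing.IsPerfect (Localization.Away f) Kge ∧
        (∃ b : ℤ, DRing.HasTorAmplitudeIn (Localization.Away f) (i + 1) b Kge) ∧
        ∀ [HasBinaryBiproduct Kge Klt], ∃ e : Kf ≅ Kge ⊞ Klt,
          e.hom ≫ biprod.fst = (t.truncGEπ (i + 1)).app Kf ∧ (t.truncLTι i).app Kf ≫ e.hom = biprod.inr := by
  obtain ⟨P, b, hPb, hP, ⟨eP⟩⟩ := hK
  let φκ := algebraMap R p.ResidueField
  obtain ⟨eκ⟩ := DRingLBase.nonempty_lbase_iso φκ (DRingTor.isKF_of_flat (b := b) (fun j => by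
    haveI := (hP j).2
    exact Module.Flat.of_free) hPb)
  have hz : IsZero ((((ModuleCat.extendScalars.{u, u, u} φκ).mapHomologicalComplex (ComplexShape.up ℤ)).obj P).homology i) :=
    (@ModuleCat.isZero_of_subsingleton _ _ _ hi).of_iso
      (((DerivedCategory.homologyFunctorFactors (ModuleCat.{u} p.ResidueField) i).app _).symm ≪≫
        (DerivedCategory.homologyFunctor (ModuleCat.{u} p.ResidueField) i).mapIso
          (eκ.symm ≪≫ (DRing.LBaseChange φκ).mapIso eP))
  obtain ⟨g, hg, hker, H, hH⟩ := exists_away_split p P hP i hz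
  refine ⟨g, hg, ?_⟩
  intro Kf t Kge Klt
  let φ := algebraMap R (Localization.Away g)
  let F := ModuleCat.extendScalars.{u, u, u} φ
  have hflat : φ.Flat := RingHom.flat_algebraMap_iff.2 (IsLocalization.flat (Localization.Away g) (Submonoid.powers g))
  haveI := ModuleCat.preservesFiniteLimits_extendScalars_of_flat hflat
  haveI : PreservesFiniteColimits F := by
    haveI : F.IsLeftAdjoint := (ModuleCat.extendRestrictScalarsAdj φ).isLeftAdjoint
    infer_instance
  let E : DRing.Cx (Localization.Away g) := (F.mapHomologicalComplex (ComplexShape.up ℤ)).obj P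
  let eK : DerivedCategory.Q.obj E ≅ Kf :=
    (F.mapDerivedCategoryFactors.app P).symm ≪≫ F.mapDerivedCategory.mapIso eP ≪≫ F.mapDerivedCategoryFactors.app K
  have hEfin : ∀ j, Module.Finite (Localization.Away g) (E.X j) ∧ Module.Projective (Localization.Away g) (E.X j) := fun j => by
    haveI := (hP j).1
    haveI := (hP j).2
    exact DRingPerfect.finProj_extendScalars φ (P.X j)
  have hEb : DRing.VanishesAbove E b := fun j hj => F.map_isZero (hPb j hj)
  haveI : E.IsKProjective := DRingProjAmp.isKProjective (fun j => (hEfin j).2) hEb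
  have hHom : ∀ (M : Type u) [AddCommGroup M] [Module (Localization.Away g) M],
      Subsingleton (Kf ⟶ (shiftFunctor (Dual.D (Localization.Away g)) (-i)).obj (Dual.inD (Localization.Away g) M)) := by
    intro M _ _
    suffices ∀ x : DerivedCategory.Q.obj E ⟶
        (shiftFunctor (Dual.D (Localization.Away g)) (-i)).obj (Dual.inD (Localization.Away g) M), x = 0 from
      ⟨fun x y => (cancel_epi eK.hom).1 ((this _).trans (this _).symm)⟩
    intro x
    obtain ⟨c, hc, rfl⟩ := PcExt.homOfCocycle_surjective E (q := i) (p := -i) (add_neg_cancel i) (i - 1) (by omega) x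
    refine (PcExt.homOfCocycle_eq_zero_iff E _ c (i - 1) (by omega) hc (i + 1) rfl).2
      ⟨ModuleCat.ofHom (c.hom ∘ₗ H), ModuleCat.hom_ext (LinearMap.ext fun y => ?_)⟩
    show c.hom (H ((E.d i (i + 1)).hom y)) = c.hom y
    have hy : y - H ((E.d i (i + 1)).hom y) ∈ LinearMap.ker (E.d i (i + 1)).hom := by
      rw [LinearMap.mem_ker, map_sub, sub_eq_zero]
      exact (LinearMap.congr_fun hH y).symm
    obtain ⟨w, hw⟩ := hker hy
    have h0 : c.hom ((E.d (i - 1) i).hom w) = 0 := LinearMap.congr_fun (congrArg ModuleCat.Hom.hom hc) w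
    have h1 : c.hom (y - H ((E.d i (i + 1)).hom y)) = 0 := by
      rw [← hw]
      exact h0
    rw [map_sub, sub_eq_zero] at h1
    exact h1.symm
  have hKb : ∃ b' : ℤ, ∀ j : ℤ, b' < j → Subsingleton (Dual.HD (Localization.Away g) Kf j) := ⟨b, fun j hj =>
    ModuleCat.subsingleton_of_isZero ((ShortComplex.isZero_homology_of_isZero_X₂ (E.sc j) (hEb j hj)).of_iso
      ((DerivedCategory.homologyFunctor (ModuleCat.{u} (Localization.Away g)) j).mapIso eK.symm ≪≫
        (DerivedCategory.homologyFunctorFactors (ModuleCat.{u} (Localization.Away g)) j).app E))⟩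
  haveI : HasBinaryBiproduct Klt Kge := HasBinaryBiproducts.has_binary_biproduct _ _
  obtain ⟨⟨e, he₁, he₂⟩, Q, b', hQz, hQ, ⟨eQ⟩⟩ := Groth.Agent.S7004.result (Localization.Away g) i Kf hKb hHom
  have hamp : DRing.HasTorAmplitudeIn (Localization.Away g) (i + 1) b' Kge :=
    ⟨Q, hQz, fun j => haveI := hQ j; Module.Flat.of_projective, ⟨eQ⟩⟩
  have hpc : DRing.IsPseudoCoherent' (Localization.Away g) Kge := by
    refine (DRingPC.summand' (K := Klt) (L := Kge) ?_).2
    refine DRingPC.of_iso' e ?_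
    refine ⟨E, b, hEb, fun j => ?_, ⟨eK⟩⟩
    haveI := (hP j).1
    haveI := (hP j).2
    exact ⟨(hEfin j).1, free_extendScalars φ (P.X j)⟩
  refine ⟨DRingPerfAmp.isPerfect_of_amp ((DRingPC.pc'_iff _).1 hpc _) hamp, ⟨b', hamp⟩, ?_⟩
  intro _
  refine ⟨e ≪≫ biprod.braiding _ _, ?_, ?_⟩
  · rw [Iso.trans_hom, Category.assoc]
    exact (congrArg (e.hom ≫ ·) (biprod.lift_fst _ _)).trans he₂
  · rw [Iso.trans_hom, ← Category.assoc]
    refine (congrArg (· ≫ (biprod.braiding _ _).hom) he₁).trans ?_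
    refine biprod.hom_ext _ _ ?_ ?_
    · exact (Category.assoc _ _ _).trans ((congrArg (biprod.inl ≫ ·) (biprod.lift_fst _ _)).trans (biprod.inl_snd.trans biprod.inr_fst.symm))
    · exact (Category.assoc _ _ _).trans ((congrArg (biprod.inl ≫ ·) (biprod.lift_snd _ _)).trans (biprod.inl_fst.trans biprod.inr_snd.symm))

end Groth.Agent.PushAmp.SplitNear
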