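import Groth.Agent.PushAmp.KunnethStep
import Groth.Agent.H9Misc.DRingProjAmp
import Groth.Agent.KRegLib.Perfect
import Groth.Agent.FlatCxLib.BoundedFlat
import Mathlib.RingTheory.Spectrum.Prime.FreeLocus

/-!
# Isomorphic perfect complexes are stably isomorphic near a prime
-/

set_option autoImplicit false
set_option linter.style.haveILetI false
set_option backward.isDefEq.respectTransparency false
set_option maxHeartbeats 1000000

universe u

open CategoryTheory CategoryTheory.Limits HomologicalComplex
open CochainComplex (mappingCone)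
open scoped TensorProduct

attribute [local instance] HasDerivedCategory.standard

noncomputable section

namespace Groth.Agent.PushAmp

variable {R : Type u} [CommRing R]

/-- A finite projective module is free near a given prime. -/
lemma exists_away_free (p : Ideal R) [p.IsPrime] (M : Type u) [AddCommGroup M] [Module R M] [Module.Finite R M]
    [Module.Projective R M] :
    ∃ r, r ∉ p ∧ Module.Free (Localization.Away r) (Localization.Away r ⊗[R] M) := by
  haveI : Module.FinitePresentation R M := Module.finitePresentation_of_projective R M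
  haveI : Module.Free (Localization.AtPrime p) (LocalizedModule p.primeCompl M) :=
    Module.free_of_flat_of_isLocalRing
  obtain ⟨r, hr, hfree, -⟩ := Module.FinitePresentation.exists_free_localizedModule_powers
    p.primeCompl (LocalizedModule.mkLinearMap p.primeCompl M) (Localization.AtPrime p)
  haveI : Module.Free (Localization.Away r) (LocalizedModule.Away r M) := hfree
  exact ⟨r, hr, Module.Free.of_equiv (LocalizedModule.equivTensorProduct (Submonoid.powers r) M)⟩

/-- Freeness persists on a smaller basic open. -/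
lemma free_away_of_dvd {r s : R} (hrs : r ∣ s) (M : Type u) [AddCommGroup M] [Module R M]
    [Module.Free (Localization.Away r) (Localization.Away r ⊗[R] M)] :
    Module.Free (Localization.Away s) (Localization.Away s ⊗[R] M) := by
  obtain ⟨t, rfl⟩ := hrs
  have hu : IsUnit (algebraMap R (Localization.Away (r * t)) r) := by
    have h := IsLocalization.Away.algebraMap_isUnit (S := Localization.Away (r * t)) (r * t)
    rw [map_mul] at h
    exact isUnit_of_mul_isUnit_left h
  letI : Algebra (Localization.Away r) (Localization.Away (r * t)) :=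
    (IsLocalization.Away.lift (S := Localization.Away r) r hu).toAlgebra
  haveI : IsScalarTower R (Localization.Away r) (Localization.Away (r * t)) :=
    IsScalarTower.of_algebraMap_eq fun x => (IsLocalization.Away.lift_eq r hu x).symm
  exact Module.Free.of_equiv (TensorProduct.AlgebraTensorModule.cancelBaseChange R (Localization.Away r)
    (Localization.Away (r * t)) (Localization.Away (r * t)) M)

/-- Finitely many finite projective modules are simultaneously free near a prime. -/
lemma exists_away_free_family (p : Ideal R) [p.IsPrime] {ι : Type*} (M : ι → Type u) [∀ i, AddCommGroup (M i)]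
    [∀ i, Module R (M i)] [∀ i, Module.Finite R (M i)] [∀ i, Module.Projective R (M i)] (s : Finset ι)
    (hs : ∀ i, i ∉ s → Subsingleton (M i)) :
    ∃ r, r ∉ p ∧ ∀ i, Module.Free (Localization.Away r) (Localization.Away r ⊗[R] M i) := by
  classical
  choose r hr hfree using fun i => exists_away_free p (M i)
  refine ⟨∏ i ∈ s, r i, fun h => ?_, fun i => ?_⟩
  · obtain ⟨i, -, hi⟩ := Ideal.IsPrime.prod_mem_iff.1 h
    exact hr i hi
  · by_cases hi : i ∈ s
    · haveI := hfree i
      exact free_away_of_dvd (Finset.dvd_prod_of_mem r hi) (M i)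
    · haveI := hs i hi
      haveI : Subsingleton (Localization.Away (∏ i ∈ s, r i) ⊗[R] M i) := subsingleton_of_forall_eq 0 fun z => by
        induction z using TensorProduct.induction_on with
        | zero => rfl
        | tmul a x => rw [Subsingleton.elim x 0, TensorProduct.tmul_zero]
        | add a b ha hb => rw [ha, hb, add_zero]
      exact Module.Free.of_subsingleton _ _

/-- A short exact sequence with contractible quotient and degreewise splittings is split. -/
lemma nonempty_iso_biprod_of_contractible {S : ShortComplex (DRing.Cx R)}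
    (hσ : ∀ n, (S.map (HomologicalComplex.eval _ (ComplexShape.up ℤ) n)).Splitting)
    (h : Homotopy (𝟙 S.X₃) 0) : Nonempty (S.X₂ ≅ S.X₁ ⊞ S.X₃) := by
  have hS : S.ShortExact :=
    HomologicalComplex.shortExact_of_degreewise_shortExact _ fun n => (hσ n).shortExact
  let σ : ∀ j, S.X₃.X j ⟶ S.X₂.X j := fun j => (hσ j).s
  have hσ' : ∀ j, σ j ≫ S.g.f j = 𝟙 _ := fun j => (hσ j).s_g
  let s : S.X₃ ⟶ S.X₂ := Homotopy.nullHomotopicMap' fun i j _ => h.hom i j ≫ σ j
  have hs : s ≫ S.g = 𝟙 S.X₃ := by
    rw [Homotopy.nullHomotopicMap'_comp]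
    refine HomologicalComplex.hom_ext _ _ fun n => ?_
    rw [Homotopy.nullHomotopicMap'_f (c := ComplexShape.up ℤ) (k₂ := n - 1) (k₁ := n) (k₀ := n + 1)
      (by simp) (by simp)]
    simp only [Category.assoc, hσ', Category.comp_id, reassoc_of% hσ']
    have hc := h.comm n
    rw [prevD_eq h.hom (show (ComplexShape.up ℤ).Rel (n - 1) n by simp),
      dNext_eq h.hom (show (ComplexShape.up ℤ).Rel n (n + 1) by simp), HomologicalComplex.zero_f, add_zero] at hc
    exact hc.symm.trans (by abel)
  haveI := hS.mono_f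
  exact ⟨(ShortComplex.Splitting.ofExactOfSection S hS.exact s hs inferInstance).isoBinaryBiproduct⟩

/-- Properties of a bounded contractible complex of finite projectives. -/
lemma boundary_facts (C : DRing.Cx R) (hC : DRing.TermwiseFiniteProjective C) (h : Homotopy (𝟙 C) 0) (i : ℤ) :
    Module.Finite R (LinearMap.range (C.d i (i + 1)).hom) ∧
      Module.Projective R (LinearMap.range (C.d i (i + 1)).hom) ∧
      ∃ π : C.X (i + 1) →ₗ[R] LinearMap.range (C.d i (i + 1)).hom,
        π ∘ₗ (LinearMap.range (C.d i (i + 1)).hom).subtype = LinearMap.id := by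
  let d := (C.d i (i + 1)).hom
  let π : C.X (i + 1) →ₗ[R] LinearMap.range d := d.rangeRestrict ∘ₗ (h.hom (i + 1) i).hom
  have hπ : π ∘ₗ (LinearMap.range d).subtype = LinearMap.id := by
    refine LinearMap.ext fun x => Subtype.ext ?_
    obtain ⟨y, hy⟩ := x.2
    show d ((h.hom (i + 1) i).hom x.1) = x.1
    have hc := LinearMap.congr_fun (congrArg ModuleCat.Hom.hom (h.comm (i + 1))) x.1
    rw [prevD_eq h.hom (show (ComplexShape.up ℤ).Rel i (i + 1) by simp),
      dNext_eq h.hom (show (ComplexShape.up ℤ).Rel (i + 1) (i + 1 + 1) by simp), HomologicalComplex.zero_f, add_zero] at hc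
    have hdd : (C.d (i + 1) (i + 1 + 1)).hom x.1 = 0 := by
      rw [← hy, ← ModuleCat.comp_apply, C.d_comp_d]
      rfl
    simp only [ModuleCat.hom_add, ModuleCat.hom_comp, LinearMap.add_apply, LinearMap.comp_apply, hdd, map_zero,
      zero_add, HomologicalComplex.id_f, ModuleCat.hom_id, LinearMap.id_apply] at hc
    exact hc.symm
  haveI := (hC (i + 1)).1
  haveI := (hC (i + 1)).2
  exact ⟨Module.Finite.of_surjective π fun x => ⟨x.1, LinearMap.congr_fun hπ x⟩,
    Module.Projective.of_split (LinearMap.range d).subtype π hπ, π, hπ⟩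

/-- The base change of a contractible complex is trivial once everything is free. -/
lemma trivial_of_free {T : Type u} [CommRing T] (φ : R →+* T) (C : DRing.Cx R) (a b : ℤ)
    (hz : DRing.VanishesOutside C a b) (hC : DRing.TermwiseFiniteProjective C) (h : Homotopy (𝟙 C) 0)
    (hfree : letI := φ.toAlgebra; ∀ i, Module.Free T (T ⊗[R] C.X i))
    (hfree' : letI := φ.toAlgebra; ∀ i, Module.Free T (T ⊗[R] LinearMap.range (C.d i (i + 1)).hom)) :
    let P := ((ModuleCat.extendScalars.{u, u, u} φ).mapHomologicalComplex (ComplexShape.up ℤ)).obj C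
    (∃ a' b' : ℤ, DRing.VanishesOutside P a' b') ∧ DRing.TermwiseFiniteFree P ∧
      (∀ i : ℤ, Module.Free T (LinearMap.range (P.d i (i + 1)).hom)) ∧ Nonempty (Homotopy (𝟙 P) 0) := by
  intro P
  letI := φ.toAlgebra
  refine ⟨⟨a, b, fun i hi => (ModuleCat.extendScalars.{u, u, u} φ).map_isZero (hz i hi)⟩,
    fun i => ?_, fun i => ?_, ⟨?_⟩⟩
  · haveI := (hC i).1
    exact ⟨inferInstanceAs (Module.Finite T (T ⊗[R] C.X i)), hfree i⟩
  · obtain ⟨-, -, π, hπ⟩ := boundary_facts C hC h i
    let d := (C.d i (i + 1)).hom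
    have hd : ((P.d i (i + 1)).hom : (T ⊗[R] C.X i) →ₗ[T] (T ⊗[R] C.X (i + 1))) =
        (LinearMap.range d).subtype.baseChange T ∘ₗ d.rangeRestrict.baseChange T := by
      rw [← LinearMap.baseChange_comp]
      rfl
    have hinj : Function.Injective ((LinearMap.range d).subtype.baseChange T) :=
      Function.LeftInverse.injective (g := π.baseChange T) fun z => by
        rw [← LinearMap.comp_apply, ← LinearMap.baseChange_comp, hπ, LinearMap.baseChange_id]
        rfl
    have hsurj : Function.Surjective (d.rangeRestrict.baseChange T) := by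
      rw [LinearMap.baseChange_eq_ltensor]
      exact LinearMap.lTensor_surjective T d.surjective_rangeRestrict
    haveI := hfree' i
    have hrange : LinearMap.range ((LinearMap.range d).subtype.baseChange T) =
        LinearMap.range ((P.d i (i + 1)).hom : (T ⊗[R] C.X i) →ₗ[T] (T ⊗[R] C.X (i + 1))) := by
      rw [hd, LinearMap.range_comp_of_range_eq_top _ (LinearMap.range_eq_top.2 hsurj)]
    exact Module.Free.of_equiv (LinearEquiv.ofInjective _ hinj ≪≫ₗ LinearEquiv.ofEq _ _ hrange)
  · have h' := (ModuleCat.extendScalars.{u, u, u} φ).mapHomotopy h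
    rwa [CategoryTheory.Functor.map_id, Functor.map_zero] at h'

/-- Isomorphic bounded complexes of finite projectives are stably isomorphic near each prime. -/
theorem exists_away_biprod_iso (p : Ideal R) [p.IsPrime] (M N : DRing.Cx R) (a b : ℤ)
    (hM : DRing.VanishesOutside M a b) (hN : DRing.VanishesOutside N a b)
    (hMp : DRing.TermwiseFiniteProjective M) (hNp : DRing.TermwiseFiniteProjective N)
    (e : DRing.toD M ≅ DRing.toD N) :
    ∃ f : R, f ∉ p ∧ ∃ P Q : DRing.Cx (Localization.Away f),
      ((∃ a' b' : ℤ, DRing.VanishesOutside P a' b') ∧ DRing.TermwiseFiniteFree P ∧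
          (∀ i : ℤ, Module.Free (Localization.Away f) (LinearMap.range (P.d i (i + 1)).hom)) ∧ Nonempty (Homotopy (𝟙 P) 0)) ∧
      ((∃ a' b' : ℤ, DRing.VanishesOutside Q a' b') ∧ DRing.TermwiseFiniteFree Q ∧
          (∀ i : ℤ, Module.Free (Localization.Away f) (LinearMap.range (Q.d i (i + 1)).hom)) ∧ Nonempty (Homotopy (𝟙 Q) 0)) ∧
      Nonempty ((((ModuleCat.extendScalars (algebraMap R (Localization.Away f))).mapHomologicalComplex (ComplexShape.up ℤ)).obj M) ⊞ P ≅
        (((ModuleCat.extendScalars (algebraMap R (Localization.Away f))).mapHomologicalComplex (ComplexShape.up ℤ)).obj N) ⊞ Q) := by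
  classical
  let qu := HomotopyCategory.quotient (ModuleCat.{u} R) (ComplexShape.up ℤ)
  let q := DerivedCategory.quotientCompQhIso (ModuleCat.{u} R)
  haveI : M.IsKProjective := H9Misc.DRingProjAmp.isKProjective (fun i => (hMp i).2) fun i hi => hM i (Or.inr hi)
  obtain ⟨φ', hφ'⟩ := (CochainComplex.IsKProjective.Qh_map_bijective M (qu.obj N)).2 (q.hom.app M ≫ e.hom ≫ q.inv.app N)
  obtain ⟨φ, rfl⟩ := qu.map_surjective φ'
  haveI : QuasiIso φ := by
    rw [← DerivedCategory.isIso_Q_map_iff_quasiIso]
    have := NatIso.isIso_map_iff q φ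
    refine this.1 ?_
    change IsIso (DerivedCategory.Qh.map (qu.map φ))
    rw [hφ']
    infer_instance
  have hcone : ∀ {X Y : DRing.Cx R} (ψ : X ⟶ Y), DRing.VanishesOutside X a b → DRing.VanishesOutside Y a b →
      DRing.TermwiseFiniteProjective X → DRing.TermwiseFiniteProjective Y →
      DRing.VanishesOutside (mappingCone ψ) (a - 1) b ∧ DRing.TermwiseFiniteProjective (mappingCone ψ) := by
    intro X Y ψ hX hY hXp hYp
    refine ⟨fun i hi => ?_, fun i => ?_⟩
    · refine IsZero.of_iso ((biprod_isZero_iff _ _).2 ⟨hX (i + 1) (by omega), hY i (by omega)⟩)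
        (FlatCxLib.coneX ψ i)
    · let ex := (FlatCxLib.coneX ψ i ≪≫ ModuleCat.biprodIsoProd _ _).toLinearEquiv
      haveI := (hXp (i + 1)).1
      haveI := (hXp (i + 1)).2
      haveI := (hYp i).1
      haveI := (hYp i).2
      exact ⟨Module.Finite.equiv ex.symm, Module.Projective.of_equiv ex.symm⟩
  obtain ⟨hC₁z, hC₁p⟩ := hcone φ hM hN hMp hNp
  obtain ⟨hC₂z, hC₂p⟩ := hcone (𝟙 M) hM hM hMp hMp
  let C₁ := mappingCone φ
  let C₂ := mappingCone (𝟙 M)
  have h₁ : Homotopy (𝟙 C₁) 0 := by
    haveI : C₁.IsKProjective := H9Misc.DRingProjAmp.isKProjective (fun i => (hC₁p i).2) fun i hi => hC₁z i (Or.inr hi)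
    have hac : C₁.Acyclic := (FlatCxLib.acyclic_mappingCone φ).1 inferInstance
    exact CochainComplex.IsKProjective.homotopyZero (𝟙 C₁) hac
  have h₂ : Homotopy (𝟙 C₂) 0 := CochainComplex.mappingCone.homotopyToZeroOfId M
  obtain ⟨eS⟩ := nonempty_iso_biprod_of_contractible (S := cylSeq φ) (cylSeqSplitting φ) h₁
  haveI := fun i => (hC₁p i).1
  haveI := fun i => (hC₁p i).2
  haveI := fun i => (hC₂p i).1
  haveI := fun i => (hC₂p i).2
  haveI := fun i => (boundary_facts C₁ hC₁p h₁ i).1
  haveI := fun i => (boundary_facts C₁ hC₁p h₁ i).2.1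
  haveI := fun i => (boundary_facts C₂ hC₂p h₂ i).1
  haveI := fun i => (boundary_facts C₂ hC₂p h₂ i).2.1
  let s := Finset.Icc (a - 1) b
  have hX : ∀ (C : DRing.Cx R), DRing.VanishesOutside C (a - 1) b → ∀ i, i ∉ s → Subsingleton (C.X i) := fun C hC i hi =>
    ModuleCat.subsingleton_of_isZero (hC i (by simp [s] at hi; omega))
  have hB : ∀ (C : DRing.Cx R), DRing.VanishesOutside C (a - 1) b → ∀ i, i ∉ s →
      Subsingleton (LinearMap.range (C.d i (i + 1)).hom) := fun C hC i hi => by
    haveI := hX C hC i hi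
    exact (LinearMap.surjective_rangeRestrict (C.d i (i + 1)).hom).subsingleton
  obtain ⟨r₁, hr₁, f₁⟩ := exists_away_free_family p (fun i => C₁.X i) s (hX C₁ hC₁z)
  obtain ⟨r₂, hr₂, f₂⟩ := exists_away_free_family p (fun i => C₂.X i) s (hX C₂ hC₂z)
  obtain ⟨r₃, hr₃, f₃⟩ := exists_away_free_family p (fun i => ↥(LinearMap.range (C₁.d i (i + 1)).hom)) s (hB C₁ hC₁z)
  obtain ⟨r₄, hr₄, f₄⟩ := exists_away_free_family p (fun i => ↥(LinearMap.range (C₂.d i (i + 1)).hom)) s (hB C₂ hC₂z)
  let g := r₁ * r₂ * r₃ * r₄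
  have hg : g ∉ p := (inferInstance : p.IsPrime).mul_notMem
    ((inferInstance : p.IsPrime).mul_notMem ((inferInstance : p.IsPrime).mul_notMem hr₁ hr₂) hr₃) hr₄
  have d₁ : r₁ ∣ g := ⟨r₂ * r₃ * r₄, by simp [g, mul_assoc]⟩
  have d₂ : r₂ ∣ g := ⟨r₁ * r₃ * r₄, by simp [g]; ring⟩
  have d₃ : r₃ ∣ g := ⟨r₁ * r₂ * r₄, by simp [g]; ring⟩
  have d₄ : r₄ ∣ g := ⟨r₁ * r₂ * r₃, by simp [g]; ring⟩
  have halg : (algebraMap R (Localization.Away g)).toAlgebra = (inferInstance : Algebra R (Localization.Away g)) :=
    Algebra.algebra_ext _ _ fun _ => rfl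
  refine ⟨g, hg, _, _, trivial_of_free (algebraMap R (Localization.Away g)) C₁ (a - 1) b hC₁z hC₁p h₁
    (by rw [halg]; exact fun i => haveI := f₁ i; free_away_of_dvd d₁ _) (by rw [halg]; exact fun i => haveI := f₃ i; free_away_of_dvd d₃ _),
    trivial_of_free (algebraMap R (Localization.Away g)) C₂ (a - 1) b hC₂z hC₂p h₂
    (by rw [halg]; exact fun i => haveI := f₂ i; free_away_of_dvd d₂ _) (by rw [halg]; exact fun i => haveI := f₄ i; free_away_of_dvd d₄ _), ⟨?_⟩⟩
  let G := (ModuleCat.extendScalars.{u, u, u} (algebraMap R (Localization.Away g))).mapHomologicalComplex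
    (ComplexShape.up ℤ)
  haveI : PreservesBinaryBiproducts G := preservesBinaryBiproducts_of_preservesBiproducts G
  exact (G.mapBiprod M C₁).symm ≪≫ G.mapIso eS.symm ≪≫ G.mapBiprod N C₂

end Groth.Agent.PushAmp
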