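import Groth.Agent.PushAmp.Stalk
import Groth.Agent.H9Misc.DRingTor

/-! Tor amplitude over the base read off from tensor products with pullbacks. -/

set_option autoImplicit false
set_option linter.style.haveILetI false
set_option backward.isDefEq.respectTransparency false

universe u

open CategoryTheory CategoryTheory.Limits AlgebraicGeometry MonoidalCategory

attribute [local instance] HasDerivedCategory.standard

namespace Groth.Agent.PushAmp

open KFlatLib

section Ring

variable {A : Type u} [CommRing A]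

/-- Tor amplitude from the tensor products with resolutions of modules. -/
theorem hasTorAmplitudeIn_of_tensor (L : DRing.Cx A) (a b : ℤ)
    (h : ∀ M : ModuleCat.{u} A, ∃ (K : DRing.Cx A)
      (ψ : K ⟶ (HomologicalComplex.single (ModuleCat.{u} A) (ComplexShape.up ℤ) 0).obj M),
      QuasiIso ψ ∧ KFlat (curriedTensor (ModuleCat.{u} A)) K ∧ ∀ i, (i < a ∨ b < i) →
        IsZero ((((curriedTensor (ModuleCat.{u} A)).map₂CochainComplex.obj L).obj K).homology i)) :
    DRing.HasTorAmplitudeIn A a b (DRing.toD L) := by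
  obtain ⟨P, hP, -, ⟨eP⟩⟩ := H9Misc.DRingLTensor.exists_rep (DRing.toD L)
  refine H9Misc.DRingTor.hasTorAmplitudeIn_of_van hP (fun M i hi => ?_) eP
  obtain ⟨K, ψ, hψ, hK, hz⟩ := h M
  haveI := hψ
  let T := curriedTensor (ModuleCat.{u} A)
  let Φ : DRing.Cx A ⥤ Dual.D A := T.map₂CochainComplex.flip.obj K ⋙ DerivedCategory.Q
  have hΦ : (HomologicalComplex.quasiIso (ModuleCat.{u} A) (ComplexShape.up ℤ)).IsInvertedBy Φ := by
    intro F G g (hg : QuasiIso g)
    haveI := hg
    haveI : QuasiIso ((T.map₂CochainComplex.flip.obj K).map g) := KFlat.quasiIso_map hK g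
    exact inferInstanceAs (IsIso (DerivedCategory.Q.map _))
  let eL : Φ.obj P ≅ Φ.obj L :=
    ((Localization.fac Φ hΦ DerivedCategory.Q).app P).symm ≪≫
      (Localization.lift Φ hΦ DerivedCategory.Q).mapIso eP ≪≫
      (Localization.fac Φ hΦ DerivedCategory.Q).app L
  let H := DerivedCategory.homologyFunctor (ModuleCat.{u} A) i
  haveI : QuasiIso ((T.map₂CochainComplex.obj P).map ψ) := quasiIso_tensorHom_id ψ hP
  rw [HomologicalComplex.exactAt_iff_isZero_homology]
  refine IsZero.of_iso (hz i hi) ?_
  exact ((HomologicalComplex.homologyFunctor _ _ i).mapIso ((singleIso T M).app P)).symm ≪≫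
    (isoOfQuasiIsoAt ((T.map₂CochainComplex.obj P).map ψ) i).symm ≪≫
    ((DerivedCategory.homologyFunctorFactors (ModuleCat.{u} A) i).app _).symm ≪≫
    H.mapIso eL ≪≫ (DerivedCategory.homologyFunctorFactors (ModuleCat.{u} A) i).app _

end Ring

variable {X Y : Scheme.{u}} (f : X ⟶ Y)

/-- If `E ⊗ f^*P` is exact in degree `i`, so is the tensor product of the stalk complexes over the base. -/
theorem isZero_homology_tensor_stalk (E : CochainComplex X.Modules ℤ)
    (P : CochainComplex Y.Modules ℤ) (x : X) (i : ℤ)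
    (h : IsZero (((DCoh.tensorCx.obj E).obj ((pullCx f).obj P)).homology i)) :
    IsZero ((((curriedTensor (ModuleCat.{u} (Y.presheaf.stalk (f.base x)))).map₂CochainComplex.obj
      ((DerSch.stalkCxOver f x).obj E)).obj ((stalkCx (f.base x)).obj P)).homology i) := by
  rw [← HomologicalComplex.exactAt_iff_isZero_homology, HomologicalComplex.exactAt_iff] at h
  have h0 : ((stalkCx x).obj ((DCoh.tensorCx.obj E).obj ((pullCx f).obj P))).ExactAt i :=
    (exact_iff_stalk _).1 h x
  let φ := (f.stalkMap x).hom
  let L := (stalkCx x).obj E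
  let K := (stalkCx (f.base x)).obj P
  let e₁ : (((curriedTensor (ModuleCat.{u} (X.presheaf.stalk x))).map₂CochainComplex.obj
        (((𝟭 _).mapHomologicalComplex (ComplexShape.up ℤ)).obj L)).obj
          (((ModuleCat.extendScalars φ).mapHomologicalComplex (ComplexShape.up ℤ)).obj K)) ≅
        ((𝟭 _).mapHomologicalComplex (ComplexShape.up ℤ)).obj
          (((extT φ).map₂CochainComplex.obj L).obj K) :=
    totalMapIso (Φ₁ := 𝟭 _) (Φ₂ := ModuleCat.extendScalars φ)
      (Ψ := 𝟭 _) (T := extT φ) (T' := curriedTensor (ModuleCat.{u} (X.presheaf.stalk x)))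
      (Iso.refl _) L K
  let e₂ := totalMapIso (extTIso φ) L K
  refine (HomologicalComplex.exactAt_iff_isZero_homology _ i).1 ?_
  refine HomologicalComplex.ExactAt.of_iso ?_ e₂.symm
  show (((ModuleCat.restrictScalars φ).mapHomologicalComplex (ComplexShape.up ℤ)).obj
    (((extT φ).map₂CochainComplex.obj L).obj K)).ExactAt i
  refine (ShortComplex.exact_map_iff_of_faithful ((((extT φ).map₂CochainComplex.obj L).obj K).sc i)
    (ModuleCat.restrictScalars φ)).2 ?_
  change (((extT φ).map₂CochainComplex.obj L).obj K).ExactAt i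
  refine HomologicalComplex.ExactAt.of_iso (K := _) ?_ e₁
  exact h0.of_iso (((curriedTensor (ModuleCat.{u} (X.presheaf.stalk x))).map₂CochainComplex.obj L).mapIso
      (stalkPullCxIso f x P).symm ≪≫ stalkTensorCxIso x E ((pullCx f).obj P)).symm

end Groth.Agent.PushAmp
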