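import Groth.Agent.PushAmp.TensorLoc
import Groth.Agent.QCoh.PullbackBC
import Groth.Agent.QCoh.FlatOver
import Mathlib.AlgebraicGeometry.PullbackCarrier
import Mathlib.AlgebraicGeometry.Morphisms.Flat

/-!
# Local rings of fibre products
-/

set_option autoImplicit false
set_option linter.style.haveILetI false
set_option backward.isDefEq.respectTransparency false
set_option backward.isDefEq.respectTransparency.types false

universe u

open CategoryTheory CategoryTheory.Limits AlgebraicGeometry TopologicalSpace TensorProduct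

namespace Groth.Agent.PushAmp

variable {X S X' T : Scheme.{u}} {u : X ⟶ S} {u' : X' ⟶ T} {g' : X' ⟶ X} {h : T ⟶ S}

/-- The map of local rings from the base to the second factor at a point of a fibre product. -/
noncomputable def baseStalkMap (hc : IsPullback g' u' u h) (x' : X') :
    S.presheaf.stalk (u.base (g'.base x')) ⟶ T.presheaf.stalk (u'.base x') :=
  (S.presheaf.stalkCongr (.of_eq (show u.base (g'.base x') = h.base (u'.base x') from
    congr($(hc.w).base x')))).hom ≫ h.stalkMap (u'.base x')

/-- The square of local rings at a point of a fibre product commutes. -/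
theorem stalk_square (hc : IsPullback g' u' u h) (x' : X') :
    u.stalkMap (g'.base x') ≫ g'.stalkMap x' = baseStalkMap hc x' ≫ u'.stalkMap x' := by
  have e := Scheme.Hom.stalkMap_congr_hom (g' ≫ u) (u' ≫ h) hc.w x'
  rw [Scheme.Hom.stalkMap_comp, Scheme.Hom.stalkMap_comp] at e
  exact e.trans (Category.assoc _ _ _).symm

/-- The local ring of a fibre product is flat over the tensor product of the local rings. -/
theorem flat_stalk_pullback (hc : IsPullback g' u' u h) (x' : X') :
    letI := (u.stalkMap (g'.base x')).hom.toAlgebra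
    letI := (baseStalkMap hc x').hom.toAlgebra
    letI := (u.stalkMap (g'.base x') ≫ g'.stalkMap x').hom.toAlgebra
    ∃ φ : (X.presheaf.stalk (g'.base x') : Type u) ⊗[(S.presheaf.stalk (u.base (g'.base x')) : Type u)]
        (T.presheaf.stalk (u'.base x') : Type u) →+* X'.presheaf.stalk x',
      φ.Flat ∧ φ.comp Algebra.TensorProduct.includeLeftRingHom = (g'.stalkMap x').hom ∧
        φ.comp (Algebra.TensorProduct.includeRight (R := (S.presheaf.stalk (u.base (g'.base x')) : Type u))
          (A := (X.presheaf.stalk (g'.base x') : Type u))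
          (B := (T.presheaf.stalk (u'.base x') : Type u))).toRingHom = (u'.stalkMap x').hom := by
  obtain ⟨V, hV, hsV, -⟩ :=
    exists_isAffineOpen_mem_and_subset (X := S) (x := u.base (g'.base x')) (U := ⊤) trivial
  obtain ⟨U, hU, hx₁, hUV⟩ := exists_isAffineOpen_mem_and_subset (x := g'.base x') (U := u ⁻¹ᵁ V) hsV
  have hst : h.base (u'.base x') ∈ V :=
    (show u.base (g'.base x') = h.base (u'.base x') from congr($(hc.w).base x')) ▸ hsV
  obtain ⟨O, hO, hx₂, hOV⟩ := exists_isAffineOpen_mem_and_subset (x := u'.base x') (U := h ⁻¹ᵁ V) hst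
  let W : X'.Opens := g' ⁻¹ᵁ U ⊓ u' ⁻¹ᵁ O
  have hxW : x' ∈ W := ⟨hx₁, hx₂⟩
  have hW : IsAffineOpen W := by
    haveI : IsAffine _ := hV
    haveI : IsAffine _ := hO
    haveI : IsAffine _ := hU
    exact .of_isIso (Scheme.Hom.isPullback_resLE hc hOV hUV (UY := W) rfl).isoPullback.hom
  have hpo := (isIso_pushoutSection_iff hc hOV hUV (UY := W) rfl).mp
    (isIso_pushoutSection_of_isAffineOpen hc hOV hUV rfl hV hO hU)
  let A := Γ(S, V)
  let B := Γ(X, U)
  let A' := Γ(T, O)
  let C := Γ(X', W)
  let Al := S.presheaf.stalk (u.base (g'.base x'))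
  let Bl := X.presheaf.stalk (g'.base x')
  let A'l := T.presheaf.stalk (u'.base x')
  let Cl := X'.presheaf.stalk x'
  letI : Algebra Al Bl := (u.stalkMap (g'.base x')).hom.toAlgebra
  letI : Algebra Al A'l := (baseStalkMap hc x').hom.toAlgebra
  letI : Algebra Al Cl := (u.stalkMap (g'.base x') ≫ g'.stalkMap x').hom.toAlgebra
  letI : Algebra A B := (u.appLE V U hUV).hom.toAlgebra
  letI : Algebra A A' := (h.appLE V O hOV).hom.toAlgebra
  letI : Algebra B C := (g'.appLE U W inf_le_left).hom.toAlgebra
  letI : Algebra A' C := (u'.appLE O W inf_le_right).hom.toAlgebra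
  letI : Algebra A C := (u.appLE V U hUV ≫ g'.appLE U W inf_le_left).hom.toAlgebra
  haveI : IsScalarTower A B C := .of_algebraMap_eq fun _ => rfl
  haveI : IsScalarTower A A' C := .of_algebraMap_eq fun r => congr($(hpo.w).hom r)
  haveI : Algebra.IsPushout A B A' C := CommRingCat.isPushout_iff_isPushout.mp hpo
  letI : Algebra A Al := (S.presheaf.germ V _ hsV).hom.toAlgebra
  letI : Algebra B Bl := (X.presheaf.germ U _ hx₁).hom.toAlgebra
  letI : Algebra A' A'l := (T.presheaf.germ O _ hx₂).hom.toAlgebra
  letI : Algebra C Cl := (X'.presheaf.germ W x' hxW).hom.toAlgebra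
  letI : Algebra A Bl := (u.appLE V U hUV ≫ X.presheaf.germ U _ hx₁).hom.toAlgebra
  letI : Algebra A A'l := (h.appLE V O hOV ≫ T.presheaf.germ O _ hx₂).hom.toAlgebra
  haveI : IsScalarTower A B Bl := .of_algebraMap_eq fun _ => rfl
  haveI : IsScalarTower A A' A'l := .of_algebraMap_eq fun _ => rfl
  have c₁ : S.presheaf.germ V _ hsV ≫ u.stalkMap (g'.base x') = u.appLE V U hUV ≫ X.presheaf.germ U _ hx₁ := by
    rw [Scheme.Hom.germ_stalkMap, Scheme.Hom.appLE, Category.assoc, TopCat.Presheaf.germ_res]
  have c₂ : S.presheaf.germ V _ hsV ≫ baseStalkMap hc x' = h.appLE V O hOV ≫ T.presheaf.germ O _ hx₂ := by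
    rw [baseStalkMap, TopCat.Presheaf.stalkCongr_hom, TopCat.Presheaf.germ_stalkSpecializes_assoc,
      Scheme.Hom.germ_stalkMap, Scheme.Hom.appLE, Category.assoc, TopCat.Presheaf.germ_res]
  have c₃ : X.presheaf.germ U _ hx₁ ≫ g'.stalkMap x' = g'.appLE U W inf_le_left ≫ X'.presheaf.germ W x' hxW := by
    rw [Scheme.Hom.germ_stalkMap, Scheme.Hom.appLE, Category.assoc, TopCat.Presheaf.germ_res]
  have c₄ : T.presheaf.germ O _ hx₂ ≫ u'.stalkMap x' = u'.appLE O W inf_le_right ≫ X'.presheaf.germ W x' hxW := by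
    rw [Scheme.Hom.germ_stalkMap, Scheme.Hom.appLE, Category.assoc, TopCat.Presheaf.germ_res]
  haveI : IsScalarTower A Al Bl := .of_algebraMap_eq fun r => congr($(c₁).hom r).symm
  haveI : IsScalarTower A Al A'l := .of_algebraMap_eq fun r => congr($(c₂).hom r).symm
  let α : Bl →ₐ[Al] Cl := { (g'.stalkMap x').hom with commutes' := fun r => rfl }
  let β : A'l →ₐ[Al] Cl :=
    { (u'.stalkMap x').hom with commutes' := fun r => congr($(stalk_square hc x').hom r).symm }
  let φ : Bl ⊗[Al] A'l →ₐ[Al] Cl := Algebra.TensorProduct.lift α β fun _ _ => Commute.all _ _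
  refine ⟨φ.toRingHom, ?_, ?_, ?_⟩
  · haveI := hU.isLocalization_stalk ⟨g'.base x', hx₁⟩
    haveI := hO.isLocalization_stalk ⟨u'.base x', hx₂⟩
    haveI := hW.isLocalization_stalk ⟨x', hxW⟩
    refine flat_of_locTensor (A := A) (B := B) (A' := A') (hU.primeIdealOf ⟨g'.base x', hx₁⟩).asIdeal.primeCompl
      (hO.primeIdealOf ⟨u'.base x', hx₂⟩).asIdeal.primeCompl φ.toRingHom ?_
    let e := Algebra.IsPushout.equiv A B A' C
    have he : φ.toRingHom.comp (locTensorMap A B A' Al Bl A'l).toRingHom =
        (algebraMap C Cl).comp e.toRingEquiv.toRingHom := by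
      refine RingHom.ext fun z => ?_
      show φ (locTensorMap A B A' Al Bl A'l z) = algebraMap C Cl (e z)
      induction z with
      | zero => simp
      | add a b ha hb => simp only [map_add, ha, hb]
      | tmul b a =>
        rw [Algebra.IsPushout.equiv_tmul, map_mul]
        simp only [locTensorMap, Algebra.TensorProduct.lift_tmul, AlgHom.comp_apply, AlgHom.restrictScalars_apply,
          Algebra.TensorProduct.includeLeft_apply, Algebra.TensorProduct.includeRight_apply,
          Algebra.TensorProduct.tmul_mul_tmul, one_mul, mul_one, φ]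
        exact congrArg₂ (· * ·) congr($(c₃).hom b) congr($(c₄).hom a)
    rw [he]
    exact (RingHom.Flat.of_bijective e.bijective).comp
      (RingHom.flat_algebraMap_iff.2 (IsLocalization.flat Cl (hW.primeIdealOf ⟨x', hxW⟩).asIdeal.primeCompl))
  · refine RingHom.ext fun b => ?_
    show φ (b ⊗ₜ 1) = _
    simp [φ, α, β]
    rfl
  · refine RingHom.ext fun a => ?_
    show φ (1 ⊗ₜ a) = _
    simp [φ, α, β]
    rfl

end Groth.Agent.PushAmp
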