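import Groth.Prelude.Def_SpSeq
import Groth.Agent.TriCat.DerivedProducts
import Groth.Agent.TriCat.KInjRes
import Groth.Agent.H9Misc.BrownGroth
import Mathlib.Algebra.Homology.HomotopyCategory.Pretriangulated

/-!
# Filtered complexes representing systems in the derived category
-/

set_option autoImplicit false
set_option linter.style.haveILetI false
set_option backward.isDefEq.respectTransparency false
set_option maxHeartbeats 1000000

universe w v u

open CategoryTheory CategoryTheory.Category CategoryTheory.Limits CategoryTheory.Pretriangulated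

noncomputable section

namespace Groth.Agent.PushAmp.TelescopeFil

variable {A : Type u} [Category.{v} A] [Abelian A] [IsGrothendieckAbelian.{v} A]

instance (S : Type) : HasColimitsOfShape (Discrete S) A :=
  hasColimitsOfShape_of_equivalence (Discrete.equivalence (Equiv.ulift.{v} (α := S)))

instance (S : Type) : HasExactColimitsOfShape (Discrete S) A :=
  HasExactColimitsOfShape.of_domain_equivalence A (Discrete.equivalence (Equiv.ulift.{v} (α := S)))

/-- Homotopies out of a sum are built componentwise. -/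
lemma quotient_hom_ext_sigma {S : Type} {K : S → CochainComplex A ℤ} {L : CochainComplex A ℤ}
    (f g : ∐ K ⟶ L) (h : ∀ j, (HomotopyCategory.quotient A (ComplexShape.up ℤ)).map (Sigma.ι K j ≫ f) =
      (HomotopyCategory.quotient A (ComplexShape.up ℤ)).map (Sigma.ι K j ≫ g)) :
    (HomotopyCategory.quotient A (ComplexShape.up ℤ)).map f =
      (HomotopyCategory.quotient A (ComplexShape.up ℤ)).map g := by
  let hj := fun j => HomotopyCategory.homotopyOfEq _ _ (h j)
  have hcol : ∀ n, IsColimit (Cofan.mk ((∐ K).X n) fun j => (Sigma.ι K j).f n) := fun n =>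
    isColimitCofanMkObjOfIsColimit (HomologicalComplex.eval A (ComplexShape.up ℤ) n) K (Sigma.ι K)
      (coproductIsCoproduct K)
  refine HomotopyCategory.eq_of_homotopy _ _
    { hom := fun i i' => Cofan.IsColimit.desc (hcol i) fun j => (hj j).hom i i'
      zero := fun i i' hii' => Cofan.IsColimit.hom_ext (hcol i) _ _ fun j => by
        rw [Cofan.IsColimit.fac, comp_zero, (hj j).zero i i' hii']
      comm := fun i => Cofan.IsColimit.hom_ext (hcol i) _ _ fun j => ?_ }
  have hc := (hj j).comm i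
  change (Sigma.ι K j).f i ≫ f.f i = _
  rw [← HomologicalComplex.comp_f, hc]
  change _ = (Sigma.ι K j).f i ≫ (_ + g.f i)
  rw [Preadditive.comp_add, HomologicalComplex.comp_f]
  congr 1
  have hfac : ∀ a b, (Sigma.ι K j).f a ≫ Cofan.IsColimit.desc (hcol a) (fun j => (hj j).hom a b) =
      (hj j).hom a b := fun a b => Cofan.IsColimit.fac (hcol a) (fun j => (hj j).hom a b) j
  rw [Preadditive.comp_add, ← dNext_comp_left, ← prevD_comp_left]
  simp only [hfac]

variable (I : ℤ → CochainComplex A ℤ) (τ : ∀ j, I (j + 1) ⟶ I j)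

/-- An upward closed set of indices. -/
structure Up where
  P : ℤ → Prop
  up : ∀ j, P j → P (j + 1)

/-- All indices `≥ i`. -/
def Up.ge (i : ℤ) : Up := ⟨fun j => i ≤ j, fun _ h => by omega⟩

/-- All indices. -/
def Up.all : Up := ⟨fun _ => True, fun _ _ => trivial⟩

variable (P : Up)

abbrev src : CochainComplex A ℤ := ∐ fun j : {j : ℤ // P.P j} => I (j.1 + 1)
abbrev tgt : CochainComplex A ℤ := ∐ fun j : {j : ℤ // P.P j} => I j.1

/-- `1 - τ`. -/
def f : src I P ⟶ tgt I P :=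
  Sigma.desc fun j => Sigma.ι (fun j : {j : ℤ // P.P j} => I j.1) ⟨j.1 + 1, P.up _ j.2⟩ -
    τ j.1 ≫ Sigma.ι (fun j : {j : ℤ // P.P j} => I j.1) j

lemma ι_f (j : {j : ℤ // P.P j}) :
    Sigma.ι (fun j : {j : ℤ // P.P j} => I (j.1 + 1)) j ≫ f I τ P =
      Sigma.ι (fun j : {j : ℤ // P.P j} => I j.1) ⟨j.1 + 1, P.up _ j.2⟩ -
        τ j.1 ≫ Sigma.ι (fun j : {j : ℤ // P.P j} => I j.1) j := Sigma.ι_desc _ _

variable {P} {P' : Up} (h : ∀ j, P.P j → P'.P j)

def srcIncl : src I P ⟶ src I P' :=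
  Sigma.desc fun j => Sigma.ι (fun j : {j : ℤ // P'.P j} => I (j.1 + 1)) ⟨j.1, h _ j.2⟩
def tgtIncl : tgt I P ⟶ tgt I P' :=
  Sigma.desc fun j => Sigma.ι (fun j : {j : ℤ // P'.P j} => I j.1) ⟨j.1, h _ j.2⟩

lemma incl_comm : f I τ P ≫ tgtIncl I h = srcIncl I h ≫ f I τ P' := by
  ext j : 1
  simp [f, srcIncl, tgtIncl, Preadditive.sub_comp]

/-- The inclusion of telescopes. -/
def incl : CochainComplex.mappingCone (f I τ P) ⟶ CochainComplex.mappingCone (f I τ P') :=
  CochainComplex.mappingCone.map _ _ (srcIncl I h) (tgtIncl I h) (incl_comm I τ h)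

lemma incl_comp {P'' : Up} (h' : ∀ j, P'.P j → P''.P j) :
    incl I τ h ≫ incl I τ h' = incl I τ (fun j hj => h' j (h j hj)) := by
  rw [incl, incl, incl, ← CochainComplex.mappingCone.map_comp]
  congr 1
  · ext j : 1; simp [srcIncl]
  · ext j : 1; simp [tgtIncl]

lemma mono_incl : Mono (incl I τ h) := by
  classical
  let r₁ : src I P' ⟶ src I P := Sigma.desc fun j => if hj : P.P j.1 then
    Sigma.ι (fun j : {j : ℤ // P.P j} => I (j.1 + 1)) ⟨j.1, hj⟩ else 0
  let r₂ : tgt I P' ⟶ tgt I P := Sigma.desc fun j => if hj : P.P j.1 then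
    Sigma.ι (fun j : {j : ℤ // P.P j} => I j.1) ⟨j.1, hj⟩ else 0
  have e₁ : srcIncl I h ≫ r₁ = 𝟙 _ := by ext j : 1; simp [srcIncl, r₁, j.2]
  have e₂ : tgtIncl I h ≫ r₂ = 𝟙 _ := by ext j : 1; simp [tgtIncl, r₂, j.2]
  refine HomologicalComplex.mono_of_mono_f _ fun n => ?_
  refine SplitMono.mono
    { retraction := (CochainComplex.mappingCone.fst (f I τ P')).1.v n (n + 1) rfl ≫ r₁.f (n + 1) ≫
          (CochainComplex.mappingCone.inl (f I τ P)).v (n + 1) n (by omega) +
        (CochainComplex.mappingCone.snd (f I τ P')).v n n (add_zero n) ≫ r₂.f n ≫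
          (CochainComplex.mappingCone.inr (f I τ P)).f n
      id := ?_ }
  have e₁' : (srcIncl I h).f (n + 1) ≫ r₁.f (n + 1) = 𝟙 _ := by
    rw [← HomologicalComplex.comp_f, e₁, HomologicalComplex.id_f]
  have e₂' : (tgtIncl I h).f n ≫ r₂.f n = 𝟙 _ := by
    rw [← HomologicalComplex.comp_f, e₂, HomologicalComplex.id_f]
  simp [incl, CochainComplex.mappingCone.map, CochainComplex.mappingCone.ext_from_iff _ (n + 1) n rfl,
    reassoc_of% e₁', reassoc_of% e₂']

variable [HasDerivedCategory.{w} A]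

open DerivedCategory

lemma sigma_ext {S : Type} {K : S → CochainComplex A ℤ} {Z : DerivedCategory A}
    {g g' : Q.obj (∐ K) ⟶ Z} (h : ∀ j, Q.map (Sigma.ι K j) ≫ g = Q.map (Sigma.ι K j) ≫ g') : g = g' := by
  haveI := H9Misc.BrownGroth.preservesColimit_Q K
  exact (isColimitOfPreserves Q (coproductIsCoproduct K)).hom_ext fun ⟨j⟩ => h j

lemma sigma_desc {S : Type} {K : S → CochainComplex A ℤ} {Z : DerivedCategory A}
    (g : ∀ j, Q.obj (K j) ⟶ Z) : ∃ d : Q.obj (∐ K) ⟶ Z, ∀ j, Q.map (Sigma.ι K j) ≫ d = g j := by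
  haveI := H9Misc.BrownGroth.preservesColimit_Q K
  let hc := isColimitOfPreserves (Q (C := A)) (coproductIsCoproduct K)
  exact ⟨hc.desc ⟨Z, Discrete.natTrans fun ⟨j⟩ => g j⟩, fun j => hc.fac _ ⟨j⟩⟩

variable (i : ℤ)

/-- `I i → T_i`. -/
def u : I i ⟶ CochainComplex.mappingCone (f I τ (Up.ge i)) :=
  Sigma.ι (fun j : {j : ℤ // (Up.ge i).P j} => I j.1) ⟨i, le_refl i⟩ ≫ CochainComplex.mappingCone.inr _

lemma Q_ι_f (j : {j : ℤ // (Up.ge i).P j}) {Z : DerivedCategory A} (z : Q.obj (tgt I (Up.ge i)) ⟶ Z) :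
    Q.map (Sigma.ι (fun j : {j : ℤ // (Up.ge i).P j} => I (j.1 + 1)) j) ≫ Q.map (f I τ (Up.ge i)) ≫ z =
      Q.map (Sigma.ι (fun j : {j : ℤ // (Up.ge i).P j} => I j.1) ⟨j.1 + 1, (Up.ge i).up _ j.2⟩) ≫ z -
        Q.map (τ j.1) ≫ Q.map (Sigma.ι (fun j : {j : ℤ // (Up.ge i).P j} => I j.1) j) ≫ z := by
  rw [← Functor.map_comp_assoc, ι_f, Functor.map_sub, Functor.map_comp, Preadditive.sub_comp, assoc]

lemma unique_of_rel {Z : DerivedCategory A} (z : Q.obj (tgt I (Up.ge i)) ⟶ Z)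
    (h0 : Q.map (f I τ (Up.ge i)) ≫ z = 0)
    (hi : Q.map (Sigma.ι (fun j : {j : ℤ // (Up.ge i).P j} => I j.1) ⟨i, le_refl i⟩) ≫ z = 0) : z = 0 := by
  refine sigma_ext fun ⟨j, hj⟩ => ?_
  rw [comp_zero]
  induction j, hj using Int.leInduction with
  | base => exact hi
  | succ j hj ih =>
    have h1 := Q_ι_f I τ i ⟨j, hj⟩ z
    rw [h0, comp_zero, ih, comp_zero, sub_zero] at h1
    exact h1.symm

lemma exists_rel {Z : DerivedCategory A} (v : Q.obj (src I (Up.ge i)) ⟶ Z) (w : Q.obj (I i) ⟶ Z) :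
    ∃ z : Q.obj (tgt I (Up.ge i)) ⟶ Z, Q.map (f I τ (Up.ge i)) ≫ z = v ∧
      Q.map (Sigma.ι (fun j : {j : ℤ // (Up.ge i).P j} => I j.1) ⟨i, le_refl i⟩) ≫ z = w := by
  classical
  let S := {j : ℤ // (Up.ge i).P j}
  let vv : ∀ j : S, Q.obj (I (j.1 + 1)) ⟶ Z := fun j =>
    Q.map (Sigma.ι (fun j : S => I (j.1 + 1)) j) ≫ v
  let R : ℕ → (∀ j : S, Q.obj (I j.1) ⟶ Z) → Prop := fun N z => z ⟨i, le_refl i⟩ = w ∧
    ∀ j : S, j.1 < i + N → z ⟨j.1 + 1, (Up.ge i).up _ j.2⟩ = vv j + Q.map (τ j.1) ≫ z j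
  have hex : ∀ N, ∃ z, R N z := by
    intro N
    induction N with
    | zero => exact ⟨Function.update (fun _ => 0) ⟨i, le_refl i⟩ w, Function.update_self _ _ _,
        fun ⟨j, hj⟩ hj' => absurd hj' (by have : i ≤ j := hj; simp; omega)⟩
    | succ N ih =>
      obtain ⟨z, hz0, hz⟩ := ih
      let j₀ : S := ⟨i + N, Int.le_add_of_nonneg_right (by positivity)⟩
      refine ⟨Function.update z ⟨j₀.1 + 1, (Up.ge i).up _ j₀.2⟩ (vv j₀ + Q.map (τ j₀.1) ≫ z j₀), ?_, fun j hj => ?_⟩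
      · rw [Function.update_of_ne (fun e => by have := congrArg Subtype.val e; simp [j₀] at this; omega)]
        exact hz0
      · have hne : j ≠ ⟨j₀.1 + 1, (Up.ge i).up _ j₀.2⟩ := fun e => by
          have := congrArg Subtype.val e; simp [j₀] at this; push_cast at hj; omega
        rw [Function.update_of_ne hne]
        rcases eq_or_ne j j₀ with rfl | hne'
        · rw [Function.update_self]
        · have hlt : j.1 < i + N := by
            have : j.1 ≠ i + N := fun e => hne' (Subtype.ext e)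
            push_cast at hj
            omega
          rw [Function.update_of_ne (fun e => hne' (Subtype.ext (by have := congrArg Subtype.val e; simp at this; exact this)))]
          exact hz j hlt
  choose zN hzN using hex
  have hagree : ∀ (j : ℤ) (hj : i ≤ j) (N M : ℕ), j ≤ i + N → j ≤ i + M → zN N ⟨j, hj⟩ = zN M ⟨j, hj⟩ := by
    intro j hj
    induction j, hj using Int.leInduction with
    | base => exact fun N M _ _ => (hzN N).1.trans (hzN M).1.symm
    | succ j hj ih =>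
      intro N M hN hM
      rw [(hzN N).2 ⟨j, hj⟩ (by show j < _; omega), (hzN M).2 ⟨j, hj⟩ (by show j < _; omega),
        ih N M (by omega) (by omega)]
  obtain ⟨z, hz⟩ := sigma_desc (fun j : S => zN ((j.1 - i).toNat + 1) j)
  refine ⟨z, sigma_ext fun j => ?_, ?_⟩
  · rw [Q_ι_f, hz, hz]
    have hj : i ≤ j.1 := j.2
    let M := (j.1 + 1 - i).toNat + 1
    rw [show zN ((j.1 - i).toNat + 1) j = zN M j from hagree j.1 j.2 _ _ (by omega) (by simp only [M]; omega),
      (hzN _).2 j (by show j.1 < i + (((j.1 + 1 - i).toNat + 1 : ℕ) : ℤ); omega), add_sub_cancel_right]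
  · rw [hz]; exact (hzN _).1

lemma isIso_Q_u : IsIso (Q.map (u I τ i)) := by
  let φ := f I τ (Up.ge i)
  let ι₀ := Sigma.ι (fun j : {j : ℤ // (Up.ge i).P j} => I j.1) ⟨i, le_refl i⟩
  let T := Q.mapTriangle.obj (CochainComplex.mappingCone.triangle φ)
  have hT : T ∈ distTriang (DerivedCategory A) := mappingCone_triangle_distinguished φ
  have hinj : ∀ {Z : DerivedCategory A} (g : T.obj₃ ⟶ Z), Q.map (u I τ i) ≫ g = 0 → g = 0 := by
    intro Z g hg
    have h12 : T.mor₂ ≫ g = 0 := by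
      refine unique_of_rel I τ i _ ?_ ?_
      · show T.mor₁ ≫ T.mor₂ ≫ g = 0
        rw [reassoc_of% (comp_distTriang_mor_zero₁₂ _ hT), zero_comp]
      · show Q.map ι₀ ≫ Q.map (CochainComplex.mappingCone.inr φ) ≫ g = 0
        rw [← assoc, ← Functor.map_comp]
        exact hg
    obtain ⟨k, hk⟩ := Triangle.yoneda_exact₃ _ hT g h12
    let e := (shiftEquiv (DerivedCategory A) (1 : ℤ))
    let k' := e.toAdjunction.homEquiv _ _ k
    obtain ⟨z, hz, -⟩ := exists_rel I τ i k' 0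
    have hk' : k = T.mor₁⟦(1 : ℤ)⟧' ≫ (e.toAdjunction.homEquiv _ _).symm z := by
      show k = e.functor.map T.mor₁ ≫ _
      rw [← Adjunction.homEquiv_naturality_left_symm]
      exact (Equiv.eq_symm_apply _).2 hz.symm
    rw [hk, hk', reassoc_of% (comp_distTriang_mor_zero₃₁ _ hT), zero_comp]
  obtain ⟨z, hz0, hzi⟩ := exists_rel I τ i (0 : Q.obj (src I (Up.ge i)) ⟶ Q.obj (I i)) (𝟙 _)
  obtain ⟨r, hr⟩ := Triangle.yoneda_exact₂ _ hT z hz0
  have hr' : Q.map (u I τ i) ≫ r = 𝟙 _ := by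
    show Q.map (ι₀ ≫ CochainComplex.mappingCone.inr φ) ≫ r = _
    rw [Functor.map_comp, assoc]
    exact (congrArg (fun t => Q.map ι₀ ≫ t) hr.symm).trans hzi
  refine ⟨r, hr', sub_eq_zero.1 (hinj _ ?_)⟩
  rw [Preadditive.comp_sub, reassoc_of% hr', comp_id, sub_self]

omit i in
theorem exists_filtered (E : DerivedCategory A) (Es : ℤ → DerivedCategory A) (t : ∀ i : ℤ, Es (i + 1) ⟶ Es i)
    (a : ∀ i : ℤ, Es i ⟶ E) (hat : ∀ i : ℤ, t i ≫ a i = a (i + 1)) :
    ∃ (K : SpSeq.FilCx A) (e : Q.obj K.obj ≅ E) (ei : ∀ i : ℤ, Q.obj (K.step i) ≅ Es i),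
      (∀ i : ℤ, Q.map (K.fil i).arrow ≫ e.hom = (ei i).hom ≫ a i) ∧
      (∀ i : ℤ, Q.map (K.stepLE (le_of_lt (Int.lt_succ_self i))) ≫ (ei i).hom = (ei (i + 1)).hom ≫ t i) := by
  classical
  have hrep : ∀ Z : DerivedCategory A, ∃ (L : CochainComplex A ℤ), L.IsKInjective ∧ Nonempty (Q.obj L ≅ Z) := by
    intro Z
    obtain ⟨L, g, hL, hg, -, -⟩ := TriCat.exists_kInjective_resolution' ((Q (C := A)).objPreimage Z)
    haveI : IsIso (Q.map g) := (isIso_Q_map_iff_quasiIso (φ := g)).2 hg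
    exact ⟨L, hL, ⟨(asIso (Q.map g)).symm ≪≫ Q.objObjPreimageIso Z⟩⟩
  obtain ⟨J, hJ, ⟨eJ⟩⟩ := hrep E
  choose I hI eI using fun j => hrep (Es j)
  let q := HomotopyCategory.quotient A (ComplexShape.up ℤ)
  have hQh : ∀ {X L : CochainComplex A ℤ} (g : X ⟶ L),
      Q.map g = (quotientCompQhIso A).inv.app X ≫ Qh.map (q.map g) ≫ (quotientCompQhIso A).hom.app L :=
    fun g => (NatIso.naturality_1 (quotientCompQhIso A) g).symm
  have hsurj : ∀ {X L : CochainComplex A ℤ} [L.IsKInjective] (g : Q.obj X ⟶ Q.obj L), ∃ g₀ : X ⟶ L, Q.map g₀ = g := by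
    intro X L _ g
    obtain ⟨m, hm⟩ := (CochainComplex.IsKInjective.Qh_map_bijective (q.obj X) L).2
      ((quotientCompQhIso A).hom.app X ≫ g ≫ (quotientCompQhIso A).inv.app L)
    obtain ⟨g₀, rfl⟩ := q.map_surjective m
    exact ⟨g₀, by rw [hQh, hm]; simp⟩
  have hinjQ : ∀ {X L : CochainComplex A ℤ} [L.IsKInjective] (g g' : X ⟶ L), Q.map g = Q.map g' → q.map g = q.map g' := by
    intro X L _ g g' hg
    refine (CochainComplex.IsKInjective.Qh_map_bijective (q.obj X) L).1 ?_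
    rwa [hQh, hQh, cancel_epi, cancel_mono] at hg
  haveI := hJ
  let e : ∀ j, Q.obj (I j) ≅ Es j := fun j => (eI j).some
  choose τ hτ using fun j => @hsurj (I (j + 1)) (I j) (hI j) ((e (j + 1)).hom ≫ t j ≫ (e j).inv)
  choose α hα using fun j => @hsurj (I j) J hJ ((e j).hom ≫ a j ≫ eJ.inv)
  have hα' : ∀ j, Q.map (τ j ≫ α j) = Q.map (α (j + 1)) := fun j => by
    simp only [Functor.map_comp, hτ, hα, assoc, Iso.inv_hom_id_assoc]
    rw [reassoc_of% (hat j)]
  let d : tgt I Up.all ⟶ J := Sigma.desc fun j => α j.1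
  have hd : q.map (f I τ Up.all ≫ d) = q.map 0 := by
    refine quotient_hom_ext_sigma _ _ fun j => ?_
    rw [comp_zero, reassoc_of% (ι_f I τ Up.all j), Preadditive.sub_comp, assoc, Sigma.ι_desc, Sigma.ι_desc]
    refine (Functor.map_sub _).trans ?_
    rw [q.map_zero, sub_eq_zero]
    exact (hinjQ _ _ (hα' j.1)).symm
  let hh := HomotopyCategory.homotopyOfEq _ _ hd
  let c := CochainComplex.HomComplex.Cochain.equivHomotopy _ _ hh
  let Φ : CochainComplex.mappingCone (f I τ Up.all) ⟶ J := CochainComplex.mappingCone.desc _ c.1 d (by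
    exact (c.2.trans ((congrArg (CochainComplex.HomComplex.δ (-1) 0 c.1 + ·)
      (CochainComplex.HomComplex.Cochain.ofHom_zero _ _)).trans (add_zero _))).symm)
  let Tot := CochainComplex.mappingCone (f I τ Up.all)
  let C := CochainComplex.mappingCone (𝟙 Tot)
  let K₀ : CochainComplex A ℤ := J ⊞ C
  have hall : ∀ i j, (Up.ge i).P j → Up.all.P j := fun _ _ _ => trivial
  let ψ : ∀ i, CochainComplex.mappingCone (f I τ (Up.ge i)) ⟶ K₀ := fun i =>
    biprod.lift (incl I τ (hall i) ≫ Φ) (incl I τ (hall i) ≫ CochainComplex.mappingCone.inr (𝟙 Tot))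
  have hψ : ∀ i, Mono (ψ i) := fun i => by
    haveI := mono_incl I τ (hall i)
    haveI : Mono (CochainComplex.mappingCone.inr (𝟙 Tot)) :=
      HomologicalComplex.mono_of_mono_f _ fun n => SplitMono.mono
        { retraction := (CochainComplex.mappingCone.snd (𝟙 Tot)).v n n (add_zero n) }
    haveI : Mono (ψ i ≫ biprod.snd) := by
      simp only [ψ, biprod.lift_snd]
      infer_instance
    exact mono_of_mono _ (biprod.snd : K₀ ⟶ C)
  have hanti : ∀ i j, i ≤ j → ∀ k, (Up.ge j).P k → (Up.ge i).P k := fun i j hij k hk => le_trans hij hk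
  let K : SpSeq.FilCx A :=
    ⟨K₀, fun i => @Subobject.mk _ _ _ _ (ψ i) (hψ i), fun i j hij => by
      haveI := hψ i
      haveI := hψ j
      refine Subobject.mk_le_mk_of_comm (incl I τ (hanti i j hij)) ?_
      refine biprod.hom_ext _ _ ?_ ?_ <;>
        · simp only [ψ, assoc, biprod.lift_fst, biprod.lift_snd]
          rw [← assoc, incl_comp]⟩
  have hC : IsZero (Q.obj C) :=
    (Triangle.isZero₃_iff_isIso₁ _ (mappingCone_triangle_distinguished (𝟙 Tot))).2
      (inferInstanceAs (IsIso (Q.map (𝟙 Tot))))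
  have hfst : IsIso (Q.map (biprod.fst : K₀ ⟶ J)) := by
    refine ⟨Q.map biprod.inl, ?_, ?_⟩
    · rw [← Functor.map_comp, show (biprod.fst : K₀ ⟶ J) ≫ biprod.inl = 𝟙 K₀ - biprod.snd ≫ biprod.inr by
        rw [eq_sub_iff_add_eq]; exact biprod.total]
      rw [Functor.map_sub, Functor.map_comp, hC.eq_of_tgt (Q.map biprod.snd) 0, zero_comp, sub_zero,
        CategoryTheory.Functor.map_id]
    · rw [← Functor.map_comp, biprod.inl_fst, CategoryTheory.Functor.map_id]
  haveI := fun i => isIso_Q_u I τ i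
  let s : ∀ i, K.step i ≅ CochainComplex.mappingCone (f I τ (Up.ge i)) := fun i =>
    @Subobject.underlyingIso _ _ _ _ (ψ i) (hψ i)
  have hs : ∀ i, (K.fil i).arrow = (s i).hom ≫ ψ i := fun i => by
    haveI := hψ i
    exact ((Iso.inv_comp_eq (s i)).1 (Subobject.underlyingIso_arrow (ψ i)))
  refine ⟨K, @asIso _ _ _ _ _ hfst ≪≫ eJ, fun i => Q.mapIso (s i) ≪≫ (asIso (Q.map (u I τ i))).symm ≪≫ e i,
    fun i => ?_, fun i => ?_⟩
  · have key : u I τ i ≫ incl I τ (hall i) ≫ Φ = α i := by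
      simp [u, incl, CochainComplex.mappingCone.map, Φ, tgtIncl, d]
    have key' : Q.map (incl I τ (hall i) ≫ Φ) = inv (Q.map (u I τ i)) ≫ (e i).hom ≫ a i ≫ eJ.inv := by
      rw [← hα, IsIso.eq_inv_comp, ← Functor.map_comp, key]
    rw [hs]
    simp only [Iso.trans_hom, Functor.mapIso_hom, Iso.symm_hom, asIso_inv, asIso_hom, assoc]
    rw [← Functor.map_comp_assoc, assoc, show ψ i ≫ (biprod.fst : K₀ ⟶ J) = incl I τ (hall i) ≫ Φ from biprod.lift_fst _ _,
      Q.map_comp (s i).hom, assoc, key']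
    simp
  · haveI := hψ i
    haveI := hψ (i + 1)
    have hle : ∀ k, (Up.ge (i + 1)).P k → (Up.ge i).P k := hanti i (i + 1) (by omega)
    have hstep : K.stepLE (le_of_lt (Int.lt_succ_self i)) ≫ (s i).hom = (s (i + 1)).hom ≫ incl I τ hle := by
      rw [← cancel_mono (ψ i), assoc, assoc, ← hs, Subobject.ofLE_arrow]
      refine (hs (i + 1)).trans ?_
      congr 1
      refine biprod.hom_ext _ _ ?_ ?_ <;>
        · simp only [ψ, assoc, biprod.lift_fst, biprod.lift_snd]
          rw [← assoc, incl_comp]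
    have key : Q.map (u I τ (i + 1)) ≫ Q.map (incl I τ hle) = Q.map (τ i) ≫ Q.map (u I τ i) := by
      let j₀ : {j : ℤ // (Up.ge i).P j} := ⟨i, le_refl i⟩
      have h0 : Q.map (f I τ (Up.ge i)) ≫ Q.map (CochainComplex.mappingCone.inr (f I τ (Up.ge i))) = 0 :=
        comp_distTriang_mor_zero₁₂ _ (mappingCone_triangle_distinguished (f I τ (Up.ge i)))
      have h1 := Q_ι_f I τ i j₀ (Q.map (CochainComplex.mappingCone.inr (f I τ (Up.ge i))))
      rw [h0, comp_zero, eq_comm, sub_eq_zero] at h1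
      rw [← Functor.map_comp, show u I τ (i + 1) ≫ incl I τ hle =
        Sigma.ι (fun j : {j : ℤ // (Up.ge i).P j} => I j.1) ⟨i + 1, (Up.ge i).up _ (le_refl i)⟩ ≫
          CochainComplex.mappingCone.inr (f I τ (Up.ge i)) by
          simp [u, incl, CochainComplex.mappingCone.map, tgtIncl]]
      rw [u, Functor.map_comp, Functor.map_comp]
      exact h1
    simp only [Iso.trans_hom, Functor.mapIso_hom, Iso.symm_hom, asIso_inv, assoc]
    rw [← Functor.map_comp_assoc, hstep, Functor.map_comp, assoc]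
    congr 1
    rw [← cancel_epi (Q.map (u I τ (i + 1))), reassoc_of% key]
    simp [hτ]

end Groth.Agent.PushAmp.TelescopeFil
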