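import Mathlib.RingTheory.Flat.Stability
import Mathlib.RingTheory.TensorProduct.Basic
import Mathlib.RingTheory.Localization.Basic
import Mathlib.RingTheory.RingHom.Flat

/-!
# Flatness over a tensor product of localisations
-/

set_option autoImplicit false
set_option linter.style.haveILetI false

universe u

open TensorProduct

namespace Groth.Agent.PushAmp

/-- Over a ring generated by a subring and inverses of its elements, flatness may be tested over the subring. -/
theorem flat_of_generated {C T M : Type u} [CommRing C] [CommRing T] [Algebra C T] [AddCommGroup M]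
    [Module T M] [Module C M] [IsScalarTower C T M] [Module.Flat C M]
    (hgen : Subring.closure (Set.range (algebraMap C T) ∪ {t : T | ∃ c : C, t * algebraMap C T c = 1}) = ⊤) :
    Module.Flat T M := by
  let G : Subring T :=
    { carrier := {t | ∀ (s : T) (m : M), (s * t) ⊗ₜ[C] m = s ⊗ₜ[C] (t • m)}
      mul_mem' := fun {a b} ha hb s m => by rw [← mul_assoc, hb, ha, smul_smul]
      one_mem' := fun s m => by rw [mul_one, one_smul]
      add_mem' := fun {a b} ha hb s m => by rw [mul_add, add_tmul, ha, hb, add_smul, tmul_add]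
      zero_mem' := fun s m => by simp
      neg_mem' := fun {a} ha s m => by rw [mul_neg, neg_tmul, ha, neg_smul, tmul_neg] }
  have hC : ∀ c : C, algebraMap C T c ∈ G := fun c s m => by
    rw [mul_comm, ← Algebra.smul_def, smul_tmul, algebraMap_smul]
  have hG : ∀ t : T, t ∈ G := by
    intro t
    have ht : t ∈ Subring.closure (Set.range (algebraMap C T) ∪ {t : T | ∃ c : C, t * algebraMap C T c = 1}) :=
      hgen ▸ Subring.mem_top t
    refine Subring.closure_le.2 ?_ ht
    rintro _ (⟨c, rfl⟩ | ⟨c, hc⟩)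
    · exact hC c
    · intro s m
      rename_i v
      have h := hC c (s * v) (v • m)
      rw [mul_assoc, hc, mul_one, smul_smul, show algebraMap C T c * v = 1 by rw [mul_comm]; exact hc, one_smul] at h
      exact h.symm
  let l : T ⊗[C] M →ₗ[T] M := AlgebraTensorModule.lift
    { toFun := fun t => t • LinearMap.id
      map_add' := fun a b => add_smul a b _
      map_smul' := fun a b => mul_smul a b _ }
  have hl : ∀ (t : T) (m : M), l (t ⊗ₜ[C] m) = t • m := fun t m => rfl
  have key : ∀ z : T ⊗[C] M, (1 : T) ⊗ₜ[C] (l z) = z := fun z => by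
    induction z with
    | zero => simp
    | add a b ha hb => rw [map_add, tmul_add, ha, hb]
    | tmul t m => rw [hl, ← hG t 1 m, one_mul]
  have hb : Function.Bijective l :=
    ⟨fun a b hab => by rw [← key a, ← key b, hab], fun m => ⟨1 ⊗ₜ m, (hl 1 m).trans (one_smul _ _)⟩⟩
  exact Module.Flat.of_linearEquiv (LinearEquiv.ofBijective l hb).symm

variable {A B A' Al Bl A'l : Type u} [CommRing A] [CommRing B] [CommRing A'] [CommRing Al] [CommRing Bl]
  [CommRing A'l] [Algebra A B] [Algebra A A'] [Algebra A Al] [Algebra B Bl] [Algebra A' A'l]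
  [Algebra Al Bl] [Algebra Al A'l] [Algebra A Bl] [Algebra A A'l]
  [IsScalarTower A B Bl] [IsScalarTower A Al Bl] [IsScalarTower A A' A'l] [IsScalarTower A Al A'l]

variable (A B A' Al Bl A'l) in
/-- The tensor product into the tensor product of localisations. -/
noncomputable def locTensorMap : B ⊗[A] A' →ₐ[A] Bl ⊗[Al] A'l :=
  Algebra.TensorProduct.lift
    ((Algebra.TensorProduct.includeLeft (R := Al) (S := A) (A := Bl) (B := A'l)).comp (IsScalarTower.toAlgHom A B Bl))
    (((Algebra.TensorProduct.includeRight (R := Al) (A := Bl) (B := A'l)).restrictScalars A).comp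
      (IsScalarTower.toAlgHom A A' A'l))
    fun _ _ => Commute.all _ _

/-- Flatness over a tensor product of localisations. -/
theorem flat_of_locTensor (S₁ : Submonoid B) [IsLocalization S₁ Bl] (S₂ : Submonoid A') [IsLocalization S₂ A'l]
    {Cl : Type u} [CommRing Cl] (φ : Bl ⊗[Al] A'l →+* Cl)
    (hflat : (φ.comp (locTensorMap A B A' Al Bl A'l).toRingHom).Flat) : φ.Flat := by
  letI : Algebra (Bl ⊗[Al] A'l) Cl := φ.toAlgebra
  letI : Algebra (B ⊗[A] A') (Bl ⊗[Al] A'l) := (locTensorMap A B A' Al Bl A'l).toRingHom.toAlgebra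
  letI : Algebra (B ⊗[A] A') Cl := (φ.comp (locTensorMap A B A' Al Bl A'l).toRingHom).toAlgebra
  haveI : IsScalarTower (B ⊗[A] A') (Bl ⊗[Al] A'l) Cl := IsScalarTower.of_algebraMap_eq fun _ => rfl
  haveI : Module.Flat (B ⊗[A] A') Cl := hflat
  refine flat_of_generated (C := B ⊗[A] A') (T := Bl ⊗[Al] A'l) (M := Cl) ((Subring.eq_top_iff' _).2 fun t => ?_)
  set H := Subring.closure (Set.range (algebraMap (B ⊗[A] A') (Bl ⊗[Al] A'l)) ∪
    {t : Bl ⊗[Al] A'l | ∃ c, t * algebraMap (B ⊗[A] A') (Bl ⊗[Al] A'l) c = 1})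
  have hmap : ∀ (b : B) (a : A'), algebraMap (B ⊗[A] A') (Bl ⊗[Al] A'l) (b ⊗ₜ a) =
      (algebraMap B Bl b) ⊗ₜ[Al] (algebraMap A' A'l a) := fun b a => by
    show locTensorMap A B A' Al Bl A'l (b ⊗ₜ a) = _
    simp [locTensorMap]
  have hleft : ∀ x : Bl, x ⊗ₜ[Al] (1 : A'l) ∈ H := fun x => by
    obtain ⟨⟨b, s⟩, rfl⟩ := IsLocalization.mk'_surjective S₁ x
    have h1 : (algebraMap B Bl b) ⊗ₜ[Al] (1 : A'l) ∈ H :=
      Subring.subset_closure (Or.inl ⟨b ⊗ₜ 1, by rw [hmap, map_one]⟩)
    have h2 : (IsLocalization.mk' Bl (1 : B) s) ⊗ₜ[Al] (1 : A'l) ∈ H :=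
      Subring.subset_closure (Or.inr ⟨(s : B) ⊗ₜ 1, by
        rw [hmap, map_one, Algebra.TensorProduct.tmul_mul_tmul, one_mul, IsLocalization.mk'_spec, map_one]
        rfl⟩)
    have h := H.mul_mem h1 h2
    rwa [Algebra.TensorProduct.tmul_mul_tmul, one_mul, IsLocalization.mul_mk'_eq_mk'_of_mul, mul_one] at h
  have hright : ∀ x : A'l, (1 : Bl) ⊗ₜ[Al] x ∈ H := fun x => by
    obtain ⟨⟨b, s⟩, rfl⟩ := IsLocalization.mk'_surjective S₂ x
    have h1 : (1 : Bl) ⊗ₜ[Al] (algebraMap A' A'l b) ∈ H :=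
      Subring.subset_closure (Or.inl ⟨1 ⊗ₜ b, by rw [hmap, map_one]⟩)
    have h2 : (1 : Bl) ⊗ₜ[Al] (IsLocalization.mk' A'l (1 : A') s) ∈ H :=
      Subring.subset_closure (Or.inr ⟨1 ⊗ₜ (s : A'), by
        rw [hmap, map_one, Algebra.TensorProduct.tmul_mul_tmul, one_mul, IsLocalization.mk'_spec, map_one]
        rfl⟩)
    have h := H.mul_mem h1 h2
    rwa [Algebra.TensorProduct.tmul_mul_tmul, one_mul, IsLocalization.mul_mk'_eq_mk'_of_mul, mul_one] at h
  induction t with
  | zero => exact H.zero_mem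
  | add a b ha hb => exact H.add_mem ha hb
  | tmul x y =>
    have h := H.mul_mem (hleft x) (hright y)
    rwa [Algebra.TensorProduct.tmul_mul_tmul, one_mul, mul_one] at h

end Groth.Agent.PushAmp
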