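import Groth.Agent.PushAmp.LpullTriangle
import Groth.Agent.PushAmp.PCFlatDescent
import Groth.Agent.FTDescent.Quotient
import Groth.Agent.H9Misc.DRingNilp
import Groth.Agent.RegImmLib.RegStalk
import Groth.Agent.KFlatLib.Scheme.StalkCx

/-!
# Pseudo-coherence descends along thickenings of finite order
-/

set_option autoImplicit false
set_option linter.style.haveILetI false
set_option backward.isDefEq.respectTransparency false
set_option backward.isDefEq.respectTransparency.types false

universe u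

open CategoryTheory CategoryTheory.Limits AlgebraicGeometry TopologicalSpace Pretriangulated
open Opposite
open scoped TensorProduct MonoidalCategory

attribute [local instance] HasDerivedCategory.standard

namespace Groth.Agent.PushAmp

open Groth.Agent.KFlatLib Groth.Agent.H9Misc

section Ring

variable {A B : Type u} [CommRing A] [CommRing B]

/-- A cohomological bound descends along a nilpotent surjection. -/
theorem isZero_homology_of_extC (φ : A →+* B) (hφ : Function.Surjective φ) (hnil : IsNilpotent (RingHom.ker φ))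
    {C : CochainComplex (ModuleCat.{u} A) ℤ} (hC : DRingLTensor.IsKF C) (b : ℤ)
    (h : ∀ j, b < j → IsZero (((DRingLTensor.extC' φ).obj C).homology j)) (j : ℤ) (hj : b < j) :
    IsZero (C.homology j) := by
  obtain ⟨P, hP, hflat, ⟨e⟩⟩ := DRingLTensor.exists_rep (DerivedCategory.Q.obj C)
  haveI := DRingLBase.hasLBaseChange φ
  obtain ⟨eP⟩ := DRingLBase.nonempty_lbase_iso φ hP
  obtain ⟨eC⟩ := DRingLBase.nonempty_lbase_iso φ hC
  let eH : DerivedCategory.Q.obj ((DRingLTensor.extC' φ).obj P) ≅ DerivedCategory.Q.obj ((DRingLTensor.extC' φ).obj C) :=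
    eP.symm ≪≫ (DRing.LBaseChange φ).mapIso e ≪≫ eC
  have hP' : ∀ m, b < m → IsZero (((DRingLTensor.extC' φ).obj P).homology m) := fun m hm =>
    (h m hm).of_iso (((DerivedCategory.homologyFunctorFactors (ModuleCat.{u} B) m).app _).symm ≪≫
      (DerivedCategory.homologyFunctor _ m).mapIso eH ≪≫
      (DerivedCategory.homologyFunctorFactors (ModuleCat.{u} B) m).app _)
  have hN : ∀ N : ModuleCat.{u} B, ((DRingLTensor.tensC N).obj ((DRingLTensor.extC' φ).obj P)).ExactAt j := fun N =>
    (HomologicalComplex.exactAt_iff_isZero_homology _ _).2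
      (DRingRightExact.isZero_homology_tensC N (KFlatLib.kFlat_extendScalars φ hP) b hP' j hj)
  obtain ⟨k, hk⟩ := hnil
  have h1 := DRingNilp.exactAt_of_pow φ hφ hflat j hN k (ModuleCat.of A A) fun r hr x => by
    have hr' : r = 0 := by
      rw [hk] at hr
      exact hr
    rw [hr', zero_smul]
  have h2 : P.ExactAt j := DRingRightExact.exactAt_iso_map (G := 𝟭 _)
    (MonoidalCategory.rightUnitorNatIso (ModuleCat.{u} A)) P j h1 |>.of_iso
      ((Functor.mapHomologicalComplexIdIso _ _).app P)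
  exact ((HomologicalComplex.exactAt_iff_isZero_homology _ _).1 h2).of_iso
    (((DerivedCategory.homologyFunctorFactors (ModuleCat.{u} A) j).app _).symm ≪≫
      (DerivedCategory.homologyFunctor _ j).mapIso e.symm ≪≫
      (DerivedCategory.homologyFunctorFactors (ModuleCat.{u} A) j).app _)

/-- Nakayama along a nilpotent surjection. -/
theorem span_eq_top_of_nilpotent (φ : A →+* B) (hφ : Function.Surjective φ) (hnil : IsNilpotent (RingHom.ker φ))
    {M : ModuleCat.{u} A} {ι : Type*} (g : ι → M)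
    (h : Submodule.span B (Set.range fun i => KFlatLib.u1 φ M (g i)) = ⊤) :
    Submodule.span A (Set.range g) = ⊤ := by
  letI := φ.toAlgebra
  let T := Submodule.span A (Set.range g)
  let I := RingHom.ker φ
  let Q := ModuleCat.of A (M ⧸ (T ⊔ I • (⊤ : Submodule A M)))
  haveI := DRingNilp.isIso_unit φ hφ Q fun r hr x => by
    obtain ⟨y, rfl⟩ := Submodule.mkQ_surjective (T ⊔ I • (⊤ : Submodule A M)) x
    exact (Submodule.Quotient.mk_eq_zero _).2 (Submodule.mem_sup_right (Submodule.smul_mem_smul hr Submodule.mem_top))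
  have hz : ∀ z : B ⊗[A] M, (T ⊔ I • (⊤ : Submodule A M)).mkQ.lTensor B z = 0 := by
    intro z
    have hz : z ∈ Submodule.span B (Set.range fun i => (1 : B) ⊗ₜ[A] g i) := by
      have : Submodule.span B (Set.range fun i => (1 : B) ⊗ₜ[A] g i) = (⊤ : Submodule B (B ⊗[A] M)) := h
      rw [this]
      exact Submodule.mem_top
    induction hz using Submodule.span_induction with
    | mem a ha =>
      obtain ⟨i, rfl⟩ := ha
      rw [LinearMap.lTensor_tmul, Submodule.mkQ_apply,
        (Submodule.Quotient.mk_eq_zero _).2 (Submodule.mem_sup_left (Submodule.subset_span (Set.mem_range_self i))),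
        TensorProduct.tmul_zero]
    | zero => rw [map_zero]
    | add a b _ _ ha hb => rw [map_add, ha, hb, add_zero]
    | smul r a _ ha =>
      obtain ⟨r, rfl⟩ := hφ r
      rw [show φ r = algebraMap A B r from rfl, algebraMap_smul, map_smul, ha, smul_zero]
  have hle : (⊤ : Submodule A M) ≤ T ⊔ I • ⊤ := fun m _ => by
    refine (Submodule.Quotient.mk_eq_zero _).1 ?_
    refine (ConcreteCategory.bijective_of_isIso ((ModuleCat.extendRestrictScalarsAdj φ).unit.app Q)).1 ?_
    rw [map_zero]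
    exact hz ((1 : B) ⊗ₜ[A] m)
  have hpow : ∀ k : ℕ, (⊤ : Submodule A M) ≤ T ⊔ I ^ k • ⊤ := fun k => by
    induction k with
    | zero => simp
    | succ k ih =>
      refine ih.trans (sup_le le_sup_left ?_)
      calc I ^ k • (⊤ : Submodule A M) ≤ I ^ k • (T ⊔ I • ⊤) := smul_mono_right _ hle
        _ = I ^ k • T ⊔ (I ^ k * I) • ⊤ := by rw [Submodule.smul_sup, ← Submodule.smul_assoc, smul_eq_mul]
        _ ≤ T ⊔ I ^ (k + 1) • ⊤ := by rw [pow_succ]; exact sup_le_sup Submodule.smul_le_right le_rfl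
  obtain ⟨k, hk⟩ := hnil
  refine top_le_iff.1 ((hpow k).trans (sup_le le_rfl ?_))
  rw [show I ^ k = ⊥ from hk, Submodule.bot_smul]
  exact bot_le

end Ring

variable {X Y : Scheme.{u}}

/-- The kernels on stalks are nilpotent. -/
def NilpStalks (i : X ⟶ Y) : Prop := ∀ x : X, IsNilpotent (RingHom.ker (i.stalkMap x).hom)

theorem nilpStalks_of_isNilpotent_ker (i : X ⟶ Y) [IsClosedImmersion i] (h : IsNilpotent i.ker) : NilpStalks i := by
  intro x
  obtain ⟨k, hk⟩ := h
  obtain ⟨V, hV, hxV, -⟩ := exists_isAffineOpen_mem_and_subset (U := ⊤) (x := i x) trivial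
  refine ⟨k, ?_⟩
  rw [RegImmLib.ker_stalkMap_eq_map i hV x hxV, ← Ideal.map_pow]
  have h0 : (i.ker.ideal ⟨V, hV⟩) ^ k = ⊥ := by
    rw [← Pi.pow_apply, ← Scheme.IdealSheafData.ideal_pow, hk]
    rfl
  rw [Scheme.Hom.ker_apply] at h0
  rw [h0, Ideal.map_bot]
  rfl

theorem nilpStalks_restrict {i : X ⟶ Y} (h : NilpStalks i) (U : Y.Opens) : NilpStalks (i ∣_ U) := by
  intro x
  obtain ⟨k, hk⟩ := h ((i ⁻¹ᵁ U).ι x)
  have hx : i ((i ⁻¹ᵁ U).ι x) = U.ι ((i ∣_ U) x) := by
    rw [← Scheme.Hom.comp_apply, ← Scheme.Hom.comp_apply, morphismRestrict_ι]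
  let S := Y.presheaf.stalkSpecializes (Inseparable.of_eq hx).specializes
  let T := Y.presheaf.stalkSpecializes (Inseparable.of_eq hx.symm).specializes
  let σ := U.ι.stalkMap ((i ∣_ U) x)
  have e : σ ≫ (i ∣_ U).stalkMap x = S ≫ i.stalkMap ((i ⁻¹ᵁ U).ι x) ≫ (i ⁻¹ᵁ U).ι.stalkMap x := by
    simp only [σ, S, ← Scheme.Hom.stalkMap_comp]
    exact Scheme.Hom.stalkMap_congr_hom _ _ (morphismRestrict_ι i U) x
  refine ⟨k, le_bot_iff.1 ?_⟩
  have hle : RingHom.ker ((i ∣_ U).stalkMap x).hom ≤ (RingHom.ker (i.stalkMap ((i ⁻¹ᵁ U).ι x)).hom).map (T ≫ σ).hom := by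
    intro a ha
    obtain ⟨c, rfl⟩ := (ConcreteCategory.bijective_of_isIso σ).2 a
    have hc := congr($e c)
    rw [CommRingCat.comp_apply, CommRingCat.comp_apply, CommRingCat.comp_apply] at hc
    have hd : (i.stalkMap ((i ⁻¹ᵁ U).ι x)) (S c) = 0 := by
      apply (ConcreteCategory.bijective_of_isIso ((i ⁻¹ᵁ U).ι.stalkMap x)).1
      rw [map_zero]
      exact hc.symm.trans ha
    have : (T ≫ σ) (S c) = σ c := by
      show σ (T (S c)) = σ c
      congr 1
      rw [← CommRingCat.comp_apply, TopCat.Presheaf.stalkSpecializes_comp, TopCat.Presheaf.stalkSpecializes_refl]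
      rfl
    exact this ▸ Ideal.mem_map_of_mem _ hd
  refine (Ideal.pow_right_mono hle k).trans ?_
  rw [← Ideal.map_pow, hk]
  exact (Ideal.map_bot).le

variable (i : X ⟶ Y) [IsClosedImmersion i] [Surjective i]

/-- Bounds descend along thickenings. -/
theorem isZero_hd_of_lpull [DCoh.HasLpull i] (hi : NilpStalks i) (M : DCoh.D Y) (b : ℤ)
    (h : ∀ j, b < j → IsZero (DCoh.HD ((DCoh.Lpull i).obj M) j)) (j : ℤ) (hj : b < j) : IsZero (DCoh.HD M j) := by
  obtain ⟨R, hR, ⟨eR⟩⟩ := exists_kFlat_rep M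
  refine IsZero.of_iso ?_ ((DerivedCategory.homologyFunctor Y.Modules j).mapIso eR.symm ≪≫
    (DerivedCategory.homologyFunctorFactors Y.Modules j).app R)
  refine isZero_of_stalk _ fun y => ?_
  obtain ⟨x, rfl⟩ := i.surjective y
  let φ := (i.stalkMap x).hom
  let C := (stalkCx (i.base x)).obj R
  refine IsZero.of_iso ?_ ((R.sc j).mapHomologyIso (DerSch.stalkFunctor Y (i.base x))).symm
  refine isZero_homology_of_extC φ (i.stalkMap_surjective x) (hi x) ((kFlat_iff_stalk R).1 hR (i.base x)) b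
    (fun m hm => ?_) j hj
  let eC : (stalkCx x).obj ((pullCx i).obj R) ≅ (DRingLTensor.extC' φ).obj C :=
    HomologicalComplex.Hom.isoOfComponents (fun n => (stalkPullbackIso i x).app (R.X n))
      (fun a c _ => ((stalkPullbackIso i x).hom.naturality (R.d a c)).symm)
  refine IsZero.of_iso ?_ ((HomologicalComplex.homologyFunctor _ _ m).mapIso eC.symm ≪≫
    (((pullCx i).obj R).sc m).mapHomologyIso (DerSch.stalkFunctor X x))
  exact Functor.map_isZero _ ((h m hm).of_iso (((DerivedCategory.homologyFunctorFactors X.Modules m).app _).symm ≪≫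
    (DerivedCategory.homologyFunctor X.Modules m).mapIso ((lpullIso i hR).symm ≪≫ (DCoh.Lpull i).mapIso eR)))

section FT

open FTDescent

/-- Finite type descends along thickenings. -/
theorem isFT_of_pullback_thickening (hi : NilpStalks i) (F : Y.Modules)
    (h : CohB1.IsFT ((Scheme.Modules.pullback i).obj F)) : CohB1.IsFT F := by
  let N := (Scheme.Modules.pullback i).obj F
  haveI : SheafOfModules.IsFiniteType (R := X.ringCatSheaf) N := h
  let e := fun x => ((KFlatLib.stalkPullbackIso i x).app F).toLinearEquiv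
  have key : ∀ (x : X) {V : Y.Opens} (hx : i.base x ∈ V) (t : Γ(F, V)),
      e x (N.presheaf.germ (i ⁻¹ᵁ V) x hx (KFlatLib.pb i t)) =
        KFlatLib.u1 (i.stalkMap x).hom ((DerSch.stalkFunctor Y (i.base x)).obj F)
          (F.presheaf.germ V (i.base x) hx t) :=
    fun x V hx t => KFlatLib.stalkPullbackIso_gm i x F V hx t
  have hsurj : ∀ x : X, Function.Surjective (KFlatLib.u1 (i.stalkMap x).hom ((DerSch.stalkFunctor Y (i.base x)).obj F)) := by
    intro x z
    let φ := (i.stalkMap x).hom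
    letI := φ.toAlgebra
    obtain ⟨w, hw⟩ : ∃ w, (1 : X.presheaf.stalk x) ⊗ₜ[Y.presheaf.stalk (i.base x)] w =
        (show (X.presheaf.stalk x) ⊗[Y.presheaf.stalk (i.base x)] ((DerSch.stalkFunctor Y (i.base x)).obj F) from z) := by
      generalize (show (X.presheaf.stalk x) ⊗[Y.presheaf.stalk (i.base x)] ((DerSch.stalkFunctor Y (i.base x)).obj F) from z) = w
      induction w using TensorProduct.induction_on with
      | zero => exact ⟨0, TensorProduct.tmul_zero _ _⟩
      | tmul c y =>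
        obtain ⟨a, rfl⟩ := i.stalkMap_surjective x c
        exact ⟨a • y, by rw [TensorProduct.tmul_smul, TensorProduct.smul_tmul', Algebra.smul_def, mul_one]; rfl⟩
      | add w₁ w₂ h₁ h₂ =>
        obtain ⟨x₁, rfl⟩ := h₁
        obtain ⟨x₂, rfl⟩ := h₂
        exact ⟨x₁ + x₂, TensorProduct.tmul_add _ _ _⟩
    exact ⟨w, hw⟩
  have hloc : ∀ y : Y, ∃ V : Y.Opens, y ∈ V ∧
      ∃ G : (SheafOfModules.over F V).GeneratingSections, G.IsFiniteType := by
    intro y
    obtain ⟨x, rfl⟩ := i.surjective y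
    haveI : Module.Finite (X.presheaf.stalk x) ((DerSch.stalkFunctor X x).obj N) := FDescent.finite_stalk N x
    haveI : Module.Finite (X.presheaf.stalk x) ((Scheme.Modules.pullback i ⋙ DerSch.stalkFunctor X x).obj F) :=
      inferInstanceAs (Module.Finite (X.presheaf.stalk x) ((DerSch.stalkFunctor X x).obj N))
    obtain ⟨n, g', hg'⟩ := Module.Finite.exists_fin (R := X.presheaf.stalk x)
      (M := (Scheme.Modules.pullback i ⋙ DerSch.stalkFunctor X x).obj F)
    choose g hg using fun k => hsurj x (e x (g' k))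
    choose V hV t ht using fun k => TopCat.Presheaf.germ_exist F.presheaf (g k)
    let V₀ : Y.Opens := Finset.univ.inf V
    have hx₀ : i.base x ∈ V₀ := by
      show i.base x ∈ ((Finset.univ.inf V : Y.Opens) : Set Y)
      simp [TopologicalSpace.Opens.coe_finset_inf, hV]
    let k : ∀ l, V₀ ⟶ V l := fun l => homOfLE (Finset.inf_le (Finset.mem_univ l))
    let t₀ : Fin n → Γ(F, V₀) := fun l => F.presheaf.map (k l).op (t l)
    have hg₀ : ∀ l, F.presheaf.germ V₀ (i.base x) hx₀ (t₀ l) = g l :=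
      fun l => (germ_res' F (k l) hx₀ (t l)).trans (ht l)
    let w : Fin n → Γ(N, i ⁻¹ᵁ V₀) := fun l => KFlatLib.pb i (t₀ l)
    have hw : Submodule.span (X.presheaf.stalk x)
        (Set.range fun l => N.presheaf.germ (i ⁻¹ᵁ V₀) x hx₀ (w l)) = ⊤ := by
      rw [← hg']
      congr 1
      refine congrArg Set.range (funext fun l => (e x).injective ?_)
      exact (key x hx₀ (t₀ l)).trans ((congrArg _ (hg₀ l)).trans (hg l))
    obtain ⟨U, hle, hxU, hU⟩ := exists_nhd_span_eq_top N w hx₀ hw
    obtain ⟨O, hO⟩ := exists_open_preimage i U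
    let V' : Y.Opens := V₀ ⊓ O
    have hV' : V' ≤ V₀ := inf_le_left
    have hxV' : i.base x ∈ V' := ⟨hx₀, show x ∈ i ⁻¹ᵁ O from hO ▸ hxU⟩
    have hspan : ∀ (y : Y) (hy : y ∈ V'), Submodule.span (Y.presheaf.stalk y)
        (Set.range fun l => F.presheaf.germ V' y hy (F.presheaf.map (homOfLE hV').op (t₀ l))) = ⊤ := by
      intro y hy
      obtain ⟨x', rfl⟩ := i.surjective y
      have hx' : x' ∈ U := hO ▸ (show x' ∈ i ⁻¹ᵁ O from hy.2)
      simp only [germ_res']
      refine span_eq_top_of_nilpotent (i.stalkMap x').hom (i.stalkMap_surjective x') (hi x')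
        (M := (DerSch.stalkFunctor Y (i.base x')).obj F) _ ?_
      have := congrArg (Submodule.map (e x').toLinearMap) (hU x' hx')
      rw [Submodule.map_top, LinearMap.range_eq_top.2 (e x').surjective, Submodule.map_span, ← Set.range_comp] at this
      rw [← this]
      exact congrArg (fun q => Submodule.span _ (Set.range q)) (funext fun l => (key x' (hle hx') (t₀ l)).symm)
    obtain ⟨G, hG, -⟩ := exists_generatingSections F (fun l => F.presheaf.map (homOfLE hV').op (t₀ l)) hspan
    exact ⟨V', hxV', G, hG⟩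
  choose V hV G hG using hloc
  let q : SheafOfModules.LocalGeneratorsData.{u} (R := Y.ringCatSheaf) F :=
    { I := Y, X := V,
      coversTop := (Opens.coversTop_iff _ V).2 (top_le_iff.1 fun y _ => Opens.mem_iSup.2 ⟨y, hV y⟩),
      generators := G }
  have hq : q.IsFiniteType := by
    constructor
    exact hG
  constructor
  exact ⟨q, hq⟩

end FT

/-- Descent for objects bounded by `m + k`. -/
theorem locPC_of_lpull_bounded : ∀ (k : ℕ) {X Y : Scheme.{u}} (i : X ⟶ Y) [IsClosedImmersion i] [Surjective i]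
    [DCoh.HasLpull i], NilpStalks i →
    ∀ (m : ℤ) (M : DCoh.D Y), (∀ j, m + k ≤ j → IsZero (DCoh.HD M j)) →
    LocPC m ((DCoh.Lpull i).obj M) → LocPC m M := by
  intro k
  induction k with
  | zero =>
    intro X Y i _ _ _ _ m M hz _
    exact locPC_of_isZero_above fun j hj => hz j (by omega)
  | succ k ih =>
    intro X Y i _ _ _ hi m M hz hM
    let b : ℤ := m + k
    have hzb : ∀ j, b < j → IsZero (DCoh.HD M j) := fun j hj => hz j (by omega)
    haveI : M.IsLE b := (DerivedCategory.isLE_iff _ _).2 hzb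
    haveI := isLE_lpull i M b
    obtain ⟨eb⟩ := nonempty_hd_lpull_top i M b
    have hFT : CohB1.IsFT (DCoh.HD M b) :=
      isFT_of_pullback_thickening i hi _
        (isFT_of_iso' eb (isFT_top (hM.mono (by omega)) fun j hj =>
          DerivedCategory.isZero_of_isLE ((DCoh.Lpull i).obj M) b j hj))
    refine LocPC.of_local fun y => ?_
    obtain ⟨U, n, φ, hyU, hφ⟩ := exists_free_top hzb hFT y
    refine ⟨_, U.ι, inferInstance, ⟨⟨y, hyU⟩, rfl⟩, ?_⟩
    let g := i ∣_ U
    haveI : IsClosedImmersion g := isClosedImmersion_morphismRestrict i U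
    haveI : Surjective g :=
      MorphismProperty.of_isPullback (P := @Surjective) (isPullback_morphismRestrict i U).flip inferInstance
    haveI := hasLpull g
    haveI := hasLpull (i ⁻¹ᵁ U).ι
    haveI := hasLpull U.ι
    obtain ⟨e₁⟩ := nonempty_rho_lpull (i ⁻¹ᵁ U).ι ((DCoh.Lpull i).obj M)
    obtain ⟨e₂⟩ := nonempty_rho_lpull U.ι M
    haveI := hasLpull ((i ⁻¹ᵁ U).ι ≫ i)
    haveI := hasLpull (g ≫ U.ι)
    obtain ⟨c₁⟩ := nonempty_lpull_comp (i ⁻¹ᵁ U).ι i
    obtain ⟨c₂⟩ := nonempty_lpull_comp g U.ι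
    let eN : (rho (i ⁻¹ᵁ U).ι).obj ((DCoh.Lpull i).obj M) ≅ (DCoh.Lpull g).obj ((rho U.ι).obj M) :=
      e₁ ≪≫ c₁.app M ≪≫ eqToIso (by congr 1; simp only [g, morphismRestrict_ι]) ≪≫ (c₂.app M).symm ≪≫
        (DCoh.Lpull g).mapIso e₂.symm
    have hN : LocPC m ((DCoh.Lpull g).obj ((rho U.ι).obj M)) := (hM.restrict (i ⁻¹ᵁ U).ι).of_iso eN
    let A := (DCoh.inD (U : Scheme.{u}) (FlatMod.freeMod _ n))⟦-b⟧
    obtain ⟨M', u, δ, hT⟩ := distinguished_cocone_triangle φ
    let H := DerivedCategory.homologyFunctor (U : Scheme.{u}).Modules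
    have hzA : ∀ j, j ≠ b → IsZero ((H j).obj A) := fun j hj =>
      ((ShortComplex.isZero_homology_of_isZero_X₂ _
        (HomologicalComplex.isZero_single_obj_X (ComplexShape.up ℤ) b _ j hj)).of_iso
        ((DerivedCategory.homologyFunctorFactors _ j).app _)).of_iso
        ((H j).mapIso ((((DerivedCategory.singleFunctors _).shiftIso (-b) b 0 (by omega)).app _) ≪≫
          singleQ b _))
    have hz' : ∀ j, m + k ≤ j → IsZero ((H j).obj M') := fun j hj => by
      haveI : Epi ((H j).map u) :=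
        (DerivedCategory.HomologySequence.exact₃ _ hT j (j + 1) rfl).epi_f
          ((hzA (j + 1) (by omega)).eq_of_tgt _ _)
      refine IsZero.of_epi_eq_zero ((H j).map u) ?_
      rcases eq_or_lt_of_le hj with h | h
      · obtain rfl : b = j := h
        haveI := hφ.2
        refine (cancel_epi ((H b).map φ)).1 ?_
        rw [← Functor.map_comp]
        exact ((congrArg (H b).map (comp_distTriang_mor_zero₁₂ _ hT)).trans
          (Functor.map_zero _ _ _)).trans comp_zero.symm
      · exact (isZero_hd_rho _ (hz j (by omega))).eq_of_src _ _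
    have hA : ∀ m' : ℤ, LocPC m' A := fun m' => by
      have := (locPC_free (X := (U : Scheme.{u})) n (m' - b)).shift (-b)
      rwa [show m' - b - -b = m' by omega] at this
    have hA' : LocPC (m + 1) ((DCoh.Lpull g).obj A) :=
      (isPseudoCoherentD_iff _ _).1 (isPseudoCoherentD_lpull g ((isPseudoCoherentD_iff _ _).2 (hA _)))
    obtain ⟨c, hT'⟩ := exists_lpull_triangle g _ hT
    have hM' : LocPC m M' :=
      ih g (nilpStalks_restrict hi U) m M' hz' ((locPC_two_of_three m _ hT').1 hA' hN)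
    exact (locPC_two_of_three m _ hT).2.1 (hA m) hM'

/-- Pseudo-coherence descends along thickenings of finite order. -/
theorem locPC_of_lpull [DCoh.HasLpull i] (hi : NilpStalks i) {m : ℤ} {M : DCoh.D Y}
    (h : LocPC m ((DCoh.Lpull i).obj M)) : LocPC m M := by
  refine LocPC.of_local fun y => ?_
  obtain ⟨U, hU, hyU, -⟩ := exists_isAffineOpen_mem_and_subset (X := Y) (x := y) (U := ⊤) trivial
  refine ⟨_, U.ι, inferInstance, ⟨⟨y, hyU⟩, rfl⟩, ?_⟩
  let g := i ∣_ U
  haveI : IsClosedImmersion g := isClosedImmersion_morphismRestrict i U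
  haveI : Surjective g :=
    MorphismProperty.of_isPullback (P := @Surjective) (isPullback_morphismRestrict i U).flip inferInstance
  haveI : CompactSpace (i ⁻¹ᵁ U : X.Opens) :=
    isCompact_iff_compactSpace.mp (i.isCompact_preimage hU.isCompact)
  haveI := hasLpull g
  haveI := hasLpull (i ⁻¹ᵁ U).ι
  haveI := hasLpull U.ι
  haveI := hasLpull ((i ⁻¹ᵁ U).ι ≫ i)
  haveI := hasLpull (g ≫ U.ι)
  obtain ⟨e₁⟩ := nonempty_rho_lpull (i ⁻¹ᵁ U).ι ((DCoh.Lpull i).obj M)
  obtain ⟨e₂⟩ := nonempty_rho_lpull U.ι M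
  obtain ⟨c₁⟩ := nonempty_lpull_comp (i ⁻¹ᵁ U).ι i
  obtain ⟨c₂⟩ := nonempty_lpull_comp g U.ι
  let eN : (rho (i ⁻¹ᵁ U).ι).obj ((DCoh.Lpull i).obj M) ≅ (DCoh.Lpull g).obj ((rho U.ι).obj M) :=
    e₁ ≪≫ c₁.app M ≪≫ eqToIso (by congr 1; simp only [g, morphismRestrict_ι]) ≪≫ (c₂.app M).symm ≪≫
      (DCoh.Lpull g).mapIso e₂.symm
  have hN : LocPC m ((DCoh.Lpull g).obj ((rho U.ι).obj M)) := (h.restrict (i ⁻¹ᵁ U).ι).of_iso eN
  obtain ⟨b, hb⟩ := exists_bound_of_locPC hN
  exact locPC_of_lpull_bounded (b + 1 - m).toNat g (nilpStalks_restrict hi U) m _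
    (fun j hj => isZero_hd_of_lpull g (nilpStalks_restrict hi U) _ b hb j (by omega)) hN

end Groth.Agent.PushAmp
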