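import Groth.Agent.PushAmp.ThickDescent
import Groth.Agent.PushAmp.TorBC
import Groth.Agent.PushAmp.BCBase
import Groth.Agent.PushAmp.PerfectFibres

/-!
# Relative tor amplitude descends along thickenings of the base
-/

set_option autoImplicit false
set_option linter.style.haveILetI false
set_option backward.isDefEq.respectTransparency false
set_option backward.isDefEq.respectTransparency.types false

universe u

open CategoryTheory CategoryTheory.Limits AlgebraicGeometry TensorProduct

attribute [local instance] HasDerivedCategory.standard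

namespace Groth.Agent.PushAmp

open Groth.Agent.KFlatLib H9Misc

section Ring

variable {Ay Bx Ay' : Type u} [CommRing Ay] [CommRing Bx] [CommRing Ay'] (σ : Ay →+* Bx) (τ : Ay →+* Ay')

/-- Base change and restriction of scalars commute on complexes, for a bijective model. -/
theorem nonempty_extC_restrictCx_iso {B' : Type u} [CommRing B'] :
    letI := σ.toAlgebra
    letI := τ.toAlgebra
    ∀ (φ : Bx ⊗[Ay] Ay' →+* B'), Function.Bijective φ → ∀ (K : DRing.Cx Bx),
    Nonempty ((DRingLTensor.extC' τ).obj ((DRing.restrictCx σ).obj K) ≅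
      (DRing.restrictCx (φ.comp (Algebra.TensorProduct.includeRight (R := Ay) (A := Bx) (B := Ay')).toRingHom)).obj
        ((DRingLTensor.extC' (φ.comp (Algebra.TensorProduct.includeLeftRingHom (R := Ay) (A := Bx) (B := Ay')))).obj K)) := by
  letI := σ.toAlgebra
  letI := τ.toAlgebra
  intro φ hφ K
  let l := φ.comp (Algebra.TensorProduct.includeLeftRingHom (R := Ay) (A := Bx) (B := Ay'))
  let r := φ.comp (Algebra.TensorProduct.includeRight (R := Ay) (A := Bx) (B := Ay')).toRingHom
  obtain ⟨ρ⟩ := nonempty_extend_restrict_iso_aux σ τ l r (RingEquiv.ofBijective φ hφ) fun b a => by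
    show φ (b ⊗ₜ[Ay] a) = φ (b ⊗ₜ[Ay] (1 : Ay')) * φ ((1 : Bx) ⊗ₜ[Ay] a)
    rw [← map_mul, Algebra.TensorProduct.tmul_mul_tmul, mul_one, one_mul]
  exact ⟨HomologicalComplex.Hom.isoOfComponents (fun n => ρ.app (K.X n))
      (fun i j _ => (ρ.hom.naturality (K.d i j)).symm)⟩

end Ring

variable {X S X' T : Scheme.{u}} {u : X ⟶ S} {u' : X' ⟶ T} {g' : X' ⟶ X} {h : T ⟶ S}

/-- The stalks of the termwise pullback along a base change by a closed immersion. -/
theorem nonempty_pullCx_stalk_iso [IsClosedImmersion h] (hc : IsPullback g' u' u h)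
    (R : CochainComplex X.Modules ℤ) (x' : X') :
    Nonempty ((DRingLTensor.extC' (baseStalkMap hc x').hom).obj ((DerSch.stalkCxOver u (g'.base x')).obj R) ≅
      (DerSch.stalkCxOver u' x').obj ((pullCx g').obj R)) := by
  letI := (u.stalkMap (g'.base x')).hom.toAlgebra
  letI := (baseStalkMap hc x').hom.toAlgebra
  letI := (u.stalkMap (g'.base x') ≫ g'.stalkMap x').hom.toAlgebra
  haveI : IsClosedImmersion g' := MorphismProperty.of_isPullback (P := @IsClosedImmersion) hc.flip inferInstance
  obtain ⟨φ, hφ, h₁, h₂⟩ := flat_stalk_pullback hc x'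
  let Al := S.presheaf.stalk (u.base (g'.base x'))
  let Bl := X.presheaf.stalk (g'.base x')
  let A'l := T.presheaf.stalk (u'.base x')
  have hτ : Function.Surjective (baseStalkMap hc x').hom := by
    rw [baseStalkMap, CommRingCat.hom_comp, RingHom.coe_comp]
    exact (h.stalkMap_surjective _).comp (ConcreteCategory.bijective_of_isIso _).2
  have hl : Function.Surjective (Algebra.TensorProduct.includeLeftRingHom :
      (Bl : Type u) →+* (Bl : Type u) ⊗[(Al : Type u)] (A'l : Type u)) :=
    Algebra.TensorProduct.includeLeft_surjective (R := (Al : Type u)) (T := (A'l : Type u)) (Al : Type u) (Bl : Type u) hτ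
  have hs : Function.Surjective φ := by
    intro z
    obtain ⟨w, hw⟩ := g'.stalkMap_surjective x' z
    exact ⟨_, (RingHom.congr_fun h₁ w).trans hw⟩
  have hi : Function.Injective φ := by
    haveI : Nontrivial ((Bl : Type u) ⊗[(Al : Type u)] (A'l : Type u)) := φ.domain_nontrivial
    haveI : IsLocalRing ((Bl : Type u) ⊗[(Al : Type u)] (A'l : Type u)) := .of_surjective' _ hl
    letI := φ.toAlgebra
    haveI : Module.Flat ((Bl : Type u) ⊗[(Al : Type u)] (A'l : Type u)) (X'.presheaf.stalk x') := hφ
    haveI : IsLocalHom (algebraMap ((Bl : Type u) ⊗[(Al : Type u)] (A'l : Type u)) (X'.presheaf.stalk x')) :=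
      IsLocalHom.of_surjective _ hs
    haveI := Module.FaithfullyFlat.of_flat_of_isLocalHom
      (A := (Bl : Type u) ⊗[(Al : Type u)] (A'l : Type u)) (B := X'.presheaf.stalk x')
    refine (RingHom.injective_iff_ker_eq_bot _).2 ?_
    have := Ideal.comap_map_eq_self_of_faithfullyFlat (B := X'.presheaf.stalk x')
      (⊥ : Ideal ((Bl : Type u) ⊗[(Al : Type u)] (A'l : Type u)))
    rwa [Ideal.map_bot] at this
  obtain ⟨e⟩ := nonempty_extC_restrictCx_iso (u.stalkMap (g'.base x')).hom (baseStalkMap hc x').hom φ ⟨hi, hs⟩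
    ((stalkCx (g'.base x')).obj R)
  rw [h₁, h₂] at e
  exact ⟨e ≪≫ (DRing.restrictCx (u'.stalkMap x').hom).mapIso (stalkPullCxIso g' x' R).symm⟩

/-- Stalkwise relative tor amplitude descends along a thickening of the base. -/
theorem hasTorAmplitudeAt_of_pullCx [Flat u] [IsClosedImmersion h] (hn : NilpStalks h)
    (hc : IsPullback g' u' u h) {R : CochainComplex X.Modules ℤ}
    (hR : DCoh.IsKFlat R) (x' : X') (a b : ℤ)
    (ha : DerSch.HasTorAmplitudeAt u' a b ((pullCx g').obj R) x') :
    DerSch.HasTorAmplitudeAt u a b R (g'.base x') := by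
  have hτ : Function.Surjective (baseStalkMap hc x').hom := by
    rw [baseStalkMap, CommRingCat.hom_comp, RingHom.coe_comp]
    exact (h.stalkMap_surjective _).comp (ConcreteCategory.bijective_of_isIso _).2
  have hnil : IsNilpotent (RingHom.ker (baseStalkMap hc x').hom) := by
    obtain ⟨k, hk⟩ := hn (u'.base x')
    refine ⟨k, le_bot_iff.1 ?_⟩
    rw [baseStalkMap, CommRingCat.hom_comp, ← RingHom.comap_ker]
    refine (Ideal.le_comap_pow _ k).trans ?_
    rw [hk]
    intro z hz
    refine (Submodule.mem_bot _).2 ((ConcreteCategory.bijective_of_isIso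
      (S.presheaf.stalkCongr (.of_eq (show u.base (g'.base x') = h.base (u'.base x') from
        congr($(hc.w).base x')))).hom).1 ?_)
    exact (show _ = (0 : S.presheaf.stalk (h.base (u'.base x'))) from hz).trans (map_zero _).symm
  haveI := DRingLBase.hasLBaseChange (baseStalkMap hc x').hom
  obtain ⟨e⟩ := DRingLBase.nonempty_lbase_iso (baseStalkMap hc x').hom
    (isKF_stalkCxOver inferInstance R hR (g'.base x'))
  obtain ⟨eS⟩ := nonempty_pullCx_stalk_iso hc R x'
  exact (DRingNilp.amp_lbase_iff (baseStalkMap hc x').hom hτ hnil _ a b).1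
    (DRingTor.of_iso e.symm (DRingTor.of_iso (DerivedCategory.Q.mapIso eS).symm ha))

/-- The residue fibres of a complex are those of its pullback along a closed immersion of the base. -/
theorem exactAt_residue_of_pullCx [IsClosedImmersion h] (hc : IsPullback g' u' u h)
    (R : CochainComplex X.Modules ℤ) (x' : X') (i : ℤ)
    (he : ((DRingLTensor.extC' (IsLocalRing.residue (T.presheaf.stalk (u'.base x')))).obj
      ((DerSch.stalkCxOver u' x').obj ((pullCx g').obj R))).ExactAt i) :
    ((DRingLTensor.extC' (IsLocalRing.residue (S.presheaf.stalk (u.base (g'.base x'))))).obj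
      ((DerSch.stalkCxOver u (g'.base x')).obj R)).ExactAt i := by
  let τ := (baseStalkMap hc x').hom
  have hτ : Function.Surjective τ := by
    show Function.Surjective (baseStalkMap hc x').hom
    rw [baseStalkMap, CommRingCat.hom_comp, RingHom.coe_comp]
    exact (h.stalkMap_surjective _).comp (ConcreteCategory.bijective_of_isIso _).2
  haveI : IsLocalHom τ := hτ.isLocalHom
  obtain ⟨eS⟩ := nonempty_pullCx_stalk_iso hc R x'
  let η := IsLocalRing.ResidueField.map τ
  refine exactAt_of_extC_local η (flat_of_field η) _ i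
    ((DRingFibre.exactAt_extC_comp (IsLocalRing.residue _) η _ rfl i).2 ?_)
  exact (DRingFibre.exactAt_extC_comp τ (IsLocalRing.residue (T.presheaf.stalk (u'.base x'))) _ rfl i).1
    (he.of_iso ((DRingLTensor.extC' _).mapIso eS).symm)

end Groth.Agent.PushAmp
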