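import Groth.Agent.PushAmp.TorAt
import Groth.Agent.PushAmp.OverBaseBound

/-! Local absolute tor dimension and stalkwise tor amplitude relative to the identity. -/

set_option autoImplicit false
set_option linter.style.haveILetI false
set_option backward.isDefEq.respectTransparency false

universe u

open CategoryTheory CategoryTheory.Limits AlgebraicGeometry

attribute [local instance] HasDerivedCategory.standard

namespace Groth.Agent.PushAmp

open KFlatLib

variable {X : Scheme.{u}}

/-- The identity-relative stalk condition is local. -/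
theorem hasTorAmplitudeAt_id_restrict_iff (V : X.Opens) (F : CochainComplex X.Modules ℤ)
    (v : (V : Scheme.{u})) (a b : ℤ) :
    DerSch.HasTorAmplitudeAt (𝟙 (V : Scheme.{u})) a b ((DCoh.restrictCx V).obj F) v ↔
      DerSch.HasTorAmplitudeAt (𝟙 X) a b F (V.ι.base v) := by
  rw [← hasTorAmplitudeAt_restrict_iff V.ι (𝟙 X) F v a b, ← hasTorAmplitudeAt_comp_iff (𝟙 _) V.ι]
  rw [Category.id_comp, Category.comp_id]

/-- Local finite tor dimension is locally finite tor amplitude relative to the identity. -/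
theorem locFiniteTorAmplitude_id_of_locHasFiniteTorDim {F : CochainComplex X.Modules ℤ}
    (h : DCoh.LocHasFiniteTorDim (DCoh.toD X F)) : DerSch.LocFiniteTorAmplitude (𝟙 X) F := fun x => by
  obtain ⟨V, a, b, hxV, hV⟩ := h x
  refine ⟨V, a, b, hxV, fun x' hx' => ?_⟩
  exact (hasTorAmplitudeAt_id_restrict_iff V F ⟨x', hx'⟩ a b).1
    ((hasFlatAmplitudeIn_iff ((DCoh.restrictCx V).obj F) a b).1 (hV F ⟨Iso.refl _⟩) ⟨x', hx'⟩)

/-- Locally finite tor amplitude relative to the identity gives local finite tor dimension. -/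
theorem locHasFiniteTorDim_of_id {K : DCoh.D X} {F : CochainComplex X.Modules ℤ}
    (e : DCoh.toD X F ≅ K) (h : DerSch.LocFiniteTorAmplitude (𝟙 X) F) : DCoh.LocHasFiniteTorDim K := fun x => by
  obtain ⟨V, a, b, hxV, hV⟩ := h x
  refine ⟨V, a, b, hxV, fun F' ⟨e'⟩ => ?_⟩
  refine (hasFlatAmplitudeIn_iff ((DCoh.restrictCx V).obj F') a b).2 fun v => ?_
  exact (hasTorAmplitudeAt_id_restrict_iff V F' v a b).2
    (hasTorAmplitudeAt_of_iso (𝟙 X) (e ≪≫ e'.symm) (hV _ v.2))

/-- A finite tor amplitude of the structure sheaf is a bound of the tor dimension. -/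
theorem exists_torDim_of_unit {Y : Scheme.{u}} (f : X ⟶ Y) {x : X} {a b : ℤ}
    (h : DerSch.HasTorAmplitudeAt f a b (DerSch.unitCx X) x) :
    DerSch.HasTorAmplitudeAt f (-(a.natAbs : ℤ)) 0 (DerSch.unitCx X) x :=
  H9Misc.DRingTor.mono (a := a) (b := 0) (by omega) le_rfl
    (hasTorAmplitudeAt_shrink f h fun _ hi => HomologicalComplex.exactAt_single_obj _ _ _ _ (by omega))

/-- Composition of a locally finite tor amplitude with a morphism locally of finite tor dimension. -/
theorem locFiniteTorAmplitude_of_id {Y : Scheme.{u}} (f : X ⟶ Y) (hf : DerSch.LocFiniteTorDim f)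
    {F : CochainComplex X.Modules ℤ} (h : DerSch.LocFiniteTorAmplitude (𝟙 X) F) :
    DerSch.LocFiniteTorAmplitude f F := fun x => by
  obtain ⟨V, a, b, hxV, hV⟩ := h x
  obtain ⟨W, a', b', hxW, hW⟩ := hf x
  refine ⟨V ⊓ W, a - (a'.natAbs : ℕ), b, ⟨hxV, hxW⟩, fun x' hx' => ?_⟩
  have h' := hasTorAmplitudeAt_comp (𝟙 X) f a'.natAbs x' (exists_torDim_of_unit f (hW x' hx'.2)) F a b
    (hV x' hx'.1)
  rwa [Category.id_comp] at h'

end Groth.Agent.PushAmp
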